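import Cfsg.Prelude.Def_OddOrderLocal
import Cfsg.Agent.Lib.Base.Cores
import Cfsg.Agent.Lib.Coprime.Basic

/-!
First consequences of the hypothesis of a minimal simple group of odd order, and basic facts on
`piCoreOf` and invariant subgroups.
-/

set_option autoImplicit false

namespace CfsgLib.OddOrder

open Cfsg

variable {G : Type*} [Group G]

theorem minSimple_isSimple (hG : IsMinSimpleOddOrder G) : IsSimpleGroup G := hG.2.1

theorem minSimple_odd (hG : IsMinSimpleOddOrder G) : Odd (Nat.card G) := hG.1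

theorem minSimple_solvable (hG : IsMinSimpleOddOrder G) {H : Subgroup G} (h : H ≠ ⊤) :
    Group.IsSolvable H := hG.2.2.2 H h

theorem minSimple_ne_two [Finite G] (hG : IsMinSimpleOddOrder G) {p : ℕ} (hp : p ∣ Nat.card G) :
    p ≠ 2 := by
  rintro rfl
  exact (Nat.not_even_iff_odd.mpr hG.1) (even_iff_two_dvd.mpr hp)

theorem minSimple_normalizer_ne_top (hG : IsMinSimpleOddOrder G) {X : Subgroup G} (h1 : X ≠ ⊥)
    (h2 : X ≠ ⊤) : Subgroup.normalizer (X : Set G) ≠ ⊤ := by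
  intro h
  haveI := minSimple_isSimple hG
  exact (Subgroup.Normal.eq_bot_or_eq_top (Subgroup.normalizer_eq_top_iff.mp h)).elim h1 h2

theorem minSimple_center (hG : IsMinSimpleOddOrder G) : Subgroup.center G = ⊥ := by
  haveI := minSimple_isSimple hG
  refine (Subgroup.Normal.eq_bot_or_eq_top (inferInstance : (Subgroup.center G).Normal)).resolve_right
    fun h => hG.2.2.1 ⟨⟨fun a b => ?_⟩⟩
  exact (Subgroup.mem_center_iff.mp (h ▸ Subgroup.mem_top b) a)

theorem minSimple_centralizer_singleton_ne_top (hG : IsMinSimpleOddOrder G) {z : G} (hz : z ≠ 1) :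
    Subgroup.centralizer ({z} : Set G) ≠ ⊤ := by
  intro h
  refine hz ((Subgroup.mem_bot).mp (minSimple_center hG ▸ Subgroup.mem_center_iff.mpr fun g => ?_))
  exact Subgroup.mem_centralizer_singleton_iff.mp (h ▸ Subgroup.mem_top g)

/-- A nilpotent subgroup is proper. -/
theorem minSimple_ne_top_of_isSolvable (hG : IsMinSimpleOddOrder G) {H : Subgroup G}
    (h : Group.IsSolvable H) : H ≠ ⊤ := by
  rintro rfl
  haveI : Group.IsSolvable G :=
    Group.isSolvable_of_surjective (f := (Subgroup.topEquiv (G := G)).toMonoidHom)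
      (MulEquiv.surjective _)
  haveI := minSimple_isSimple hG
  haveI : IsMulCommutative G := ⟨⟨fun a b => IsSimpleGroup.comm_iff_isSolvable.mpr ‹_› a b⟩⟩
  exact hG.2.2.1 ‹_›

/-! ### `piCoreOf` -/

theorem piCoreOf_le (π : Set ℕ) (X : Subgroup G) : piCoreOf π X ≤ X := Subgroup.map_subtype_le _

theorem piCoreOf_primes [Finite G] (π : Set ℕ) (X : Subgroup G) :
    ∀ r : ℕ, r.Prime → r ∣ Nat.card (piCoreOf π X) → r ∈ π := fun r hr hd =>
  CfsgLib.Base.piCore_primes π X r hr (by rwa [piCoreOf, CfsgLib.Base.card_map_subtype] at hd)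

theorem le_normalizer_piCoreOf (π : Set ℕ) (X : Subgroup G) :
    X ≤ Subgroup.normalizer (piCoreOf π X : Set G) :=
  Subgroup.le_normalizer.trans (CfsgLib.Base.normalizer_le_normalizer_map_subtype X _)

theorem le_piCoreOf {π : Set ℕ} {Y X : Subgroup G} (hYX : Y ≤ X)
    (hn : X ≤ Subgroup.normalizer (Y : Set G))
    (hp : ∀ r : ℕ, r.Prime → r ∣ Nat.card Y → r ∈ π) : Y ≤ piCoreOf π X :=
  CfsgLib.Base.le_map_piCore hYX hn hp

theorem coprime_primesNotDvd [Finite G] {Y : Subgroup G} {n : ℕ}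
    (h : ∀ r : ℕ, r.Prime → r ∣ Nat.card Y → r ∈ primesNotDvd n) : n.Coprime (Nat.card Y) :=
  Nat.coprime_of_dvd fun r hr hn hY => (h r hr hY).2 hn

theorem primesNotDvd_of_coprime {n m : ℕ} (h : n.Coprime m) :
    ∀ r : ℕ, r.Prime → r ∣ m → r ∈ primesNotDvd n := fun _ hr hm =>
  ⟨hr, fun hn => hr.ne_one (Nat.eq_one_of_dvd_coprimes h hn hm)⟩

/-- For a singleton, the invariant subgroups are the invariant `q`-subgroups. -/
theorem mem_invSubgroups_singleton_iff [Finite G] {H A Y : Subgroup G} {q : ℕ}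
    [hq : Fact q.Prime] :
    Y ∈ invSubgroups H A {q} ↔
      Y ≤ H ∧ IsPGroup q Y ∧ A ≤ Subgroup.normalizer (Y : Set G) := by
  constructor
  · rintro ⟨h1, h2, h3⟩
    exact ⟨h1, IsPGroup.of_card (n := (Nat.card Y).primeFactorsList.length)
      (Nat.eq_prime_pow_of_unique_prime_dvd Nat.card_pos.ne' fun {d} hd hdY => h2 d hd hdY), h3⟩
  · rintro ⟨h1, h2, h3⟩
    refine ⟨h1, fun r hr hd => ?_, h3⟩
    obtain ⟨k, hk⟩ := IsPGroup.iff_card.mp h2
    exact (Nat.prime_dvd_prime_iff_eq hr hq.out).mp (hr.dvd_of_dvd_pow (hk ▸ hd))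

theorem exists_maxInvSubgroups_ge [Finite G] {H A Y : Subgroup G} {π : Set ℕ}
    (hY : Y ∈ invSubgroups H A π) : ∃ Q ∈ maxInvSubgroups H A π, Y ≤ Q := by
  obtain ⟨Q, hYQ, hQ⟩ := (Set.toFinite (invSubgroups H A π)).exists_le_maximal hY
  exact ⟨Q, ⟨hQ.1, fun R hR hQR => le_antisymm (hQ.2 hR hQR) hQR⟩, hYQ⟩

end CfsgLib.OddOrder
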