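import Cfsg.Agent.Lib.Base.Fitting
import Cfsg.Prelude.Def_OddOrderLocal

/-!
The largest normal nilpotent Hall subgroup `M_F`.
-/

set_option autoImplicit false

namespace CfsgLib.OddOrder

open Cfsg

variable {G : Type*} [Group G] [Finite G]

theorem coprime_card_index_sup {H K : Subgroup G} [K.Normal]
    (hH : (Nat.card H).Coprime H.index) (hK : (Nat.card K).Coprime K.index) :
    (Nat.card ↥(H ⊔ K)).Coprime (H ⊔ K).index := by
  have h : Nat.card ↥(H ⊔ K) ∣ Nat.card H * Nat.card K := CfsgLib.Base.card_sup_dvd H K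
  refine Nat.Coprime.coprime_dvd_left h (Nat.Coprime.mul_left ?_ ?_)
  · exact hH.coprime_dvd_right (Subgroup.index_dvd_of_le le_sup_left)
  · exact hK.coprime_dvd_right (Subgroup.index_dvd_of_le le_sup_right)

theorem fittingHall_nilpotent_hall (M : Type*) [Group M] [Finite M] :
    Group.IsNilpotent (fittingHall M) ∧
      (Nat.card (fittingHall M)).Coprime (fittingHall M).index := by
  refine CfsgLib.Base.sSup_normal_induction
    (P := fun N : Subgroup M => Group.IsNilpotent N ∧ (Nat.card N).Coprime N.index)
    ⟨inferInstance, by simp⟩ fun H K hH hK hH' hK' => ?_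
  haveI := hH
  haveI := hK
  exact ⟨CfsgLib.Base.isNilpotent_sup H K hH'.1 hK'.1, coprime_card_index_sup hH'.2 hK'.2⟩

theorem le_fittingHall {M : Type*} [Group M] {N : Subgroup M} [hN : N.Normal]
    (hn : Group.IsNilpotent N) (hc : (Nat.card N).Coprime N.index) : N ≤ fittingHall M :=
  le_sSup ⟨hN, hn, hc⟩

theorem fittingHallOf_le (M : Subgroup G) : fittingHallOf M ≤ M := Subgroup.map_subtype_le _

theorem fittingOf_le (M : Subgroup G) : fittingOf M ≤ M := Subgroup.map_subtype_le _

theorem isNilpotent_fittingHallOf (M : Subgroup G) : Group.IsNilpotent (fittingHallOf M) :=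
  CfsgLib.Base.isNilpotent_map _ (fittingHall_nilpotent_hall M).1

theorem isNilpotent_fittingOf (M : Subgroup G) : Group.IsNilpotent (fittingOf M) :=
  CfsgLib.Base.isNilpotent_map_fittingSubgroup M

theorem le_normalizer_fittingHallOf (M : Subgroup G) :
    M ≤ Subgroup.normalizer (fittingHallOf M : Set G) := by
  have : ((fittingHallOf M).subgroupOf M).Normal := by
    rw [fittingHallOf, Subgroup.subgroupOf,
      Subgroup.comap_map_eq_self_of_injective M.subtype_injective]
    exact fittingHall_normal M
  exact (Subgroup.normal_subgroupOf_iff_le_normalizer (fittingHallOf_le M)).mp this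

theorem le_normalizer_fittingOf (M : Subgroup G) :
    M ≤ Subgroup.normalizer (fittingOf M : Set G) :=
  Subgroup.le_normalizer.trans (CfsgLib.Base.normalizer_le_normalizer_map_subtype M _)

theorem fittingHallOf_le_fittingOf (M : Subgroup G) : fittingHallOf M ≤ fittingOf M :=
  Subgroup.map_mono (CfsgLib.Base.le_fittingSubgroup (fittingHall_nilpotent_hall M).1)

theorem coprime_fittingHallOf (M : Subgroup G) :
    (Nat.card (fittingHallOf M)).Coprime ((fittingHallOf M).relIndex M) := by
  have h1 : Nat.card (fittingHallOf M) = Nat.card (fittingHall M) :=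
    CfsgLib.Base.card_map_subtype _
  have h2 : (fittingHallOf M).relIndex M = (fittingHall M).index := by
    rw [Subgroup.relIndex, fittingHallOf, Subgroup.subgroupOf,
      Subgroup.comap_map_eq_self_of_injective M.subtype_injective]
  rw [h1, h2]
  exact (fittingHall_nilpotent_hall M).2

/-- A subgroup of `M` meeting `M_F` trivially has order coprime to that of `M_F`. -/
theorem coprime_of_disjoint_fittingHallOf {M U : Subgroup G} (hU : U ≤ M)
    (hd : fittingHallOf M ⊓ U = ⊥) : (Nat.card U).Coprime (Nat.card (fittingHallOf M)) := by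
  have h1 : (fittingHallOf M).relIndex U ∣ (fittingHallOf M).relIndex M := by
    haveI : ((fittingHallOf M).subgroupOf M).Normal :=
      (Subgroup.normal_subgroupOf_iff_le_normalizer (fittingHallOf_le M)).mpr
        (le_normalizer_fittingHallOf M)
    have h3 : (fittingHallOf M).relIndex U = ((fittingHallOf M).subgroupOf M).relIndex (U.subgroupOf M) := by
      rw [Subgroup.relIndex_subgroupOf hU]
    rw [h3]
    exact Subgroup.relIndex_dvd_index_of_normal _ _
  have h2 : (fittingHallOf M).relIndex U = Nat.card U := by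
    rw [← Subgroup.inf_relIndex_right, hd, Subgroup.relIndex_bot_left]
  exact ((coprime_fittingHallOf M).coprime_dvd_right (h2 ▸ h1)).symm

theorem commute_of_coprime_aux {N : Type*} [Group N] [Finite N] [Group.IsNilpotent N] {a b : N}
    (h : (orderOf a).Coprime (orderOf b)) : Commute a b := by
  classical
  obtain ⟨e⟩ := ((Group.isNilpotent_of_finite_tfae (G := N)).out 0 4).mp
    (inferInstance : Group.IsNilpotent N)
  have h2 : (orderOf (e.symm a)).Coprime (orderOf (e.symm b)) := by
    simpa [MulEquiv.orderOf_eq] using h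
  have h1 : Commute (e.symm a) (e.symm b) := by
    refine funext fun q => funext fun P => ?_
    haveI : Fact (q : ℕ).Prime := ⟨Nat.prime_of_mem_primeFactors q.2⟩
    obtain ⟨i, hi⟩ := IsPGroup.iff_orderOf.mp P.isPGroup' (e.symm a q P)
    obtain ⟨j, hj⟩ := IsPGroup.iff_orderOf.mp P.isPGroup' (e.symm b q P)
    have da : orderOf (e.symm a q P) ∣ orderOf (e.symm a) :=
      (orderOf_map_dvd (Pi.evalMonoidHom _ P) (e.symm a q)).trans
        (orderOf_map_dvd (Pi.evalMonoidHom _ q) (e.symm a))
    have db : orderOf (e.symm b q P) ∣ orderOf (e.symm b) :=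
      (orderOf_map_dvd (Pi.evalMonoidHom _ P) (e.symm b q)).trans
        (orderOf_map_dvd (Pi.evalMonoidHom _ q) (e.symm b))
    have hc := (h2.coprime_dvd_left da).coprime_dvd_right db
    rcases Nat.eq_zero_or_pos i with rfl | hi0
    · rw [pow_zero, orderOf_eq_one_iff] at hi
      simp [hi]
    · rcases Nat.eq_zero_or_pos j with rfl | hj0
      · rw [pow_zero, orderOf_eq_one_iff] at hj
        simp [hj]
      · rw [hi, hj, Nat.coprime_pow_left_iff hi0, Nat.coprime_pow_right_iff hj0,
          Nat.coprime_self] at hc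
        exact absurd hc (Nat.prime_of_mem_primeFactors q.2).ne_one
  have h3 := congrArg e h1.eq
  show a * b = b * a
  simpa using h3

/-- In a nilpotent subgroup, elements of coprime orders commute. -/
theorem commute_of_isNilpotent {F : Subgroup G} (hF : Group.IsNilpotent F) {a b : G}
    (ha : a ∈ F) (hb : b ∈ F) (h : (orderOf a).Coprime (orderOf b)) : Commute a b := by
  haveI := hF
  have hab : (orderOf (⟨a, ha⟩ : F)).Coprime (orderOf (⟨b, hb⟩ : F)) := by
    rwa [Subgroup.orderOf_mk, Subgroup.orderOf_mk]
  have h1 := CfsgLib.OddOrder.commute_of_coprime_aux hab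
  exact congrArg Subtype.val h1.eq

end CfsgLib.OddOrder

namespace CfsgLib.OddOrder

open Cfsg

variable {G : Type*} [Group G] [Finite G]

/-- For type-P data, `C_U(H) = U ∩ F(M)`. -/
theorem typeP_inf_fittingOf {M W₁ U W₂ : Subgroup G} (hP : IsTypePWith M W₁ U W₂) :
    U ⊓ fittingOf M = U ⊓ Subgroup.centralizer (fittingHallOf M : Set G) := by
  have hUM : U ≤ M := hP.U_compl.2.1.trans (Subgroup.commutator_le_self M)
  refine le_antisymm (le_inf inf_le_left fun u hu => ?_) (le_inf inf_le_left fun u hu => ?_)
  · refine Subgroup.mem_centralizer_iff.mpr fun h hh => ?_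
    have hc := (coprime_of_disjoint_fittingHallOf hUM hP.U_compl.2.2.1)
    exact ((commute_of_isNilpotent (isNilpotent_fittingOf M) hu.2 (fittingHallOf_le_fittingOf M hh)
      ((hc.coprime_dvd_left (Subgroup.orderOf_dvd_natCard U hu.1)).coprime_dvd_right
        (Subgroup.orderOf_dvd_natCard _ hh))).eq).symm
  · rw [← hP.fitting_eq]
    exact Subgroup.mem_sup_right ⟨hUM hu.1, hu.2⟩

end CfsgLib.OddOrder
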