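import Mathlib.GroupTheory.OrderOfElement
import Mathlib.GroupTheory.Commutator.Basic
import Mathlib.GroupTheory.Nilpotent
import Mathlib.GroupTheory.Sylow
import Mathlib.GroupTheory.Subgroup.Centralizer

/-!
Element-level coprime action lemmas for the odd-order local analysis.
-/

namespace CfsgLib.OddOrder

variable {G : Type*} [Group G]

/-- If `a` moves `h` by a left factor `d` that it fixes, and the orders of `a`, `d` are coprime,
then `a` fixes `h`. -/
theorem commute_of_conj_eq_mul {a d h : G} (hd : Commute a d) (he : a * h * a⁻¹ = d * h)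
    (hcop : (orderOf a).Coprime (orderOf d)) : Commute a h := by
  have key : ∀ k : ℕ, a ^ k * h * (a ^ k)⁻¹ = d ^ k * h := by
    intro k
    induction k with
    | zero => simp
    | succ k ih =>
      have h1 : a ^ (k + 1) * h * (a ^ (k + 1))⁻¹ = a * (a ^ k * h * (a ^ k)⁻¹) * a⁻¹ := by
        rw [pow_succ']; group
      rw [h1, ih]
      have h2 : a * (d ^ k * h) * a⁻¹ = d ^ k * (a * h * a⁻¹) := by
        rw [← mul_assoc a, (hd.pow_right k).eq]; group
      rw [h2, he, pow_succ, mul_assoc]
  have h3 := key (orderOf a)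
  rw [pow_orderOf_eq_one, one_mul, inv_one, mul_one, right_eq_mul] at h3
  have hdvd : orderOf d ∣ orderOf a := orderOf_dvd_of_pow_eq_one h3
  have : orderOf d = 1 := Nat.eq_one_of_dvd_coprimes hcop hdvd dvd_rfl
  rw [orderOf_eq_one_iff] at this
  subst this
  rw [one_mul] at he
  exact mul_inv_eq_iff_eq_mul.mp he

end CfsgLib.OddOrder
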