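import Mathlib.GroupTheory.PGroup
import Mathlib.GroupTheory.Commutator.Basic
import Mathlib.GroupTheory.Subgroup.Center

/-!
The abelian group attached to a group of class two and odd order (the trick of Baer).
-/

namespace CfsgLib.OddOrder

open scoped commutatorElement

/-- A copy of `T`, to carry the abelian operation `x y [y, x]^h`. -/
@[ext] structure BaerGroup (T : Type*) where
  val : T

variable {T : Type*} [Group T]

theorem comm_mul_left_of_central (hcl : ∀ x y : T, ⁅x, y⁆ ∈ Subgroup.center T) (x y z : T) :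
    ⁅x * y, z⁆ = ⁅x, z⁆ * ⁅y, z⁆ := by
  have h1 : ⁅x * y, z⁆ = x * ⁅y, z⁆ * (z * x⁻¹ * z⁻¹) := by
    simp only [commutatorElement_def]; group
  rw [h1, Subgroup.mem_center_iff.mp (hcl y z) x, mul_assoc,
    show x * (z * x⁻¹ * z⁻¹) = ⁅x, z⁆ by simp only [commutatorElement_def]; group]
  exact (Subgroup.mem_center_iff.mp (hcl y z) _).symm

theorem comm_mul_right_of_central (hcl : ∀ x y : T, ⁅x, y⁆ ∈ Subgroup.center T) (x y z : T) :
    ⁅x, y * z⁆ = ⁅x, y⁆ * ⁅x, z⁆ := by
  rw [← commutatorElement_inv, comm_mul_left_of_central hcl, mul_inv_rev, commutatorElement_inv,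
    commutatorElement_inv]
  exact Subgroup.mem_center_iff.mp (hcl x y) _

theorem comm_central_right {c : T} (hc : c ∈ Subgroup.center T) (x : T) : ⁅x, c⁆ = 1 := by
  rw [commutatorElement_eq_one_iff_mul_comm]
  exact Subgroup.mem_center_iff.mp hc x

theorem comm_central_left {c : T} (hc : c ∈ Subgroup.center T) (x : T) : ⁅c, x⁆ = 1 := by
  rw [commutatorElement_eq_one_iff_mul_comm]
  exact (Subgroup.mem_center_iff.mp hc x).symm

/-- The operation `x y [y, x]^h`. -/
def baerMul (h : ℕ) (x y : T) : T := x * y * ⁅y, x⁆ ^ h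

/-- For a group of class at most two in which `x ↦ x ^ (2h)` fixes every commutator, the operation
`baerMul h` makes the group abelian. -/
abbrev baerCommGroup (h : ℕ) (hcl : ∀ x y : T, ⁅x, y⁆ ∈ Subgroup.center T)
    (hh : ∀ x y : T, ⁅x, y⁆ ^ (2 * h) = ⁅x, y⁆) : CommGroup (BaerGroup T) where
  mul a b := ⟨baerMul h a.val b.val⟩
  one := ⟨1⟩
  inv a := ⟨a.val⁻¹⟩
  one_mul a := by
    apply BaerGroup.ext
    show baerMul h 1 a.val = a.val
    simp [baerMul]
  mul_one a := by
    apply BaerGroup.ext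
    show baerMul h a.val 1 = a.val
    simp [baerMul]
  inv_mul_cancel a := by
    apply BaerGroup.ext
    show baerMul h a.val⁻¹ a.val = 1
    have : ⁅a.val, a.val⁻¹⁆ = 1 := by simp [commutatorElement_eq_one_iff_mul_comm]
    simp [baerMul, this]
  mul_comm a b := by
    apply BaerGroup.ext
    show baerMul h a.val b.val = baerMul h b.val a.val
    obtain ⟨x⟩ := a
    obtain ⟨y⟩ := b
    simp only [baerMul]
    have h1 : x * y = ⁅x, y⁆ * (y * x) := by simp only [commutatorElement_def]; group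
    have h2 : ⁅y, x⁆ = ⁅x, y⁆⁻¹ := (commutatorElement_inv x y).symm
    have hc := Subgroup.mem_center_iff.mp (hcl x y)
    rw [h1, h2, inv_pow, ← hc (y * x), mul_assoc]
    congr 1
    rw [mul_inv_eq_iff_eq_mul, ← pow_add, ← two_mul, hh]
  mul_assoc a b c := by
    apply BaerGroup.ext
    show baerMul h (baerMul h a.val b.val) c.val = baerMul h a.val (baerMul h b.val c.val)
    obtain ⟨x⟩ := a
    obtain ⟨y⟩ := b
    obtain ⟨z⟩ := c
    simp only [baerMul]
    have hyx := pow_mem (hcl y x) h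
    have hzy := pow_mem (hcl z y) h
    have hzx := pow_mem (hcl z x) h
    have e1 : ⁅z, x * y * ⁅y, x⁆ ^ h⁆ = ⁅z, x⁆ * ⁅z, y⁆ := by
      rw [comm_mul_right_of_central hcl, comm_mul_right_of_central hcl, comm_central_right hyx,
        mul_one]
    have e2 : ⁅y * z * ⁅z, y⁆ ^ h, x⁆ = ⁅y, x⁆ * ⁅z, x⁆ := by
      rw [comm_mul_left_of_central hcl, comm_mul_left_of_central hcl, comm_central_left hzy,
        mul_one]
    have c1 : ∀ {u v : T}, u ∈ Subgroup.center T → Commute u v := fun hu =>
      (Subgroup.mem_center_iff.mp hu _).symm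
    rw [e1, e2, (c1 (hcl z x) : Commute ⁅z, x⁆ ⁅z, y⁆).mul_pow,
      (c1 (hcl y x) : Commute ⁅y, x⁆ ⁅z, x⁆).mul_pow]
    set A := ⁅y, x⁆ ^ h
    set B := ⁅z, x⁆ ^ h
    set C := ⁅z, y⁆ ^ h
    calc x * y * A * z * (B * C) = x * y * (A * z) * (B * C) := by group
      _ = x * y * (z * A) * (B * C) := by rw [(c1 hyx : Commute A z).eq]
      _ = x * y * z * ((A * B) * C) := by group
      _ = x * y * z * (C * (A * B)) := by rw [(c1 hzy : Commute C (A * B)).eq]
      _ = x * (y * z * C) * (A * B) := by group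

/-- An automorphism of `T` is an automorphism of the Baer group. -/
theorem map_baerMul (h : ℕ) (σ : T ≃* T) (x y : T) :
    σ (baerMul h x y) = baerMul h (σ x) (σ y) := by
  simp [baerMul, map_commutatorElement]

end CfsgLib.OddOrder
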