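import Mathlib.GroupTheory.GroupAction.ConjAct
import Mathlib.GroupTheory.SpecificGroups.Cyclic
import Mathlib.Algebra.BigOperators.Finprod
import Cfsg.Agent.Lib.OddOrder.ActionBasics
import Cfsg.Agent.Lib.OddOrder.BaerTrick

/-!
If a `p`-group `E` normalizes a `p'`-group `Q`, both act on a `p`-group `T`, and `Q` fixes every
fixed point of `E`, then (for `p` odd, or if `E` acts centrally) `Q` acts trivially on `T`.
-/

namespace CfsgLib.OddOrder

open scoped commutatorElement

/-- The abelian case. -/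
theorem fix_all_of_fix_fixed {V X : Type*} [CommGroup V] [Finite V] [Group X] [Finite X]
    (φ : X →* MulAut V) {p : ℕ} [Fact p.Prime] (E Q : Subgroup X) (hV : IsPGroup p V)
    (hE : IsPGroup p E) (hQ : (Nat.card Q).Coprime p)
    (hEQ : E ≤ Subgroup.normalizer (Q : Set X))
    (hfix : ∀ v, (∀ e ∈ E, φ e v = v) → ∀ q ∈ Q, φ q v = v) :
    ∀ q ∈ Q, ∀ v, φ q v = v := by
  classical
  let _ : Fintype Q := Fintype.ofFinite Q
  let N : V →* V := ∏ q : Q, (φ (q : X)).toMonoidHom
  have hN : ∀ v, N v = ∏ q : Q, φ (q : X) v := fun v => by simp [N, MonoidHom.finsetProd_apply]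
  have hinv : ∀ q : Q, ∀ v, N (φ (q : X) v) = N v := by
    intro q v
    simp only [hN]
    exact Fintype.prod_equiv (Equiv.mulRight q) _ _ fun r => by simp
  have hEinv : ∀ e ∈ E, ∀ v, v ∈ N.ker → φ e v ∈ N.ker := by
    intro e he v hv
    rw [MonoidHom.mem_ker, hN] at hv ⊢
    have hn := Subgroup.mem_normalizer_iff.mp (hEQ he)
    let σ : Q ≃ Q :=
      { toFun := fun r => ⟨e⁻¹ * r * e, by
          have := (hn (e⁻¹ * r * e)).mpr (by simp [mul_assoc])
          exact this⟩
        invFun := fun r => ⟨e * r * e⁻¹, (hn r).mp r.2⟩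
        left_inv := fun r => by simp [mul_assoc]
        right_inv := fun r => by simp [mul_assoc] }
    have h1 : ∀ r : Q, φ (r : X) (φ e v) = φ e (φ (σ r : X) v) := fun r => by
      simp [σ]
    rw [Fintype.prod_congr _ _ h1, ← map_prod, Equiv.prod_comp σ (fun r : Q => φ (r : X) v), hv,
      map_one]
  have hker : N.ker = ⊥ := by
    by_contra hne
    let act : MulAction E N.ker :=
      { smul := fun e v => ⟨φ (e : X) v, hEinv e e.2 v v.2⟩
        one_smul := fun v => Subtype.ext (by show φ ((1 : E) : X) v = v; simp)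
        mul_smul := fun a b v => Subtype.ext (by
          show φ ((a * b : E) : X) v = φ (a : X) (φ (b : X) v); simp) }
    letI := act
    have hp : p ∣ Nat.card N.ker := by
      obtain ⟨k, hk⟩ := IsPGroup.iff_card.mp (hV.to_subgroup N.ker)
      rcases k with _ | k
      · exact absurd (Subgroup.eq_bot_of_card_eq _ (by simpa using hk)) hne
      · exact hk ▸ dvd_pow_self p (Nat.succ_ne_zero k)
    obtain ⟨v, hv, hv1⟩ := hE.exists_fixed_point_of_prime_dvd_card_of_fixed_point N.ker hp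
      (a := 1) (fun e => Subtype.ext (by show φ (e : X) (1 : V) = 1; simp))
    have hvq : ∀ q ∈ Q, φ q (v : V) = v :=
      hfix v fun e he => congrArg Subtype.val (hv ⟨e, he⟩)
    have h1 : N v = (v : V) ^ Nat.card Q := by
      rw [hN, Fintype.prod_congr _ _ (fun r : Q => hvq r r.2), Finset.prod_const, Finset.card_univ,
        Nat.card_eq_fintype_card]
    rw [MonoidHom.mem_ker.mp v.2, eq_comm] at h1
    obtain ⟨k, hk⟩ := IsPGroup.iff_orderOf.mp hV (v : V)
    have h2 : orderOf (v : V) = 1 := Nat.eq_one_of_dvd_coprimes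
      (hk ▸ (hQ.symm.pow_left k)) dvd_rfl (orderOf_dvd_of_pow_eq_one h1)
    exact hv1 (Subtype.ext (orderOf_eq_one_iff.mp h2).symm)
  intro q hq v
  have h1 : φ q v / v ∈ N.ker := by
    rw [MonoidHom.mem_ker, map_div, hinv ⟨q, hq⟩ v, div_self']
  rw [hker, Subgroup.mem_bot, div_eq_one] at h1
  exact h1

variable {G : Type*} [Group G]

/-- The case of a group of class at most two, `p` odd. -/
theorem le_centralizer_of_class_two [Finite G] {p : ℕ} [Fact p.Prime] (hp : p ≠ 2)
    {T E Q : Subgroup G} (hT : IsPGroup p T) (hE : IsPGroup p E) (hQ : (Nat.card Q).Coprime p)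
    (hET : E ≤ Subgroup.normalizer (T : Set G)) (hQT : Q ≤ Subgroup.normalizer (T : Set G))
    (hEQ : E ≤ Subgroup.normalizer (Q : Set G))
    (hcl : ∀ x y : T, ⁅x, y⁆ ∈ Subgroup.center T)
    (hfix : T ⊓ Subgroup.centralizer (E : Set G) ≤ Subgroup.centralizer (Q : Set G)) :
    Q ≤ Subgroup.centralizer (T : Set G) := by
  obtain ⟨k, hk⟩ := IsPGroup.iff_card.mp hT
  have hodd : Odd (p ^ k) := ((Fact.out : p.Prime).odd_of_ne_two hp).pow
  obtain ⟨m, hm⟩ := hodd
  have hh : ∀ x y : T, ⁅x, y⁆ ^ (2 * (m + 1)) = ⁅x, y⁆ := by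
    intro x y
    have h1 : ⁅x, y⁆ ^ (2 * m + 1) = 1 := by rw [← hm, ← hk]; exact pow_card_eq_one'
    rw [show 2 * (m + 1) = (2 * m + 1) + 1 by ring, pow_succ, h1, one_mul]
  letI := baerCommGroup (m + 1) hcl hh
  haveI : Finite (BaerGroup T) := Finite.of_equiv T
    ⟨fun t => ⟨t⟩, BaerGroup.val, fun _ => rfl, fun _ => rfl⟩
  have hV : IsPGroup p (BaerGroup T) := IsPGroup.of_card (n := k) (by
    rw [← hk]; exact Nat.card_congr ⟨BaerGroup.val, fun t => ⟨t⟩, fun _ => rfl, fun _ => rfl⟩)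
  let X : Subgroup G := Subgroup.normalizer (T : Set G)
  let lift : MulAut T → MulAut (BaerGroup T) := fun σ =>
    { toFun := fun a => ⟨σ a.val⟩
      invFun := fun a => ⟨σ.symm a.val⟩
      left_inv := fun a => BaerGroup.ext (σ.symm_apply_apply a.val)
      right_inv := fun a => BaerGroup.ext (σ.apply_symm_apply a.val)
      map_mul' := fun a b => BaerGroup.ext (map_baerMul (m + 1) σ a.val b.val) }
  let φ : X →* MulAut (BaerGroup T) :=
    { toFun := fun x => lift (T.normalizerMonoidHom x)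
      map_one' := by
        refine MulEquiv.ext fun a => BaerGroup.ext ?_
        show T.normalizerMonoidHom 1 a.val = a.val
        simp
      map_mul' := fun x y => by
        refine MulEquiv.ext fun a => BaerGroup.ext ?_
        show T.normalizerMonoidHom (x * y) a.val =
          T.normalizerMonoidHom x (T.normalizerMonoidHom y a.val)
        rw [map_mul]; rfl }
  have key : ∀ (x : X) (a : BaerGroup T), ((φ x a).val : G) = (x : G) * a.val * (x : G)⁻¹ :=
    fun _ _ => rfl
  have hfix' : ∀ v, (∀ e ∈ E.subgroupOf X, φ e v = v) → ∀ q ∈ Q.subgroupOf X, φ q v = v := by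
    intro v hv q hq
    have hvc : (v.val : G) ∈ Subgroup.centralizer (E : Set G) := by
      refine Subgroup.mem_centralizer_iff.mpr fun e he => ?_
      have h1 := congrArg (fun a : BaerGroup T => (a.val : G)) (hv ⟨e, hET he⟩ he)
      rw [key] at h1
      exact mul_inv_eq_iff_eq_mul.mp h1
    have h2 := Subgroup.mem_centralizer_iff.mp (hfix ⟨v.val.2, hvc⟩) (q : G) hq
    apply BaerGroup.ext; apply Subtype.ext
    rw [key, h2]; group
  intro q hq
  refine Subgroup.mem_centralizer_iff.mpr fun t ht => ?_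
  have h1 := fix_all_of_fix_fixed φ (E.subgroupOf X) (Q.subgroupOf X) hV
    (hE.of_equiv (Subgroup.subgroupOfEquivOfLe hET).symm)
    (by rwa [Nat.card_congr (Subgroup.subgroupOfEquivOfLe hQT).toEquiv])
    (fun e he => Subgroup.mem_normalizer_iff.mpr fun z => by
      simpa [Subgroup.mem_subgroupOf] using Subgroup.mem_normalizer_iff.mp (hEQ he) (z : G))
    hfix' ⟨q, hQT hq⟩ hq ⟨⟨t, ht⟩⟩
  have h2 := congrArg (fun a : BaerGroup T => (a.val : G)) h1
  rw [key] at h2
  exact (mul_inv_eq_iff_eq_mul.mp h2).symm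

/-- Coprime action: if `Q` centralizes the subgroup `U` of `T` and `[T, Q] ≤ U` then `Q`
centralizes `T`. -/
theorem le_centralizer_of_commutator_le [Finite G] {T Q U : Subgroup G}
    (hcop : (Nat.card Q).Coprime (Nat.card U)) (hTQ : ⁅T, Q⁆ ≤ U)
    (hQU : Q ≤ Subgroup.centralizer (U : Set G)) : Q ≤ Subgroup.centralizer (T : Set G) := by
  intro q hq
  refine Subgroup.mem_centralizer_iff.mpr fun t ht => ?_
  have hd : ⁅t, q⁆⁻¹ ∈ U := U.inv_mem (hTQ (Subgroup.commutator_mem_commutator ht hq))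
  have hc : Commute q ⁅t, q⁆⁻¹ := ((Subgroup.mem_centralizer_iff.mp (hQU hq)) _ hd).symm
  refine ((commute_of_conj_eq_mul hc ?_ ?_).symm).eq
  · simp only [commutatorElement_def]; group
  · exact (hcop.coprime_dvd_left (Subgroup.orderOf_dvd_natCard Q hq)).coprime_dvd_right
      (Subgroup.orderOf_dvd_natCard U hd)

theorem le_normalizer_commutator {A B X : Subgroup G} (hA : X ≤ Subgroup.normalizer (A : Set G))
    (hB : X ≤ Subgroup.normalizer (B : Set G)) :
    X ≤ Subgroup.normalizer ((⁅A, B⁆ : Subgroup G) : Set G) := by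
  intro x hx
  rw [Subgroup.mem_normalizer_iff_map_conj_eq, Subgroup.map_commutator,
    Subgroup.mem_normalizer_iff_map_conj_eq.mp (hA hx),
    Subgroup.mem_normalizer_iff_map_conj_eq.mp (hB hx)]

/-- For odd `p`: if a `p`-group `E` normalizes a `p'`-group `Q`, both normalize the `p`-group `T`
and `Q` centralizes `C_T(E)`, then `Q` centralizes `T`. -/
theorem le_centralizer_of_fixed [Finite G] {p : ℕ} [Fact p.Prime] (hp : p ≠ 2)
    (T E Q : Subgroup G) (hT : IsPGroup p T) (hE : IsPGroup p E) (hQ : (Nat.card Q).Coprime p)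
    (hET : E ≤ Subgroup.normalizer (T : Set G)) (hQT : Q ≤ Subgroup.normalizer (T : Set G))
    (hEQ : E ≤ Subgroup.normalizer (Q : Set G))
    (hfix : T ⊓ Subgroup.centralizer (E : Set G) ≤ Subgroup.centralizer (Q : Set G)) :
    Q ≤ Subgroup.centralizer (T : Set G) := by
  induction T using WellFoundedLT.induction with
  | _ T ih =>
  have hsub : ∀ U : Subgroup G, U < T → E ≤ Subgroup.normalizer (U : Set G) →
      Q ≤ Subgroup.normalizer (U : Set G) → Q ≤ Subgroup.centralizer (U : Set G) :=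
    fun U hU hUE hUQ => ih U hU (hT.to_le hU.le) hUE hUQ ((inf_le_inf_right _ hU.le).trans hfix)
  have hQQ : Q ≤ Subgroup.normalizer (Q : Set G) := Subgroup.le_normalizer
  have hTQle : ⁅T, Q⁆ ≤ T := Subgroup.commutator_le.mpr fun t ht q hq => by
    rw [commutatorElement_def, mul_assoc, mul_assoc]
    exact T.mul_mem ht (by
      simpa [mul_assoc] using (Subgroup.mem_normalizer_iff.mp (hQT hq) _).mp (T.inv_mem ht))
  rcases eq_or_lt_of_le hTQle with heq | hlt
  · -- `T = [T, Q]`; then `T` has class at most two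
    set D := ⁅T, T⁆ with hD
    have hDle : D ≤ T := Subgroup.commutator_le_self T
    rcases eq_or_lt_of_le hDle with hDeq | hDlt
    · -- a nontrivial finite `p`-group is not perfect
      have hbot : T = ⊥ := by
        by_contra hne
        haveI : Nontrivial T := (Subgroup.nontrivial_iff_ne_bot T).mpr hne
        haveI : Group.IsNilpotent T := hT.isNilpotent
        have h1 : commutator T ≠ ⊤ := (Group.IsSolvable.commutator_lt_top_of_nontrivial T).ne
        apply h1
        apply Subgroup.map_injective T.subtype_injective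
        rw [commutator_def, ← commutator_def, Subgroup.map_subtype_commutator, ← MonoidHom.range_eq_map, Subgroup.range_subtype]
        exact hDeq
      subst hbot
      intro q _
      exact Subgroup.mem_centralizer_iff.mpr fun t ht => by
        obtain rfl : t = 1 := Subgroup.mem_bot.mp ht
        simp
    have hQD := hsub D hDlt (le_normalizer_commutator hET hET) (le_normalizer_commutator hQT hQT)
    have hDT : T ≤ Subgroup.normalizer (D : Set G) :=
      le_normalizer_commutator Subgroup.le_normalizer Subgroup.le_normalizer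
    have h1 : ⁅⁅Q, D⁆, T⁆ = ⊥ := by
      rw [Subgroup.commutator_eq_bot_iff_le_centralizer.mpr hQD]
      exact Subgroup.commutator_bot_left T
    have h2 : ⁅⁅D, T⁆, Q⁆ = ⊥ := by
      have : ⁅D, T⁆ ≤ D := Subgroup.commutator_mono hDle le_rfl
      exact le_bot_iff.mp ((Subgroup.commutator_mono this le_rfl).trans (by
        rw [Subgroup.commutator_eq_bot_iff_le_centralizer.mpr (Subgroup.le_centralizer_iff.mp hQD)]))
    have h3 : ⁅⁅T, Q⁆, D⁆ = ⊥ := Subgroup.commutator_commutator_eq_bot_of_rotate h1 h2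
    rw [heq, Subgroup.commutator_eq_bot_iff_le_centralizer] at h3
    refine le_centralizer_of_class_two hp hT hE hQ hET hQT hEQ (fun x y => ?_) hfix
    refine Subgroup.mem_center_iff.mpr fun z => Subtype.ext ?_
    have hmem : ((⁅x, y⁆ : T) : G) ∈ D := by
      have := Subgroup.commutator_mem_commutator x.2 y.2
      simpa [commutatorElement_def] using this
    exact ((Subgroup.mem_centralizer_iff.mp (h3 z.2)) _ hmem).symm
  · obtain ⟨k, hk⟩ := IsPGroup.iff_card.mp (hT.to_le hTQle)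
    refine le_centralizer_of_commutator_le (by rw [hk]; exact hQ.pow_right k) le_rfl ?_
    exact hsub _ hlt (le_normalizer_commutator hET hEQ) (le_normalizer_commutator hQT hQQ)

/-- The variant for arbitrary `p`: `[T, E]` is central in `T` and centralized by `E`. -/
theorem le_centralizer_of_fixed_central [Finite G] {p : ℕ} [Fact p.Prime]
    {T E Q : Subgroup G} (hT : IsPGroup p T) (hQ : (Nat.card Q).Coprime p)
    (hET : E ≤ Subgroup.normalizer (T : Set G)) (hQT : Q ≤ Subgroup.normalizer (T : Set G))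
    (hEQ : E ≤ Subgroup.normalizer (Q : Set G))
    (hcen : ∀ t ∈ T, ∀ e ∈ E,
      ⁅t, e⁆ ∈ Subgroup.centralizer (E : Set G) ⊓ Subgroup.centralizer (T : Set G))
    (hfix : T ⊓ Subgroup.centralizer (E : Set G) ≤ Subgroup.centralizer (Q : Set G)) :
    Q ≤ Subgroup.centralizer (T : Set G) := by
  set W := T ⊓ Subgroup.centralizer (E : Set G) ⊓ Subgroup.centralizer (Q : Set G) with hW
  have hQW : Q ≤ Subgroup.centralizer (W : Set G) :=
    Subgroup.le_centralizer_iff.mp inf_le_right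
  have hfixW : ∀ x ∈ T, x ∈ Subgroup.centralizer (E : Set G) → x ∈ W :=
    fun x hx hxE => ⟨⟨hx, hxE⟩, hfix ⟨hx, hxE⟩⟩
  -- `E` moves each element of `T` inside `W`
  have hEW : ∀ t ∈ T, ∀ e ∈ E, ⁅t, e⁆ ∈ W := fun t ht e he => hfixW _ (by
      rw [commutatorElement_def, mul_assoc, mul_assoc]
      exact T.mul_mem ht (by
        simpa [mul_assoc] using (Subgroup.mem_normalizer_iff.mp (hET he) _).mp (T.inv_mem ht)))
    (hcen t ht e he).1
  obtain ⟨k, hk⟩ := IsPGroup.iff_card.mp
    (hT.to_le (show W ≤ T from inf_le_left.trans inf_le_left))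
  -- commutators `[q, e]` centralize `T`
  have hQE : ∀ q ∈ Q, ∀ e ∈ E, ∀ t ∈ T, Commute ⁅e, q⁆ t := by
    intro q hq e he t ht
    have hqmem : ⁅e, q⁆ ∈ Q := by
      rw [commutatorElement_def]
      exact Q.mul_mem ((Subgroup.mem_normalizer_iff.mp (hEQ he) q).mp hq) (Q.inv_mem hq)
    set t₁ := q⁻¹ * t * q with ht₁
    have ht₁T : t₁ ∈ T := by
      have := (Subgroup.mem_normalizer_iff.mp (hQT (Q.inv_mem hq)) t).mp ht
      simpa [ht₁] using this
    set t₂ := e⁻¹ * t₁ * e with ht₂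
    have ht₂T : t₂ ∈ T := by
      have := (Subgroup.mem_normalizer_iff.mp (hET (E.inv_mem he)) t₁).mp ht₁T
      simpa [ht₂] using this
    set t₃ := q * t₂ * q⁻¹ with ht₃
    have ht₃T : t₃ ∈ T := (Subgroup.mem_normalizer_iff.mp (hQT hq) t₂).mp ht₂T
    set t₄ := e * t₃ * e⁻¹ with ht₄
    have hmain : ⁅e, q⁆ * t * ⁅e, q⁆⁻¹ = t₄ := by
      simp only [ht₁, ht₂, ht₃, ht₄, commutatorElement_def]; group
    have hd1 := hEW t₁ ht₁T e⁻¹ (E.inv_mem he)
    have hd3 := hEW t₃ ht₃T e he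
    have hq1 : q * ⁅t₁, e⁻¹⁆ * q⁻¹ = ⁅t₁, e⁻¹⁆ := by
      rw [((Subgroup.mem_centralizer_iff.mp (hQW hq)) _ hd1).symm]; group
    have hd : t₄ * t⁻¹ = ⁅t₃, e⁆⁻¹ * (q * ⁅t₁, e⁻¹⁆⁻¹ * q⁻¹) := by
      simp only [ht₁, ht₂, ht₃, ht₄, commutatorElement_def]; group
    have hdW : t₄ * t⁻¹ ∈ W := by
      rw [hd, show q * ⁅t₁, e⁻¹⁆⁻¹ * q⁻¹ = (q * ⁅t₁, e⁻¹⁆ * q⁻¹)⁻¹ by group, hq1]
      exact W.mul_mem (W.inv_mem hd3) (W.inv_mem hd1)
    refine commute_of_conj_eq_mul (d := t₄ * t⁻¹) ?_ (by rw [hmain]; group) ?_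
    · exact ((Subgroup.mem_centralizer_iff.mp (hQW hqmem)) _ hdW).symm
    · exact ((hk ▸ hQ.pow_right k :
        (Nat.card Q).Coprime (Nat.card W)).coprime_dvd_left
          (Subgroup.orderOf_dvd_natCard Q hqmem)).coprime_dvd_right
        (Subgroup.orderOf_dvd_natCard W hdW)
  -- hence `[t, q]` is centralized by `E`
  refine le_centralizer_of_commutator_le (U := W) (by rw [hk]; exact hQ.pow_right k) ?_ hQW
  rw [Subgroup.commutator_le]
  intro t ht q hq
  have htq : ⁅t, q⁆ ∈ T := by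
    rw [commutatorElement_def, mul_assoc, mul_assoc]
    exact T.mul_mem ht (by
      simpa [mul_assoc] using (Subgroup.mem_normalizer_iff.mp (hQT hq) _).mp (T.inv_mem ht))
  refine hfixW _ htq (Subgroup.mem_centralizer_iff.mpr fun e he => ?_)
  have hd := hEW t ht e he
  have hetT : e * t * e⁻¹ ∈ T := (Subgroup.mem_normalizer_iff.mp (hET he) t).mp ht
  have hc : ⁅e, q⁆ * (q * (e * t * e⁻¹)⁻¹ * q⁻¹) * ⁅e, q⁆⁻¹ = q * (e * t * e⁻¹)⁻¹ * q⁻¹ := by
    rw [(hQE q hq e he _ ((Subgroup.mem_normalizer_iff.mp (hQT hq) _).mp (T.inv_mem hetT))).eq]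
    group
  have hdq : q * ⁅t, e⁆ * q⁻¹ = ⁅t, e⁆ := by
    rw [((Subgroup.mem_centralizer_iff.mp (hQW hq)) _ hd).symm]; group
  have key : e * ⁅t, q⁆ * e⁻¹ = (e * t * e⁻¹) * (q * (e * t * e⁻¹)⁻¹ * q⁻¹) := by
    have h5 : e * ⁅t, q⁆ * e⁻¹ =
        (e * t * e⁻¹) * (⁅e, q⁆ * (q * (e * t * e⁻¹)⁻¹ * q⁻¹) * ⁅e, q⁆⁻¹) := by
      simp only [commutatorElement_def]; group
    rw [h5, hc]
  have h6 : e * ⁅t, q⁆ * e⁻¹ = ⁅t, q⁆ := by
    have h7 : (e * t * e⁻¹) = ⁅t, e⁆⁻¹ * t := by simp only [commutatorElement_def]; group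
    have hcw : ⁅t, e⁆ * ⁅t, q⁆ = ⁅t, q⁆ * ⁅t, e⁆ := by
      exact (Subgroup.mem_centralizer_iff.mp (hcen t ht e he).2 _ htq).symm
    rw [key, h7, show ⁅t, e⁆⁻¹ * t * (q * (⁅t, e⁆⁻¹ * t)⁻¹ * q⁻¹) =
      ⁅t, e⁆⁻¹ * (t * (q * t⁻¹ * q⁻¹)) * (q * ⁅t, e⁆ * q⁻¹) by group, hdq]
    rw [show t * (q * t⁻¹ * q⁻¹) = ⁅t, q⁆ by simp only [commutatorElement_def]; group,
      mul_assoc, ← hcw]
    group
  exact mul_inv_eq_iff_eq_mul.mp h6

end CfsgLib.OddOrder
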