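import Mathlib.GroupTheory.SpecificGroups.Cyclic

/-!
Subgroups of cyclic groups are determined by their orders.
-/

namespace CfsgLib.OddOrder

variable {G : Type*} [Group G]

/-- Two subgroups of a finite cyclic subgroup with the same order are equal. -/
theorem eq_of_card_eq_of_isCyclic [Finite G] {C A B : Subgroup G} [IsCyclic C] (hA : A ≤ C)
    (hB : B ≤ C) (h : Nat.card A = Nat.card B) : A = B := by
  have key : ∀ (H : Subgroup G), H ≤ C → ∀ x : G, x ∈ C →
      (x ∈ H ↔ x ^ Nat.card H = 1) := by
    intro H hH x hx
    constructor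
    · intro hxH
      exact orderOf_dvd_iff_pow_eq_one.mp (Subgroup.orderOf_dvd_natCard H hxH)
    · intro hpow
      classical
      haveI : Fintype C := Fintype.ofFinite C
      have hsub : (H.subgroupOf C : Set C) ⊆ {y : C | y ^ Nat.card H = 1} := by
        intro y hy
        have : (y : G) ^ Nat.card H = 1 :=
          orderOf_dvd_iff_pow_eq_one.mp (Subgroup.orderOf_dvd_natCard H hy)
        exact Subtype.ext (by simpa using this)
      have hle : {y : C | y ^ Nat.card H = 1}.ncard ≤ Nat.card H := by
        have := IsCyclic.card_pow_eq_one_le (α := C) (n := Nat.card H) Nat.card_pos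
        rwa [Set.ncard_eq_toFinset_card', Set.toFinset_ofFinset] at *
      have hcardH : (H.subgroupOf C : Set C).ncard = Nat.card H := by
        rw [← Nat.card_coe_set_eq]
        exact Nat.card_congr (Subgroup.subgroupOfEquivOfLe hH).toEquiv
      have heq := Set.eq_of_subset_of_ncard_le hsub (hcardH.symm ▸ hle) (Set.toFinite _)
      have hxm : (⟨x, hx⟩ : C) ∈ (H.subgroupOf C : Set C) := by
        rw [heq]; exact Subtype.ext (by simpa using hpow)
      exact hxm
  ext x
  by_cases hx : x ∈ C
  · rw [key A hA x hx, key B hB x hx, h]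
  · exact ⟨fun hxA => absurd (hA hxA) hx, fun hxB => absurd (hB hxB) hx⟩

end CfsgLib.OddOrder
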