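import Cfsg.Agent.Lib.PLocal.PSolvable

/-!
Groups of `p`-length one.
-/

set_option autoImplicit false

namespace CfsgLib.OddOrder

open Cfsg

variable {G : Type*} [Group G] [Finite G] {p : ℕ} [Fact p.Prime]

theorem comap_pCore_congr {N N' : Subgroup G} [N.Normal] [N'.Normal] (h : N = N') :
    (pCore p (G ⧸ N)).comap (QuotientGroup.mk' N) = (pCore p (G ⧸ N')).comap (QuotientGroup.mk' N') := by
  subst h; rfl

theorem upperPSeries_one_eq : (upperPSeries p G 1).1 = pPrimeCore p G := by
  rw [show (1 : ℕ) = 2 * 0 + 1 from rfl, CfsgLib.PLocal.upperPSeries_odd]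
  exact CfsgLib.Base.comap_mk'_pPrimeCore (⊥ : Subgroup G) (by simp)

theorem upperPSeries_two_eq : (upperPSeries p G 2).1 = pPrimePCore p G := by
  rw [show (2 : ℕ) = 2 * 0 + 2 from rfl, CfsgLib.PLocal.upperPSeries_even]
  exact comap_pCore_congr upperPSeries_one_eq

/-- In a group of `p`-length one, `O_{p',p}` has index prime to `p`. -/
theorem coprime_index_pPrimePCore (h : PLengthLE p 1 G) :
    ((pPrimePCore p G).index).Coprime p := by
  have h3 : (upperPSeries p G 3).1 = ⊤ := h
  rw [show (3 : ℕ) = 2 * 1 + 1 from rfl, CfsgLib.PLocal.upperPSeries_odd] at h3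
  have h4 := congrArg (Subgroup.map (QuotientGroup.mk' (upperPSeries p G (2 * 1)).1)) h3
  rw [Subgroup.map_comap_eq_self_of_surjective (QuotientGroup.mk'_surjective _),
    Subgroup.map_top_of_surjective _ (QuotientGroup.mk'_surjective _),
    CfsgLib.Base.pPrimeCore_eq_top_iff, ← Subgroup.index_eq_card] at h4
  have h5 : (upperPSeries p G (2 * 1)).1 = pPrimePCore p G := upperPSeries_two_eq
  rwa [h5] at h4

theorem coprime_index_pCore_quotient (h : PLengthLE p 1 G) :
    ((pCore p (G ⧸ pPrimeCore p G)).index).Coprime p := by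
  have h1 := coprime_index_pPrimePCore h
  rwa [pPrimePCore, Subgroup.index_comap_of_surjective _ (QuotientGroup.mk'_surjective _)] at h1

/-- In a group of `p`-length one the `p`-subgroups map into `O_p(G / O_{p'}(G))`. -/
theorem map_le_pCore_quotient (h : PLengthLE p 1 G) {X : Subgroup G} (hX : IsPGroup p X) :
    X.map (QuotientGroup.mk' (pPrimeCore p G)) ≤ pCore p (G ⧸ pPrimeCore p G) := by
  set T := pCore p (G ⧸ pPrimeCore p G) with hT
  set Y := X.map (QuotientGroup.mk' (pPrimeCore p G)) with hY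
  have hp : IsPGroup p ↥(Y ⊔ T) :=
    IsPGroup.to_sup_of_normal_right (hX.map _) (CfsgLib.Base.isPGroup_pCore p _)
  have h1 := coprime_index_pCore_quotient h
  obtain ⟨k, hk⟩ := IsPGroup.iff_card.mp hp
  have h2 : T.relIndex (Y ⊔ T) ∣ T.index :=
    Subgroup.relIndex_dvd_index_of_normal T _
  have h3 : T.relIndex (Y ⊔ T) ∣ Nat.card ↥(Y ⊔ T) := by
    rw [← Subgroup.relIndex_bot_left (Y ⊔ T)]
    exact Subgroup.relIndex_dvd_of_le_left _ bot_le
  have h4 : T.relIndex (Y ⊔ T) = 1 :=
    Nat.eq_one_of_dvd_coprimes (h1.pow_right k) h2 (hk ▸ h3)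
  exact le_sup_left.trans (Subgroup.relIndex_eq_one.mp h4)

end CfsgLib.OddOrder
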