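import Cfsg.Agent.Lib.OddOrder.RankTwoFitting

/-!
A `p`-group with an elementary abelian subgroup whose centralizer has rank at most two (in
particular a narrow one): the derived group of a solvable group of odd order acts on it as a
`p`-group.
-/

set_option autoImplicit false

namespace CfsgLib.OddOrder

open Cfsg
open Subgroup
open scoped commutatorElement

universe u

variable {G : Type u} [Group G] [Finite G] {p : ℕ} [Fact p.Prime]

/-- The `i`-th upper central term of `R` inside `D`. -/
def narrowLevel (R D : Subgroup G) (i : ℕ) : Subgroup G :=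
  (Subgroup.upperCentralSeries R i).map R.subtype ⊓ D

omit [Finite G] in
theorem normalizer_le_normalizer_map_char {R : Subgroup G} (K : Subgroup R) (hK : K.Characteristic) :
    normalizer (R : Set G) ≤ normalizer ((K.map R.subtype : Subgroup G) : Set G) := by
  intro g hg
  rw [mem_normalizer_iff_map_conj_eq, map_map]
  have hφ := characteristic_iff_map_eq.1 hK (R.normalizerMonoidHom ⟨g, hg⟩)
  conv_rhs => rw [← hφ, map_map]
  congr 1

omit [Finite G] in
theorem commutator_level_succ {R D : Subgroup G}
    (hRD : R ≤ normalizer (D : Set G)) (i : ℕ) {x y : G} (hx : x ∈ narrowLevel R D (i + 1))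
    (hy : y ∈ R) : ⁅x, y⁆ ∈ narrowLevel R D i := by
  obtain ⟨⟨x', hx', rfl⟩, hxD⟩ := hx
  refine ⟨⟨⁅x', ⟨y, hy⟩⁆, ?_, by simp [commutatorElement_def]⟩, ?_⟩
  · simpa [commutatorElement_def] using Subgroup.mem_upperCentralSeries_succ_iff.1 hx' ⟨y, hy⟩
  · rw [commutatorElement_def, mul_assoc, mul_assoc]
    exact D.mul_mem hxD (by
      simpa [mul_assoc] using (mem_normalizer_iff.mp (hRD hy) _).mp (D.inv_mem hxD))

/-- A `p'`-element trivial in every action of `A` on an elementary abelian group of order at most
`N` centralizes the levels, when some element of `R` has at most `N` fixed points. -/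
theorem centralizes_levels {R D A : Subgroup G} (hR : IsPGroup p R) (hDR : D ≤ R)
    (hexp : ∀ x ∈ D, x ^ p = 1) (hND : normalizer (R : Set G) ≤ normalizer (D : Set G))
    (hA : A ≤ normalizer (R : Set G)) {e : G}
    (he : e ∈ R) {N : ℕ} (hfix : Nat.card ↥(D ⊓ centralizer ({e} : Set G)) ≤ N)
    {a : A} (hkill : ∀ (V : Type u) [CommGroup V] [Finite V], (∀ v : V, v ^ p = 1) →
      Nat.card V ≤ N → ∀ α : A →* MulAut V, α a = 1)
    (hap : (orderOf a).Coprime p) (i : ℕ) :
    zpowers (a : G) ≤ centralizer (narrowLevel R D i : Set G) := by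
  induction i with
  | zero =>
    intro g _
    refine mem_centralizer_iff.2 fun h hh => ?_
    have : h = 1 := by
      obtain ⟨⟨h', hh', rfl⟩, -⟩ := hh
      rw [Subgroup.upperCentralSeries_zero, SetLike.mem_coe, mem_bot] at hh'
      simp [hh']
    simp [this]
  | succ i ih =>
    set Y := narrowLevel R D (i + 1) with hY
    set X := narrowLevel R D i with hX
    have hRD : R ≤ normalizer (D : Set G) := le_normalizer.trans hND
    have hN : ∀ j, normalizer (R : Set G) ≤ normalizer (narrowLevel R D j : Set G) := fun j =>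
      CfsgLib.Coprime.le_normalizer_inf_inf
        (normalizer_le_normalizer_map_char (Subgroup.upperCentralSeries R j) inferInstance) hND
    have hXY : X ≤ Y := inf_le_inf_right _ (map_mono (Subgroup.upperCentralSeries_mono R i.le_succ))
    have hYR : Y ≤ R := inf_le_right.trans hDR
    have hXn : (X.subgroupOf Y).Normal :=
      normal_subgroupOf_of_le_normalizer (hYR.trans (le_normalizer.trans (hN i)))
    let _ : CommGroup (Y ⧸ X.subgroupOf Y) :=
      { QuotientGroup.Quotient.group (X.subgroupOf Y) with
        mul_comm := fun u v => by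
          induction u using QuotientGroup.induction_on with | _ u => ?_
          induction v using QuotientGroup.induction_on with | _ v => ?_
          rw [← QuotientGroup.mk_mul, ← QuotientGroup.mk_mul, QuotientGroup.eq, mem_subgroupOf]
          have h := commutator_level_succ hRD i (inv_mem v.2) (hYR (inv_mem u.2))
          rw [commutatorElement_def] at h
          simpa [mul_assoc] using h }
    have hexpV : ∀ v : Y ⧸ X.subgroupOf Y, v ^ p = 1 := by
      intro v
      induction v using QuotientGroup.induction_on with | _ v => ?_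
      rw [← QuotientGroup.mk_pow, QuotientGroup.eq_one_iff, mem_subgroupOf]
      simp [hexp _ (v.2 : (v : G) ∈ Y).2]
    have hcard : Nat.card (Y ⧸ X.subgroupOf Y) ≤ N := by
      set W : Subgroup Y := (centralizer ({e} : Set G)).subgroupOf Y with hW
      have h1 : W.index ≤ Nat.card X := by
        let f : Y ⧸ W → X := fun u => Quotient.liftOn' u
          (fun y => (⟨⁅(y : G), e⁆, commutator_level_succ hRD i y.2 he⟩ : X))
          (fun y z hyz => by
            rw [QuotientGroup.leftRel_apply] at hyz
            have hc : e * ((y : G)⁻¹ * z) = ((y : G)⁻¹ * z) * e :=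
              mem_centralizer_iff.1 (hyz : ((y⁻¹ * z : Y) : G) ∈ centralizer {e}) e rfl
            apply Subtype.ext
            show ⁅(y : G), e⁆ = ⁅(z : G), e⁆
            rw [commutatorElement_def, commutatorElement_def]
            calc (y : G) * e * (y : G)⁻¹ * e⁻¹
                = y * (e * ((y : G)⁻¹ * z)) * (z : G)⁻¹ * e⁻¹ := by group
              _ = z * e * (z : G)⁻¹ * e⁻¹ := by rw [hc]; group)
        refine Nat.card_le_card_of_injective f ?_
        intro u v
        induction u using QuotientGroup.induction_on with | _ y => ?_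
        induction v using QuotientGroup.induction_on with | _ z => ?_
        intro h
        have h' : ⁅(y : G), e⁆ = ⁅(z : G), e⁆ := congrArg Subtype.val h
        rw [commutatorElement_def, commutatorElement_def, mul_left_inj] at h'
        rw [QuotientGroup.eq]
        refine mem_centralizer_singleton_iff.2 ?_
        show ((y : G)⁻¹ * z) * e = e * ((y : G)⁻¹ * z)
        calc (y : G)⁻¹ * z * e = (y : G)⁻¹ * (z * e * (z : G)⁻¹) * z := by group
          _ = e * ((y : G)⁻¹ * z) := by rw [← h']; group
      have h2 : Nat.card W ≤ N := by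
        refine le_trans ?_ hfix
        let g : W → ↥(D ⊓ centralizer ({e} : Set G)) := fun w =>
          ⟨(w.1 : G), (w.1.2 : (w.1 : G) ∈ Y).2, w.2⟩
        refine Nat.card_le_card_of_injective g fun a b h => ?_
        have h' := congrArg Subtype.val h
        exact Subtype.ext (Subtype.ext h')
      have hcX : Nat.card (X.subgroupOf Y) = Nat.card X :=
        Nat.card_congr (subgroupOfEquivOfLe hXY).toEquiv
      have h3 : Nat.card X * Nat.card (Y ⧸ X.subgroupOf Y) ≤ Nat.card X * N := by
        calc Nat.card X * Nat.card (Y ⧸ X.subgroupOf Y) = Nat.card Y := by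
              rw [← hcX]; exact (X.subgroupOf Y).card_mul_index
          _ = Nat.card W * W.index := W.card_mul_index.symm
          _ ≤ N * Nat.card X := Nat.mul_le_mul h2 h1
          _ = _ := Nat.mul_comm _ _
      exact Nat.le_of_mul_le_mul_left h3 Nat.card_pos
    have hAY : A ≤ normalizer (Y : Set G) := hA.trans (hN (i + 1))
    have hAX : A ≤ normalizer (X : Set G) := hA.trans (hN i)
    let α₀ : A →* MulAut Y := Y.normalizerMonoidHom.comp (inclusion hAY)
    have hmap : ∀ b : A, (X.subgroupOf Y).map (α₀ b).toMonoidHom = X.subgroupOf Y := by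
      intro b
      ext u
      have hn := mem_normalizer_iff.1 (hAX b.2)
      constructor
      · rintro ⟨w, hw, rfl⟩
        exact (hn (w : G)).1 hw
      · intro hu
        refine ⟨(α₀ b).symm u, ?_, (α₀ b).apply_symm_apply u⟩
        have h := (α₀ b).apply_symm_apply u
        have h' : (b : G) * ((α₀ b).symm u : Y) * (b : G)⁻¹ = (u : G) := congrArg Subtype.val h
        refine (hn _).2 ?_
        show (b : G) * ((α₀ b).symm u : Y) * (b : G)⁻¹ ∈ X
        rw [h']; exact hu
    let α : A →* MulAut (Y ⧸ X.subgroupOf Y) :=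
      { toFun := fun b => QuotientGroup.congr _ _ (α₀ b) (hmap b)
        map_one' := by
          refine MulEquiv.ext fun v => ?_
          induction v using QuotientGroup.induction_on with | _ x => ?_
          simp only [map_one]; rfl
        map_mul' := fun b c => by
          refine MulEquiv.ext fun v => ?_
          induction v using QuotientGroup.induction_on with | _ x => ?_
          simp only [map_mul]; rfl }
    have hα : α a = 1 := hkill _ hexpV hcard α
    have hcop : (Nat.card (zpowers (a : G))).Coprime (Nat.card X) := by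
      obtain ⟨k, hk⟩ := IsPGroup.iff_card.mp (hR.to_le (hXY.trans hYR))
      rw [Nat.card_zpowers, orderOf_coe, hk]
      exact hap.pow_right k
    refine le_centralizer_of_commutator_le hcop (commutator_le.2 fun y hy g hg => ?_) ih
    obtain ⟨j, rfl⟩ := mem_zpowers_iff.1 hg
    have hαj : α (a ^ j) = 1 := by rw [map_zpow, hα, one_zpow]
    have h := DFunLike.congr_fun hαj (QuotientGroup.mk (⟨y, hy⟩ : Y))
    have h2 : (α₀ (a ^ j) ⟨y, hy⟩)⁻¹ * ⟨y, hy⟩ ∈ X.subgroupOf Y := QuotientGroup.eq.1 h
    rw [mem_subgroupOf] at h2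
    have e1 : ((α₀ (a ^ j) ⟨y, hy⟩ : Y) : G) = (a : G) ^ j * y * ((a : G) ^ j)⁻¹ := by
      show ((a ^ j : A) : G) * y * ((a ^ j : A) : G)⁻¹ = _
      rw [SubgroupClass.coe_zpow]
    rw [Subgroup.coe_mul, InvMemClass.coe_inv, e1] at h2
    have hy' : y ∈ normalizer (X : Set G) := hYR.trans (le_normalizer.trans (hN i)) hy
    have h3 := (mem_normalizer_iff.1 hy' _).1 h2
    rw [commutatorElement_def]
    simpa [mul_assoc] using h3

/-- A `p'`-element trivial in all `2 × 2` representations of `A` centralizes a `p`-group `R` having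
an elementary abelian subgroup whose centralizer has rank at most two. -/
theorem mem_centralizer_of_narrow (hp : p ≠ 2) {R A E : Subgroup G} (hR : IsPGroup p R)
    (hER : E ≤ R) (hE : IsElementaryAbelian p E)
    (hC : PRankLE p 2 ↥(R ⊓ centralizer (E : Set G)))
    (hA : A ≤ normalizer (R : Set G)) {a : A}
    (htriv : ∀ φ : A →* Matrix (Fin 2) (Fin 2) (ZMod p), φ a = 1)
    (hap : (orderOf a).Coprime p) : (a : G) ∈ centralizer (R : Set G) := by
  have hpp : p.Prime := Fact.out
  by_cases hcen : E ≤ centralizer (R : Set G)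
  · obtain ⟨φ, hφ⟩ := exists_gl2_rep hp hR
      (by rwa [inf_eq_left.2 (le_centralizer_iff.1 hcen)] at hC) hA
    exact hφ a (htriv φ) hap
  obtain ⟨e, heE, hec⟩ := SetLike.not_le_iff_exists.1 hcen
  have hRne : Nontrivial R := by
    refine (Subgroup.nontrivial_iff_ne_bot R).2 fun h => hec ?_
    have := hER heE
    rw [h, mem_bot] at this
    rw [this]; exact one_mem _
  have : Nontrivial (center R) := hR.center_nontrivial
  have hdz : p ∣ Nat.card (center R) := by
    obtain ⟨n, hn⟩ := IsPGroup.iff_card.mp (hR.to_subgroup (center R))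
    rcases n with _ | n
    · exact absurd (by simpa using hn) (Finite.one_lt_card (α := center R)).ne'
    · exact hn ▸ dvd_pow_self p n.succ_ne_zero
  obtain ⟨z', hz'⟩ := exists_prime_orderOf_dvd_card' (G := center R) p hdz
  set z : G := ((z' : R) : G) with hzdef
  have hzR : z ∈ R := (z' : R).2
  have hz : orderOf z = p := by rw [hzdef, orderOf_coe, orderOf_coe, hz']
  have hzc : ∀ x ∈ R, x * z = z * x := fun x hx =>
    congrArg Subtype.val (mem_center_iff.1 z'.2 ⟨x, hx⟩)
  set B := E ⊔ zpowers z with hB
  have hBe : IsElementaryAbelian p B :=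
    CfsgLib.Base.isElementaryAbelian_sup hE
      (CfsgLib.Base.isElementaryAbelian_zpowers (by rw [← hz]; exact pow_orderOf_eq_one z)) (by
      intro x hx
      refine mem_centralizer_iff.2 fun w hw => ?_
      obtain ⟨j, rfl⟩ := mem_zpowers_iff.1 hw
      exact ((show Commute z x from (hzc x (hER hx)).symm).zpow_left j).eq)
  have hBR : B ≤ R := sup_le hER (zpowers_le.2 hzR)
  have hBc : ∀ a ∈ B, ∀ b ∈ B, a * b = b * a := (CfsgLib.Base.isElementaryAbelian_iff.1 hBe).1
  have hsmall : ∀ B' : Subgroup G, B' ≤ R ⊓ centralizer (E : Set G) → IsElementaryAbelian p B' →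
      Nat.card B' ≤ p ^ 2 := by
    intro B' hle hB'
    have h := CfsgLib.Base.isElementaryAbelian_iff.1
      (CfsgLib.Base.isElementaryAbelian_subgroupOf hB' (R ⊓ centralizer (E : Set G)))
    rw [← Nat.card_congr (subgroupOfEquivOfLe hle).toEquiv]
    exact hC _ (CfsgLib.Base.isMulCommutative_subgroup_iff.2 h.1) h.2
  have hBE : B ≤ R ⊓ centralizer (E : Set G) := le_inf hBR fun x hx =>
    mem_centralizer_iff.2 fun y hy => hBc y (le_sup_left (b := zpowers z) hy) x hx
  have hBcard : Nat.card B ≤ p ^ 2 := hsmall B hBE hBe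
  have hez : e ∉ zpowers z := fun h => by
    obtain ⟨j, rfl⟩ := mem_zpowers_iff.1 h
    exact hec (mem_centralizer_iff.2 fun x hx => ((show Commute x z from hzc x hx).zpow_right j).eq)
  have hepow : e ^ p = 1 := (CfsgLib.Base.isElementaryAbelian_iff.1 hE).2 e heE
  -- `B = ⟨z, e⟩`
  have hgen : B ≤ zpowers z ⊔ zpowers e := by
    have hle : zpowers z ⊔ zpowers e ≤ B :=
      sup_le le_sup_right (zpowers_le.2 (le_sup_left (b := zpowers z) heE))
    refine (eq_of_le_of_card_ge hle ?_).ge
    have hlt : Nat.card (zpowers z) < Nat.card ↥(zpowers z ⊔ zpowers e) := by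
      rcases (card_le_of_le (le_sup_left : zpowers z ≤ zpowers z ⊔ zpowers e)).lt_or_eq with h | h
      · exact h
      · exact absurd (eq_of_le_of_card_ge le_sup_left h.ge ▸ (le_sup_right (a := zpowers z)
          (mem_zpowers e)) : e ∈ zpowers z) hez
    rw [Nat.card_zpowers, hz] at hlt
    obtain ⟨n, hn⟩ := CfsgLib.Base.exists_card_eq_pow_of_isElementaryAbelian
      (CfsgLib.Base.isElementaryAbelian_le hle hBe)
    rw [hn] at hlt ⊢
    refine hBcard.trans (Nat.pow_le_pow_right hpp.pos ?_)
    exact (Nat.pow_lt_pow_iff_right hpp.one_lt).1 ((pow_one p).symm ▸ hlt)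
  obtain ⟨D, hDR, hexp, -, hND, hdet⟩ := exists_detecting hp R hR
  have hfix : Nat.card ↥(D ⊓ centralizer ({e} : Set G)) ≤ p ^ 2 := by
    refine le_trans (card_le_of_le fun x hx => ?_) hBcard
    have hxR : x ∈ R := hDR hx.1
    have hxB : ∀ b ∈ B, b * x = x * b := by
      have h : B ≤ centralizer ({x} : Set G) := by
        refine hgen.trans (sup_le (zpowers_le.2 ?_) (zpowers_le.2 ?_))
        · exact mem_centralizer_singleton_iff.2 (hzc x hxR).symm
        · exact mem_centralizer_singleton_iff.2 (mem_centralizer_singleton_iff.1 hx.2).symm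
      exact fun b hb => mem_centralizer_singleton_iff.1 (h hb)
    have hBx : IsElementaryAbelian p (B ⊔ zpowers x) := CfsgLib.Base.isElementaryAbelian_sup hBe
      (CfsgLib.Base.isElementaryAbelian_zpowers (hexp x hx.1)) (fun b hb => by
        refine mem_centralizer_iff.2 fun w hw => ?_
        obtain ⟨j, rfl⟩ := mem_zpowers_iff.1 hw
        exact ((show Commute x b from (hxB b hb).symm).zpow_left j).eq)
    have hle : B ⊔ zpowers x ≤ R ⊓ centralizer (E : Set G) :=
      sup_le hBE (zpowers_le.2 ⟨hxR, mem_centralizer_iff.2 fun y hy =>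
        hxB y (le_sup_left (b := zpowers z) hy)⟩)
    by_contra hxn
    have hlt : Nat.card B < Nat.card ↥(B ⊔ zpowers x) := by
      rcases (card_le_of_le (le_sup_left : B ≤ B ⊔ zpowers x)).lt_or_eq with h | h
      · exact h
      · exact absurd (eq_of_le_of_card_ge le_sup_left h.ge ▸
          (le_sup_right (a := B) (mem_zpowers x)) : x ∈ B) hxn
    have hBge : p ^ 2 ≤ Nat.card B := by
      obtain ⟨n, hn⟩ := CfsgLib.Base.exists_card_eq_pow_of_isElementaryAbelian hBe
      rw [hn]
      refine Nat.pow_le_pow_right hpp.pos ?_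
      by_contra hn2
      have hle1 : Nat.card B ≤ p := by
        rw [hn]; exact (Nat.pow_le_pow_right hpp.pos (show n ≤ 1 by omega)).trans (pow_one p).le
      have heq : zpowers z = B :=
        eq_of_le_of_card_ge le_sup_right (by rw [Nat.card_zpowers, hz]; exact hle1)
      exact hez (heq ▸ le_sup_left (b := zpowers z) heE)
    exact absurd (hsmall _ hle hBx) (by omega)
  obtain ⟨n, hn⟩ := (hR.isNilpotent : Group.IsNilpotent R).nilpotent'
  have hlev : narrowLevel R D n = D := by
    rw [narrowLevel, hn, ← MonoidHom.range_eq_map, range_subtype]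
    exact inf_eq_right.2 hDR
  have h := centralizes_levels hR hDR hexp hND hA (hER heE) hfix
    (fun V _ _ hV hc α => by
      obtain ⟨φ, hφ⟩ := exists_gl2_of_action hV hc α
      exact hφ a (htriv φ)) hap n (mem_zpowers _)
  rw [hlev] at h
  exact hdet (a : G) (hA a.2) (by rwa [orderOf_coe]) h

omit [Finite G] in
/-- A `p'`-element of the derived group is trivial in `2 × 2` representations. -/
theorem gl2_trivial_of_mem_commutator (hp : p ≠ 2) {A : Subgroup G} [Finite A] [Group.IsSolvable A]
    (hodd : Odd (Nat.card A)) {a : A} (ha : a ∈ commutator A) (hap : (orderOf a).Coprime p)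
    (φ : A →* Matrix (Fin 2) (Fin 2) (ZMod p)) : φ a = 1 := by
  let ψ : A →* (Matrix (Fin 2) (Fin 2) (ZMod p))ˣ := φ.toHomUnits
  have hrodd : Odd (Nat.card ψ.range) := hodd.of_dvd_nat (card_range_dvd ψ)
  have : Group.IsSolvable ψ.range := Group.isSolvable_of_surjective ψ.rangeRestrict_surjective
  have h1 := pow_eq_one_of_mem_commutator (p := p) (F := ZMod p) hp hrodd
    ((Units.coeHom _).comp ψ.range.subtype) (Units.val_injective.comp Subtype.val_injective)
    (c := ψ.rangeRestrict a) (by
      have h : (commutator A).map ψ.rangeRestrict ≤ commutator ψ.range := by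
        rw [_root_.commutator_def, map_commutator]
        exact commutator_mono le_top le_top
      exact h (mem_map_of_mem _ ha))
  have h1' : ψ.rangeRestrict a = 1 := orderOf_eq_one_iff.1
    (Nat.eq_one_of_dvd_coprimes hap (orderOf_map_dvd _ a) (orderOf_dvd_of_pow_eq_one h1))
  exact congrArg (fun t : ψ.range => ((t : (Matrix (Fin 2) (Fin 2) (ZMod p))ˣ) :
    Matrix (Fin 2) (Fin 2) (ZMod p))) h1'

omit [Finite G] in
/-- An element of prime order `q > p` is trivial in `2 × 2` representations. -/
theorem gl2_trivial_of_gt (hp : p ≠ 2) {A : Subgroup G} {a : A} {q : ℕ} (hq : q.Prime)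
    (hlt : p < q) (ha : orderOf a = q) (φ : A →* Matrix (Fin 2) (Fin 2) (ZMod p)) : φ a = 1 := by
  have hpp : p.Prime := Fact.out
  set u : GL (Fin 2) (ZMod p) := φ.toHomUnits a with hu
  suffices h : u = 1 from congrArg Units.val h
  by_contra hu1
  have huq : orderOf u = q :=
    ((Nat.dvd_prime hq).1 (ha ▸ orderOf_map_dvd _ a)).resolve_left
      fun h => hu1 (orderOf_eq_one_iff.1 h)
  have hdvd : q ∣ (p ^ 2 - p ^ 0) * (p ^ 2 - p ^ 1) := by
    have := orderOf_dvd_natCard u
    rw [huq, Matrix.card_GL_field, ← Nat.card_eq_fintype_card, Nat.card_zmod, Fin.prod_univ_two]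
      at this
    exact this
  have e1 : p ^ 2 - p ^ 0 = (p + 1) * (p - 1) := by simpa using Nat.sq_sub_sq p 1
  have e2 : p ^ 2 - p ^ 1 = p * (p - 1) := by rw [pow_two, pow_one, Nat.mul_sub, mul_one]
  rw [e1, e2] at hdvd
  have h2 := hpp.two_le
  rcases hq.dvd_mul.1 hdvd with h | h <;> rcases hq.dvd_mul.1 h with h | h
  · rcases hq.eq_two_or_odd' with h' | ⟨m, hm⟩
    · omega
    · rcases hpp.odd_of_ne_two hp with ⟨l, hl⟩
      have := Nat.le_of_dvd (by omega) h
      omega
  · have := Nat.le_of_dvd (by omega) h; omega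
  · have := Nat.le_of_dvd (by omega) h; omega
  · have := Nat.le_of_dvd (by omega) h; omega

/-- The derived group of `A` acts as a `p`-group on `R`. -/
theorem exists_pow_mem_centralizer_of_narrow (hp : p ≠ 2) {R A E : Subgroup G} (hR : IsPGroup p R)
    (hER : E ≤ R) (hE : IsElementaryAbelian p E)
    (hC : PRankLE p 2 ↥(R ⊓ centralizer (E : Set G)))
    (hA : A ≤ normalizer (R : Set G)) [Group.IsSolvable A] (hodd : Odd (Nat.card A))
    (c : commutator A) : ∃ k : ℕ, ((c : A) : G) ^ p ^ k ∈ centralizer (R : Set G) := by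
  have hpp : p.Prime := Fact.out
  generalize hca : (c : A) = a
  obtain ⟨k, m, hm, hk⟩ := Nat.exists_eq_pow_mul_and_not_dvd (orderOf_pos a).ne' p hpp.ne_one
  have hcop : (orderOf (a ^ p ^ k)).Coprime p := by
    rw [orderOf_pow_of_dvd (pow_ne_zero _ hpp.ne_zero) (hk ▸ dvd_mul_right _ _),
      hk, Nat.mul_div_cancel_left _ (pow_pos hpp.pos k)]
    exact (hpp.coprime_iff_not_dvd.2 hm).symm
  exact ⟨k, mem_centralizer_of_narrow hp hR hER hE hC hA (a := a ^ p ^ k)
    (gl2_trivial_of_mem_commutator hp hodd (pow_mem (hca ▸ c.2) _) hcop) hcop⟩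

end CfsgLib.OddOrder
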