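import Cfsg.Agent.Lib.OddOrder.FixedPoints

/-!
A `p'`-group fixing every element of order `p` of a `p`-group acts trivially (`p` odd).
-/

namespace CfsgLib.OddOrder

open scoped commutatorElement

/-- The abelian case. -/
theorem fix_all_of_fix_order_prime {V X : Type*} [CommGroup V] [Finite V] [Group X] [Finite X]
    (φ : X →* MulAut V) {p : ℕ} [Fact p.Prime] (Q : Subgroup X) (hV : IsPGroup p V)
    (hQ : (Nat.card Q).Coprime p) (hfix : ∀ v, v ^ p = 1 → ∀ q ∈ Q, φ q v = v) :
    ∀ q ∈ Q, ∀ v, φ q v = v := by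
  classical
  let _ : Fintype Q := Fintype.ofFinite Q
  let N : V →* V := ∏ q : Q, (φ (q : X)).toMonoidHom
  have hN : ∀ v, N v = ∏ q : Q, φ (q : X) v := fun v => by simp [N, MonoidHom.finsetProd_apply]
  have hinv : ∀ q : Q, ∀ v, N (φ (q : X) v) = N v := by
    intro q v
    simp only [hN]
    exact Fintype.prod_equiv (Equiv.mulRight q) _ _ fun r => by simp
  have hker : N.ker = ⊥ := by
    by_contra hne
    have hp : p ∣ Nat.card N.ker := by
      obtain ⟨k, hk⟩ := IsPGroup.iff_card.mp (hV.to_subgroup N.ker)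
      rcases k with _ | k
      · exact absurd (Subgroup.eq_bot_of_card_eq _ (by simpa using hk)) hne
      · exact hk ▸ dvd_pow_self p (Nat.succ_ne_zero k)
    obtain ⟨v, hv⟩ := exists_prime_orderOf_dvd_card' p hp
    have hvp : (v : V) ^ p = 1 := by
      rw [← SubmonoidClass.coe_pow, ← hv, pow_orderOf_eq_one]; rfl
    have h1 : N v = (v : V) ^ Nat.card Q := by
      rw [hN, Fintype.prod_congr _ _ (fun r : Q => hfix _ hvp r r.2), Finset.prod_const,
        Finset.card_univ, Nat.card_eq_fintype_card]
    rw [MonoidHom.mem_ker.mp v.2, eq_comm] at h1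
    have h2 : orderOf (v : V) ∣ Nat.card Q := orderOf_dvd_of_pow_eq_one h1
    rw [Subgroup.orderOf_coe, hv] at h2
    exact ((Fact.out : p.Prime).coprime_iff_not_dvd.mp hQ.symm) h2
  intro q hq v
  have h1 : φ q v / v ∈ N.ker := by
    rw [MonoidHom.mem_ker, map_div, hinv ⟨q, hq⟩ v, div_self']
  rw [hker, Subgroup.mem_bot, div_eq_one] at h1
  exact h1

theorem baer_pow {T : Type*} [Group T] (h : ℕ) (hcl : ∀ x y : T, ⁅x, y⁆ ∈ Subgroup.center T)
    (hh : ∀ x y : T, ⁅x, y⁆ ^ (2 * h) = ⁅x, y⁆) (a : BaerGroup T) (n : ℕ) :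
    letI := baerCommGroup h hcl hh
    (a ^ n).val = a.val ^ n := by
  letI := baerCommGroup h hcl hh
  induction n with
  | zero => rw [pow_zero, pow_zero]; rfl
  | succ n ih =>
    rw [pow_succ, pow_succ]
    show baerMul h (a ^ n).val a.val = _
    rw [ih, baerMul]
    have : ⁅a.val, a.val ^ n⁆ = 1 := by
      rw [commutatorElement_eq_one_iff_mul_comm]; exact (Commute.refl a.val).pow_right n
    simp [this]

variable {G : Type*} [Group G]

/-- For odd `p`, a `p'`-group fixing all elements of order `p` of a `p`-group it normalizes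
centralizes it. -/
theorem le_centralizer_of_fix_order_prime [Finite G] {p : ℕ} [Fact p.Prime] (hp : p ≠ 2)
    (T Q : Subgroup G) (hT : IsPGroup p T) (hQ : (Nat.card Q).Coprime p)
    (hQT : Q ≤ Subgroup.normalizer (T : Set G))
    (hfix : ∀ x ∈ T, x ^ p = 1 → ∀ q ∈ Q, Commute q x) :
    Q ≤ Subgroup.centralizer (T : Set G) := by
  induction T using WellFoundedLT.induction with
  | _ T ih =>
  have hsub : ∀ U : Subgroup G, U < T → Q ≤ Subgroup.normalizer (U : Set G) →
      Q ≤ Subgroup.centralizer (U : Set G) :=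
    fun U hU hUQ => ih U hU (hT.to_le hU.le) hUQ fun x hx => hfix x (hU.le hx)
  have hQQ : Q ≤ Subgroup.normalizer (Q : Set G) := Subgroup.le_normalizer
  have hTQle : ⁅T, Q⁆ ≤ T := Subgroup.commutator_le.mpr fun t ht q hq => by
    rw [commutatorElement_def, mul_assoc, mul_assoc]
    exact T.mul_mem ht (by
      simpa [mul_assoc] using (Subgroup.mem_normalizer_iff.mp (hQT hq) _).mp (T.inv_mem ht))
  rcases eq_or_lt_of_le hTQle with heq | hlt
  · set D := ⁅T, T⁆ with hD
    have hDle : D ≤ T := Subgroup.commutator_le_self T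
    rcases eq_or_lt_of_le hDle with hDeq | hDlt
    · have hbot : T = ⊥ := by
        by_contra hne
        haveI : Nontrivial T := (Subgroup.nontrivial_iff_ne_bot T).mpr hne
        haveI : Group.IsNilpotent T := hT.isNilpotent
        apply (Group.IsSolvable.commutator_lt_top_of_nontrivial T).ne
        apply Subgroup.map_injective T.subtype_injective
        rw [Subgroup.map_subtype_commutator, ← MonoidHom.range_eq_map, Subgroup.range_subtype]
        exact hDeq
      subst hbot
      intro q _
      exact Subgroup.mem_centralizer_iff.mpr fun t ht => by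
        obtain rfl : t = 1 := Subgroup.mem_bot.mp ht
        simp
    have hQD := hsub D hDlt (le_normalizer_commutator hQT hQT)
    have hcl : ∀ x y : T, ⁅x, y⁆ ∈ Subgroup.center T := by
      have h1 : ⁅⁅Q, D⁆, T⁆ = ⊥ := by
        rw [Subgroup.commutator_eq_bot_iff_le_centralizer.mpr hQD]
        exact Subgroup.commutator_bot_left T
      have h2 : ⁅⁅D, T⁆, Q⁆ = ⊥ := by
        have : ⁅D, T⁆ ≤ D := Subgroup.commutator_mono hDle le_rfl
        exact le_bot_iff.mp ((Subgroup.commutator_mono this le_rfl).trans (by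
          rw [Subgroup.commutator_eq_bot_iff_le_centralizer.mpr
            (Subgroup.le_centralizer_iff.mp hQD)]))
      have h3 : ⁅⁅T, Q⁆, D⁆ = ⊥ := Subgroup.commutator_commutator_eq_bot_of_rotate h1 h2
      rw [heq, Subgroup.commutator_eq_bot_iff_le_centralizer] at h3
      refine fun x y => Subgroup.mem_center_iff.mpr fun z => Subtype.ext ?_
      have hmem : ((⁅x, y⁆ : T) : G) ∈ D := by
        have := Subgroup.commutator_mem_commutator x.2 y.2
        simpa [commutatorElement_def] using this
      exact ((Subgroup.mem_centralizer_iff.mp (h3 z.2)) _ hmem).symm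
    obtain ⟨k, hk⟩ := IsPGroup.iff_card.mp hT
    obtain ⟨m, hm⟩ := ((Fact.out : p.Prime).odd_of_ne_two hp).pow (n := k)
    have hh : ∀ x y : T, ⁅x, y⁆ ^ (2 * (m + 1)) = ⁅x, y⁆ := by
      intro x y
      have h1 : ⁅x, y⁆ ^ (2 * m + 1) = 1 := by rw [← hm, ← hk]; exact pow_card_eq_one'
      rw [show 2 * (m + 1) = (2 * m + 1) + 1 by ring, pow_succ, h1, one_mul]
    letI := baerCommGroup (m + 1) hcl hh
    haveI : Finite (BaerGroup T) := Finite.of_equiv T
      ⟨fun t => ⟨t⟩, BaerGroup.val, fun _ => rfl, fun _ => rfl⟩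
    have hV : IsPGroup p (BaerGroup T) := IsPGroup.of_card (n := k) (by
      rw [← hk]; exact Nat.card_congr ⟨BaerGroup.val, fun t => ⟨t⟩, fun _ => rfl, fun _ => rfl⟩)
    let lift : MulAut T → MulAut (BaerGroup T) := fun σ =>
      { toFun := fun a => ⟨σ a.val⟩
        invFun := fun a => ⟨σ.symm a.val⟩
        left_inv := fun a => BaerGroup.ext (σ.symm_apply_apply a.val)
        right_inv := fun a => BaerGroup.ext (σ.apply_symm_apply a.val)
        map_mul' := fun a b => BaerGroup.ext (map_baerMul (m + 1) σ a.val b.val) }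
    let φ : Subgroup.normalizer (T : Set G) →* MulAut (BaerGroup T) :=
      { toFun := fun x => lift (T.normalizerMonoidHom x)
        map_one' := by
          refine MulEquiv.ext fun a => BaerGroup.ext ?_
          show T.normalizerMonoidHom 1 a.val = a.val
          simp
        map_mul' := fun x y => by
          refine MulEquiv.ext fun a => BaerGroup.ext ?_
          show T.normalizerMonoidHom (x * y) a.val =
            T.normalizerMonoidHom x (T.normalizerMonoidHom y a.val)
          rw [map_mul]; rfl }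
    have key : ∀ x (a : BaerGroup T), ((φ x a).val : G) = (x : G) * a.val * (x : G)⁻¹ :=
      fun _ _ => rfl
    intro q hq
    refine Subgroup.mem_centralizer_iff.mpr fun t ht => ?_
    have h1 := fix_all_of_fix_order_prime φ (Q.subgroupOf (Subgroup.normalizer (T : Set G))) hV
      (by rwa [Nat.card_congr (Subgroup.subgroupOfEquivOfLe hQT).toEquiv])
      (fun v hv r hr => by
        apply BaerGroup.ext; apply Subtype.ext
        have hv' : v.val ^ p = 1 := by
          rw [← baer_pow (m + 1) hcl hh v p, hv]; rfl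
        have h4 : ((v.val : T) : G) ^ p = 1 := by
          rw [← SubmonoidClass.coe_pow, hv']; rfl
        rw [key, (hfix _ v.val.2 h4 r hr).eq]; group)
      ⟨q, hQT hq⟩ hq ⟨⟨t, ht⟩⟩
    have h2 := congrArg (fun a : BaerGroup T => (a.val : G)) h1
    rw [key] at h2
    exact (mul_inv_eq_iff_eq_mul.mp h2).symm
  · obtain ⟨k, hk⟩ := IsPGroup.iff_card.mp (hT.to_le hTQle)
    refine le_centralizer_of_commutator_le (by rw [hk]; exact hQ.pow_right k) le_rfl ?_
    exact hsub _ hlt (le_normalizer_commutator hQT hQQ)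

end CfsgLib.OddOrder
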