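import Cfsg.Agent.Lib.OddOrder.FixedPoints
import Cfsg.Agent.Lib.OddOrder.OmegaFixed
import Cfsg.Agent.Lib.Coprime.Action
import Cfsg.Agent.Lib.Base.Rank
import Cfsg.Agent.Lib.PLocal.PSolvable
import Cfsg.Agent.Lib.PLocal.ZJ
import Cfsg.Agent.Lib.PGroups.Basic
import Cfsg.Agent.Lib.PGroups.UniqueOrderP

/-!
An elementary subgroup `W` of a `q`-group `Q` of rank at least three whose centralizer has rank at
most two: the plane it spans with `Ω₁Z(Q)` and the transvections on that plane.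
-/

set_option autoImplicit false
set_option linter.unusedSectionVars false

open scoped commutatorElement

namespace CfsgLib.OddOrder

open Cfsg
open Subgroup

variable {G : Type*} [Group G] [Finite G] {q : ℕ} [Fact q.Prime]

/-- The elements of order dividing `q` in the centre of `Q`. -/
def omegaCenter (q : ℕ) (Q : Subgroup G) : Subgroup G where
  carrier := {x | x ∈ Q ∧ x ∈ centralizer (Q : Set G) ∧ x ^ q = 1}
  one_mem' := ⟨one_mem _, one_mem _, one_pow q⟩
  mul_mem' := fun {x y} hx hy => ⟨mul_mem hx.1 hy.1, mul_mem hx.2.1 hy.2.1, by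
    rw [Commute.mul_pow (mem_centralizer_iff.1 hy.2.1 x hx.1), hx.2.2, hy.2.2, one_mul]⟩
  inv_mem' := fun {x} hx => ⟨inv_mem hx.1, inv_mem hx.2.1, by rw [inv_pow, hx.2.2, inv_one]⟩

omit [Fact q.Prime] in
theorem mem_omegaCenter {Q : Subgroup G} {x : G} :
    x ∈ omegaCenter q Q ↔ x ∈ Q ∧ x ∈ centralizer (Q : Set G) ∧ x ^ q = 1 := Iff.rfl

theorem omegaCenter_le (q : ℕ) (Q : Subgroup G) : omegaCenter q Q ≤ Q := fun _ hx => hx.1

theorem omegaCenter_le_centralizer (q : ℕ) (Q : Subgroup G) :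
    omegaCenter q Q ≤ centralizer (Q : Set G) := fun _ hx => hx.2.1

theorem isElementaryAbelian_omegaCenter (Q : Subgroup G) :
    IsElementaryAbelian q (omegaCenter q Q) :=
  CfsgLib.Base.isElementaryAbelian_iff.2
    ⟨fun _ ha _ hb => mem_centralizer_iff.1 hb.2.1 _ ha.1, fun _ ha => ha.2.2⟩

theorem omegaCenter_ne_bot {Q : Subgroup G} (hQ : IsPGroup q Q) (hne : Q ≠ ⊥) :
    omegaCenter q Q ≠ ⊥ := by
  have : Nontrivial Q := (nontrivial_iff_ne_bot Q).2 hne
  have : Nontrivial (center Q) := hQ.center_nontrivial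
  obtain ⟨n, hn⟩ := IsPGroup.iff_card.mp (hQ.to_subgroup (center Q))
  have hd : q ∣ Nat.card (center Q) := by
    rcases n with _ | n
    · exact absurd (by simpa using hn) (Finite.one_lt_card (α := center Q)).ne'
    · exact hn ▸ dvd_pow_self q n.succ_ne_zero
  obtain ⟨z, hz⟩ := exists_prime_orderOf_dvd_card' q hd
  intro h
  have hmem : ((z : Q) : G) ∈ omegaCenter q Q := by
    refine ⟨z.1.2, mem_centralizer_iff.2 fun y hy => ?_, ?_⟩
    · exact congrArg Subtype.val (mem_center_iff.1 z.2 ⟨y, hy⟩)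
    · rw [← orderOf_dvd_iff_pow_eq_one, orderOf_coe, orderOf_coe, hz]
  rw [h, mem_bot, OneMemClass.coe_eq_one, OneMemClass.coe_eq_one] at hmem
  rw [hmem, orderOf_one] at hz
  exact (Fact.out : q.Prime).ne_one hz.symm

theorem normalizer_le_normalizer_omegaCenter (q : ℕ) (Q : Subgroup G) :
    normalizer (Q : Set G) ≤ normalizer (omegaCenter q Q : Set G) := by
  intro g hg
  rw [mem_normalizer_iff]
  intro x
  simp only [SetLike.mem_coe, mem_omegaCenter]
  have h1 := mem_normalizer_iff.1 hg x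
  have h2 := mem_normalizer_iff.1 (CfsgLib.Coprime.le_normalizer_centralizer le_rfl hg) x
  rw [show x ∈ Q ↔ g * x * g⁻¹ ∈ Q from h1, show x ∈ centralizer (Q : Set G) ↔
    g * x * g⁻¹ ∈ centralizer (Q : Set G) from h2, conj_pow, conj_eq_one_iff]

theorem omegaCenter_map (Q : Subgroup G) (g : G) :
    omegaCenter q (Q.map (MulAut.conj g).toMonoidHom) =
      (omegaCenter q Q).map (MulAut.conj g).toMonoidHom := by
  ext x
  simp only [mem_map_equiv, mem_omegaCenter, mem_centralizer_iff, SetLike.mem_coe]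
  refine and_congr_right fun _ => and_congr ⟨fun h y hy => ?_, fun h y hy => ?_⟩ ?_
  · simpa [mul_assoc] using congrArg (MulAut.conj g).symm (h (MulAut.conj g y)
      (by rw [MulEquiv.symm_apply_apply]; exact hy))
  · have := congrArg (MulAut.conj g) (h _ hy)
    simpa [mul_assoc] using this
  · rw [← map_pow, MulEquiv.map_eq_one_iff]

/-- An odd `q`-group whose elements of order `q` lie in a subgroup of order `q` is cyclic. -/
theorem isCyclic_of_omega_le (hq : q ≠ 2) {S W : Subgroup G} (hS : IsPGroup q S)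
    (hW : Nat.card W = q) (hle : ∀ x ∈ S, x ^ q = 1 → x ∈ W) : IsCyclic S := by
  by_cases h0 : ∀ x : S, x ^ q = 1 → x = 1
  · have hS1 : S = ⊥ := by
      by_contra hne
      obtain ⟨n, hn⟩ := IsPGroup.iff_card.mp hS
      rcases n with _ | n
      · exact hne (card_eq_one.1 (by simpa using hn))
      · obtain ⟨x, hx⟩ := exists_prime_orderOf_dvd_card' (G := S) q (hn ▸ dvd_pow_self q n.succ_ne_zero)
        have h1 := h0 x (by rw [← hx]; exact pow_orderOf_eq_one x)
        rw [h1, orderOf_one] at hx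
        exact (Fact.out : q.Prime).ne_one hx.symm
    rw [hS1]; infer_instance
  push Not at h0
  obtain ⟨z, hz, hz1⟩ := h0
  refine (CfsgLib.PGroups.isCyclic_or_quaternion_of_unique hS hz fun y hy => ?_).resolve_right
    fun h => hq h.1
  have hzW : zpowers (z : G) = W := by
    refine eq_of_le_of_card_ge (zpowers_le.2 (hle z z.2 (by exact_mod_cast congrArg Subtype.val hz))) ?_
    rw [hW, Nat.card_zpowers, orderOf_coe, orderOf_eq_prime hz hz1]
  obtain ⟨i, hi⟩ := mem_zpowers_iff.1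
    (hzW.symm ▸ hle y y.2 (by exact_mod_cast congrArg Subtype.val hy) : (y : G) ∈ zpowers (z : G))
  exact mem_zpowers_iff.2 ⟨i, Subtype.ext (by rw [coe_zpow]; exact hi)⟩

/-- Two elements normalizing a cyclic subgroup commute on it. -/
theorem commutator_mem_centralizer_of_cyclic {S : Subgroup G} (hS : IsCyclic S) {a b : G}
    (ha : a ∈ normalizer (S : Set G)) (hb : b ∈ normalizer (S : Set G)) :
    ⁅a, b⁆ ∈ centralizer (S : Set G) := by
  obtain ⟨⟨s, hs⟩, hgen⟩ := hS.exists_generator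
  have hpow : ∀ g ∈ normalizer (S : Set G), ∃ i : ℤ, g * s * g⁻¹ = s ^ i := fun g hg => by
    obtain ⟨i, hi⟩ := mem_zpowers_iff.1 (hgen ⟨_, (mem_normalizer_iff.1 hg s).1 hs⟩)
    exact ⟨i, (congrArg Subtype.val hi).symm.trans (by simp)⟩
  obtain ⟨i, hi⟩ := hpow a⁻¹ (inv_mem ha)
  obtain ⟨j, hj⟩ := hpow b⁻¹ (inv_mem hb)
  have hcomm : (a⁻¹ * b⁻¹) * s * (a⁻¹ * b⁻¹)⁻¹ = (b⁻¹ * a⁻¹) * s * (b⁻¹ * a⁻¹)⁻¹ := by
    calc (a⁻¹ * b⁻¹) * s * (a⁻¹ * b⁻¹)⁻¹ = a⁻¹ * (b⁻¹ * s * b⁻¹⁻¹) * a⁻¹⁻¹ := by group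
      _ = s ^ (i * j) := by rw [hj, ← conj_zpow, hi, ← zpow_mul]
      _ = b⁻¹ * (a⁻¹ * s * a⁻¹⁻¹) * b⁻¹⁻¹ := by rw [hi, ← conj_zpow, hj, ← zpow_mul, mul_comm]
      _ = (b⁻¹ * a⁻¹) * s * (b⁻¹ * a⁻¹)⁻¹ := by group
  have hc : Commute ⁅a, b⁆ s := by
    show ⁅a, b⁆ * s = s * ⁅a, b⁆
    calc ⁅a, b⁆ * s
        = (b⁻¹ * a⁻¹)⁻¹ * ((a⁻¹ * b⁻¹) * s * (a⁻¹ * b⁻¹)⁻¹) * (a⁻¹ * b⁻¹) := by
          simp only [commutatorElement_def]; group
      _ = s * ⁅a, b⁆ := by rw [hcomm, commutatorElement_def]; group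
  refine mem_centralizer_iff.2 fun t ht => ?_
  obtain ⟨k, hk⟩ := mem_zpowers_iff.1 (hgen ⟨t, ht⟩)
  have hk' : s ^ k = t := by simpa using congrArg Subtype.val hk
  rw [← hk']
  exact (hc.zpow_right k).eq.symm

/-- The plane spanned by `Ω₁Z(Q)` and `W`. -/
theorem plane_of_small_centralizer {Q W : Subgroup G} (hQ : IsPGroup q Q) (hQ3 : ¬ PRankLE q 2 Q) (hWQ : W ≤ Q)
    (hWe : IsElementaryAbelian q W) (hW1 : W ≠ ⊥)
    (hC : PRankLE q 2 (centralizer (W : Set G))) :
    Nat.card (omegaCenter q Q) = q ∧ ¬ W ≤ omegaCenter q Q ∧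
      IsElementaryAbelian q (omegaCenter q Q ⊔ W) ∧ Nat.card ↥(omegaCenter q Q ⊔ W) = q ^ 2 ∧
      ∀ x ∈ Q, x ∈ centralizer (W : Set G) → x ^ q = 1 → x ∈ omegaCenter q Q ⊔ W := by
  have hq : q.Prime := Fact.out
  set Z := omegaCenter q Q with hZ
  have hZW : Z ≤ centralizer (W : Set G) :=
    (omegaCenter_le_centralizer q Q).trans (centralizer_le hWQ)
  have hUe := CfsgLib.Base.isElementaryAbelian_sup (isElementaryAbelian_omegaCenter (q := q) Q) hWe
    hZW
  have hUC : Z ⊔ W ≤ centralizer (W : Set G) :=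
    sup_le hZW (le_centralizer_iff_isMulCommutative.2 hWe.1)
  have hU2 := CfsgLib.Base.pRankLE_subgroup_iff.1 hC _ hUC hUe
  have hWZ : ¬ W ≤ Z := fun h => hQ3 (CfsgLib.Base.pRankLE_subgroup_iff.2 fun E hEQ hE =>
    CfsgLib.Base.pRankLE_subgroup_iff.1 hC E
      (hEQ.trans (le_centralizer_iff.1 (h.trans (omegaCenter_le_centralizer q Q)))) hE)
  have hlt : Z < Z ⊔ W := left_lt_sup.2 hWZ
  have hQne : Q ≠ ⊥ := fun h => hW1 (le_bot_iff.1 (h ▸ hWQ))
  have hZne : Z ≠ ⊥ := omegaCenter_ne_bot hQ hQne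
  obtain ⟨i, hi⟩ := CfsgLib.Base.exists_card_eq_pow_of_isElementaryAbelian
    (isElementaryAbelian_omegaCenter (q := q) Q)
  obtain ⟨j, hj⟩ := CfsgLib.Base.exists_card_eq_pow_of_isElementaryAbelian hUe
  have hij : i < j := (Nat.pow_lt_pow_iff_right hq.one_lt).1 (hi ▸ hj ▸ CfsgLib.PLocal.card_lt_of_lt hlt)
  have hj2 : j ≤ 2 := (Nat.pow_le_pow_iff_right hq.one_lt).1 (hj ▸ hU2)
  have hi0 : i ≠ 0 := fun h => hZne (card_eq_one.1 (by rw [hi, h, pow_zero]))
  obtain ⟨rfl, rfl⟩ : i = 1 ∧ j = 2 := ⟨by omega, by omega⟩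
  refine ⟨by rw [hi, pow_one], hWZ, hUe, hj, fun x hxQ hxC hxq => ?_⟩
  have hxe := CfsgLib.Base.isElementaryAbelian_zpowers hxq
  have hxU : zpowers x ≤ centralizer ((Z ⊔ W : Subgroup G) : Set G) := by
    rw [le_centralizer_iff]
    refine sup_le ?_ (le_centralizer_iff.1 (zpowers_le.2 hxC))
    exact (omegaCenter_le_centralizer q Q).trans (centralizer_le (zpowers_le.2 hxQ))
  have hbig := CfsgLib.Base.isElementaryAbelian_sup hUe hxe (le_centralizer_iff.1 hxU)
  have hcard := CfsgLib.Base.pRankLE_subgroup_iff.1 hC _ (sup_le hUC (zpowers_le.2 hxC)) hbig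
  have heq : Z ⊔ W ⊔ zpowers x = Z ⊔ W :=
    (eq_of_le_of_card_ge le_sup_left (hj ▸ hcard)).symm
  exact heq ▸ mem_sup_right (mem_zpowers x)

/-- A coprime group of operators centralizing the plane centralizes `Q`. -/
theorem le_centralizer_of_small_pair (hq2 : q ≠ 2) {Q W B : Subgroup G} (hQ : IsPGroup q Q)
    (hQ3 : ¬ PRankLE q 2 Q) (hWQ : W ≤ Q) (hWe : IsElementaryAbelian q W) (hW1 : W ≠ ⊥)
    (hC : PRankLE q 2 (centralizer (W : Set G))) (hBQ : B ≤ normalizer (Q : Set G))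
    (hcop : (Nat.card B).Coprime q) (hBZ : B ≤ centralizer (omegaCenter q Q : Set G))
    (hBW : B ≤ centralizer (W : Set G)) : B ≤ centralizer (Q : Set G) := by
  obtain ⟨-, -, hUe, hU, hmem⟩ := plane_of_small_centralizer hQ hQ3 hWQ hWe hW1 hC
  set U := omegaCenter q Q ⊔ W with hUdef
  have hUQ : U ≤ Q := sup_le (omegaCenter_le q Q) hWQ
  have hBU : B ≤ centralizer (U : Set G) := by
    rw [le_centralizer_iff]
    exact sup_le (le_centralizer_iff.1 hBZ) (le_centralizer_iff.1 hBW)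
  have hC0 : B ≤ centralizer ((Q ⊓ centralizer (U : Set G) : Subgroup G) : Set G) :=
    le_centralizer_of_fix_order_prime hq2 _ B (hQ.to_le inf_le_left) hcop
      (CfsgLib.Coprime.le_normalizer_inf_inf hBQ
        (CfsgLib.Coprime.le_normalizer_centralizer (hBU.trans (centralizer_le_normalizer _))))
      fun x hx hxq b hb => (mem_centralizer_iff.1 (hBU hb) x
        (hmem x hx.1 (centralizer_le (le_sup_right : W ≤ U) hx.2) hxq)).symm
  exact le_centralizer_of_fixed hq2 Q U B hQ (hQ.to_le hUQ) hcop (hUQ.trans le_normalizer) hBQ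
    ((le_centralizer_iff.1 hBU).trans (centralizer_le_normalizer _)) (le_centralizer_iff.1 hC0)

/-- A `q`-element normalizing a plane `U` and centralizing a line `W` of it acts trivially on
`U / W`. -/
theorem commutator_mem_line {U W : Subgroup G} (hU : IsElementaryAbelian q U)
    (hU2 : Nat.card U = q ^ 2) (hWU : W ≤ U) (hW : Nat.card W = q) {g : G}
    (hg : g ∈ normalizer (U : Set G)) (hgq : IsPGroup q (zpowers g))
    (hgW : g ∈ centralizer (W : Set G)) {u : G} (hu : u ∈ U) : ⁅g, u⁆ ∈ W := by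
  set J := U ⊔ zpowers g with hJ
  have hJp : IsPGroup q J := IsPGroup.to_sup_of_normal_left'
    (CfsgLib.Base.isPGroup_of_isElementaryAbelian hU) hgq (zpowers_le.2 hg)
  have hJW : J ≤ normalizer (W : Set G) := sup_le
    ((le_centralizer_iff_isMulCommutative.2 hU.1).trans
      ((centralizer_le hWU).trans (centralizer_le_normalizer _)))
    (zpowers_le.2 (centralizer_le_normalizer _ hgW))
  have hJU : J ≤ normalizer (U : Set G) := sup_le le_normalizer (zpowers_le.2 hg)
  have hWn : (W.subgroupOf J).Normal := normal_subgroupOf_of_le_normalizer hJW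
  have hUn : (U.subgroupOf J).Normal := normal_subgroupOf_of_le_normalizer hJU
  set f := QuotientGroup.mk' (W.subgroupOf J) with hf
  set V := (U.subgroupOf J).map f with hV
  have hVn : V.Normal := Subgroup.Normal.map hUn f (QuotientGroup.mk'_surjective _)
  have hVcard : Nat.card V = q := by
    rw [hV, hf, CfsgLib.PLocal.card_map_mk'_eq_relIndex, relIndex_subgroupOf le_sup_left]
    have h := relIndex_mul_card_bot W U hWU
    rw [hW, hU2, pow_two] at h
    exact Nat.eq_of_mul_eq_mul_right (Fact.out : q.Prime).pos h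
  have hVne : V ≠ ⊥ := fun h => by
    rw [h, card_bot] at hVcard
    exact (Fact.out : q.Prime).ne_one hVcard.symm
  have hne := CfsgLib.PGroups.inf_center_ne_bot (hJp.to_quotient (W.subgroupOf J)) hVne
  have hle : V ≤ center (J ⧸ W.subgroupOf J) := by
    obtain ⟨n, hn⟩ := IsPGroup.iff_card.mp
      ((hJp.to_quotient (W.subgroupOf J)).to_subgroup (V ⊓ center (J ⧸ W.subgroupOf J)))
    rcases n with _ | n
    · exact absurd (card_eq_one.1 (by simpa using hn)) hne
    · refine (eq_of_le_of_card_ge inf_le_left ?_).symm.le.trans inf_le_right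
      rw [hVcard, hn]
      exact Nat.le_self_pow n.succ_ne_zero q
  have huJ : u ∈ J := mem_sup_left hu
  have hgJ : g ∈ J := mem_sup_right (mem_zpowers g)
  have h1 := mem_center_iff.1 (hle (mem_map_of_mem f (show (⟨u, huJ⟩ : J) ∈ U.subgroupOf J from hu)))
    (f ⟨g, hgJ⟩)
  rw [← map_mul, ← map_mul, ← inv_mul_eq_one, ← map_inv, ← map_mul] at h1
  have h2 := (QuotientGroup.eq_one_iff (N := W.subgroupOf J) _).1 h1
  have h3 : (g * u)⁻¹ * (u * g) ∈ W := h2
  have h4 := (mem_normalizer_iff.1 (hJW (mul_mem huJ hgJ)) _).1 (W.inv_mem h3)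
  convert h4 using 1
  simp only [commutatorElement_def]
  group
where
  relIndex_mul_card_bot (W U : Subgroup G) (h : W ≤ U) :
      W.relIndex U * Nat.card W = Nat.card U := by
    rw [← (W.subgroupOf U).card_mul_index, CfsgLib.Base.card_subgroupOf h, mul_comm]
    rfl

/-- An operator centralizing a line `Z` of a plane and commuting with a transvection fixing `Z`
centralizes the plane. -/
theorem mem_centralizer_of_transvection {U Z : Subgroup G} (hU : IsElementaryAbelian q U)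
    (hU2 : Nat.card U = q ^ 2) (hZU : Z ≤ U) (hZ : Nat.card Z = q) {g b : G}
    (hg : g ∈ normalizer (U : Set G)) (hgq : IsPGroup q (zpowers g))
    (hgZ : g ∈ centralizer (Z : Set G)) (hgU : g ∉ centralizer (U : Set G))
    (hb : b ∈ normalizer (U : Set G)) (hbZ : b ∈ centralizer (Z : Set G))
    (hbq : (orderOf b).Coprime q) (hcomm : ⁅b, g⁆ ∈ centralizer (U : Set G)) :
    b ∈ centralizer (U : Set G) := by
  obtain ⟨hUc, -⟩ := CfsgLib.Base.isElementaryAbelian_iff.1 hU
  have hfix : ∀ u ∈ U, g * u = u * g → u ∈ Z := by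
    have hlt : U ⊓ centralizer ({g} : Set G) < U := lt_of_le_of_ne inf_le_left fun h => hgU
      (mem_centralizer_iff.2 fun u hu => mem_centralizer_singleton_iff.1 ((h.ge hu).2))
    have hle : Z ≤ U ⊓ centralizer ({g} : Set G) := le_inf hZU fun z hz =>
      mem_centralizer_singleton_iff.2 (mem_centralizer_iff.1 hgZ z hz)
    have heq : U ⊓ centralizer ({g} : Set G) = Z := by
      refine (eq_of_le_of_card_ge hle ?_).symm
      obtain ⟨k, hk⟩ := IsPGroup.iff_card.mp
        ((CfsgLib.Base.isPGroup_of_isElementaryAbelian hU).to_le hlt.le)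
      have h2 : q ^ k < q ^ 2 := hk ▸ hU2 ▸ CfsgLib.PLocal.card_lt_of_lt hlt
      rw [hk, hZ]
      calc q ^ k ≤ q ^ 1 := Nat.pow_le_pow_right (Fact.out : q.Prime).pos
            (Nat.lt_succ_iff.1 ((Nat.pow_lt_pow_iff_right (Fact.out : q.Prime).one_lt).1 h2))
        _ = q := pow_one q
    exact fun u hu h => heq.le ⟨hu, mem_centralizer_singleton_iff.2 h.symm⟩
  refine le_centralizer_of_commutator_le (T := U) (Q := zpowers b) (U := Z) ?_ ?_
    (zpowers_le.2 hbZ) (mem_zpowers b)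
  · rw [Nat.card_zpowers, hZ]; exact hbq
  · have hB : zpowers b ≤ normalizer (U : Set G) := zpowers_le.2 hb
    have hmemb : ∀ x ∈ U, ⁅b, x⁆ ∈ Z := by
      intro x hx
      set y := b * x * b⁻¹ with hy
      have hyU : y ∈ U := (mem_normalizer_iff.1 hb x).1 hx
      set c := ⁅g, x⁆ with hc
      have hcZ : c ∈ Z := commutator_mem_line hU hU2 hZU hZ hg hgq hgZ hx
      have hgy : g * y * g⁻¹ = c * y := by
        have e1 : g * x * g⁻¹ = c * x := by simp only [hc, commutatorElement_def]; group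
        have e2 : b * c * b⁻¹ = c := by
          rw [← mem_centralizer_iff.1 hbZ c hcZ, mul_inv_cancel_right]
        have hd := mem_centralizer_iff.1 hcomm _ ((mem_normalizer_iff.1 hg y).1 hyU)
        calc g * y * g⁻¹ = ⁅b, g⁆ * (g * y * g⁻¹) * ⁅b, g⁆⁻¹ := by
              rw [← hd, mul_inv_cancel_right]
          _ = b * (g * x * g⁻¹) * b⁻¹ := by simp only [hy, commutatorElement_def]; group
          _ = (b * c * b⁻¹) * y := by rw [e1, hy]; group
          _ = c * y := by rw [e2]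
      have hz : y * x⁻¹ ∈ Z := by
        refine hfix _ (U.mul_mem hyU (U.inv_mem hx)) ?_
        have e1 : g * x⁻¹ * g⁻¹ = x⁻¹ * c⁻¹ := by simp only [hc, commutatorElement_def]; group
        have : g * (y * x⁻¹) * g⁻¹ = y * x⁻¹ := by
          calc g * (y * x⁻¹) * g⁻¹ = (g * y * g⁻¹) * (g * x⁻¹ * g⁻¹) := by group
            _ = (c * y) * (x⁻¹ * c⁻¹) := by rw [hgy, e1]
            _ = c * (y * x⁻¹) * c⁻¹ := by group
            _ = y * x⁻¹ := by
              rw [hUc c (hZU hcZ) _ (U.mul_mem hyU (U.inv_mem hx)), mul_inv_cancel_right]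
        calc g * (y * x⁻¹) = g * (y * x⁻¹) * g⁻¹ * g := by group
          _ = y * x⁻¹ * g := by rw [this]
      simpa [hy, commutatorElement_def] using hz
    refine commutator_le.2 fun x hx d hd => ?_
    have hpow : ∀ n : ℕ, ∀ x ∈ U, ⁅b ^ n, x⁆ ∈ Z := by
      intro n
      induction n with
      | zero => intro x _; simp
      | succ n ih =>
        intro x hx
        have he : ⁅b ^ (n + 1), x⁆ = b * ⁅b ^ n, x⁆ * b⁻¹ * ⁅b, x⁆ := by
          rw [pow_succ']; simp only [commutatorElement_def]; group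
        rw [he]
        refine Z.mul_mem ?_ (hmemb x hx)
        rw [← mem_centralizer_iff.1 hbZ _ (ih x hx), mul_inv_cancel_right]
        exact ih x hx
    obtain ⟨n, hn⟩ := mem_powers_iff_mem_zpowers.2 hd
    have hdx : ⁅d, x⁆ ∈ Z := hn ▸ hpow n x hx
    rw [← commutatorElement_inv]
    exact Z.inv_mem hdx

/-- Transvections with distinct centres make the two lines conjugate. -/
theorem exists_conj_line {U Z W : Subgroup G} (hU : IsElementaryAbelian q U)
    (hU2 : Nat.card U = q ^ 2) (hZU : Z ≤ U) (hWU : W ≤ U) (hZ : Nat.card Z = q)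
    (hW : Nat.card W = q) (hZW : Z ≠ W) {g h : G}
    (hg : g ∈ normalizer (U : Set G)) (hgq : IsPGroup q (zpowers g))
    (hgW : g ∈ centralizer (W : Set G)) (hgU : g ∉ centralizer (U : Set G))
    (hh : h ∈ normalizer (U : Set G)) (hhq : IsPGroup q (zpowers h))
    (hhZ : h ∈ centralizer (Z : Set G)) (hhU : h ∉ centralizer (U : Set G)) :
    ∃ j : G, W.map (MulAut.conj j).toMonoidHom = Z := by
  have hq : q.Prime := Fact.out
  obtain ⟨hUc, hUq⟩ := CfsgLib.Base.isElementaryAbelian_iff.1 hU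
  have hgen : ∀ {L : Subgroup G}, Nat.card L = q → ∀ {x : G}, x ∈ L → x ≠ 1 → zpowers x = L := by
    intro L hL x hx hx1
    refine eq_of_le_of_card_ge (zpowers_le.2 hx) ?_
    have hord : orderOf x ∣ q := hL ▸ orderOf_dvd_natCard L hx
    rw [hL, Nat.card_zpowers,
      ((Nat.dvd_prime hq).1 hord).resolve_left fun h => hx1 (orderOf_eq_one_iff.1 h)]
  have hsup : U ≤ Z ⊔ W := by
    refine (eq_of_le_of_card_ge (sup_le hZU hWU) ?_).ge
    obtain ⟨k, hk⟩ := IsPGroup.iff_card.mp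
      ((CfsgLib.Base.isPGroup_of_isElementaryAbelian hU).to_le (sup_le hZU hWU))
    have hlt : Z < Z ⊔ W := left_lt_sup.2 fun h => hZW
      (eq_of_le_of_card_ge h (by rw [hZ, hW])).symm
    have h2 : q ^ 1 < q ^ k := by
      rw [pow_one, ← hk, ← hZ]; exact CfsgLib.PLocal.card_lt_of_lt hlt
    rw [hU2, hk]
    exact Nat.pow_le_pow_right hq.pos ((Nat.pow_lt_pow_iff_right hq.one_lt).1 h2)
  have hnontriv : ∀ {L L' : Subgroup G}, U ≤ L' ⊔ L → ∀ {x : G}, x ∈ centralizer (L' : Set G) →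
      x ∉ centralizer (U : Set G) → Nat.card L = q → ∀ {l : G}, l ∈ L → l ≠ 1 → ⁅x, l⁆ ≠ 1 := by
    intro L L' hle x hxL' hxU hL l hl hl1 hc
    apply hxU
    have hxl : x ∈ centralizer (L : Set G) := by
      rw [← hgen hL hl hl1, mem_centralizer_iff]
      intro y hy
      obtain ⟨k, rfl⟩ := mem_zpowers_iff.1 hy
      exact (Commute.zpow_right (commutatorElement_eq_one_iff_mul_comm.1 hc) k).eq.symm
    have h1 : L' ⊔ L ≤ centralizer ({x} : Set G) := sup_le
      (fun y hy => mem_centralizer_singleton_iff.2 (mem_centralizer_iff.1 hxL' y hy))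
      (fun y hy => mem_centralizer_singleton_iff.2 (mem_centralizer_iff.1 hxl y hy))
    exact mem_centralizer_iff.2 fun u hu => mem_centralizer_singleton_iff.1 (h1 (hle hu))
  obtain ⟨c₀, hc₀, hc₀1⟩ := (bot_or_exists_ne_one W).resolve_left fun h => by
    rw [h, card_bot] at hW; exact hq.ne_one hW.symm
  set z := ⁅h, c₀⁆ with hzdef
  have hz : z ∈ Z := commutator_mem_line hU hU2 hZU hZ hh hhq hhZ (hWU hc₀)
  have hz1 : z ≠ 1 := hnontriv hsup hhZ hhU hW hc₀ hc₀1
  set c := ⁅g, z⁆ with hcdef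
  have hc : c ∈ W := commutator_mem_line hU hU2 hWU hW hg hgq hgW (hZU hz)
  have hc1 : c ≠ 1 := hnontriv (hsup.trans (sup_comm Z W).le) hgW hgU hZ hz hz1
  obtain ⟨i, hi⟩ := mem_powers_iff_mem_zpowers.2
    ((hgen hZ hz hz1).symm ▸ commutator_mem_line hU hU2 hZU hZ hh hhq hhZ (hWU hc) :
      ⁅h, c⁆ ∈ zpowers z)
  replace hi : z ^ i = ⁅h, c⁆ := hi
  have hi0 : (i : ZMod q) ≠ 0 := fun h0 => hnontriv hsup hhZ hhU hW hc hc1 (by
    rw [← hi, ← orderOf_dvd_iff_pow_eq_one]
    exact (orderOf_dvd_of_pow_eq_one (hUq z (hZU hz))).trans ((ZMod.natCast_eq_zero_iff i q).1 h0))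
  set n := ((i : ZMod q)⁻¹).val with hn
  have hcn : c ^ (n * i) = c := by
    have hmod : n * i ≡ 1 [MOD q] := by
      rw [← ZMod.natCast_eq_natCast_iff, Nat.cast_mul, hn, ZMod.natCast_zmod_val, Nat.cast_one,
        inv_mul_cancel₀ hi0]
    conv_rhs => rw [← pow_one c]
    exact (pow_eq_pow_iff_modEq).2 (hmod.of_dvd (orderOf_dvd_of_pow_eq_one (hUq c (hWU hc))))
  have hgc : Commute g c := (mem_centralizer_iff.1 hgW c hc).symm
  have hpow : ∀ m : ℕ, g ^ m * z * (g ^ m)⁻¹ = c ^ m * z := by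
    intro m
    induction m with
    | zero => simp
    | succ m ih =>
      calc g ^ (m + 1) * z * (g ^ (m + 1))⁻¹ = g * (g ^ m * z * (g ^ m)⁻¹) * g⁻¹ := by
            rw [pow_succ']; group
        _ = g * c ^ m * g⁻¹ * (g * z * g⁻¹) := by rw [ih]; group
        _ = c ^ m * (c * z) := by
          rw [(hgc.pow_right m).eq, mul_inv_cancel_right]
          simp only [hcdef, commutatorElement_def]; group
        _ = c ^ (m + 1) * z := by rw [pow_succ, mul_assoc]
  have hkey : g ^ n * z ^ i * (g ^ n)⁻¹ = h * c * h⁻¹ := by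
    rw [← conj_pow, hpow, Commute.mul_pow (hUc _ (U.pow_mem (hWU hc) n) _ (hZU hz)), ← pow_mul, hcn,
      hUc _ (hWU hc) _ (U.pow_mem (hZU hz) i), hi]
    simp only [commutatorElement_def]; group
  refine ⟨(g ^ n)⁻¹ * h, ?_⟩
  have hmem : z ^ i ∈ W.map (MulAut.conj ((g ^ n)⁻¹ * h)).toMonoidHom := by
    refine ⟨c, hc, ?_⟩
    show (g ^ n)⁻¹ * h * c * ((g ^ n)⁻¹ * h)⁻¹ = z ^ i
    calc (g ^ n)⁻¹ * h * c * ((g ^ n)⁻¹ * h)⁻¹ = (g ^ n)⁻¹ * (h * c * h⁻¹) * g ^ n := by group
      _ = z ^ i := by rw [← hkey]; group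
  have hzi : z ^ i ≠ 1 := fun h0 => hnontriv hsup hhZ hhU hW hc hc1 (hi ▸ h0)
  have hWm : Nat.card (W.map (MulAut.conj ((g ^ n)⁻¹ * h)).toMonoidHom) = q := by
    rw [card_map_of_injective (MulAut.conj _).injective, hW]
  rw [← hgen hWm hmem hzi, hgen hZ (Z.pow_mem hz i) hzi]

end CfsgLib.OddOrder
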