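import Cfsg.Agent.Lib.OddOrder.MetacyclicDerived
import Cfsg.Agent.Lib.OddOrder.NarrowAction
import Cfsg.Agent.Lib.OddOrder.SmallCenter
import Cfsg.Agent.Lib.Coprime.Action2

/-!
Coprime action on metacyclic `p`-groups (`p` odd).
-/

set_option autoImplicit false
set_option linter.unusedSectionVars false

open scoped commutatorElement IsMulCommutative

namespace CfsgLib.OddOrder

open Cfsg
open Subgroup

theorem isMetacyclic_of_surjective {H K : Type*} [Group H] [Group K] (f : H →* K)
    (hf : Function.Surjective f) (hH : IsMetacyclic H) : IsMetacyclic K := by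
  obtain ⟨N, hN, hNc, hQc⟩ := hH
  have hNf : (N.map f).Normal := Subgroup.Normal.map hN f hf
  refine ⟨N.map f, hNf, ?_, ?_⟩
  · exact isCyclic_of_surjective (f.subgroupMap N) (f.subgroupMap_surjective N)
  · refine isCyclic_of_surjective (QuotientGroup.map N (N.map f) f (le_comap_map f N)) ?_
    intro x
    induction x using QuotientGroup.induction_on with | _ k => ?_
    obtain ⟨h, rfl⟩ := hf k
    exact ⟨QuotientGroup.mk h, rfl⟩

variable {G : Type*} [Group G] [Finite G] {p : ℕ} [Fact p.Prime]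

omit [Finite G] in
theorem commutator_subgroupOf_map {G' : Type*} [Group G'] {H : Subgroup G} (f : H →* G')
    {A B : Subgroup G} (hA : A ≤ H) (hB : B ≤ H) :
    ⁅(A.subgroupOf H).map f, (B.subgroupOf H).map f⁆ = (⁅A, B⁆.subgroupOf H).map f := by
  rw [← map_commutator]
  congr 1
  apply map_injective H.subtype_injective
  rw [map_commutator, map_subgroupOf_eq_of_le hA, map_subgroupOf_eq_of_le hB,
    map_subgroupOf_eq_of_le ((commutator_mono hA hB).trans (commutator_le.2 fun a ha b hb =>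
      H.mul_mem (H.mul_mem (H.mul_mem ha hb) (H.inv_mem ha)) (H.inv_mem hb)))]

/-- The case of a derived group of order `p`. -/
theorem metacyclic_action_base (hp : p ≠ 2) (R A : Subgroup G) (hR : IsPGroup p R)
    (hm : IsMetacyclic R) (hd : Nat.card ↥⁅R, R⁆ = p) (hA : A ≤ normalizer (R : Set G))
    (hcop : (Nat.card A).Coprime p) (hne : ¬ A ≤ centralizer (R : Set G)) :
    IsCyclic ↥⁅R, A⁆ ∧ IsCyclic ↥(R ⊓ centralizer (A : Set G)) ∧
      ¬ A ≤ centralizer ((⁅R, R⁆ : Subgroup G) : Set G) := by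
  classical
  have hpp : p.Prime := Fact.out
  have hdR : (commutator R).map R.subtype = ⁅R, R⁆ := R.map_subtype_commutator
  have h : SmallDerived p R := (⟨hp, hR, by
    rw [← hd, ← hdR, card_map_of_injective R.subtype_injective]⟩ : CentralDerived p R)
      |>.smallDerived_of_metacyclic hm
  set Z := ⁅R, R⁆ with hZ
  set T := ⁅R, A⁆ with hT
  set C := R ⊓ centralizer (A : Set G) with hC
  set U := h.powers.map R.subtype with hU
  have hTR : T ≤ R := CfsgLib.Coprime.commutator_le_of_le_normalizer hA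
  have hcopK : ∀ K : Subgroup G, K ≤ R → (Nat.card A).Coprime (Nat.card K) := fun K hK => by
    obtain ⟨n, hn⟩ := IsPGroup.iff_card.mp (hR.to_le hK)
    rw [hn]; exact hcop.pow_right n
  have hsolv : ∀ K : Subgroup G, K ≤ R → Group.IsSolvable K := fun K hK => by
    have : Group.IsNilpotent K := (hR.to_le hK).isNilpotent
    infer_instance
  have hmem : ∀ {M : Subgroup R} {x : G} (hx : x ∈ R), x ∈ M.map R.subtype ↔ (⟨x, hx⟩ : R) ∈ M := by
    intro M x hx
    exact ⟨fun ⟨y, hy, hyx⟩ => by rwa [show (⟨x, hx⟩ : R) = y from Subtype.ext hyx.symm],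
      fun h1 => ⟨_, h1, rfl⟩⟩
  have hUchar : h.powers.Characteristic := characteristic_iff_le_comap.2 fun φ x hx => by
    obtain ⟨w, rfl⟩ := h.mem_powers.1 hx
    exact h.mem_powers.2 ⟨φ w, (map_pow φ w p).symm⟩
  -- fixed points outside the powers
  have hfixed : ∀ {M : Subgroup R}, M.Characteristic → ∀ x : R, x ∉ M →
      (∀ a (ha : a ∈ A) , x⁻¹ * R.normalizerMonoidHom ⟨a, hA ha⟩ x ∈ M) →
      ∃ c : R, (c : G) ∈ centralizer (A : Set G) ∧ x⁻¹ * c ∈ M := by
    intro M hM x _ hfix
    have hMR : M.map R.subtype ≤ R := map_subtype_le M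
    obtain ⟨c, hc, hxc⟩ := CfsgLib.Coprime.exists_centralizing_in_coset (N := M.map R.subtype)
      (hA.trans (normalizer_le_normalizer_map_char M hM)) (hcopK _ hMR) (Or.inr (hsolv _ hMR))
      (k := (x : G)) fun a ha => ⟨_, hfix a ha, rfl⟩
    have hcR : c ∈ R := by simpa using R.mul_mem x.2 (hMR hxc)
    exact ⟨⟨c, hcR⟩, hc, (hmem _).1 hxc⟩
  obtain ⟨c, hcC, hcU⟩ : ∃ c : R, (c : G) ∈ centralizer (A : Set G) ∧ c ∉ h.powers := by
    obtain ⟨M, hlt, hidx, hMc, hcase⟩ := h.exists_trivial_factor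
    rcases hcase with hcase | hcase
    · obtain ⟨x, hx⟩ : ∃ x, x ∉ M := by
        by_contra! hall
        rw [show M = ⊤ from eq_top_iff.2 fun u _ => hall u, index_top] at hidx
        exact hpp.ne_one hidx.symm
      obtain ⟨c, hc, hxc⟩ := hfixed hMc x hx fun a ha => hcase _ x
      refine ⟨c, hc, fun hcU => hx ?_⟩
      simpa using M.mul_mem (hlt.le hcU) (M.inv_mem hxc)
    · obtain ⟨x, hxM, hx⟩ := SetLike.exists_of_lt hlt
      obtain ⟨c, hc, hxc⟩ := hfixed hUchar x hx fun a ha => hcase _ x hxM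
      refine ⟨c, hc, fun hcU => hx ?_⟩
      simpa using h.powers.mul_mem hcU (h.powers.inv_mem hxc)
  have hcC' : (c : G) ∈ C := ⟨c.2, hcC⟩
  -- the action on the derived group
  have hZR : Z ≤ R := commutator_le.2 fun a ha b hb =>
    R.mul_mem (R.mul_mem (R.mul_mem ha hb) (R.inv_mem ha)) (R.inv_mem hb)
  have hAZ : ¬ A ≤ centralizer (Z : Set G) := by
    intro hAZ
    apply hne
    have hfix : ∀ x : R, ∃ c' : R, (c' : G) ∈ centralizer (A : Set G) ∧
        x ∈ zpowers c ⊔ (zpowers c' ⊔ h.powers) := by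
      intro x
      by_cases hx : x ∈ zpowers c ⊔ h.powers
      · exact ⟨c, hcC, (sup_le le_sup_left (le_sup_right.trans le_sup_right) :
          zpowers c ⊔ h.powers ≤ _) hx⟩
      have hstep : ∀ a (ha : a ∈ A), x⁻¹ * R.normalizerMonoidHom ⟨a, hA ha⟩ x ∈
          zpowers c ⊔ h.powers := by
        intro a ha
        set α := R.normalizerMonoidHom ⟨a, hA ha⟩ with hα
        have hfixc : α c = c := Subtype.ext (by
          show a * (c : G) * a⁻¹ = c
          rw [mem_centralizer_iff.1 hcC a ha, mul_inv_cancel_right])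
        have hfixz : α ⁅c, x⁆ = ⁅c, x⁆ := Subtype.ext (by
          show a * ((⁅c, x⁆ : R) : G) * a⁻¹ = _
          have hz : ((⁅c, x⁆ : R) : G) ∈ Z := by
            rw [← hdR]
            exact ⟨_, commutator_mem_commutator (mem_top c) (mem_top x), rfl⟩
          rw [← mem_centralizer_iff.1 (hAZ ha) _ hz, mul_inv_cancel_right])
        have h3 := h.commutator_mul_right c x (x⁻¹ * α x)
        rw [mul_inv_cancel_left] at h3
        rw [map_commutatorElement α, hfixc] at hfixz
        rw [hfixz] at h3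
        exact h.mem_line_of_commute hcU
          (commutatorElement_eq_one_iff_mul_comm.1 (mul_eq_left.1 h3.symm))
      have hMc : ∀ a (ha : a ∈ A), ∀ u ∈ zpowers c ⊔ h.powers,
          R.normalizerMonoidHom ⟨a, hA ha⟩ u ∈ zpowers c ⊔ h.powers := by
        intro a ha u hu
        refine (sup_le (zpowers_le.2 ?_) (fun w hw => mem_sup_right
          (characteristic_iff_le_comap.1 hUchar _ hw)) : zpowers c ⊔ h.powers ≤
            (zpowers c ⊔ h.powers).comap (R.normalizerMonoidHom ⟨a, hA ha⟩).toMonoidHom) hu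
        show R.normalizerMonoidHom ⟨a, hA ha⟩ c ∈ zpowers c ⊔ h.powers
        have : R.normalizerMonoidHom ⟨a, hA ha⟩ c = c := Subtype.ext (by
          show a * (c : G) * a⁻¹ = c
          rw [mem_centralizer_iff.1 hcC a ha, mul_inv_cancel_right])
        rw [this]
        exact mem_sup_left (mem_zpowers c)
      set N := (zpowers c ⊔ h.powers).map R.subtype with hN
      have hNR : N ≤ R := map_subtype_le _
      have hAN : A ≤ normalizer (N : Set G) := by
        intro a ha
        rw [mem_normalizer_iff]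
        intro u
        constructor
        · rintro ⟨v, hv, rfl⟩
          exact ⟨_, hMc a ha v hv, rfl⟩
        · rintro ⟨v, hv, hvu⟩
          refine ⟨_, hMc a⁻¹ (A.inv_mem ha) v hv, ?_⟩
          show a⁻¹ * (v : G) * a⁻¹⁻¹ = u
          rw [show (v : G) = a * u * a⁻¹ from hvu]; group
      obtain ⟨c', hc', hxc⟩ := CfsgLib.Coprime.exists_centralizing_in_coset (N := N) hAN
        (hcopK _ hNR) (Or.inr (hsolv _ hNR)) (k := (x : G)) fun a ha => ⟨_, hstep a ha, rfl⟩
      have hc'R : c' ∈ R := by simpa using R.mul_mem x.2 (hNR hxc)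
      refine ⟨⟨c', hc'R⟩, hc', ?_⟩
      obtain ⟨v, hv, hvx⟩ := hxc
      have e : x = (⟨c', hc'R⟩ : R) * v⁻¹ := Subtype.ext (by
        change (v : G) = (x : G)⁻¹ * c' at hvx
        rw [Subgroup.coe_mul, InvMemClass.coe_inv, hvx]; group)
      rw [e]
      refine mul_mem (mem_sup_right (mem_sup_left (mem_zpowers _))) (inv_mem ?_)
      exact (sup_le le_sup_left (le_sup_right.trans le_sup_right) :
        zpowers c ⊔ h.powers ≤ _) hv
    have htop : C.subgroupOf R ⊔ frattini R = ⊤ := by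
      rw [eq_top_iff]
      intro x _
      obtain ⟨c', hc', hx⟩ := hfix x
      refine (sup_le (zpowers_le.2 (mem_sup_left (show c ∈ C.subgroupOf R from hcC'))) (sup_le
        (zpowers_le.2 (mem_sup_left (show c' ∈ C.subgroupOf R from ⟨c'.2, hc'⟩)))
        (h.powers_le_frattini.trans le_sup_right)) : _ ≤ C.subgroupOf R ⊔ frattini R) hx
    have hall := frattini_nongenerating htop
    rw [le_centralizer_iff]
    intro x hx
    exact (hall.ge (mem_top (⟨x, hx⟩ : R))).2
  have hZp : IsPGroup p Z := hR.to_le hZR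
  have hAZn : A ≤ normalizer (Z : Set G) := fun a ha => by
    rw [hZ]
    exact le_normalizer_commutator hA hA ha
  have hCZ : ∀ z ∈ Z, z ∈ centralizer (A : Set G) → z = 1 := by
    intro z hz hzA
    by_contra hz1
    apply hAZ
    have hgen : zpowers z = Z := by
      refine eq_of_le_of_card_ge (zpowers_le.2 hz) ?_
      rw [hd, Nat.card_zpowers]
      have hd' : orderOf z ∣ p := hd ▸ orderOf_dvd_natCard Z hz
      rw [((Nat.dvd_prime hpp).1 hd').resolve_left fun h0 => hz1 (orderOf_eq_one_iff.1 h0)]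
    rw [← hgen, le_centralizer_iff]
    exact zpowers_le.2 hzA
  have hZT : Z ≤ T := by
    have h1 := CfsgLib.Coprime.commutator_sup_centralizer hAZn (hcopK _ hZR)
      (Or.inr (hsolv _ hZR))
    refine h1.ge.trans (sup_le (commutator_mono hZR le_rfl) fun z hz => ?_)
    rw [hCZ z hz.1 hz.2]; exact one_mem _
  -- `T U` is proper
  have hTtop : T.subgroupOf R ⊔ h.powers ≠ ⊤ := by
    intro htop
    let : Fintype A := Fintype.ofFinite A
    let θ : R →* Abelianization R :=
      ∏ a : A, Abelianization.of.comp (R.normalizerMonoidHom ⟨a, hA a.2⟩).toMonoidHom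
    have hθ : ∀ (b : A) (x : R), θ (R.normalizerMonoidHom ⟨b, hA b.2⟩ x) = θ x := by
      intro b x
      simp only [θ, MonoidHom.finsetProd_apply]
      refine Fintype.prod_equiv (Equiv.mulRight b) _ _ fun a => ?_
      refine congrArg Abelianization.of (Subtype.ext ?_)
      show (a : G) * ((b : G) * (x : G) * (b : G)⁻¹) * (a : G)⁻¹ = ((a * b : A) : G) * x * ((a * b : A) : G)⁻¹
      rw [Subgroup.coe_mul]; group
    have hTk : T.subgroupOf R ≤ θ.ker := by
      have : T ≤ θ.ker.map R.subtype := by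
        rw [hT, commutator_le]
        intro x hx a ha
        refine ⟨⟨x, hx⟩ * R.normalizerMonoidHom ⟨a, hA ha⟩ (⟨x, hx⟩ : R)⁻¹, ?_, ?_⟩
        · rw [SetLike.mem_coe, MonoidHom.mem_ker, map_mul, hθ ⟨a, ha⟩, ← map_mul, mul_inv_cancel,
            map_one]
        · show x * (a * x⁻¹ * a⁻¹) = _
          rw [commutatorElement_def]; group
      intro x hx
      obtain ⟨y, hy, hyx⟩ := this hx
      rwa [show x = y from Subtype.ext hyx.symm]
    have hpow : θ.range ≤ θ.range.map (powMonoidHom p) := by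
      rintro _ ⟨x, rfl⟩
      have hx := htop.ge (mem_top x)
      rw [mem_sup_of_normal_right (ht := normal_of_mem_center h.powers_le_center)] at hx
      obtain ⟨u, hu, v, hv, rfl⟩ := hx
      obtain ⟨w, rfl⟩ := h.mem_powers.1 hv
      exact ⟨θ w, ⟨w, rfl⟩, by
        rw [powMonoidHom_apply, map_mul, MonoidHom.mem_ker.1 (hTk hu), one_mul, map_pow]⟩
    have hbot : θ.range = ⊥ := by
      by_contra hne'
      have hmapeq : θ.range.map (powMonoidHom p) = θ.range := le_antisymm (by
        rintro _ ⟨x, hx, rfl⟩; exact pow_mem hx p) hpow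
      have hAb : IsPGroup p (Abelianization R) := hR.to_quotient (commutator R)
      have hdvd := CfsgLib.PGroups.dvd_card_of_ne_bot hAb hne'
      obtain ⟨x, hx⟩ := exists_prime_orderOf_dvd_card' (G := θ.range) p hdvd
      have hsurj : Function.Surjective (fun y : θ.range => y ^ p) := by
        rintro ⟨y, hy⟩
        obtain ⟨w, hw, hwy⟩ := hmapeq.ge hy
        exact ⟨⟨w, hw⟩, Subtype.ext hwy⟩
      have h1 : x = 1 := (Finite.injective_iff_surjective.2 hsurj)
        (show x ^ p = (1 : θ.range) ^ p by rw [one_pow, ← hx, pow_orderOf_eq_one])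
      rw [h1, orderOf_one] at hx
      exact hpp.ne_one hx.symm
    have hc1 : θ c = Abelianization.of c ^ Nat.card A := by
      simp only [θ, MonoidHom.finsetProd_apply]
      rw [Nat.card_eq_fintype_card, ← Finset.card_univ, ← Finset.prod_const]
      refine Finset.prod_congr rfl fun a _ => congrArg Abelianization.of (Subtype.ext ?_)
      show (a : G) * (c : G) * (a : G)⁻¹ = c
      rw [mem_centralizer_iff.1 hcC a a.2, mul_inv_cancel_right]
    have hc2 : θ c = 1 := by
      have : θ c ∈ θ.range := ⟨c, rfl⟩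
      rwa [hbot, Subgroup.mem_bot] at this
    have hAb : IsPGroup p (Abelianization R) := hR.to_quotient (commutator R)
    obtain ⟨k, hk⟩ := IsPGroup.iff_card.mp hAb
    have hc3 : Abelianization.of c = 1 := by
      have := (powCoprime (show (Nat.card (Abelianization R)).Coprime (Nat.card A) by
        rw [hk]; exact (hcop.pow_right k).symm)).injective
        (a₁ := Abelianization.of c) (a₂ := 1) (by simpa using hc1.symm.trans hc2)
      exact this
    exact hcU (h.commutator_le_powers ((QuotientGroup.eq_one_iff c).1 hc3))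
  have hTab : IsMulCommutative T := by
    rw [CfsgLib.Base.isMulCommutative_subgroup_iff]
    intro a ha b hb
    obtain ⟨g, hg⟩ : ∃ g : R, T.subgroupOf R ⊔ h.powers ≤ zpowers g ⊔ h.powers := by
      by_cases hlt : ∃ g ∈ T.subgroupOf R, g ∉ h.powers
      · obtain ⟨g, hgT, hgU⟩ := hlt
        exact ⟨g, (h.line_eq hgU le_sup_right (mem_sup_left hgT) hTtop).ge⟩
      · push Not at hlt
        exact ⟨1, sup_le (fun x hx => mem_sup_right (hlt x hx)) le_sup_right⟩
    exact congrArg Subtype.val (h.line_commute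
      (hg (mem_sup_left (show (⟨a, hTR ha⟩ : R) ∈ T.subgroupOf R from ha)))
      (hg (mem_sup_left (show (⟨b, hTR hb⟩ : R) ∈ T.subgroupOf R from hb))))
  have hTC : T ⊓ C = ⊥ := by
    have hAT : A ≤ normalizer (T : Set G) := by
      rw [hT]; exact le_normalizer_commutator hA le_normalizer
    have h1 := CfsgLib.Coprime.centralizer_inf_commutator_eq_bot hAT (hcopK _ hTR)
    rw [hT, CfsgLib.Coprime.commutator_commutator_eq hA (hcopK R le_rfl)
      (Or.inr (hsolv R le_rfl)), ← hT] at h1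
    rw [eq_bot_iff, ← h1]
    exact fun x hx => ⟨⟨hx.1, hx.2.2⟩, hx.1⟩
  have hom : ∀ x ∈ R, x ^ p = 1 → x ∈ h.omega.map R.subtype := fun x hx hxp =>
    (hmem hx).2 (h.mem_omega.2 (Subtype.ext hxp))
  have hom2 : Nat.card ↥(h.omega.map R.subtype) = p ^ 2 := by
    rw [card_map_of_injective R.subtype_injective, h.card_omega]
  set O := h.omega.map R.subtype with hO
  have hOp : IsPGroup p O := hR.to_le (map_subtype_le _)
  have hZO : Z ≤ O := fun z hz => hom z (hZR hz) (by
    have := pow_card_eq_one' (G := Z) (x := ⟨z, hz⟩)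
    rw [hd] at this
    exact congrArg Subtype.val this)
  have hlt : ∀ K : Subgroup G, ¬ O ≤ K → Nat.card ↥(K ⊓ O) ≤ p := by
    intro K hK
    obtain ⟨k, hk⟩ := IsPGroup.iff_card.mp (hOp.to_le (inf_le_right : K ⊓ O ≤ O))
    have h1 : K ⊓ O < O := lt_of_le_of_ne inf_le_right fun h0 => hK (h0.ge.trans inf_le_left)
    have h2 := CfsgLib.PLocal.card_lt_of_lt h1
    rw [hk, hom2, Nat.pow_lt_pow_iff_right hpp.one_lt] at h2
    rw [hk]
    exact (Nat.pow_le_pow_right hpp.pos (show k ≤ 1 by omega)).trans (pow_one p).le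
  have hCne : C ≠ ⊥ := fun h0 => hcU (by
    have : (c : G) = 1 := by rw [← mem_bot, ← h0]; exact hcC'
    rw [show c = 1 from Subtype.ext this]; exact one_mem _)
  obtain ⟨x, hx⟩ := exists_prime_orderOf_dvd_card' (G := C) p
    (CfsgLib.PGroups.dvd_card_of_ne_bot hR (H := C.subgroupOf R) (fun h0 => hCne (by
      refine (eq_bot_iff_forall _).2 fun y hy => ?_
      have h1 : (⟨y, hy.1⟩ : R) ∈ C.subgroupOf R := hy
      rw [h0, Subgroup.mem_bot] at h1
      exact congrArg Subtype.val h1)) |>.trans (by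
        rw [CfsgLib.Base.card_subgroupOf inf_le_left]))
  have hxO : (x : G) ∈ O := hom _ x.2.1 (by
    rw [← orderOf_dvd_iff_pow_eq_one, orderOf_coe, hx])
  have hx1 : (x : G) ≠ 1 := fun h0 => by
    rw [← orderOf_coe, h0, orderOf_one] at hx
    exact hpp.ne_one hx.symm
  refine ⟨?_, ?_, hAZ⟩
  · refine isCyclic_of_omega_le (W := Z) hp (hR.to_le hTR) hd fun y hy hyp => ?_
    have hTO : T ⊓ O = Z := by
      refine (eq_of_le_of_card_ge (le_inf hZT hZO) ?_).symm
      rw [hd]
      exact hlt T fun h0 => hx1 (mem_bot.1 (hTC ▸ ⟨h0 hxO, x.2⟩))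
    exact hTO.le ⟨hy, hom y (hTR hy) hyp⟩
  · have hCO : ¬ O ≤ C := fun h0 => by
      have hz : Z ≠ ⊥ := fun h1 => by rw [h1, card_bot] at hd; exact hpp.ne_one hd.symm
      exact hz ((eq_bot_iff_forall _).2 fun z hz => hCZ z hz (h0 (hZO hz)).2)
    refine isCyclic_of_omega_le (W := C ⊓ O) hp (hR.to_le inf_le_left) ?_
      fun y hy hyp => ⟨hy, hom y hy.1 hyp⟩
    refine le_antisymm (hlt C hCO) ?_
    rw [← hx, ← orderOf_coe, ← Nat.card_zpowers]
    exact card_le_of_le (zpowers_le.2 ⟨x.2, hxO⟩)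

/-- A metacyclic non-abelian `p`-group with a non-trivial coprime action. -/
theorem metacyclic_action (hp : p ≠ 2) (R A : Subgroup G) (hR : IsPGroup p R)
    (hm : IsMetacyclic R) (hA : A ≤ normalizer (R : Set G)) (hcop : (Nat.card A).Coprime p)
    (hnab : ¬ IsMulCommutative R) (hne : ¬ A ≤ centralizer (R : Set G)) :
    ⁅R, A⁆ ≠ ⊥ ∧ IsCyclic ↥⁅R, A⁆ ∧ R ⊓ centralizer (A : Set G) ≠ ⊥ ∧
      IsCyclic ↥(R ⊓ centralizer (A : Set G)) ∧ ⁅R, R⁆ ≤ ⁅R, A⁆ ∧
      ⁅R, A⁆ ⊓ (R ⊓ centralizer (A : Set G)) = ⊥ := by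
  classical
  have hpp : p.Prime := Fact.out
  set T := ⁅R, A⁆ with hT
  set C := R ⊓ centralizer (A : Set G) with hC
  set Z₀ := ⁅R, R⁆ with hZ₀
  have hcopK : ∀ K : Subgroup G, K ≤ R → (Nat.card A).Coprime (Nat.card K) := fun K hK => by
    obtain ⟨n, hn⟩ := IsPGroup.iff_card.mp (hR.to_le hK)
    rw [hn]; exact hcop.pow_right n
  have hsolv : ∀ K : Subgroup G, K ≤ R → Group.IsSolvable K := fun K hK => by
    have : Group.IsNilpotent K := (hR.to_le hK).isNilpotent
    infer_instance
  have hZR : Z₀ ≤ R := commutator_le.2 fun a ha b hb =>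
    R.mul_mem (R.mul_mem (R.mul_mem ha hb) (R.inv_mem ha)) (R.inv_mem hb)
  have hTR : T ≤ R := CfsgLib.Coprime.commutator_le_of_le_normalizer hA
  have hdR : (commutator R).map R.subtype = Z₀ := R.map_subtype_commutator
  obtain ⟨w, hw⟩ : ∃ w : G, zpowers w = Z₀ := by
    obtain ⟨N, hN, hNc, hQc⟩ := hm
    have hle : commutator R ≤ N := by
      let := hQc.commGroup
      rw [_root_.commutator_def, commutator_le]
      intro a _ b _
      rw [← QuotientGroup.eq_one_iff]
      show QuotientGroup.mk' N ⁅a, b⁆ = 1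
      rw [map_commutatorElement, commutatorElement_eq_one_iff_mul_comm]
      exact mul_comm _ _
    have hcy : IsCyclic (commutator R) :=
      isCyclic_of_injective (Subgroup.inclusion hle) (inclusion_injective hle)
    obtain ⟨⟨w, hw⟩, hgen⟩ := hcy.exists_generator
    refine ⟨(w : G), ?_⟩
    rw [← hdR]
    refine le_antisymm (zpowers_le.2 ⟨w, hw, rfl⟩) ?_
    rintro _ ⟨x, hx, rfl⟩
    obtain ⟨i, hi⟩ := mem_zpowers_iff.1 (hgen ⟨x, hx⟩)
    exact mem_zpowers_iff.2 ⟨i, by simpa using congrArg (fun t : commutator R => ((t : R) : G)) hi⟩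
  have hwR : w ∈ R := hZR (hw ▸ mem_zpowers w)
  have hw1 : w ≠ 1 := fun h0 => hnab (by
    rw [← le_centralizer_iff_isMulCommutative, ← commutator_eq_bot_iff_le_centralizer, ← hZ₀, ← hw,
      h0, zpowers_one_eq_bot])
  set W := zpowers (w ^ p) with hW
  have hWZ : W ≤ Z₀ := hw ▸ zpowers_le.2 (pow_mem (mem_zpowers w) p)
  set H := R ⊔ A with hH
  have hHZ : H ≤ normalizer (Z₀ : Set G) := by
    have h1 : normalizer (R : Set G) ≤ normalizer (Z₀ : Set G) := fun g hg => by
      rw [hZ₀]; exact le_normalizer_commutator (le_refl _) (le_refl _) hg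
    exact sup_le (le_normalizer.trans h1) (hA.trans h1)
  have hHW : H ≤ normalizer (W : Set G) := by
    intro g hg
    rw [mem_normalizer_iff_map_conj_eq]
    refine eq_of_le_of_card_ge ?_ (card_map_of_injective (MulAut.conj g).injective).ge
    rw [hW, MonoidHom.map_zpowers, zpowers_le]
    obtain ⟨i, hi⟩ := mem_zpowers_iff.1
      (hw.symm ▸ (mem_normalizer_iff.1 (hHZ hg) w).1 (hw ▸ mem_zpowers w) : g * w * g⁻¹ ∈ zpowers w)
    show g * w ^ p * g⁻¹ ∈ zpowers (w ^ p)
    rw [← conj_pow, ← hi, ← zpow_natCast (w ^ i), ← zpow_mul, mul_comm, zpow_mul, zpow_natCast]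
    exact zpow_mem (mem_zpowers _) i
  have hRH : R ≤ H := le_sup_left
  have hAH : A ≤ H := le_sup_right
  have hWn : (W.subgroupOf H).Normal := normal_subgroupOf_of_le_normalizer hHW
  let f := QuotientGroup.mk' (W.subgroupOf H)
  set R' := (R.subgroupOf H).map f with hR'
  set A' := (A.subgroupOf H).map f with hA'
  have hp' : IsPGroup p R' := (hR.comap_subtype).map f
  have hm' : IsMetacyclic R' := by
    let g : R →* R' :=
      (f.subgroupMap (R.subgroupOf H)).comp (subgroupOfEquivOfLe hRH).symm.toMonoidHom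
    exact isMetacyclic_of_surjective g
      ((f.subgroupMap_surjective _).comp (subgroupOfEquivOfLe hRH).symm.surjective) hm
  obtain ⟨e, he⟩ := IsPGroup.iff_orderOf.mp (hR.to_subgroup (zpowers (⟨w, hwR⟩ : R)))
    ⟨⟨w, hwR⟩, mem_zpowers _⟩
  have he' : orderOf w = p ^ e := by rw [← he, orderOf_mk, orderOf_mk]
  have he0 : e ≠ 0 := fun h0 => hw1 (orderOf_eq_one_iff.1 (by rw [he', h0, pow_zero]))
  have hidx : W.relIndex Z₀ = p := by
    have h1 := (W.subgroupOf Z₀).card_mul_index
    rw [CfsgLib.Base.card_subgroupOf hWZ, hW, Nat.card_zpowers, orderOf_pow' w hpp.ne_zero, ← hw,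
      Nat.card_zpowers, he', Nat.gcd_eq_right (dvd_pow_self p he0), hw] at h1
    obtain ⟨e', rfl⟩ := Nat.exists_eq_succ_of_ne_zero he0
    rw [pow_succ, Nat.mul_div_cancel _ hpp.pos] at h1
    exact Nat.eq_of_mul_eq_mul_left (pow_pos hpp.pos e') h1
  have hd' : Nat.card ↥⁅R', R'⁆ = p := by
    rw [hR', commutator_subgroupOf_map f hRH hRH, CfsgLib.PLocal.card_map_mk'_eq_relIndex,
      relIndex_subgroupOf (hZR.trans hRH)]
    exact hidx
  have hA'n : A' ≤ normalizer (R' : Set (H ⧸ W.subgroupOf H)) := by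
    rw [le_normalizer_iff_commutator_le_left, hR', hA', commutator_subgroupOf_map f hRH hAH]
    exact map_mono fun x hx => hTR hx
  have hcop' : (Nat.card A').Coprime p := hcop.coprime_dvd_left (by
    rw [hA', ← CfsgLib.Base.card_subgroupOf hAH]
    exact card_map_dvd _ f)
  have hWfr : ∀ {K : Subgroup G}, IsPGroup p K → Z₀ ≤ K → ∀ {x : K}, (x : G) ∈ W →
      x ∈ frattini K := by
    intro K hK hZK x hx
    obtain ⟨i, hi⟩ := mem_zpowers_iff.1 hx
    have e : x = ((⟨w, hZK (hw ▸ mem_zpowers w)⟩ : K) ^ i) ^ p := Subtype.ext (by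
      rw [← hi]; push_cast
      rw [← zpow_natCast w p, ← zpow_natCast (w ^ i), ← zpow_mul, ← zpow_mul, mul_comm])
    rw [e]
    exact CfsgLib.PGroups.pow_mem_frattini hK _
  have hker : ∀ {K : Subgroup G}, K ≤ H → (K.subgroupOf H).map f = ⊥ → K ≤ W := by
    intro K hK h0 x hx
    rw [Subgroup.map_eq_bot_iff, QuotientGroup.ker_mk'] at h0
    exact h0 (show (⟨x, hK hx⟩ : H) ∈ K.subgroupOf H from hx)
  have hne' : ¬ A' ≤ centralizer (R' : Set (H ⧸ W.subgroupOf H)) := by
    intro h0
    apply hne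
    have h1 : T ≤ W := hker (hTR.trans hRH) (by
      rw [hT, ← commutator_subgroupOf_map f hRH hAH, Subgroup.commutator_comm]
      exact commutator_eq_bot_iff_le_centralizer.2 h0)
    refine CfsgLib.Coprime.le_centralizer_of_trivial_mod_frattini hA ?_ fun a ha k hk => ?_
    · obtain ⟨n, hn⟩ := IsPGroup.iff_card.mp (hR.to_subgroup (frattini R))
      rw [hn]; exact hcop.pow_right n
    · have h2 : ⁅a, k⁆ ∈ T := by
        rw [hT, Subgroup.commutator_comm]; exact commutator_mem_commutator ha hk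
      exact ⟨⟨⁅a, k⁆, hTR h2⟩, hWfr hR hZR (h1 h2), rfl⟩
  obtain ⟨bT, bC, bZ⟩ := metacyclic_action_base hp R' A' hp' hm' hd' hA'n hcop' hne'
  -- `A` is fixed point free on the derived group
  have hAZn : A ≤ normalizer (Z₀ : Set G) := hAH.trans hHZ
  have hCZ : ∀ z ∈ Z₀, z ∈ centralizer (A : Set G) → z = 1 := by
    intro z hz hzA
    by_contra hz1
    apply bZ
    have hfix : A ≤ centralizer (Z₀ : Set G) := by
      refine le_centralizer_of_fix_order_prime hp Z₀ A (hR.to_le hZR) hcop hAZn fun x hx hxp a ha => ?_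
      obtain ⟨i, hi⟩ := IsPGroup.iff_orderOf.mp (hR.to_le hZR) ⟨z, hz⟩
      rw [orderOf_mk] at hi
      rcases i with _ | i
      · exact absurd (orderOf_eq_one_iff.1 (by rw [hi, pow_zero])) hz1
      set u := z ^ p ^ i with hu
      have huo : orderOf u = p := by
        rw [hu, orderOf_pow' z (pow_ne_zero i hpp.ne_zero), hi,
          Nat.gcd_eq_right (pow_dvd_pow p i.le_succ), pow_succ,
          Nat.mul_div_cancel_left _ (pow_pos hpp.pos i)]
      have hcyc : IsCyclic Z₀ := hw ▸ inferInstance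
      obtain ⟨j, hj⟩ := CfsgLib.PLocal.isCyclic_mem_zpowers_of_pow_eq_one (hR.to_le hZR)
        (z := (⟨u, pow_mem hz _⟩ : Z₀)) (y := (⟨x, hx⟩ : Z₀)) (by rw [orderOf_mk, huo])
        (Subtype.ext hxp)
      have hj' : u ^ j = x := by simpa using congrArg Subtype.val hj
      rw [← hj']
      exact ((show Commute a z from mem_centralizer_iff.1 hzA a ha).pow_right (p ^ i)).zpow_right j
    rw [hR', hA', commutator_subgroupOf_map f hRH hRH, ← commutator_eq_bot_iff_le_centralizer,
      commutator_subgroupOf_map f hAH (hZR.trans hRH),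
      commutator_eq_bot_iff_le_centralizer.2 hfix, bot_subgroupOf, Subgroup.map_bot]
  have hZT : Z₀ ≤ T := by
    refine (CfsgLib.Coprime.commutator_sup_centralizer hAZn (hcopK _ hZR)
      (Or.inr (hsolv _ hZR))).ge.trans (sup_le (commutator_mono hZR le_rfl) fun z hz => ?_)
    rw [hCZ z hz.1 hz.2]; exact one_mem _
  have hTcyc : IsCyclic T := by
    rw [hR', hA', commutator_subgroupOf_map f hRH hAH] at bT
    obtain ⟨⟨t', ht'⟩, hgen⟩ := bT.exists_generator
    obtain ⟨t, ht, rfl⟩ := ht'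
    have htT : (t : G) ∈ T := ht
    have htop : zpowers (⟨t, htT⟩ : T) ⊔ frattini T = ⊤ := by
      rw [eq_top_iff]
      rintro ⟨x, hx⟩ -
      obtain ⟨i, hi⟩ := mem_zpowers_iff.1 (hgen ⟨f ⟨x, hRH (hTR hx)⟩,
        mem_map_of_mem f (show (⟨x, hRH (hTR hx)⟩ : H) ∈ T.subgroupOf H from hx)⟩)
      have hi' : f (t ^ i) = f ⟨x, hRH (hTR hx)⟩ := by
        rw [map_zpow]; simpa using congrArg Subtype.val hi
      have hmem := QuotientGroup.eq.1 hi'
      have e : (⟨x, hx⟩ : T) = ⟨t, htT⟩ ^ i * ⟨((t : G) ^ i)⁻¹ * x,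
          T.mul_mem (T.inv_mem (T.zpow_mem htT i)) hx⟩ := Subtype.ext (by simp)
      rw [e]
      refine mul_mem_sup (zpow_mem (mem_zpowers _) i) (hWfr (hR.to_le hTR) hZT ?_)
      rw [mem_subgroupOf] at hmem
      simpa using hmem
    exact isCyclic_iff_exists_zpowers_eq_top.2 ⟨_, frattini_nongenerating htop⟩
  have hTC : T ⊓ C = ⊥ := by
    have hAT : A ≤ normalizer (T : Set G) := by
      rw [hT]; exact le_normalizer_commutator hA le_normalizer
    have : IsMulCommutative T := by infer_instance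
    have h1 := CfsgLib.Coprime.centralizer_inf_commutator_eq_bot hAT (hcopK _ hTR)
    rw [hT, CfsgLib.Coprime.commutator_commutator_eq hA (hcopK R le_rfl)
      (Or.inr (hsolv R le_rfl)), ← hT] at h1
    rw [eq_bot_iff, ← h1]
    exact fun x hx => ⟨⟨hx.1, hx.2.2⟩, hx.1⟩
  refine ⟨fun h0 => hw1 ?_, hTcyc, fun h0 => hnab ?_, ?_, hZT, hTC⟩
  · rw [← mem_bot, ← h0]; exact hZT (hw ▸ mem_zpowers w)
  · have h1 := CfsgLib.Coprime.commutator_sup_centralizer hA (hcopK R le_rfl)
      (Or.inr (hsolv R le_rfl))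
    rw [← hT, ← hC, h0, sup_bot_eq] at h1
    rw [← h1]
    infer_instance
  · let g : C →* ↥(R' ⊓ centralizer (A' : Set (H ⧸ W.subgroupOf H))) :=
      (f.comp (inclusion (inf_le_left.trans hRH))).codRestrict _ fun x => by
        refine ⟨mem_map_of_mem f (show _ ∈ R.subgroupOf H from x.2.1), ?_⟩
        refine mem_centralizer_iff.2 ?_
        rw [hA']
        rintro _ ⟨a, ha, rfl⟩
        show f a * f _ = f _ * f a
        rw [← map_mul, ← map_mul]
        exact congrArg f (Subtype.ext (mem_centralizer_iff.1 x.2.2 (a : G) ha))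
    refine isCyclic_of_injective g ?_
    rw [← MonoidHom.ker_eq_bot_iff, eq_bot_iff]
    intro x hx
    rw [MonoidHom.mem_ker] at hx
    have h2 : f (inclusion (inf_le_left.trans hRH) x) = 1 := congrArg Subtype.val hx
    have h3 : (x : G) ∈ W := (QuotientGroup.eq_one_iff (N := W.subgroupOf H) _).1 h2
    exact mem_bot.2 (Subtype.ext (hCZ _ (hWZ h3) x.2.2))

end CfsgLib.OddOrder
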