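import Cfsg.Agent.Lib.OddOrder.QuadraticPair
import Cfsg.Agent.Lib.PLocal.PSolvable
import Cfsg.Agent.Lib.Classical.SLGen

/-!
Consequences of involving `SL₂(p)`: even order, non-abelian Sylow `2`-subgroups, and, for
`p ≥ 5`, failure of `p`-solvability.
-/

set_option autoImplicit false

namespace CfsgLib.OddOrder

open Matrix
open CfsgLib.Classical (uSL lSL uSL_coe lSL_coe)

universe u

variable {p : ℕ} [Fact p.Prime]

theorem sl2_quaternion (hp : p ≠ 2) :
    ∃ i j : Matrix.SpecialLinearGroup (Fin 2) (ZMod p),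
      i * j ≠ j * i ∧ i ^ 2 ^ 2 = 1 ∧ j ^ 2 ^ 2 = 1 ∧ j * i * j⁻¹ = i⁻¹ := by
  obtain ⟨a, b, hab⟩ := ZMod.sq_add_sq p (-1)
  have h2 : (2 : ZMod p) ≠ 0 := SL2.two_ne_zero_of_char p hp
  obtain ⟨i, hi0⟩ : ∃ i : Matrix.SpecialLinearGroup (Fin 2) (ZMod p), i.1 = !![0, 1; -1, 0] :=
    ⟨⟨!![0, 1; -1, 0], by simp [Matrix.det_fin_two_of]⟩, rfl⟩
  obtain ⟨j, hj0⟩ : ∃ j : Matrix.SpecialLinearGroup (Fin 2) (ZMod p), j.1 = !![a, b; b, -a] :=
    ⟨⟨!![a, b; b, -a], by rw [Matrix.det_fin_two_of]; linear_combination -hab⟩, rfl⟩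
  have hij : (i * j).1 = -(j * i).1 := by
    ext r s
    fin_cases r <;> fin_cases s <;> simp [hi0, hj0, Matrix.mul_apply, Fin.sum_univ_two]
  have hi : (i * i).1 = -1 := by
    ext r s
    fin_cases r <;> fin_cases s <;> simp [hi0, Matrix.mul_apply, Fin.sum_univ_two]
  have hj : (j * j).1 = -1 := by
    ext r s
    fin_cases r <;> fin_cases s <;> simp [hj0, Matrix.mul_apply, Fin.sum_univ_two]
    · linear_combination hab
    · ring
    · ring
    · linear_combination hab
  have h4 : ∀ g : Matrix.SpecialLinearGroup (Fin 2) (ZMod p), (g * g).1 = -1 → g ^ 2 ^ 2 = 1 := by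
    intro g hg
    apply Subtype.ext
    rw [show (2 : ℕ) ^ 2 = 2 * 2 from rfl, pow_mul, pow_two g, pow_two,
      Matrix.SpecialLinearGroup.coe_mul, hg, neg_mul_neg, one_mul,
      Matrix.SpecialLinearGroup.coe_one]
  refine ⟨i, j, fun h => ?_, h4 i hi, h4 j hj, ?_⟩
  · rw [h] at hij
    have hd := (j * i).2
    have hz : (j * i).1 = 0 := by
      ext r s
      have h5 : (j * i).1 r s = -(j * i).1 r s := congrFun (congrFun hij r) s
      have h6 : (2 : ZMod p) * (j * i).1 r s = 0 := by linear_combination h5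
      simpa using (mul_eq_zero.1 h6).resolve_left h2
    rw [hz, Matrix.det_fin_two] at hd
    simp at hd
  · rw [mul_inv_eq_iff_eq_mul]
    have hi' : (i⁻¹).1 = -i.1 := by
      rw [Matrix.SpecialLinearGroup.coe_inv, Matrix.adjugate_fin_two]
      ext r s
      fin_cases r <;> fin_cases s <;> simp [hi0]
    apply Subtype.ext
    rw [Matrix.SpecialLinearGroup.coe_mul i⁻¹, hi', neg_mul,
      ← Matrix.SpecialLinearGroup.coe_mul i j, hij, neg_neg]

theorem exists_nonabelian_two_subgroup (hp : p ≠ 2) :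
    ∃ Q : Subgroup (Matrix.SpecialLinearGroup (Fin 2) (ZMod p)),
      IsPGroup 2 Q ∧ ¬ IsMulCommutative Q := by
  obtain ⟨i, j, hne, hi, hj, hconj⟩ := sl2_quaternion hp
  refine ⟨Subgroup.zpowers j ⊔ Subgroup.zpowers i, ?_, fun h => hne ?_⟩
  · have : Fact (Nat.Prime 2) := ⟨Nat.prime_two⟩
    have hpow : ∀ g : Matrix.SpecialLinearGroup (Fin 2) (ZMod p), g ^ 2 ^ 2 = 1 →
        IsPGroup 2 (Subgroup.zpowers g) := by
      intro g hg
      obtain ⟨k, -, hk⟩ := (Nat.dvd_prime_pow Nat.prime_two).1 (orderOf_dvd_of_pow_eq_one hg)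
      exact IsPGroup.of_card (by rw [Nat.card_zpowers]; exact hk)
    have hn : Subgroup.zpowers j ≤
        Subgroup.normalizer ((Subgroup.zpowers i : Subgroup _) : Set _) := by
      rw [Subgroup.zpowers_le, Subgroup.mem_normalizer_iff_map_conj_eq, MonoidHom.map_zpowers]
      refine (congrArg Subgroup.zpowers ?_).trans Subgroup.zpowers_inv
      exact hconj
    exact IsPGroup.to_sup_of_normal_right' (hpow j hj) (hpow i hi) hn
  · exact congrArg Subtype.val (h.is_comm.comm
      ⟨i, Subgroup.mem_sup_right (Subgroup.mem_zpowers i)⟩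
      ⟨j, Subgroup.mem_sup_left (Subgroup.mem_zpowers j)⟩)

theorem InvolvesSL2.sylow_two_nonabelian {H : Type u} [Group H] [Finite H] (hp : p ≠ 2)
    (h : InvolvesSL2 p H) (T : Sylow 2 H) : ¬ IsMulCommutative T := by
  intro hT
  have : Fact (Nat.Prime 2) := ⟨Nat.prime_two⟩
  obtain ⟨K₀, f, hf⟩ := h
  obtain ⟨Q, hQ, hQc⟩ := exists_nonabelian_two_subgroup (p := p) hp
  obtain ⟨P⟩ : Nonempty (Sylow 2 K₀) := inferInstance
  have hPimg : ∀ P' : Sylow 2 (Matrix.SpecialLinearGroup (Fin 2) (ZMod p)),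
      ∃ P0 : Sylow 2 K₀, (P' : Subgroup _) = (P0 : Subgroup K₀).map f := by
    intro P'
    obtain ⟨g, hg⟩ := MulAction.exists_smul_eq (Matrix.SpecialLinearGroup (Fin 2) (ZMod p))
      (P.mapSurjective hf) P'
    obtain ⟨k, rfl⟩ := hf g
    refine ⟨k • P, ?_⟩
    rw [← hg, Sylow.coe_subgroup_smul, Sylow.coe_subgroup_smul, Sylow.coe_mapSurjective]
    ext x
    simp only [Subgroup.mem_pointwise_smul_iff_inv_smul_mem, Subgroup.mem_map]
    constructor
    · rintro ⟨y, hy, hxy⟩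
      refine ⟨k * y * k⁻¹, by simpa [mul_assoc] using hy, ?_⟩
      simp [hxy, mul_assoc]
    · rintro ⟨y, hy, rfl⟩
      exact ⟨_, hy, by simp [mul_assoc]⟩
  obtain ⟨P', hP'⟩ := hQ.exists_le_sylow
  obtain ⟨P0, hP0⟩ := hPimg P'
  obtain ⟨T', hT'⟩ := (P0.2.map K₀.subtype).exists_le_sylow
  obtain ⟨g, rfl⟩ := MulAction.exists_smul_eq H T T'
  have hcomm : ∀ a ∈ (P0 : Subgroup K₀), ∀ b ∈ (P0 : Subgroup K₀), a * b = b * a := by
    intro a ha b hb
    have ha' := hT' ⟨a, ha, rfl⟩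
    have hb' := hT' ⟨b, hb, rfl⟩
    rw [Sylow.coe_subgroup_smul, Subgroup.mem_pointwise_smul_iff_inv_smul_mem] at ha' hb'
    have h1 := congrArg Subtype.val (hT.is_comm.comm ⟨_, ha'⟩ ⟨_, hb'⟩)
    simp only [MulMemClass.mk_mul_mk] at h1
    rw [← smul_mul', ← smul_mul'] at h1
    exact Subtype.ext ((MulAction.injective _) h1)
  refine hQc ⟨⟨fun a b => Subtype.ext ?_⟩⟩
  obtain ⟨a', ha', e1⟩ := (hP0 ▸ hP' a.2 : a.1 ∈ (P0 : Subgroup K₀).map f)
  obtain ⟨b', hb', e2⟩ := (hP0 ▸ hP' b.2 : b.1 ∈ (P0 : Subgroup K₀).map f)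
  show a.1 * b.1 = b.1 * a.1
  rw [← e1, ← e2, ← map_mul, ← map_mul, hcomm a' ha' b' hb']

theorem InvolvesSL2.two_dvd_card {H : Type u} [Group H] [Finite H] (hp : p ≠ 2)
    (h : InvolvesSL2 p H) : 2 ∣ Nat.card H := by
  obtain ⟨K₀, f, hf⟩ := h
  obtain ⟨i, j, hne, hi, -, -⟩ := sl2_quaternion (p := p) hp
  obtain ⟨k, -, hk⟩ := (Nat.dvd_prime_pow Nat.prime_two).1 (orderOf_dvd_of_pow_eq_one hi)
  have h1 : orderOf i ∣ Nat.card H :=
    (orderOf_dvd_natCard i).trans
      ((Subgroup.card_dvd_of_surjective f hf).trans (Subgroup.card_subgroup_dvd_card K₀))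
  rcases k with _ | k
  · exfalso
    rw [pow_zero, orderOf_eq_one_iff] at hk
    exact hne (by rw [hk, one_mul, mul_one])
  · exact ((dvd_pow_self 2 k.succ_ne_zero).trans (hk ▸ dvd_rfl)).trans h1

theorem subsingleton_of_perfect_pSolvable : ∀ (n : ℕ) (G : Type u) [Group G] [Finite G],
    Nat.card G ≤ n → commutator G = ⊤ → Subgroup.closure {g : G | g ^ p = 1} = ⊤ →
      Cfsg.IsPSolvable p G → Subsingleton G := by
  intro n
  induction n with
  | zero => intro G _ _ hc _ _ _; exact absurd hc (by have := Nat.card_pos (α := G); omega)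
  | succ n ih =>
    intro G _ _ hc hperf hgen hps
    by_contra hcon
    have : Nontrivial G := not_subsingleton_iff_nontrivial.1 hcon
    obtain ⟨N, hN, hNne, hN'⟩ := CfsgLib.Coprime.pSolvable_step hps
    have : N.Normal := hN
    have hsurj : Function.Surjective (QuotientGroup.mk' N) := QuotientGroup.mk'_surjective N
    have hlt : Nat.card (G ⧸ N) ≤ n := by
      have h2 := Subgroup.card_eq_card_quotient_mul_card_subgroup N
      have h3 : 1 < Nat.card N := (Subgroup.one_lt_card_iff_ne_bot N).2 hNne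
      have h4 : 0 < Nat.card (G ⧸ N) := Nat.card_pos
      nlinarith
    have hq := ih (G ⧸ N) hlt
      (by rw [commutator_def, ← Subgroup.map_top_of_surjective _ hsurj,
            ← Subgroup.map_commutator, ← commutator_def, hperf])
      (by
        rw [eq_top_iff, ← Subgroup.map_top_of_surjective _ hsurj, ← hgen, MonoidHom.map_closure]
        refine Subgroup.closure_mono ?_
        rintro _ ⟨g, hg, rfl⟩
        show (QuotientGroup.mk' N g) ^ p = 1
        rw [← map_pow, hg, map_one])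
      (CfsgLib.PLocal.isPSolvable_quotient hps N)
    have hNtop : N = ⊤ := eq_top_iff.2 fun g _ =>
      (QuotientGroup.eq_one_iff g).1 (hq.elim _ _)
    rcases hN' with hNp | hNc
    · have hGp : IsPGroup p G := fun g => by
        obtain ⟨k, hk⟩ := hNp ⟨g, hNtop ▸ Subgroup.mem_top g⟩
        exact ⟨k, congrArg Subtype.val hk⟩
      have := hGp.isNilpotent
      have h5 : Group.IsSolvable G := inferInstance
      exact absurd hperf (ne_of_lt (Group.IsSolvable.commutator_lt_top_of_nontrivial G))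
    · have hbot : Subgroup.closure {g : G | g ^ p = 1} ≤ (⊥ : Subgroup G) := by
        rw [Subgroup.closure_le]
        intro g hg
        rw [SetLike.mem_coe, Subgroup.mem_bot, ← orderOf_eq_one_iff]
        rw [hNtop, Subgroup.card_top] at hNc
        exact Nat.dvd_one.1 (hNc ▸ Nat.dvd_gcd (orderOf_dvd_natCard g)
          (orderOf_dvd_of_pow_eq_one hg))
      rw [hgen] at hbot
      exact hcon ⟨fun a b => by
        rw [Subgroup.mem_bot.1 (hbot (Subgroup.mem_top a)), Subgroup.mem_bot.1 (hbot (Subgroup.mem_top b))]⟩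

theorem InvolvesSL2.eq_three {H : Type u} [Group H] [Finite H] (hp : p ≠ 2)
    (hps : Cfsg.IsPSolvable p H) (h : InvolvesSL2 p H) : p = 3 := by
  by_contra h3
  have h5 : 5 ≤ p := by
    have h2 := (Fact.out : p.Prime).two_le
    by_contra h5
    have h4 : p = 4 := by omega
    subst h4
    exact absurd (Fact.out : Nat.Prime 4) (by decide)
  obtain ⟨K₀, f, hf⟩ := h
  have hsl := CfsgLib.PLocal.isPSolvable_of_surjective f hf
    (CfsgLib.PLocal.isPSolvable_subgroup hps K₀)
  have hgen : Subgroup.closure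
      {g : Matrix.SpecialLinearGroup (Fin 2) (ZMod p) | g ^ p = 1} = ⊤ :=
    SL2.zmod_eq_top (Subgroup.subset_closure (SL2.uSL_pow_char p 1))
      (Subgroup.subset_closure (SL2.pow_char_eq_one p
        (by simp [SL2.tr, lSL_coe]; norm_num)))
  have hsub := subsingleton_of_perfect_pSolvable _ _ le_rfl
    (CfsgLib.Classical.SL_fin_commutator_eq_top 2 le_rfl
      (fun _ => by rw [Nat.card_zmod]; omega)) hgen hsl
  have h1 : uSL (1 : ZMod p) = 1 := hsub.elim _ _
  rw [← SL2.uSL_zero] at h1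
  exact one_ne_zero (SL2.uSL_injective h1)

end CfsgLib.OddOrder
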