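import Cfsg.Agent.Lib.OddOrder.QuadraticGroup
import Cfsg.Agent.Lib.OddOrder.SL2Sections
import Cfsg.Agent.Lib.Involutions.BaerSuzuki
import Cfsg.Agent.Lib.PLocal.Quadratic
import Cfsg.Agent.Lib.Base.Cores

/-!
A quadratic element outside `O_p` gives a section isomorphic to `SL₂(p)`.
-/

set_option autoImplicit false

namespace CfsgLib.OddOrder

open Matrix
open scoped commutatorElement

/-- Baer: an element lies in `O_p` if it generates a `p`-group with each of its conjugates. -/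
theorem mem_pCore_of_pairs {X : Type*} [Group X] [Finite X] {p : ℕ} [Fact p.Prime] (x : X)
    (h : ∀ g : X, IsPGroup p (Subgroup.closure ({x, g * x * g⁻¹} : Set X))) :
    x ∈ Cfsg.pCore p X := by
  obtain ⟨N, hN, hNp, hle⟩ := CfsgLib.Involutions.baerSuzuki (Subgroup.zpowers x) (p := p) (by
    intro g
    rw [MonoidHom.map_zpowers, Subgroup.zpowers_eq_closure, Subgroup.zpowers_eq_closure,
      ← Subgroup.closure_union, Set.singleton_union]
    exact h g)
  have : N.Normal := hN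
  exact CfsgLib.Base.le_pCore hNp (hle (Subgroup.mem_zpowers x))

variable {G : Type*} [Group G] [Finite G]

theorem quad_conj {V : Subgroup G} {a g : G} (hg : g ∈ Subgroup.normalizer (V : Set G))
    (hq : ⁅⁅V, Subgroup.zpowers a⁆, Subgroup.zpowers a⁆ = ⊥) :
    ⁅⁅V, Subgroup.zpowers (g * a * g⁻¹)⁆, Subgroup.zpowers (g * a * g⁻¹)⁆ = ⊥ := by
  have hV : V.map (MulAut.conj g).toMonoidHom = V := Subgroup.mem_normalizer_iff_map_conj_eq.1 hg
  have h : Subgroup.zpowers (g * a * g⁻¹) = (Subgroup.zpowers a).map (MulAut.conj g).toMonoidHom := by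
    rw [MonoidHom.map_zpowers]; rfl
  rw [h, ← congrArg (fun W : Subgroup G => ⁅⁅W, (Subgroup.zpowers a).map (MulAut.conj g).toMonoidHom⁆,
      (Subgroup.zpowers a).map (MulAut.conj g).toMonoidHom⁆) hV]
  simp only [← Subgroup.map_commutator, hq, Subgroup.map_bot]

/-- A faithful quadratic pair generates a `p`-group or involves `SL₂(p)`. -/
theorem isPGroup_or_involves {p : ℕ} [Fact p.Prime] (hp : p ≠ 2) {V H : Subgroup G}
    (hV : Cfsg.IsElementaryAbelian p V) (hHV : H ≤ Subgroup.normalizer (V : Set G))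
    (hf : H ⊓ Subgroup.centralizer (V : Set G) = ⊥) {a b : G} (ha : a ∈ H) (hb : b ∈ H)
    (hqa : ⁅⁅V, Subgroup.zpowers a⁆, Subgroup.zpowers a⁆ = ⊥)
    (hqb : ⁅⁅V, Subgroup.zpowers b⁆, Subgroup.zpowers b⁆ = ⊥) :
    IsPGroup p (Subgroup.closure ({a, b} : Set G)) ∨
      InvolvesSL2 p (Subgroup.closure ({a, b} : Set G)) := by
  have hle : Subgroup.closure ({a, b} : Set G) ≤ H := by
    rw [Subgroup.closure_le]
    rintro x (rfl | rfl) <;> assumption
  rcases pair_dichotomy hp V hV _ (hle.trans hHV) a b rfl hqa hqb with h | h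
  · refine Or.inl fun x => ?_
    obtain ⟨k, hk⟩ := h x.1 x.2
    refine ⟨k, Subtype.ext (Subgroup.mem_bot.1 (hf ▸ ⟨?_, hk⟩))⟩
    exact pow_mem (hle x.2) _
  · exact Or.inr h

/-- A quadratic element outside `O_p` lies in a subgroup involving `SL₂(p)`. -/
theorem exists_involves {p : ℕ} [Fact p.Prime] (hp : p ≠ 2) {V H : Subgroup G}
    (hV : Cfsg.IsElementaryAbelian p V) (hHV : H ≤ Subgroup.normalizer (V : Set G))
    (hf : H ⊓ Subgroup.centralizer (V : Set G) = ⊥) {a : G} (ha : a ∈ H)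
    (hq : ⁅⁅V, Subgroup.zpowers a⁆, Subgroup.zpowers a⁆ = ⊥)
    (hna : a ∉ (Cfsg.pCore p H).map H.subtype) : InvolvesSL2 p H := by
  by_contra hno
  refine hna ⟨⟨a, ha⟩, mem_pCore_of_pairs _ (fun g => ?_), rfl⟩
  have hb : (g : G) * a * (g : G)⁻¹ ∈ H := mul_mem (mul_mem g.2 ha) (inv_mem g.2)
  have hmap : (Subgroup.closure ({(⟨a, ha⟩ : H), g * ⟨a, ha⟩ * g⁻¹} : Set H)).map H.subtype =
      Subgroup.closure ({a, (g : G) * a * (g : G)⁻¹} : Set G) := by
    rw [MonoidHom.map_closure, Set.image_pair]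
    rfl
  rcases isPGroup_or_involves hp hV hHV hf ha hb hq (quad_conj (hHV g.2) hq) with h | h
  · rw [← hmap] at h
    exact IsPGroup.of_equiv h (Subgroup.equivMapOfInjective _ _ H.subtype_injective).symm
  · rw [← hmap] at h
    obtain ⟨K₀, f, hf'⟩ := h
    refine absurd (InvolvesSL2.of_subgroup (S := Subgroup.closure
      ({(⟨a, ha⟩ : H), g * ⟨a, ha⟩ * g⁻¹} : Set H)) ?_) hno
    set e := Subgroup.equivMapOfInjective (Subgroup.closure
      ({(⟨a, ha⟩ : H), g * ⟨a, ha⟩ * g⁻¹} : Set H)) H.subtype H.subtype_injective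
    exact ⟨K₀.comap e.toMonoidHom, f.comp
      ((e.toMonoidHom.comp (K₀.comap e.toMonoidHom).subtype).codRestrict K₀ fun x => x.2),
      fun y => by
        obtain ⟨k, hk⟩ := hf' y
        refine ⟨⟨e.symm k, by simp⟩, ?_⟩
        rw [← hk, MonoidHom.comp_apply]
        congr 1
        exact Subtype.ext (e.apply_symm_apply _)⟩

/-- `InvolvesSL2` in the form of a section of a subgroup. -/
theorem InvolvesSL2.section_of_subgroup {p : ℕ} {H : Subgroup G} (h : InvolvesSL2 p H) :
    ∃ (K L : Subgroup G) (hL : (L.subgroupOf K).Normal), K ≤ H ∧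
      Nonempty ((K ⧸ L.subgroupOf K) ≃* Matrix.SpecialLinearGroup (Fin 2) (ZMod p)) := by
  obtain ⟨K₀, f, hf⟩ := h
  set e := K₀.equivMapOfInjective H.subtype H.subtype_injective
  set F : (K₀.map H.subtype) →* Matrix.SpecialLinearGroup (Fin 2) (ZMod p) :=
    f.comp e.symm.toMonoidHom with hF
  have heq : (F.ker.map (K₀.map H.subtype).subtype).subgroupOf (K₀.map H.subtype) = F.ker :=
    Subgroup.comap_map_eq_self_of_injective (Subgroup.subtype_injective _) _
  have hn : ((F.ker.map (K₀.map H.subtype).subtype).subgroupOf (K₀.map H.subtype)).Normal :=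
    by rw [heq]; infer_instance
  exact ⟨_, F.ker.map (K₀.map H.subtype).subtype, hn, Subgroup.map_subtype_le K₀,
    ⟨(QuotientGroup.quotientMulEquivOfEq heq).trans
      (QuotientGroup.quotientKerEquivOfSurjective F (hf.comp (MulEquiv.surjective _)))⟩⟩

end CfsgLib.OddOrder
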