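import Cfsg.Agent.Lib.OddOrder.Dickson

/-!
A group generated by two quadratically acting elements acts unipotently or involves `SL₂(p)`.
-/

set_option autoImplicit false

namespace CfsgLib.OddOrder

open Matrix
open CfsgLib.Classical (uSL lSL uSL_coe lSL_coe)

/-- `H` has a subgroup mapping onto `SL₂(p)`. -/
def InvolvesSL2 (p : ℕ) (H : Type*) [Group H] : Prop :=
  ∃ (K₀ : Subgroup H) (f : K₀ →* Matrix.SpecialLinearGroup (Fin 2) (ZMod p)), Function.Surjective f

theorem involvesSL2_of_hom {p : ℕ} {H M : Type*} [Group H] [Group M] (σ : H →* M)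
    (φ : Matrix.SpecialLinearGroup (Fin 2) (ZMod p) →* M) (hinj : Function.Injective φ)
    (hle : φ.range ≤ σ.range) : InvolvesSL2 p H := by
  refine ⟨φ.range.comap σ, (MonoidHom.ofInjective hinj).symm.toMonoidHom.comp
    ((σ.comp (φ.range.comap σ).subtype).codRestrict φ.range (fun g => g.2)), ?_⟩
  intro a
  obtain ⟨h, hh⟩ := hle ⟨a, rfl⟩
  refine ⟨⟨h, by show σ h ∈ φ.range; rw [hh]; exact ⟨a, rfl⟩⟩, ?_⟩
  apply (MonoidHom.ofInjective hinj).injective
  apply Subtype.ext
  simp [MonoidHom.ofInjective_apply]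
  exact hh

theorem InvolvesSL2.of_subgroup {p : ℕ} {H : Type*} [Group H] {S : Subgroup H}
    (h : InvolvesSL2 p S) : InvolvesSL2 p H := by
  obtain ⟨K₀, f, hf⟩ := h
  refine ⟨K₀.map S.subtype,
    f.comp (K₀.equivMapOfInjective S.subtype S.subtype_injective).symm.toMonoidHom, ?_⟩
  exact hf.comp (MulEquiv.surjective _)

section Linear

variable {K : Type*} [Field K] {V : Type*} [AddCommGroup V] [Module K V]

theorem fixed_or_plane (a b : Module.End K V) (ha : a * a = 0) (hb : b * b = 0) {w : V}
    (hw : w ≠ 0) {l : K} (hl : (a * b + b * a) w = l • w) :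
    (∃ v : V, v ≠ 0 ∧ a v = 0 ∧ b v = 0) ∨
      (l ≠ 0 ∧ ∃ φ : (Fin 2 → K) →ₗ[K] V, Function.Injective φ ∧
        (∀ v, (1 + a) (φ v) = φ ((uSL (1 : K)).1.mulVec v)) ∧
        (∀ v, (1 + b) (φ v) = φ ((lSL l).1.mulVec v))) := by
  have haa : ∀ x, a (a x) = 0 := fun x => LinearMap.congr_fun ha x
  have hbb : ∀ x, b (b x) = 0 := fun x => LinearMap.congr_fun hb x
  obtain ⟨v, hv0, hav, hcv⟩ : ∃ v : V, v ≠ 0 ∧ a v = 0 ∧ a (b v) + b (a v) = l • v := by
    have hl' : a (b w) + b (a w) = l • w := hl
    by_cases h : a w = 0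
    · exact ⟨w, hw, h, hl'⟩
    · refine ⟨a w, h, haa w, ?_⟩
      have h2 := congrArg a hl'
      rw [map_add, haa, zero_add, map_smul] at h2
      rw [haa, map_zero, add_zero, h2]
  rw [hav, map_zero, add_zero] at hcv
  by_cases hbv : b v = 0
  · exact Or.inl ⟨v, hv0, hav, hbv⟩
  by_cases hl0 : l = 0
  · exact Or.inl ⟨b v, hbv, by rw [hcv, hl0, zero_smul], hbb v⟩
  refine Or.inr ⟨hl0, ((LinearMap.proj 0).smulRight (l • v) +
    (LinearMap.proj 1).smulRight (b v) : (Fin 2 → K) →ₗ[K] V), ?_, ?_, ?_⟩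
  · rw [injective_iff_map_eq_zero]
    intro x hx
    simp only [LinearMap.add_apply, LinearMap.smulRight_apply, LinearMap.proj_apply] at hx
    have h1 := congrArg a hx
    simp only [map_add, map_smul, hav, smul_zero, zero_add, hcv, map_zero] at h1
    rw [smul_smul, smul_eq_zero, or_iff_left hv0, mul_eq_zero, or_iff_left hl0] at h1
    rw [h1, zero_smul, add_zero, smul_smul, smul_eq_zero, or_iff_left hv0, mul_eq_zero,
      or_iff_left hl0] at hx
    funext i
    fin_cases i
    · exact hx
    · exact h1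
  · intro x
    simp only [LinearMap.add_apply, LinearMap.smulRight_apply, LinearMap.proj_apply,
      Module.End.one_apply, map_add, map_smul, hav, smul_zero, zero_add, hcv, uSL_coe,
      Matrix.mulVec, dotProduct, Fin.sum_univ_two]
    simp [add_smul, smul_smul, add_mul]
    abel
  · intro x
    simp only [LinearMap.add_apply, LinearMap.smulRight_apply, LinearMap.proj_apply,
      Module.End.one_apply, map_add, map_smul, hbb, smul_zero, add_zero, lSL_coe,
      Matrix.mulVec, dotProduct, Fin.sum_univ_two]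
    simp [add_smul, smul_smul, mul_comm l]
    abel

theorem exists_plane_hom {H : Type*} [Group H] (ρ : H →* Module.End K V) {x y : H}
    (hgen : Subgroup.closure ({x, y} : Set H) = ⊤) (φ : (Fin 2 → K) →ₗ[K] V)
    (hφ : Function.Injective φ) (X Y : Matrix.SpecialLinearGroup (Fin 2) K)
    (hX : ∀ v, ρ x (φ v) = φ (X.1.mulVec v)) (hY : ∀ v, ρ y (φ v) = φ (Y.1.mulVec v)) :
    ∃ σ : H →* Matrix.SpecialLinearGroup (Fin 2) K, σ x = X ∧ σ y = Y := by
  have hex : ∀ h : H, ∃ M : Matrix.SpecialLinearGroup (Fin 2) K,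
      ∀ v, ρ h (φ v) = φ (M.1.mulVec v) := by
    intro h
    have hh : h ∈ Subgroup.closure ({x, y} : Set H) := hgen ▸ Subgroup.mem_top h
    induction hh using Subgroup.closure_induction with
    | mem z hz =>
      rcases hz with rfl | rfl
      · exact ⟨X, hX⟩
      · exact ⟨Y, hY⟩
    | one => exact ⟨1, fun v => by simp⟩
    | mul g h _ _ hg hh =>
      obtain ⟨M, hM⟩ := hg
      obtain ⟨N, hN⟩ := hh
      refine ⟨M * N, fun v => ?_⟩
      rw [map_mul, Module.End.mul_apply, hN, hM, Matrix.SpecialLinearGroup.coe_mul,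
        Matrix.mulVec_mulVec]
    | inv g _ hg =>
      obtain ⟨M, hM⟩ := hg
      refine ⟨M⁻¹, fun v => ?_⟩
      have h1 : φ v = φ (M.1.mulVec ((M⁻¹).1.mulVec v)) := by
        rw [Matrix.mulVec_mulVec, ← Matrix.SpecialLinearGroup.coe_mul, mul_inv_cancel,
          Matrix.SpecialLinearGroup.coe_one, Matrix.one_mulVec]
      rw [h1, ← hM, ← Module.End.mul_apply, ← map_mul, inv_mul_cancel, map_one,
        Module.End.one_apply]
  choose σ hσ using hex
  have huniq : ∀ (h : H) (M : Matrix.SpecialLinearGroup (Fin 2) K),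
      (∀ v, ρ h (φ v) = φ (M.1.mulVec v)) → σ h = M := by
    intro h M hM
    apply Subtype.ext
    apply Matrix.toLin'.injective
    refine LinearMap.ext fun v => hφ ?_
    rw [Matrix.toLin'_apply, Matrix.toLin'_apply, ← hσ, hM]
  refine ⟨MonoidHom.mk' σ fun g h => huniq _ _ fun v => ?_, huniq x X hX, huniq y Y hY⟩
  rw [map_mul, Module.End.mul_apply, hσ, hσ, Matrix.SpecialLinearGroup.coe_mul,
    Matrix.mulVec_mulVec]

end Linear

/-- Two quadratic elements: everything acts unipotently, or there is a `2`-dimensional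
representation sending them to opposite transvections. -/
theorem unipotent_or_plane {K : Type*} [Field K] [IsAlgClosed K] {H : Type*} [Group H] {x y : H}
    (hgen : Subgroup.closure ({x, y} : Set H) = ⊤) {V : Type*} [AddCommGroup V] [Module K V]
    [FiniteDimensional K V] (ρ : H →* Module.End K V)
    (hx : (ρ x - 1) * (ρ x - 1) = 0) (hy : (ρ y - 1) * (ρ y - 1) = 0) :
    (∀ h, ∀ v, ((ρ h - 1) ^ Module.finrank K V) v = 0) ∨
      ∃ (l : K) (σ : H →* Matrix.SpecialLinearGroup (Fin 2) K), l ≠ 0 ∧ σ x = uSL 1 ∧ σ y = lSL l := by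
  generalize hn : Module.finrank K V = n
  induction n using Nat.strong_induction_on generalizing V with
  | h n ih =>
  rcases subsingleton_or_nontrivial V with hV | hV
  · exact Or.inl fun h v => Subsingleton.elim _ _
  obtain ⟨l, hl⟩ := Module.End.exists_eigenvalue ((ρ x - 1) * (ρ y - 1) + (ρ y - 1) * (ρ x - 1))
  obtain ⟨w, hw⟩ := hl.exists_hasEigenvector
  rcases fixed_or_plane _ _ hx hy hw.2 (Module.End.mem_eigenspace_iff.1 hw.1) with
    ⟨v, hv0, hxv, hyv⟩ | ⟨hl0, φ, hφ, hX, hY⟩
  · have hfix : ∀ h : H, ρ h v = v := by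
      intro h
      have hh : h ∈ Subgroup.closure ({x, y} : Set H) := hgen ▸ Subgroup.mem_top h
      induction hh using Subgroup.closure_induction with
      | mem z hz =>
        rcases hz with rfl | rfl
        · simpa [sub_eq_zero] using hxv
        · simpa [sub_eq_zero] using hyv
      | one => simp
      | mul g h _ _ hg hh => rw [map_mul, Module.End.mul_apply, hh, hg]
      | inv g _ hg =>
        nth_rewrite 1 [← hg]
        rw [← Module.End.mul_apply, ← map_mul, inv_mul_cancel, map_one, Module.End.one_apply]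
    set W : Submodule K V := K ∙ v with hW
    have hinv : ∀ h : H, W ≤ W.comap (ρ h) := fun h => by
      rw [hW, Submodule.span_singleton_le_iff_mem, Submodule.mem_comap, hfix]
      exact Submodule.mem_span_singleton_self v
    set ρ' : H →* Module.End K (V ⧸ W) :=
      { toFun := fun h => Submodule.mapQ W W (ρ h) (hinv h)
        map_one' := by
          refine Submodule.linearMap_qext _ (LinearMap.ext fun u => ?_)
          simp
        map_mul' := fun g h => by
          refine Submodule.linearMap_qext _ (LinearMap.ext fun u => ?_)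
          simp } with hρ'
    have hpow : ∀ (h : H) (k : ℕ) (u : V),
        ((ρ' h - 1) ^ k) (Submodule.Quotient.mk u) = Submodule.Quotient.mk (((ρ h - 1) ^ k) u) := by
      intro h k
      induction k with
      | zero => intro u; simp
      | succ k ihk =>
        intro u
        rw [pow_succ, pow_succ, Module.End.mul_apply, Module.End.mul_apply,
          show (ρ' h - 1) (Submodule.Quotient.mk u) = Submodule.Quotient.mk ((ρ h - 1) u) from by
            simp [hρ'], ihk]
    have hsq : ∀ z, (ρ z - 1) * (ρ z - 1) = 0 → (ρ' z - 1) * (ρ' z - 1) = 0 := by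
      intro z hz
      refine Submodule.linearMap_qext _ (LinearMap.ext fun u => ?_)
      rw [← pow_two] at hz ⊢
      show (((ρ' z - 1) ^ 2 : Module.End K (V ⧸ W))) (Submodule.Quotient.mk u) = 0
      rw [hpow, hz, LinearMap.zero_apply, Submodule.Quotient.mk_zero]
    have hW1 : Module.finrank K W = 1 := finrank_span_singleton hv0
    have hdim := Submodule.finrank_quotient_add_finrank W
    rw [hW1, hn] at hdim
    rcases ih (Module.finrank K (V ⧸ W)) (by omega) ρ' (hsq x hx) (hsq y hy) rfl with h1 | h1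
    · refine Or.inl fun h u => ?_
      have h2 := h1 h (Submodule.Quotient.mk u)
      rw [hpow, Submodule.Quotient.mk_eq_zero, hW, Submodule.mem_span_singleton] at h2
      obtain ⟨c, hc⟩ := h2
      rw [← hdim, pow_succ', Module.End.mul_apply, ← hc, map_smul]
      simp [hfix]
    · exact Or.inr h1
  · obtain ⟨σ, hσx, hσy⟩ := exists_plane_hom ρ hgen φ hφ (uSL 1) (lSL l)
      (fun v => by simpa using hX v) (fun v => by simpa using hY v)
    exact Or.inr ⟨l, σ, hl0, hσx, hσy⟩

theorem linear_dichotomy {K : Type*} [Field K] [IsAlgClosed K] (p : ℕ) [Fact p.Prime] [CharP K p]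
    (hp : p ≠ 2) {H : Type*} [Group H] [Finite H] {x y : H}
    (hgen : Subgroup.closure ({x, y} : Set H) = ⊤) {V : Type*} [AddCommGroup V] [Module K V]
    [FiniteDimensional K V] (ρ : H →* Module.End K V)
    (hx : (ρ x - 1) * (ρ x - 1) = 0) (hy : (ρ y - 1) * (ρ y - 1) = 0) :
    (∀ h, ∃ k : ℕ, ρ (h ^ p ^ k) = 1) ∨ InvolvesSL2 p H := by
  rcases unipotent_or_plane hgen ρ hx hy with h1 | ⟨l, σ, hl0, hσx, hσy⟩
  · refine Or.inl fun h => ?_
    rcases subsingleton_or_nontrivial V with hV | hV
    · exact ⟨0, LinearMap.ext fun v => Subsingleton.elim _ _⟩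
    have : CharP (Module.End K V) p :=
      charP_of_injective_algebraMap (FaithfulSMul.algebraMap_injective K (Module.End K V)) p
    obtain ⟨j, hj⟩ := Nat.exists_eq_add_of_le
      (Nat.lt_pow_self (n := Module.finrank K V) (Fact.out : p.Prime).one_lt).le
    refine ⟨Module.finrank K V, ?_⟩
    have h0 : (ρ h - 1) ^ p ^ Module.finrank K V = 0 := by
      rw [hj, pow_add, (LinearMap.ext (h1 h) : (ρ h - 1) ^ Module.finrank K V = 0), zero_mul]
    rw [sub_pow_char_pow_of_commute (R := Module.End K V) (p := p) _ (Commute.one_right (ρ h)), one_pow,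
      sub_eq_zero] at h0
    rw [map_pow, h0]
  · classical
    have : Finite σ.range := Finite.of_surjective _ σ.rangeRestrict_surjective
    obtain ⟨φ, hinj, hle⟩ :=
      SL2.exists_sl2 (p := p) hp σ.range ⟨x, hσx⟩ hl0 ⟨y, hσy⟩
    exact Or.inr (involvesSL2_of_hom σ φ hinj hle)

end CfsgLib.OddOrder
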