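import Cfsg.Agent.Lib.OddOrder.DicksonCounting

/-!
Dickson's theorem: a finite subgroup of `SL₂(K)`, `K` of odd characteristic `p`, containing
`(1 1; 0 1)` and `(1 0; t 1)` with `t ≠ 0` contains a copy of `SL₂(p)`.
-/

set_option autoImplicit false

namespace CfsgLib.OddOrder.SL2

open Matrix MulAction
open scoped OnePoint
open CfsgLib.Classical (uSL lSL uSL_coe lSL_coe)

variable {K : Type*} [Field K]

theorem lSL_add (a b : K) : lSL (a + b) = lSL a * lSL b :=
  Matrix.SpecialLinearGroup.transvection_add _ _ _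

theorem lSL_injective : Function.Injective (lSL (F := K)) := fun a b h => by
  have h1 := congrArg (fun g : Matrix.SpecialLinearGroup (Fin 2) K => g.1 1 0) h
  simpa [lSL_coe] using h1

theorem lSL_natCast (n : ℕ) (a : K) : lSL ((n : K) * a) = lSL a ^ n := by
  induction n with
  | zero => rw [Nat.cast_zero, zero_mul, pow_zero]
            exact Matrix.SpecialLinearGroup.transvection_coeff_zero _
  | succ n ih => rw [pow_succ, ← ih, ← lSL_add, Nat.cast_succ, add_mul, one_mul]

theorem uSL_natCast (n : ℕ) (a : K) : uSL ((n : K) * a) = uSL a ^ n := by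
  induction n with
  | zero => rw [Nat.cast_zero, zero_mul, pow_zero, uSL_zero]
  | succ n ih => rw [pow_succ, ← ih, ← uSL_add, Nat.cast_succ, add_mul, one_mul]

/-- A subgroup of `SL₂(p)` containing both standard transvections is everything. -/
theorem zmod_eq_top {p : ℕ} [Fact p.Prime]
    {H : Subgroup (Matrix.SpecialLinearGroup (Fin 2) (ZMod p))} (hu : uSL 1 ∈ H)
    (hl : lSL 1 ∈ H) : H = ⊤ := by
  refine CfsgLib.Classical.eq_top_of_transvection_mem H fun i j hij c => ?_
  fin_cases i <;> fin_cases j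
  · exact absurd rfl hij
  · show uSL c ∈ H
    rw [← ZMod.natCast_zmod_val c, ← mul_one ((c.val : ZMod p)), uSL_natCast]
    exact pow_mem hu _
  · show lSL c ∈ H
    rw [← ZMod.natCast_zmod_val c, ← mul_one ((c.val : ZMod p)), lSL_natCast]
    exact pow_mem hl _
  · exact absurd rfl hij

theorem map_uSL {F : Type*} [Field F] (f : F →+* K) (a : F) :
    Matrix.SpecialLinearGroup.map (n := Fin 2) f (uSL a) = uSL (f a) := by
  apply Subtype.ext
  ext i j
  fin_cases i <;> fin_cases j <;> simp [uSL_coe]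

theorem map_lSL {F : Type*} [Field F] (f : F →+* K) (a : F) :
    Matrix.SpecialLinearGroup.map (n := Fin 2) f (lSL a) = lSL (f a) := by
  apply Subtype.ext
  ext i j
  fin_cases i <;> fin_cases j <;> simp [lSL_coe]

/-- Two transvections with lower parameter `±1` give a copy of `SL₂(p)`. -/
theorem exists_sl2_of_pair (p : ℕ) [Fact p.Prime] [CharP K p]
    (L : Subgroup (Matrix.SpecialLinearGroup (Fin 2) K)) (hu : uSL 1 ∈ L) (x0 : K) {s : K}
    (hs : s = 1 ∨ s = -1) (hl : uSL x0 * lSL s * (uSL x0)⁻¹ ∈ L) :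
    ∃ φ : Matrix.SpecialLinearGroup (Fin 2) (ZMod p) →* Matrix.SpecialLinearGroup (Fin 2) K,
      Function.Injective φ ∧ φ.range ≤ L := by
  set f := ZMod.castHom (dvd_refl p) K with hf
  set φ := (MulAut.conj (uSL x0)).toMonoidHom.comp (Matrix.SpecialLinearGroup.map (n := Fin 2) f)
  refine ⟨φ, fun a b h => ?_, ?_⟩
  · have h1 := (MulAut.conj (uSL x0)).injective h
    apply Subtype.ext
    ext i j
    exact f.injective (congrFun (congrFun (congrArg Subtype.val h1) i) j)
  · have hu' : uSL 1 ∈ L.comap φ := by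
      show uSL x0 * Matrix.SpecialLinearGroup.map f (uSL 1) * (uSL x0)⁻¹ ∈ L
      rw [map_uSL, map_one, ← uSL_neg, ← uSL_add, ← uSL_add,
        show x0 + 1 + -x0 = 1 from by abel]
      exact hu
    have hl' : lSL 1 ∈ L.comap φ := by
      show uSL x0 * Matrix.SpecialLinearGroup.map f (lSL 1) * (uSL x0)⁻¹ ∈ L
      rw [map_lSL, map_one]
      rcases hs with rfl | rfl
      · exact hl
      · have h := inv_mem hl
        rwa [_root_.mul_inv_rev, _root_.mul_inv_rev, inv_inv, ← mul_assoc,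
          show (lSL (-1 : K))⁻¹ = lSL 1 from inv_eq_of_mul_eq_one_right (by
            rw [← lSL_add, neg_add_cancel]
            exact Matrix.SpecialLinearGroup.transvection_coeff_zero _)] at h
    rintro _ ⟨a, rfl⟩
    have := zmod_eq_top hu' hl'
    exact (this ▸ Subgroup.mem_top a : a ∈ L.comap φ)

variable [DecidableEq K] [IsAlgClosed K] {p : ℕ} [Fact p.Prime] [CharP K p]

/-- The field trick: if the orbit of `∞` has `q + 1` points then `L` contains `(1 0; 1 1)`. -/
theorem lSL_one_mem (hp : p ≠ 2) (L : Subgroup (Matrix.SpecialLinearGroup (Fin 2) K)) [Finite L]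
    (hu : uSL 1 ∈ L) {t : K} (ht : t ≠ 0) (hw : lSL t ∈ L)
    (hcard : Nat.card (upperGroup L) = (poleSet L).ncard) : lSL 1 ∈ L := by
  have h2 : (2 : K) ≠ 0 := two_ne_zero_of_char p hp
  set E := upperGroup L with hE
  have hEfin : Finite E := Finite.of_injective
    (fun b : E => (⟨uSL b.1, b.2⟩ : L))
    (fun a b h => Subtype.ext (uSL_injective (congrArg Subtype.val h)))
  have hXfin : (poleSet L).Finite :=
    Set.Finite.preimage (OnePoint.coe_injective.injOn)
      (Set.finite_range (fun g : L => g • (∞ : OnePoint K)))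
  -- `0` lies in the orbit of `∞`
  obtain ⟨h, hh⟩ := parabolic_fix_mem_orbit hp L hu (g := ⟨lSL t, hw⟩) (lSL_parabolic ht)
    (x := ((0 : K) : OnePoint K)) ((smul_some_eq_self_iff _ _).2 (by simp [lSL_coe]))
  have h0 : (0 : K) ∈ poleSet L := ⟨h, hh.symm⟩
  have hsub : (E : Set K) ⊆ poleSet L := by
    intro b hb
    obtain ⟨k, hk⟩ := h0
    refine ⟨(⟨uSL b, hb⟩ : L) * k, ?_⟩
    show ((⟨uSL b, hb⟩ : L) * k) • (∞ : OnePoint K) = _
    rw [mul_smul, show k • (∞ : OnePoint K) = ((0 : K) : OnePoint K) from hk]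
    show uSL b • ((0 : K) : OnePoint K) = _
    simp [smul_some, uSL_coe]
  have hXE : (E : Set K) = poleSet L :=
    Set.eq_of_subset_of_ncard_le hsub (by rw [← hcard, ← Nat.card_coe_set_eq]; rfl) hXfin
  have hstable : ∀ y ∈ E, ∀ g : L, ∀ z : K, g.1 • (y : OnePoint K) = (z : OnePoint K) → z ∈ E := by
    intro y hy g z hz
    have hy' : y ∈ poleSet L := hXE ▸ hy
    obtain ⟨k, hk⟩ := hy'
    have : z ∈ poleSet L := ⟨g * k, by
      show (g * k) • (∞ : OnePoint K) = _
      rw [mul_smul, show k • (∞ : OnePoint K) = (y : OnePoint K) from hk]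
      exact hz⟩
    rw [← hXE] at this
    exact this
  have h1 : (1 : K) ∈ E := hu
  have hinvt : t⁻¹ ∈ E := by
    have : t⁻¹ ∈ poleSet L := ⟨⟨lSL t, hw⟩, by
      show lSL t • (∞ : OnePoint K) = _
      simp [smul_infty, lSL_coe, ht]⟩
    rw [← hXE] at this
    exact this
  -- `F = tE` is a field
  set F : AddSubgroup K := E.map (AddMonoidHom.mulLeft t) with hF
  have hmemF : ∀ y, y ∈ F ↔ t⁻¹ * y ∈ E := by
    intro y
    rw [hF, AddSubgroup.mem_map]
    constructor
    · rintro ⟨b, hb, rfl⟩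
      simpa [← mul_assoc, inv_mul_cancel₀ ht] using hb
    · intro hy
      exact ⟨_, hy, by simp [← mul_assoc, mul_inv_cancel₀ ht]⟩
  have hFt : t ∈ F := (hmemF t).2 (by rw [inv_mul_cancel₀ ht]; exact h1)
  have hF1 : (1 : K) ∈ F := (hmemF 1).2 (by rw [mul_one]; exact hinvt)
  have hmob : ∀ y ∈ F, y + 1 ≠ 0 → y / (y + 1) ∈ F := by
    intro y hy hy1
    refine (hmemF _).2 (hstable _ ((hmemF y).1 hy) ⟨lSL t, hw⟩ _ ?_)
    show lSL t • _ = _
    have hty : t * (t⁻¹ * y) = y := by rw [← mul_assoc, mul_inv_cancel₀ ht, one_mul]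
    rw [smul_some]
    simp [lSL_coe, hty, hy1, mul_div_assoc]
  have hinv : ∀ y ∈ F, y⁻¹ ∈ F := by
    intro y hy
    rcases eq_or_ne y 0 with rfl | hy0
    · simpa using F.zero_mem
    have h3 := hmob (y - 1) (sub_mem hy hF1) (by rwa [sub_add_cancel])
    rw [sub_add_cancel] at h3
    have h4 := sub_mem hF1 h3
    rwa [show 1 - (y - 1) / y = y⁻¹ by field_simp; ring] at h4
  have hsq : ∀ y ∈ F, y * y ∈ F := by
    intro y hy
    rcases eq_or_ne y 0 with rfl | hy0
    · simpa using F.zero_mem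
    rcases eq_or_ne (y + 1) 0 with hy1 | hy1
    · rw [eq_neg_of_add_eq_zero_left hy1, neg_mul_neg, one_mul]; exact hF1
    have h3 := hinv _ (sub_mem (hinv y hy) (hinv _ (add_mem hy hF1)))
    have h4 := sub_mem h3 hy
    rwa [show (y⁻¹ - (y + 1)⁻¹)⁻¹ - y = y * y by
      rw [inv_sub_inv hy0 hy1, add_sub_cancel_left, inv_div, div_one]; ring] at h4
  have hmulF : ∀ a ∈ F, ∀ b ∈ F, a * b ∈ F := by
    intro a ha b hb
    have h3 := sub_mem (sub_mem (hsq _ (add_mem ha hb)) (hsq a ha)) (hsq b hb)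
    have h4 : ((p + 1) / 2) • ((a + b) * (a + b) - a * a - b * b) ∈ F := nsmul_mem h3 _
    obtain ⟨j, hj⟩ := (Fact.out : p.Prime).odd_of_ne_two hp
    have hp0 : ((2 * j + 1 : ℕ) : K) = 0 := hj ▸ CharP.cast_eq_zero K p
    rw [show (p + 1) / 2 = j + 1 by omega, nsmul_eq_mul] at h4
    rwa [show ((j + 1 : ℕ) : K) * ((a + b) * (a + b) - a * a - b * b) = a * b by
      push_cast at hp0 ⊢
      linear_combination (a * b) * hp0] at h4
  have hEF : ∀ y, y ∈ E ↔ y ∈ F := by
    intro y
    refine ⟨fun hy => ?_, fun hy => ?_⟩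
    · have h3 : t * y ∈ F := ⟨y, hy, rfl⟩
      have h4 := hmulF _ (hinv t hFt) _ h3
      rwa [← mul_assoc, inv_mul_cancel₀ ht, one_mul] at h4
    · have h3 := (hmemF (t * y)).1 (hmulF t hFt y hy)
      rwa [← mul_assoc, inv_mul_cancel₀ ht, one_mul] at h3
  -- the lower translations
  have hinf : h.1 • (∞ : OnePoint K) = ((0 : K) : OnePoint K) := hh.symm
  rw [smul_infty] at hinf
  split_ifs at hinf with hc
  · exact absurd hinf (OnePoint.infty_ne_coe _)
  rw [OnePoint.coe_eq_coe, div_eq_zero_iff, or_iff_left hc] at hinf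
  set γ := h.1.1 1 0 with hγ
  have hconj : ∀ x : K, h.1 * uSL x * h.1⁻¹ = lSL (-(γ * γ * x)) := by
    intro x
    rw [mul_inv_eq_iff_eq_mul]
    have hd := det_eq h.1
    rw [hinf, ← hγ] at hd
    apply Subtype.ext
    ext i j
    fin_cases i <;> fin_cases j <;>
      simp [Matrix.mul_apply, Fin.sum_univ_two, uSL_coe, lSL_coe, hinf, ← hγ]
    linear_combination -(γ * x) * hd
  have hlow : ∀ y : K, lSL y ∈ L → y ∈ E := by
    intro y hy
    rcases eq_or_ne y 0 with rfl | hy0
    · exact E.zero_mem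
    have : y⁻¹ ∈ poleSet L := ⟨⟨lSL y, hy⟩, by
      show lSL y • (∞ : OnePoint K) = _
      simp [smul_infty, lSL_coe, hy0]⟩
    rw [← hXE] at this
    rw [hEF]
    have h3 := hinv _ ((hEF _).1 this)
    rwa [inv_inv] at h3
  have hmapE : ∀ x : E, -(γ * γ * x.1) ∈ E := fun x => hlow _ (by
    rw [← hconj]; exact mul_mem (mul_mem h.2 x.2) (inv_mem h.2))
  have hinjE : Function.Injective fun x : E => (⟨-(γ * γ * x.1), hmapE x⟩ : E) := by
    intro a b hab
    have h5 : γ * γ * a.1 = γ * γ * b.1 := neg_inj.1 (congrArg Subtype.val hab)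
    exact Subtype.ext (mul_left_cancel₀ (mul_ne_zero hc hc) h5)
  obtain ⟨x, hx⟩ := Finite.injective_iff_surjective.1 hinjE ⟨1, h1⟩
  have hx' : -(γ * γ * x.1) = 1 := congrArg Subtype.val hx
  rw [← hx', ← hconj]
  exact mul_mem (mul_mem h.2 x.2) (inv_mem h.2)

omit [DecidableEq K] in
/-- **Dickson**: `SL₂(p)` lies in every finite subgroup with two opposite transvections. -/
theorem exists_sl2 (hp : p ≠ 2) (L : Subgroup (Matrix.SpecialLinearGroup (Fin 2) K)) [Finite L]
    (hu : uSL 1 ∈ L) {t : K} (ht : t ≠ 0) (hw : lSL t ∈ L) :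
    ∃ φ : Matrix.SpecialLinearGroup (Fin 2) (ZMod p) →* Matrix.SpecialLinearGroup (Fin 2) K,
      Function.Injective φ ∧ φ.range ≤ L := by
  classical
  rcases dickson_count hp L hu ht hw with h | ⟨h3, hS⟩
  · exact exists_sl2_of_pair p L hu 0 (Or.inl rfl)
      (by simpa [uSL_zero] using lSL_one_mem hp L hu ht hw h)
  subst h3
  have hthree : (3 : K) = 0 := by exact_mod_cast CharP.cast_eq_zero K 3
  obtain ⟨g, hg, hg4⟩ : ∃ g ∈ L, g.1 1 0 ^ 4 = 1 := by
    by_cases ht4 : t ^ 4 = 1
    · exact ⟨_, hw, by simpa [lSL_coe] using ht4⟩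
    have hnine : ∀ g ∈ L, tr g ^ 9 = tr g := by
      intro g hg
      rcases hS g hg with h | h | h
      · rw [h]; ring
      · linear_combination (tr g ^ 5 + tr g) * h
      · linear_combination (tr g ^ 5 - tr g) * h
    have htr : ∀ x : K, tr (uSL x * lSL t) = 2 + x * t := by
      intro x
      simp [tr, Matrix.mul_apply, Fin.sum_univ_two, uSL_coe, lSL_coe]
      ring
    have hu' : uSL (-1 : K) ∈ L := by rw [uSL_neg]; exact inv_mem hu
    have hpl : tr (uSL (1 : K) * lSL t) = t - 1 := by rw [htr]; linear_combination hthree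
    have hmi : tr (uSL (-1 : K) * lSL t) = -t - 1 := by rw [htr]; linear_combination hthree
    have ht9 : t ^ 9 = t := by
      have h := hnine _ (mul_mem hu hw)
      rw [hpl, show (9 : ℕ) = 3 ^ 2 by norm_num, sub_pow_char_pow, one_pow] at h
      linear_combination h
    have ht8 : t ^ 4 = -1 := by
      have h : t ^ 8 = 1 := mul_left_cancel₀ ht (by linear_combination ht9)
      exact (mul_self_eq_one_iff.1 (by linear_combination h : t ^ 4 * t ^ 4 = 1)).resolve_left ht4
    obtain ⟨a, ha, ha4⟩ : ∃ a : K, uSL a ∈ L ∧ tr (uSL a * lSL t) ^ 4 = -1 := by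
      rcases hS _ (mul_mem hu hw) with h | h | h
      · exact absurd (by rw [sub_eq_zero.1 (hpl ▸ h : t - 1 = 0)]; norm_num) ht4
      · rcases hS _ (mul_mem hu' hw) with h' | h' | h'
        · exact absurd (by rw [show t = -1 by linear_combination -(hmi ▸ h' : -t - 1 = 0)]; norm_num) ht4
        · exfalso
          rw [hpl] at h
          rw [hmi] at h'
          have h8 : t * (t ^ 2 + 1) = 0 := by linear_combination h - h' + (3 * t ^ 3 + 3 * t) * hthree
          rcases mul_eq_zero.1 h8 with h9 | h9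
          · exact ht h9
          · exact ht4 (by linear_combination (t ^ 2 - 1) * h9)
        · exact ⟨-1, hu', h'⟩
      · exact ⟨1, hu, h⟩
    refine ⟨uSL a * lSL t * (uSL a * lSL t), mul_mem (mul_mem ha hw) (mul_mem ha hw), ?_⟩
    rw [(mul_self_entries _).2.2.1, mul_pow, ha4]
    have h10 : (uSL a * lSL t).1 1 0 = t := by
      simp [Matrix.mul_apply, Fin.sum_univ_two, uSL_coe, lSL_coe]
    rw [h10, ht8]
    ring
  have hc : g.1 1 0 ≠ 0 := fun h => by rw [h] at hg4; norm_num at hg4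
  refine exists_sl2_of_pair 3 L hu (g.1 0 0 / g.1 1 0) (s := -(g.1 1 0 * g.1 1 0)) ?_ ?_
  · rcases mul_self_eq_one_iff.1 (by linear_combination hg4 :
      g.1 1 0 * g.1 1 0 * (g.1 1 0 * g.1 1 0) = 1) with h | h
    · exact Or.inr (by rw [h])
    · exact Or.inl (by rw [h, neg_neg])
  · have he : uSL (g.1 0 0 / g.1 1 0) * lSL (-(g.1 1 0 * g.1 1 0)) *
        uSL (-(g.1 0 0 / g.1 1 0)) * g = g * uSL 1 := by
      have hd := det_eq g
      apply Subtype.ext
      ext i j
      fin_cases i <;> fin_cases j <;>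
        simp [Matrix.mul_apply, Fin.sum_univ_two, uSL_coe, lSL_coe] <;> field_simp
      · ring
      · linear_combination g.1 0 0 * g.1 1 0 * hd
      · ring
      · linear_combination g.1 1 0 * hd
    rw [← uSL_neg, eq_mul_inv_iff_mul_eq.2 he]
    exact mul_mem (mul_mem hg hu) (inv_mem hg)

end CfsgLib.OddOrder.SL2
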