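import Cfsg.Agent.Lib.OddOrder.PStableCriterion
import Cfsg.Agent.Lib.PLocal.Thompson

/-!
Groups not involving `SL₂(p)` are `p`-stable in all the usual senses.
-/

set_option autoImplicit false

namespace CfsgLib.OddOrder

open scoped commutatorElement

variable {G : Type*} [Group G] [Finite G] {p : ℕ} [Fact p.Prime]

theorem isActionPStable_of_not_involves (hp : p ≠ 2) (hno : ¬ InvolvesSL2 p G) :
    Cfsg.IsActionPStable p G := by
  have hP : IsPGroup p (Cfsg.pCore p G) := CfsgLib.Base.isPGroup_pCore p G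
  refine ⟨fun V _ hV a hq => (mem_pCore_centralizer_or_involves hp V hV a hq).resolve_right hno,
    fun a hq => (mem_pCore_sectionKernel_or_involves hp _ _ ?_ ?_ a hq).resolve_right hno, ?_⟩
  · rw [← Subgroup.map_subtype_commutator]
    exact Subgroup.map_mono (CfsgLib.PGroups.commutator_le_frattini hP)
  · exact fun k hk => ⟨_, CfsgLib.PGroups.pow_mem_frattini hP ⟨k, hk⟩, rfl⟩
  intro S V _ hV a hq
  refine (mem_pCore_centralizer_or_involves hp V ?_ a hq).resolve_right
    (fun h => hno h.of_subgroup)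
  have h1 : Cfsg.IsElementaryAbelian p (Cfsg.omegaCenterThompson p ↥(S : Subgroup G)) :=
    CfsgLib.PLocal.isElementaryAbelian_omegaOne (CfsgLib.PLocal.inf_centralizer_le_centralizer _)
  exact (CfsgLib.PLocal.isElementaryAbelian_map_iff (Subgroup.subtype_injective _)).1
    (CfsgLib.PLocal.isElementaryAbelian_of_le (CfsgLib.PLocal.isElementaryAbelian_map _ h1) hV)

theorem isPStable_of_not_involves (hp : p ≠ 2) (hno : ¬ InvolvesSL2 p G)
    (hcore : Cfsg.pCore p G ≠ ⊥) : Cfsg.IsPStable p G :=
  ⟨(Fact.out : p.Prime).odd_of_ne_two hp, hcore,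
    fun _ _ _ hP _ _ _ hq => map_le_pCore_normalizer_quotient hp hno hP hq⟩

end CfsgLib.OddOrder
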