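import Mathlib
import Cfsg.Agent.Lib.Base.Transport
import Cfsg.Agent.Lib.OddOrder.FixedPoints

/-!
Fixed points of a non-cyclic group of exponent `p` acting coprimely.
-/

set_option autoImplicit false

namespace CfsgLib.OddOrder

open scoped commutatorElement

theorem prod_range_pow_fixed {V X : Type*} [CommGroup V] [Group X] (φ : X →* MulAut V) {p : ℕ}
    {z : X} (hz : z ^ p = 1) (v : V) :
    φ z (∏ j ∈ Finset.range p, φ (z ^ j) v) = ∏ j ∈ Finset.range p, φ (z ^ j) v := by
  rw [map_prod]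
  rcases p with _ | p
  · simp
  conv_rhs => rw [Finset.prod_range_succ']
  rw [Finset.prod_range_succ]
  congr 1
  · refine Finset.prod_congr rfl fun j _ => ?_
    rw [pow_succ' z j, map_mul]; rfl
  · have h1 : φ z (φ (z ^ p) v) = φ (z ^ (p + 1)) v := by rw [pow_succ' z p, map_mul]; rfl
    rw [h1, hz, pow_zero]

/-- Abelian form: two commuting operators of order `p` cannot both act without fixed points,
together with all their products. -/
theorem exists_fixed_abelian {V X : Type*} [CommGroup V] [Finite V] [Nontrivial V] [Group X]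
    (φ : X →* MulAut V) {p : ℕ} [hp : Fact p.Prime] (hV : (Nat.card V).Coprime p) {x y : X}
    (hxy : Commute x y) (hx : x ^ p = 1) (hy : y ^ p = 1) :
    ∃ v : V, v ≠ 1 ∧ (φ x v = v ∨ ∃ i : ℕ, φ (x ^ i * y) v = v) := by
  by_contra hcon
  push Not at hcon
  have hN : ∀ z : X, z ^ p = 1 → (∀ v : V, φ z v = v → v = 1) →
      ∀ v, ∏ j ∈ Finset.range p, φ (z ^ j) v = 1 :=
    fun z hz hfree v => hfree _ (prod_range_pow_fixed φ hz v)
  have hzi : ∀ i : ℕ, (x ^ i * y) ^ p = 1 := fun i => by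
    rw [(hxy.pow_left i).mul_pow, ← pow_mul, mul_comm i p, pow_mul, hx, hy]; simp
  have hfree : ∀ i : ℕ, ∀ v, φ (x ^ i * y) v = v → v = 1 := fun i v hv => by
    by_contra h
    exact (hcon v h).2 i hv
  have hfreex : ∀ v, φ x v = v → v = 1 := fun v hv => by
    by_contra h
    exact (hcon v h).1 hv
  have hsub : ∀ j : ℕ, ¬ p ∣ j → ∀ w, φ (x ^ j) w = w → w = 1 := by
    intro j hj w hw
    apply hfreex
    obtain ⟨k, hk⟩ : ∃ k : ℕ, (x ^ j) ^ k = x := by
      have hord : orderOf x ∣ p := orderOf_dvd_of_pow_eq_one hx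
      have hc : Nat.Coprime j (orderOf x) :=
        (((hp.out.coprime_iff_not_dvd).mpr hj).symm).coprime_dvd_right hord
      exact exists_pow_eq_self_of_coprime hc
    have hk' : ∀ k : ℕ, φ ((x ^ j) ^ k) w = w := by
      intro k
      induction k with
      | zero => simp
      | succ k ih =>
        rw [pow_succ, map_mul]
        show φ ((x ^ j) ^ k) (φ (x ^ j) w) = w
        rw [hw, ih]
    rw [← hk]; exact hk' k
  obtain ⟨v, hv⟩ := exists_ne (1 : V)
  have h1 : ∏ i ∈ Finset.range p, ∏ j ∈ Finset.range p, φ ((x ^ i * y) ^ j) v = 1 :=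
    Finset.prod_eq_one fun i _ => hN _ (hzi i) (hfree i) v
  rw [Finset.prod_comm, Finset.prod_eq_single 0] at h1
  · rw [Finset.prod_eq_pow_card (b := v) (fun i _ => by simp), Finset.card_range] at h1
    exact hv (orderOf_eq_one_iff.mp (Nat.eq_one_of_dvd_coprimes hV (orderOf_dvd_natCard v)
      (orderOf_dvd_of_pow_eq_one h1)))
  · intro j hj hj0
    have hj' : ¬ p ∣ j := fun h =>
      absurd (Nat.le_of_dvd (Nat.pos_of_ne_zero hj0) h) (not_le.mpr (Finset.mem_range.mp hj))
    have hterm : ∀ i : ℕ, φ ((x ^ i * y) ^ j) v = φ ((x ^ j) ^ i) (φ (y ^ j) v) := fun i => by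
      rw [(hxy.pow_left i).mul_pow, ← pow_mul, ← pow_mul, mul_comm i j, map_mul]; rfl
    rw [Finset.prod_congr rfl (fun i _ => hterm i)]
    exact hN _ (by rw [← pow_mul, mul_comm, pow_mul, hx, one_pow]) (hsub j hj') _
  · intro h
    exact absurd (Finset.mem_range.mpr hp.out.pos) h

variable {G : Type*} [Group G] [Finite G]

/-- A coset of a `p'`-subgroup stable under an element of order `p` has a fixed point. -/
theorem exists_commute_in_coset {p : ℕ} [hp : Fact p.Prime] {D : Subgroup G}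
    (hD : (Nat.card D).Coprime p) {z u : G} (hz : z ^ p = 1)
    (hzD : z ∈ Subgroup.normalizer (D : Set G)) (hu : u⁻¹ * (z * u * z⁻¹) ∈ D) :
    ∃ d ∈ D, Commute z (u * d) := by
  have hzp : IsPGroup p (Subgroup.zpowers z) := by
    intro g
    refine ⟨1, Subtype.ext ?_⟩
    obtain ⟨i, hi⟩ := Subgroup.mem_zpowers_iff.mp g.2
    rw [pow_one, SubmonoidClass.coe_pow, Subgroup.coe_one, ← hi, ← zpow_natCast, ← zpow_mul,
      mul_comm, zpow_mul, zpow_natCast, hz, one_zpow]
  let S := {g : G // u⁻¹ * g ∈ D}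
  have hstab : ∀ e ∈ Subgroup.zpowers z, e ∈ Subgroup.normalizer (D : Set G) ∧
      u⁻¹ * (e * u * e⁻¹) ∈ D := by
    intro e he
    rw [← (isOfFinOrder_of_finite z).mem_powers_iff_mem_zpowers] at he
    obtain ⟨k, rfl⟩ := he
    refine ⟨pow_mem hzD k, ?_⟩
    induction k with
    | zero => simp
    | succ k ih =>
      have h1 := (Subgroup.mem_normalizer_iff.mp hzD _).mp ih
      have h2 := D.mul_mem hu h1
      have h3 : u⁻¹ * (z ^ (k + 1) * u * (z ^ (k + 1))⁻¹) =
          u⁻¹ * (z * u * z⁻¹) * (z * (u⁻¹ * (z ^ k * u * (z ^ k)⁻¹)) * z⁻¹) := by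
        rw [pow_succ']; group
      exact (congrArg (· ∈ D) h3).mpr h2
  let act : MulAction (Subgroup.zpowers z) S :=
    { smul := fun e g => ⟨(e : G) * g.1 * (e : G)⁻¹, by
        obtain ⟨he, heu⟩ := hstab e e.2
        have h1 := D.mul_mem heu ((Subgroup.mem_normalizer_iff.mp he _).mp g.2)
        simpa [mul_assoc] using h1⟩
      one_smul := fun g => Subtype.ext (by
        show ((1 : Subgroup.zpowers z) : G) * g.1 * ((1 : Subgroup.zpowers z) : G)⁻¹ = g.1; simp)
      mul_smul := fun a b g => Subtype.ext (by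
        show ((a * b : Subgroup.zpowers z) : G) * g.1 * ((a * b : Subgroup.zpowers z) : G)⁻¹
          = (a : G) * ((b : G) * g.1 * (b : G)⁻¹) * (a : G)⁻¹
        simp [mul_assoc]) }
  letI := act
  have hcard : Nat.card S = Nat.card D := Nat.card_congr
    { toFun := fun g => ⟨u⁻¹ * g.1, g.2⟩
      invFun := fun d => ⟨u * d, by simp⟩
      left_inv := fun g => Subtype.ext (by simp)
      right_inv := fun d => Subtype.ext (by simp) }
  obtain ⟨g, hg⟩ := hzp.nonempty_fixed_point_of_prime_not_dvd_card S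
    (hcard ▸ hp.out.coprime_iff_not_dvd.mp hD.symm)
  refine ⟨u⁻¹ * g.1, g.2, ?_⟩
  rw [mul_inv_cancel_left]
  exact mul_inv_eq_iff_eq_mul.mp (congrArg Subtype.val (hg ⟨z, Subgroup.mem_zpowers z⟩))

/-- A non-cyclic group `⟨x, y⟩` of exponent `p` acting on a solvable `p'`-group `U`: outside every
proper invariant normal subgroup some element is centralized by a non-trivial element. -/
theorem exists_centralized_not_mem {p : ℕ} [hp : Fact p.Prime] (U : Subgroup G) :
    ∀ (D : Subgroup G), D < U → U ≤ Subgroup.normalizer (D : Set G) → Group.IsSolvable U →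
    (Nat.card U).Coprime p → ∀ {x y : G}, Commute x y → x ^ p = 1 → y ^ p = 1 → x ≠ 1 →
    y ∉ Subgroup.zpowers x →
    x ∈ Subgroup.normalizer (U : Set G) → y ∈ Subgroup.normalizer (U : Set G) →
    x ∈ Subgroup.normalizer (D : Set G) → y ∈ Subgroup.normalizer (D : Set G) →
    ∃ z ∈ Subgroup.closure {x, y}, z ≠ 1 ∧ ∃ u ∈ U, u ∉ D ∧ Commute z u := by
  induction U using WellFoundedLT.induction with
  | _ U ih =>
  intro D hDU hDn hsol hU x y hxy hx hy hx1 hyx hxU hyU hxD hyD
  set W := D ⊔ ⁅U, U⁆ with hW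
  have hUle : ⁅U, U⁆ ≤ U := Subgroup.commutator_le_self U
  have hWU : W ≤ U := sup_le hDU.le hUle
  haveI hDnorm : (D.subgroupOf U).Normal := Subgroup.normal_subgroupOf_of_le_normalizer hDn
  have hWne : W ≠ U := by
    intro heq
    haveI : Group.IsSolvable (U ⧸ D.subgroupOf U) := inferInstance
    haveI : Nontrivial (U ⧸ D.subgroupOf U) := by
      rw [QuotientGroup.nontrivial_iff]
      rw [ne_eq, Subgroup.subgroupOf_eq_top]
      exact not_le_of_gt hDU
    apply (Group.IsSolvable.commutator_lt_top_of_nontrivial (U ⧸ D.subgroupOf U)).ne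
    have hmapc : (commutator U).map (QuotientGroup.mk' (D.subgroupOf U)) ≤
        commutator (U ⧸ D.subgroupOf U) := by
      rw [commutator_def, commutator_def, Subgroup.map_commutator]
      exact Subgroup.commutator_mono le_top le_top
    rw [Subgroup.eq_top_iff']
    intro a
    obtain ⟨b, rfl⟩ := QuotientGroup.mk'_surjective _ a
    have hb : (b : G) ∈ D ⊔ ⁅U, U⁆ := hW ▸ heq.symm ▸ b.2
    obtain ⟨d, hd, c, hc, hdc⟩ : ∃ d ∈ D, ∃ c ∈ ⁅U, U⁆, d * c = (b : G) := by
      have hn : ⁅U, U⁆ ≤ Subgroup.normalizer (D : Set G) := hUle.trans hDn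
      rw [← SetLike.mem_coe, Subgroup.coe_mul_of_right_le_normalizer_left D _ hn] at hb
      exact Set.mem_mul.mp hb
    obtain ⟨c', hc', rfl⟩ : ∃ c' ∈ commutator U, (c' : G) = c := by
      rw [← Subgroup.map_subtype_commutator] at hc
      exact hc
    have hbc : b = (⟨d, hDU.le hd⟩ : U) * c' := Subtype.ext hdc.symm
    have hd1 : QuotientGroup.mk' (D.subgroupOf U) ⟨d, hDU.le hd⟩ = 1 :=
      (QuotientGroup.eq_one_iff _).mpr hd
    rw [hbc, map_mul, hd1, one_mul]
    exact hmapc (Subgroup.mem_map_of_mem _ hc')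
  have hWx : ∀ g : G, g ∈ Subgroup.normalizer (U : Set G) →
      g ∈ Subgroup.normalizer (D : Set G) → g ∈ Subgroup.normalizer (W : Set G) := by
    intro g hgU hgD
    rw [Subgroup.mem_normalizer_iff_map_conj_eq] at hgU hgD ⊢
    rw [hW, Subgroup.map_sup, Subgroup.map_commutator, hgU, hgD]
  rcases (le_sup_left : D ≤ W).lt_or_eq with hlt | heq
  · obtain ⟨z, hz, hz1, u, hu, huD, hzu⟩ := ih W (lt_of_le_of_ne hWU hWne) D hlt
      (hWU.trans hDn) (Group.isSolvable_of_isSolvable_injective (Subgroup.inclusion_injective hWU))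
      (hU.coprime_dvd_left (Subgroup.card_dvd_of_le hWU)) hxy hx hy hx1 hyx
      (hWx x hxU hxD) (hWx y hyU hyD) hxD hyD
    exact ⟨z, hz, hz1, u, hWU hu, huD, hzu⟩
  -- the quotient is abelian
  have hcomm : ∀ a b : U ⧸ D.subgroupOf U, a * b = b * a := by
    intro a b
    obtain ⟨a, rfl⟩ := QuotientGroup.mk'_surjective _ a
    obtain ⟨b, rfl⟩ := QuotientGroup.mk'_surjective _ b
    rw [← commutatorElement_eq_one_iff_mul_comm, ← map_commutatorElement, QuotientGroup.mk'_apply,
      QuotientGroup.eq_one_iff, Subgroup.mem_subgroupOf]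
    rw [heq]
    apply Subgroup.mem_sup_right
    simpa [commutatorElement_def] using Subgroup.commutator_mem_commutator a.2 b.2
  letI : CommGroup (U ⧸ D.subgroupOf U) := { (inferInstance : Group (U ⧸ D.subgroupOf U)) with
    mul_comm := hcomm }
  let X : Subgroup G := Subgroup.normalizer (U : Set G) ⊓ Subgroup.normalizer (D : Set G)
  have hmap : ∀ g : X, (D.subgroupOf U).map
      ((U.normalizerMonoidHom ⟨g, g.2.1⟩ : MulAut U) : U →* U) = D.subgroupOf U := by
    intro g
    ext a
    constructor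
    · rintro ⟨b, hb, rfl⟩
      rw [Subgroup.mem_subgroupOf]
      exact (Subgroup.mem_normalizer_iff.mp g.2.2 _).mp hb
    · intro ha
      refine ⟨(U.normalizerMonoidHom ⟨g, g.2.1⟩ : MulAut U).symm a, ?_, by simp⟩
      rw [SetLike.mem_coe, Subgroup.mem_subgroupOf]
      refine (Subgroup.mem_normalizer_iff.mp g.2.2 _).mpr ?_
      have := congrArg Subtype.val
        ((U.normalizerMonoidHom ⟨g, g.2.1⟩ : MulAut U).apply_symm_apply a)
      exact (congrArg (· ∈ D) this).mpr ha
  let φ : X →* MulAut (U ⧸ D.subgroupOf U) :=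
    { toFun := fun g => QuotientGroup.congr _ _ _ (hmap g)
      map_one' := by
        refine MulEquiv.ext fun a => ?_
        obtain ⟨a, rfl⟩ := QuotientGroup.mk'_surjective _ a
        show QuotientGroup.mk' _ (U.normalizerMonoidHom _ a) = QuotientGroup.mk' _ a
        refine congrArg (QuotientGroup.mk' _) (Subtype.ext ?_)
        show ((1 : X) : G) * (a : G) * ((1 : X) : G)⁻¹ = (a : G)
        simp
      map_mul' := fun g h => by
        refine MulEquiv.ext fun a => ?_
        obtain ⟨a, rfl⟩ := QuotientGroup.mk'_surjective _ a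
        show QuotientGroup.mk' _ (U.normalizerMonoidHom _ a) = QuotientGroup.mk' _
          (U.normalizerMonoidHom _ (U.normalizerMonoidHom _ a))
        refine congrArg (QuotientGroup.mk' _) (Subtype.ext ?_)
        show ((g * h : X) : G) * (a : G) * ((g * h : X) : G)⁻¹ =
          (g : G) * ((h : G) * (a : G) * (h : G)⁻¹) * (g : G)⁻¹
        simp [mul_assoc] }
  have hkey : ∀ (g : X) (a : U), φ g (QuotientGroup.mk' _ a) =
      QuotientGroup.mk' _ (U.normalizerMonoidHom ⟨g, g.2.1⟩ a) := fun _ _ => rfl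
  haveI : Nontrivial (U ⧸ D.subgroupOf U) := by
    rw [QuotientGroup.nontrivial_iff, ne_eq, Subgroup.subgroupOf_eq_top]
    exact not_le_of_gt hDU
  obtain ⟨v, hv, hfix⟩ := exists_fixed_abelian φ
    (hU.coprime_dvd_left (Subgroup.card_quotient_dvd_card _))
    (x := ⟨x, hxU, hxD⟩) (y := ⟨y, hyU, hyD⟩) (Subtype.ext hxy) (Subtype.ext hx) (Subtype.ext hy)
  obtain ⟨a, rfl⟩ := QuotientGroup.mk'_surjective _ v
  have hD' : (Nat.card D).Coprime p := hU.coprime_dvd_left (Subgroup.card_dvd_of_le hDU.le)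
  have finish : ∀ z : X, (z : G) ∈ Subgroup.closure {x, y} → (z : G) ≠ 1 → (z : G) ^ p = 1 →
      φ z (QuotientGroup.mk' _ a) = QuotientGroup.mk' _ a →
      ∃ z ∈ Subgroup.closure {x, y}, z ≠ 1 ∧ ∃ u ∈ U, u ∉ D ∧ Commute z u := by
    intro z hz hz1 hzp hza
    rw [hkey, QuotientGroup.mk'_apply, QuotientGroup.mk'_apply, eq_comm, QuotientGroup.eq,
      Subgroup.mem_subgroupOf] at hza
    obtain ⟨d, hd, hzd⟩ := exists_commute_in_coset (u := (a : G)) hD' hzp z.2.2 hza
    refine ⟨z, hz, hz1, (a : G) * d, U.mul_mem a.2 (hDU.le hd), fun h => hv ?_, hzd⟩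
    rw [QuotientGroup.mk'_apply, QuotientGroup.eq_one_iff, Subgroup.mem_subgroupOf]
    exact (D.mul_mem_cancel_right hd).mp h
  rcases hfix with h | ⟨i, h⟩
  · exact finish _ (Subgroup.subset_closure (by simp)) hx1 hx h
  · refine finish _ ?_ ?_ ?_ h
    · exact mul_mem (pow_mem (Subgroup.subset_closure (by simp)) i)
        (Subgroup.subset_closure (by simp))
    · show x ^ i * y ≠ 1
      intro h1
      apply hyx
      rw [eq_inv_of_mul_eq_one_right h1]
      exact inv_mem (Subgroup.npow_mem_zpowers x i)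
    · show (x ^ i * y) ^ p = 1
      rw [(hxy.pow_left i).mul_pow, ← pow_mul, mul_comm i p, pow_mul, hx, hy]; simp

end CfsgLib.OddOrder
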