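import Cfsg.Prelude.Def_OddOrderLocal
import Mathlib.GroupTheory.Subgroup.Centralizer

/-!
Elementary properties of the Puig series.
-/

namespace CfsgLib.OddOrder

open scoped commutatorElement

variable {G : Type*} [Group G]

theorem puigSeq_zero : Cfsg.puigSeq G 0 = ⊥ := by rw [Cfsg.puigSeq]

theorem puigSeq_succ (n : ℕ) : Cfsg.puigSeq G (n + 1) = Cfsg.puigStep (Cfsg.puigSeq G n) := by
  rw [Cfsg.puigSeq]

/-- An abelian subgroup normalized by `X` lies in `L_G(X)`. -/
theorem le_puigStep {X A : Subgroup G} (hA : IsMulCommutative A)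
    (hX : X ≤ Subgroup.normalizer (A : Set G)) : A ≤ Cfsg.puigStep X :=
  le_sSup ⟨hA, hX⟩

theorem puigStep_antitone {X Y : Subgroup G} (h : X ≤ Y) :
    Cfsg.puigStep Y ≤ Cfsg.puigStep X :=
  sSup_le fun _ hA => le_puigStep hA.1 (h.trans hA.2)

theorem puigStep_bot : Cfsg.puigStep (⊥ : Subgroup G) = ⊤ := by
  refine top_le_iff.mp fun g _ => ?_
  exact le_puigStep (A := Subgroup.zpowers g) inferInstance bot_le (Subgroup.mem_zpowers g)

theorem puigSeq_one : Cfsg.puigSeq G 1 = ⊤ := by
  rw [puigSeq_succ, puigSeq_zero, puigStep_bot]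

theorem puigSeq_even_step (n : ℕ) :
    Cfsg.puigSeq G (2 * n) ≤ Cfsg.puigSeq G (2 * n + 2) ∧
      Cfsg.puigSeq G (2 * n + 3) ≤ Cfsg.puigSeq G (2 * n + 1) := by
  induction n with
  | zero =>
    exact ⟨by simp [puigSeq_zero], by simp [puigSeq_one]⟩
  | succ n ih =>
    have h1 : Cfsg.puigSeq G (2 * (n + 1)) ≤ Cfsg.puigSeq G (2 * (n + 1) + 2) := by
      have := puigStep_antitone ih.2
      rwa [← puigSeq_succ, ← puigSeq_succ] at this
    refine ⟨h1, ?_⟩
    have := puigStep_antitone h1
    rwa [← puigSeq_succ, ← puigSeq_succ] at this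

theorem puigSeq_even_monotone : Monotone fun n => Cfsg.puigSeq G (2 * n) :=
  monotone_nat_of_le_succ fun n => (puigSeq_even_step n).1

theorem puigSeq_odd_antitone : Antitone fun n => Cfsg.puigSeq G (2 * n + 1) :=
  antitone_nat_of_succ_le fun n => (puigSeq_even_step n).2

theorem puigSeq_even_le_odd_self (n : ℕ) :
    Cfsg.puigSeq G (2 * n) ≤ Cfsg.puigSeq G (2 * n + 1) ∧
      Cfsg.puigSeq G (2 * n + 2) ≤ Cfsg.puigSeq G (2 * n + 1) := by
  induction n with
  | zero => exact ⟨by simp [puigSeq_zero], by simp [puigSeq_one]⟩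
  | succ n ih =>
    have h1 : Cfsg.puigSeq G (2 * (n + 1)) ≤ Cfsg.puigSeq G (2 * (n + 1) + 1) := by
      have := puigStep_antitone ih.2
      rwa [← puigSeq_succ, ← puigSeq_succ] at this
    refine ⟨h1, ?_⟩
    have := puigStep_antitone h1
    rwa [← puigSeq_succ, ← puigSeq_succ] at this

theorem puigSeq_even_le_odd (n m : ℕ) :
    Cfsg.puigSeq G (2 * n) ≤ Cfsg.puigSeq G (2 * m + 1) :=
  ((puigSeq_even_monotone (le_max_left n m)).trans (puigSeq_even_le_odd_self (max n m)).1).trans
    (puigSeq_odd_antitone (le_max_right n m))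

theorem puigLower_le_puigSubgroup : Cfsg.puigLower G ≤ Cfsg.puigSubgroup G :=
  iSup_le fun n => le_iInf fun m => puigSeq_even_le_odd n m

/-- The two subsequences of the Puig series are eventually constant. -/
theorem puigSeq_stationary [Finite G] :
    ∃ k : ℕ, ∀ n : ℕ, k ≤ n → Cfsg.puigSeq G (2 * n) = Cfsg.puigLower G ∧
      Cfsg.puigSeq G (2 * n + 1) = Cfsg.puigSubgroup G := by
  obtain ⟨k, hk⟩ := WellFoundedGT.monotone_chain_condition
    (⟨fun n => Cfsg.puigSeq G (2 * n), puigSeq_even_monotone⟩ : ℕ →o Subgroup G)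
  simp only [OrderHom.coe_mk] at hk
  have hodd : ∀ n, k ≤ n → Cfsg.puigSeq G (2 * k + 1) = Cfsg.puigSeq G (2 * n + 1) := by
    intro n hn
    rw [puigSeq_succ, puigSeq_succ, hk n hn]
  refine ⟨k, fun n hn => ⟨le_antisymm (le_iSup (fun i => Cfsg.puigSeq G (2 * i)) n)
    (iSup_le fun m => ?_), le_antisymm (le_iInf fun m => ?_)
    (iInf_le (fun i => Cfsg.puigSeq G (2 * i + 1)) n)⟩⟩
  · rcases le_total m n with h | h
    · exact puigSeq_even_monotone h
    · exact le_of_eq ((hk m (hn.trans h)).symm.trans (hk n hn))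
  · rcases le_total m n with h | h
    · exact puigSeq_odd_antitone h
    · exact le_of_eq ((hodd n hn).symm.trans (hodd m (hn.trans h)))

theorem puigStep_puigLower [Finite G] :
    Cfsg.puigStep (Cfsg.puigLower G) = Cfsg.puigSubgroup G := by
  obtain ⟨k, hk⟩ := puigSeq_stationary (G := G)
  rw [← (hk k le_rfl).1, ← (hk k le_rfl).2, puigSeq_succ]

theorem puigStep_puigSubgroup [Finite G] :
    Cfsg.puigStep (Cfsg.puigSubgroup G) = Cfsg.puigLower G := by
  obtain ⟨k, hk⟩ := puigSeq_stationary (G := G)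
  rw [← (hk k le_rfl).2, ← (hk (k + 1) (Nat.le_succ k)).1, ← puigSeq_succ]
  rfl

/-- A nilpotent finite group has an abelian normal subgroup that is its own centralizer. -/
theorem exists_abelian_normal_self_centralizing [Finite G] [hn : Group.IsNilpotent G] :
    ∃ A : Subgroup G, A.Normal ∧ IsMulCommutative A ∧ Subgroup.centralizer (A : Set G) = A := by
  classical
  obtain ⟨A, hAmax⟩ := (Set.toFinite {A : Subgroup G | A.Normal ∧ IsMulCommutative A}).exists_maximal
    ⟨⊥, inferInstance, inferInstance⟩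
  obtain ⟨hAn, hAc⟩ := hAmax.prop
  refine ⟨A, hAn, hAc, le_antisymm ?_ (Subgroup.le_centralizer (h := hAc))⟩
  by_contra hnot
  set C := Subgroup.centralizer (A : Set G) with hC
  have hex : ∃ k, ¬ C ⊓ Subgroup.upperCentralSeries G k ≤ A := by
    obtain ⟨n, hn⟩ := hn.nilpotent G
    exact ⟨n, by rwa [hn, inf_top_eq]⟩
  obtain ⟨k, hk, hmin⟩ : ∃ k, ¬ C ⊓ Subgroup.upperCentralSeries G k ≤ A ∧
      ∀ j < k, C ⊓ Subgroup.upperCentralSeries G j ≤ A :=
    ⟨Nat.find hex, Nat.find_spec hex, fun j hj => not_not.mp (Nat.find_min hex hj)⟩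
  cases k with
  | zero => exact hk (by simp)
  | succ j =>
    obtain ⟨x, hx, hxA⟩ := SetLike.not_le_iff_exists.mp hk
    haveI : C.Normal := Subgroup.normal_centralizer
    have hcomm : ∀ g : G, ⁅x, g⁆ ∈ A := fun g =>
      hmin j (Nat.lt_succ_self j) ⟨by
        have h2 := C.mul_mem hx.1 (Subgroup.Normal.conj_mem inferInstance _ (C.inv_mem hx.1) g)
        have h3 : ⁅x, g⁆ = x * (g * x⁻¹ * g⁻¹) := by rw [commutatorElement_def]; group
        rw [h3]; exact h2,
        (Subgroup.mem_upperCentralSeries_succ_iff).mp hx.2 g⟩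
    have hB : (A ⊔ Subgroup.zpowers x).Normal := by
      refine ⟨fun b hb g => ?_⟩
      have hmap : (A ⊔ Subgroup.zpowers x).map (MulAut.conj g).toMonoidHom ≤
          A ⊔ Subgroup.zpowers x := by
        rw [Subgroup.map_sup, sup_le_iff]
        constructor
        · rintro _ ⟨a, ha, rfl⟩
          exact Subgroup.mem_sup_left (hAn.conj_mem a ha g)
        · rw [MonoidHom.map_zpowers, Subgroup.zpowers_le]
          have h3 : (MulAut.conj g).toMonoidHom x = ⁅x, g⁆⁻¹ * x := by
            simp [commutatorElement_def, mul_assoc]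
          rw [h3]
          exact mul_mem (Subgroup.mem_sup_left (A.inv_mem (hcomm g)))
            (Subgroup.mem_sup_right (Subgroup.mem_zpowers x))
      exact hmap ⟨b, hb, rfl⟩
    have hBc : IsMulCommutative ↥(A ⊔ Subgroup.zpowers x) := by
      rw [← Subgroup.le_centralizer_iff_isMulCommutative, sup_le_iff]
      have hxC : Subgroup.zpowers x ≤ C := by
        rw [Subgroup.zpowers_le]; exact hx.1
      constructor
      · rw [Subgroup.le_centralizer_iff, sup_le_iff]
        exact ⟨(Subgroup.le_centralizer (h := hAc)), hxC⟩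
      · rw [Subgroup.le_centralizer_iff, sup_le_iff]
        exact ⟨Subgroup.le_centralizer_iff.mp hxC, Subgroup.le_centralizer (Subgroup.zpowers x)⟩
    exact hxA (hAmax.le_of_ge ⟨hB, hBc⟩ le_sup_left (Subgroup.mem_sup_right (Subgroup.mem_zpowers x)))

/-- Every term of the Puig series of index at least one contains every abelian normal subgroup. -/
theorem le_puigSeq_of_normal {A : Subgroup G} [A.Normal] (hA : IsMulCommutative A) {i : ℕ}
    (hi : 0 < i) : A ≤ Cfsg.puigSeq G i := by
  obtain ⟨j, rfl⟩ := Nat.exists_eq_succ_of_ne_zero hi.ne'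
  rw [puigSeq_succ]
  exact le_puigStep hA (le_top.trans_eq (Subgroup.normalizer_eq_top A).symm)

theorem centralizer_puigSeq_le [Finite G] [Group.IsNilpotent G] {i : ℕ} (hi : 0 < i) :
    Subgroup.centralizer (Cfsg.puigSeq G i : Set G) ≤ Cfsg.puigSeq G i := by
  obtain ⟨A, hAn, hAc, hA⟩ := exists_abelian_normal_self_centralizing (G := G)
  refine (Subgroup.centralizer_le ?_).trans (hA.le.trans (le_puigSeq_of_normal hAc hi))
  exact le_puigSeq_of_normal hAc hi

theorem centralizer_puigLower_le [Finite G] [Group.IsNilpotent G] :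
    Subgroup.centralizer (Cfsg.puigLower G : Set G) ≤ Cfsg.puigLower G := by
  obtain ⟨k, hk⟩ := puigSeq_stationary (G := G)
  rw [← (hk (k + 1) (Nat.le_succ k)).1]
  exact centralizer_puigSeq_le (by omega)

theorem centralizer_puigSubgroup_le [Finite G] [Group.IsNilpotent G] :
    Subgroup.centralizer (Cfsg.puigSubgroup G : Set G) ≤ Cfsg.puigSubgroup G := by
  obtain ⟨k, hk⟩ := puigSeq_stationary (G := G)
  rw [← (hk k le_rfl).2]
  exact centralizer_puigSeq_le (by omega)

end CfsgLib.OddOrder
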