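import Cfsg.Agent.Lib.OddOrder.Transitivity

/-!
The transitivity theorem in a minimal simple group of odd order.
-/

set_option autoImplicit false

open scoped Pointwise commutatorElement

namespace CfsgLib.OddOrder

open Cfsg

variable {G : Type*} [Group G] [Finite G]

theorem th_solvable (hG : IsMinSimpleOddOrder G) {A : Subgroup G}
    (hA : TransitivityHypothesis A) : Group.IsSolvable A := minSimple_solvable hG hA.2.1

theorem th_invSubgroups_le {A : Subgroup G} (hA : TransitivityHypothesis A) {X Y : Subgroup G}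
    (hX : X ≠ ⊤) (hAX : A ≤ X) (hY : Y ∈ invSubgroups X A (primesNotDvd (Nat.card A))) :
    Y ≤ piCoreOf (primesNotDvd (Nat.card A)) X := by
  rw [← hA.2.2 X hX hAX]
  exact le_sSup hY

/-- `O_{π(A)'}(C(A))` contains every `π(A)'`-subgroup of `C(A)`. -/
theorem th_le_core (hG : IsMinSimpleOddOrder G) {A : Subgroup G} (hA : TransitivityHypothesis A)
    {Y : Subgroup G} (hYC : Y ≤ Subgroup.centralizer (A : Set G))
    (hY : (Nat.card A).Coprime (Nat.card Y)) :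
    Y ≤ piCoreOf (primesNotDvd (Nat.card A)) (Subgroup.centralizer (A : Set G)) := by
  set π := primesNotDvd (Nat.card A) with hπ
  set C := Subgroup.centralizer (A : Set G) with hC
  set X := A ⊔ C with hX
  have hXN : X ≤ Subgroup.normalizer (A : Set G) :=
    sup_le Subgroup.le_normalizer (Subgroup.centralizer_le_normalizer _)
  have hXtop : X ≠ ⊤ := fun h =>
    minSimple_normalizer_ne_top hG hA.1 hA.2.1 (top_le_iff.mp (h ▸ hXN))
  have hYX : Y ≤ piCoreOf π X := th_invSubgroups_le hA hXtop le_sup_left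
    ⟨hYC.trans le_sup_right, primesNotDvd_of_coprime hY,
      (Subgroup.le_centralizer_iff.mp hYC).trans (Subgroup.centralizer_le_normalizer _)⟩
  refine hYX.trans (le_piCoreOf ?_ (le_sup_right.trans (le_normalizer_piCoreOf π X))
    (piCoreOf_primes π X))
  intro o ho
  refine Subgroup.mem_centralizer_iff.mpr fun a ha => ?_
  have hmem : ⁅a, o⁆ ∈ A ⊓ piCoreOf π X := by
    refine ⟨?_, ?_⟩
    · have h1 := (Subgroup.mem_normalizer_iff.mp (hXN (piCoreOf_le π X ho)) _).mp (A.inv_mem ha)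
      have h2 := A.mul_mem ha h1
      simpa [commutatorElement_def, mul_assoc] using h2
    · rw [commutatorElement_def]
      exact (piCoreOf π X).mul_mem ((Subgroup.mem_normalizer_iff.mp
        (le_normalizer_piCoreOf π X (Subgroup.mem_sup_left ha)) o).mp ho) ((piCoreOf π X).inv_mem ho)
  have hdisj : A ⊓ piCoreOf π X = ⊥ :=
    CfsgLib.Coprime.inf_eq_bot_of_coprime (coprime_primesNotDvd (piCoreOf_primes π X))
  rw [hdisj, Subgroup.mem_bot, commutatorElement_eq_one_iff_mul_comm] at hmem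
  exact hmem

variable {q : ℕ} [hq : Fact q.Prime]

theorem th_inv_primes {H A Y : Subgroup G} (hqA : ¬ q ∣ Nat.card A)
    (hY : Y ∈ invSubgroups H A {q}) : Y ∈ invSubgroups H A (primesNotDvd (Nat.card A)) :=
  ⟨hY.1, fun r hr hd => ⟨hr, by rw [Set.mem_singleton_iff.mp (hY.2.1 r hr hd)]; exact hqA⟩, hY.2.2⟩

/-- The common invariant group attached to a proper subgroup containing `A`. -/
theorem th_step_data (hG : IsMinSimpleOddOrder G) {A X : Subgroup G}
    (hA : TransitivityHypothesis A) (hX : X ≠ ⊤) (hAX : A ≤ X) (hqA : ¬ q ∣ Nat.card A) :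
    A ≤ Subgroup.normalizer (piCoreOf (primesNotDvd (Nat.card A)) X : Set G) ∧
    (Nat.card A).Coprime (Nat.card (piCoreOf (primesNotDvd (Nat.card A)) X)) ∧
    piCoreOf (primesNotDvd (Nat.card A)) X ⊓ Subgroup.centralizer (A : Set G) ≤
      piCoreOf (primesNotDvd (Nat.card A)) (Subgroup.centralizer (A : Set G)) ∧
    ∀ U, U ∈ invSubgroups X A {q} →
      U ∈ invSubgroups (piCoreOf (primesNotDvd (Nat.card A)) X) A {q} := by
  refine ⟨hAX.trans (le_normalizer_piCoreOf _ X), coprime_primesNotDvd (piCoreOf_primes _ X),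
    th_le_core hG hA inf_le_right ((coprime_primesNotDvd (piCoreOf_primes _ X)).coprime_dvd_right
      (Subgroup.card_dvd_of_le inf_le_left)), fun U hU => ?_⟩
  exact ⟨th_invSubgroups_le hA hX hAX (th_inv_primes hqA hU), hU.2.1, hU.2.2⟩

/-- If a proper subgroup containing `A` meets two maximal invariant `q`-subgroups non-trivially,
they are conjugate by `O_{π(A)'}(C(A))`. -/
theorem th_conjBy_of_meet (hG : IsMinSimpleOddOrder G) {A : Subgroup G}
    (hA : TransitivityHypothesis A) (hqA : ¬ q ∣ Nat.card A) {Q₁ Q₂ : Subgroup G}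
    (h₁ : Q₁ ∈ maxInvSubgroups ⊤ A {q}) (h₂ : Q₂ ∈ maxInvSubgroups ⊤ A {q})
    {H : Subgroup G} (hH : H ≠ ⊤) (hAH : A ≤ H) (hH₁ : H ⊓ Q₁ ≠ ⊥) (hH₂ : H ⊓ Q₂ ≠ ⊥) :
    ConjBy (piCoreOf (primesNotDvd (Nat.card A)) (Subgroup.centralizer (A : Set G))) Q₁ Q₂ := by
  have hsol := th_solvable hG hA
  set K := piCoreOf (primesNotDvd (Nat.card A)) (Subgroup.centralizer (A : Set G)) with hK
  have hbig : ∀ S₁ ∈ maxInvSubgroups ⊤ A {q}, ∀ S₂ ∈ maxInvSubgroups ⊤ A {q},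
      1 < Nat.card ↥(S₁ ⊓ S₂) → ConjBy K S₁ S₂ := by
    intro S₁ hS₁ S₂ hS₂ hcard
    refine transitivity_induction hsol (fun D => 1 < Nat.card D) ?_
      (fun D D' hD hlt => hD.trans hlt) S₁ hS₁ S₂ hS₂ hcard
    intro D U₁ U₂ hD hDq hAD hU₁ hU₂ hlt₁ hlt₂
    have hD1 : D ≠ ⊥ := by
      rintro rfl
      simp at hD
    haveI : Group.IsNilpotent D := hDq.isNilpotent
    have hX : Subgroup.normalizer (D : Set G) ≠ ⊤ := minSimple_normalizer_ne_top hG hD1
      (minSimple_ne_top_of_isSolvable hG inferInstance)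
    obtain ⟨h1, h2, h3, h4⟩ := th_step_data hG hA hX hAD hqA
    exact ⟨_, U₁, U₂, h1, h2, h3, h4 U₁ hU₁, h4 U₂ hU₂, le_rfl, le_rfl, hlt₁, hlt₂⟩
  obtain ⟨h1, h2, h3, h4⟩ := th_step_data hG hA hH hAH hqA
  obtain ⟨-, hq1, hA1⟩ := mem_invSubgroups_singleton_iff.mp h₁.1
  obtain ⟨-, hq2, hA2⟩ := mem_invSubgroups_singleton_iff.mp h₂.1
  have hinv : ∀ Q : Subgroup G, IsPGroup q Q → A ≤ Subgroup.normalizer (Q : Set G) →
      H ⊓ Q ∈ invSubgroups H A {q} := fun Q hQq hQA =>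
    mem_invSubgroups_singleton_iff.mpr ⟨inf_le_left, hQq.to_le inf_le_right,
      CfsgLib.Coprime.le_normalizer_inf_inf (hAH.trans Subgroup.le_normalizer) hQA⟩
  exact conjBy_of_step hsol (n := 1) h₁ h₂ hbig h1 h2 h3 (h4 _ (hinv Q₁ hq1 hA1))
    (h4 _ (hinv Q₂ hq2 hA2)) inf_le_right inf_le_right
    ((Subgroup.one_lt_card_iff_ne_bot _).mpr hH₁) ((Subgroup.one_lt_card_iff_ne_bot _).mpr hH₂)

theorem exists_elementary_of_not_pRankLE {p k : ℕ} {Z : Subgroup G} (h : ¬ PRankLE p k Z) :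
    ∃ B : Subgroup G, B ≤ Z ∧ IsElementaryAbelian p B ∧ p ^ k < Nat.card B := by
  rw [CfsgLib.Base.pRankLE_iff] at h
  push Not at h
  obtain ⟨B, hB, hcard⟩ := h
  refine ⟨B.map Z.subtype, Subgroup.map_subtype_le _,
    CfsgLib.Base.isElementaryAbelian_map _ hB, ?_⟩
  rwa [CfsgLib.Base.card_map_subtype]

theorem mem_centre_commute {A : Subgroup G} {b : G}
    (hb : b ∈ A ⊓ Subgroup.centralizer (A : Set G)) :
    A ≤ Subgroup.centralizer ({b} : Set G) := fun a ha =>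
  Subgroup.mem_centralizer_singleton_iff.mpr (Subgroup.mem_centralizer_iff.mp hb.2 a ha)

theorem th_maxInv_ne_bot {A Q₀ : Subgroup G} (h : Q₀ ∈ invSubgroups ⊤ A {q}) (hne : Q₀ ≠ ⊥)
    {Q : Subgroup G} (hQ : Q ∈ maxInvSubgroups ⊤ A {q}) : Q ≠ ⊥ := by
  rintro rfl
  exact hne (hQ.2 _ h bot_le)

/-- Transitivity when `Z(A)` has rank at least three. -/
theorem th_transitive_rank_three (hG : IsMinSimpleOddOrder G) {A : Subgroup G}
    (hA : TransitivityHypothesis A) (hZ : ¬ RankLE 2 ↥(A ⊓ Subgroup.centralizer (A : Set G)))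
    (hqA : ¬ q ∣ Nat.card A) {Q₁ Q₂ : Subgroup G}
    (h₁ : Q₁ ∈ maxInvSubgroups ⊤ A {q}) (h₂ : Q₂ ∈ maxInvSubgroups ⊤ A {q}) :
    ConjBy (piCoreOf (primesNotDvd (Nat.card A)) (Subgroup.centralizer (A : Set G))) Q₁ Q₂ := by
  by_cases hb₁ : Q₁ = ⊥
  · have h0 : Q₂ = ⊥ := by
      by_contra hne
      exact th_maxInv_ne_bot h₂.1 hne h₁ hb₁
    rw [hb₁, h0]; exact ConjBy.refl _ _
  have hb₂ : Q₂ ≠ ⊥ := th_maxInv_ne_bot h₁.1 hb₁ h₂
  simp only [RankLE, not_forall] at hZ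
  obtain ⟨p, hp, hpr⟩ := hZ
  haveI : Fact p.Prime := ⟨hp⟩
  obtain ⟨B, hBZ, hBe, hB3⟩ := exists_elementary_of_not_pRankLE hpr
  obtain ⟨-, hq1, hA1⟩ := mem_invSubgroups_singleton_iff.mp h₁.1
  obtain ⟨-, hq2, hA2⟩ := mem_invSubgroups_singleton_iff.mp h₂.1
  have hBA : B ≤ A := hBZ.trans inf_le_left
  have hpA : p ∣ Nat.card A := by
    obtain ⟨i, hi⟩ := CfsgLib.Base.exists_card_eq_pow_of_isElementaryAbelian hBe
    rcases i with _ | i
    · rw [pow_zero] at hi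
      have h1 := Nat.one_le_pow 2 p hp.pos
      omega
    · exact (Dvd.intro_left _ (pow_succ p i).symm).trans (hi ▸ Subgroup.card_dvd_of_le hBA)
  have hc : ∀ Q : Subgroup G, IsPGroup q Q → (Nat.card Q).Coprime p := fun Q hQ => by
    obtain ⟨i, hi⟩ := IsPGroup.iff_card.mp hQ
    rw [hi]
    exact ((Nat.coprime_primes hq.out hp).mpr fun h => hqA (h ▸ hpA)).pow_left i
  haveI : Group.IsNilpotent Q₁ := hq1.isNilpotent
  haveI : Group.IsNilpotent Q₂ := hq2.isNilpotent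
  have hbot : ∀ X : Subgroup G, X ≤ Subgroup.normalizer ((⊥ : Subgroup G) : Set G) := fun X =>
    Subgroup.le_normalizer_of_normal
  obtain ⟨z, hz, hz1, ⟨u₁, hu₁, hu₁1, hzu₁⟩, u₂, hu₂, hu₂1, hzu₂⟩ := exists_common_centralized
    hBe hB3 (inferInstance : Group.IsSolvable Q₁) (inferInstance : Group.IsSolvable Q₂)
    (hc _ hq1) (hc _ hq2) (hbot _) (hbot _) (hbot _) (hBA.trans hA1) (hBA.trans hA2)
    (bot_lt_iff_ne_bot.mpr hb₁) (bot_lt_iff_ne_bot.mpr hb₂)
  refine th_conjBy_of_meet hG hA hqA h₁ h₂ (minSimple_centralizer_singleton_ne_top hG hz1)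
    (mem_centre_commute (hBZ hz)) ?_ ?_
  · exact fun h => hu₁1 (h ▸ ⟨Subgroup.mem_centralizer_singleton_iff.mpr hzu₁.eq.symm, hu₁⟩)
  · exact fun h => hu₂1 (h ▸ ⟨Subgroup.mem_centralizer_singleton_iff.mpr hzu₂.eq.symm, hu₂⟩)

/-- Transitivity when `Z(A)` has rank at least two and `q` divides `|C(A)|`. -/
theorem th_transitive_rank_two (hG : IsMinSimpleOddOrder G) {A : Subgroup G}
    (hA : TransitivityHypothesis A) (hZ : ¬ RankLE 1 ↥(A ⊓ Subgroup.centralizer (A : Set G)))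
    (hqA : ¬ q ∣ Nat.card A) (hqC : q ∣ Nat.card (Subgroup.centralizer (A : Set G)))
    {Q₁ Q₂ : Subgroup G}
    (h₁ : Q₁ ∈ maxInvSubgroups ⊤ A {q}) (h₂ : Q₂ ∈ maxInvSubgroups ⊤ A {q}) :
    ConjBy (piCoreOf (primesNotDvd (Nat.card A)) (Subgroup.centralizer (A : Set G))) Q₁ Q₂ := by
  obtain ⟨y₀, hy₀⟩ := exists_prime_orderOf_dvd_card' (G := Subgroup.centralizer (A : Set G)) q hqC
  set Q₀ := Subgroup.zpowers (y₀ : G) with hQ₀
  have hy₀' : orderOf (y₀ : G) = q := by rw [Subgroup.orderOf_coe]; exact hy₀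
  have hQ₀C : Q₀ ≤ Subgroup.centralizer (A : Set G) := Subgroup.zpowers_le.mpr y₀.2
  have hQ₀q : IsPGroup q Q₀ := IsPGroup.of_card (n := 1) (by
    rw [pow_one, hQ₀, Nat.card_zpowers, hy₀'])
  have hQ₀i : Q₀ ∈ invSubgroups ⊤ A {q} := mem_invSubgroups_singleton_iff.mpr ⟨le_top, hQ₀q,
    (Subgroup.le_centralizer_iff.mp hQ₀C).trans (Subgroup.centralizer_le_normalizer _)⟩
  have hQ₀ne : Q₀ ≠ ⊥ := fun h => by
    have := congrArg (fun X : Subgroup G => Nat.card X) h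
    simp only [hQ₀, Nat.card_zpowers, hy₀', Subgroup.card_bot] at this
    exact hq.out.ne_one this
  obtain ⟨S, hS, hQ₀S⟩ := exists_maxInvSubgroups_ge hQ₀i
  suffices h : ∀ Q ∈ maxInvSubgroups ⊤ A {q},
      ConjBy (piCoreOf (primesNotDvd (Nat.card A)) (Subgroup.centralizer (A : Set G))) Q S from
    (h _ h₁).trans (h _ h₂).symm
  intro Q hQ
  simp only [RankLE, not_forall] at hZ
  obtain ⟨p, hp, hpr⟩ := hZ
  haveI : Fact p.Prime := ⟨hp⟩
  obtain ⟨B, hBZ, hBe, hB2⟩ := exists_elementary_of_not_pRankLE hpr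
  rw [pow_one] at hB2
  obtain ⟨-, hQq, hQA⟩ := mem_invSubgroups_singleton_iff.mp hQ.1
  obtain ⟨x, hx, hx1⟩ : ∃ x ∈ B, x ∉ (⊥ : Subgroup G) := by
    refine SetLike.not_le_iff_exists.mp fun h => ?_
    have h1 := Subgroup.card_le_of_le h
    rw [Subgroup.card_bot] at h1
    have := hp.one_lt
    omega
  rw [Subgroup.mem_bot] at hx1
  have hox : Nat.card (Subgroup.zpowers x) = p := by
    rw [Nat.card_zpowers]; exact orderOf_eq_prime (hBe.2 _ hx) hx1
  obtain ⟨y, hy, hyx⟩ : ∃ y ∈ B, y ∉ Subgroup.zpowers x := by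
    refine SetLike.not_le_iff_exists.mp fun h => ?_
    have h1 := Subgroup.card_le_of_le h
    omega
  have hBA : B ≤ A := hBZ.trans inf_le_left
  have hqp : q ≠ p := by
    rintro rfl
    apply hqA
    rw [← orderOf_eq_prime (hBe.2 _ hx) hx1]
    exact Subgroup.orderOf_dvd_natCard A (hBA hx)
  obtain ⟨i, hi⟩ := IsPGroup.iff_card.mp hQq
  haveI : Group.IsNilpotent Q := hQq.isNilpotent
  obtain ⟨z, hz, hz1, u, hu, hu1, hzu⟩ := exists_centralized_not_mem (p := p) Q ⊥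
    (bot_lt_iff_ne_bot.mpr (th_maxInv_ne_bot hQ₀i hQ₀ne hQ)) Subgroup.le_normalizer_of_normal
    (inferInstance : Group.IsSolvable Q)
    (by rw [hi]; exact ((Nat.coprime_primes hq.out hp).mpr hqp).pow_left i)
    (x := x) (y := y) (CfsgLib.Base.isMulCommutative_subgroup_iff.mp hBe.1 _ hx _ hy)
    (hBe.2 _ hx) (hBe.2 _ hy) hx1 hyx (hQA (hBA hx)) (hQA (hBA hy))
    (Subgroup.le_normalizer_of_normal (K := ⊤) (Subgroup.mem_top _))
    (Subgroup.le_normalizer_of_normal (K := ⊤) (Subgroup.mem_top _))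
  have hzB : z ∈ B :=
    (Subgroup.closure_le B).mpr (Set.insert_subset hx (Set.singleton_subset_iff.mpr hy)) hz
  refine th_conjBy_of_meet hG hA hqA hQ hS (minSimple_centralizer_singleton_ne_top hG hz1)
    (mem_centre_commute (hBZ hzB)) ?_ ?_
  · exact fun h => hu1 (h ▸ ⟨Subgroup.mem_centralizer_singleton_iff.mpr hzu.eq.symm, hu⟩)
  · refine fun h => hQ₀ne (le_bot_iff.mp (h ▸ le_inf ?_ hQ₀S))
    exact hQ₀C.trans (Subgroup.centralizer_le (Set.singleton_subset_iff.mpr (hBA hzB)))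

end CfsgLib.OddOrder
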