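import Cfsg.Agent.Lib.OddOrder.SmallRank
import Cfsg.Agent.Lib.Base.Cores
import Cfsg.Agent.Lib.Base.MinimalNormal
import Cfsg.Agent.Lib.PLocal.Constrained

/-!
Solvable groups of odd order with `p`-rank at most two.
-/

set_option autoImplicit false

namespace CfsgLib.OddOrder

open Cfsg
open Subgroup
open scoped commutatorElement

theorem pPrimePCore_index {G : Type*} [Group G] [Finite G] {p : ℕ} [Fact p.Prime]
    (hc : commutator G ≤ pPrimePCore p G) : ((pPrimePCore p G).index).Coprime p := by
  have : (pPrimePCore p G).Normal := CfsgLib.PLocal.pPrimePCore_normal p G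
  rw [pPrimePCore, index_comap_of_surjective _ (QuotientGroup.mk'_surjective _)]
  set P := pCore p (G ⧸ pPrimeCore p G) with hP
  obtain ⟨S⟩ : Nonempty (Sylow p (G ⧸ pPrimeCore p G)) := inferInstance
  have hPS : P ≤ (S : Subgroup _) := CfsgLib.Base.pCore_le_sylow S
  have hcP : commutator (G ⧸ pPrimeCore p G) ≤ P := by
    have h := map_mono (f := QuotientGroup.mk' (pPrimeCore p G)) hc
    rw [_root_.commutator_def, map_commutator, map_top_of_surjective _ (QuotientGroup.mk'_surjective _),
      ← _root_.commutator_def] at h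
    exact h.trans (map_comap_le _ _)
  have hSn : (S : Subgroup (G ⧸ pPrimeCore p G)).Normal := ⟨fun x hx g => by
    rw [show g * x * g⁻¹ = ⁅g, x⁆ * x by rw [commutatorElement_def]; group]
    exact mul_mem (hPS (hcP (commutator_mem_commutator (mem_top g) (mem_top x)))) hx⟩
  rw [show P = (S : Subgroup _) from le_antisymm hPS (CfsgLib.Base.le_pCore S.isPGroup')]
  exact ((Fact.out : p.Prime).coprime_iff_not_dvd.2 S.not_dvd_index).symm

theorem hasNormalPComplement_of_normal {G : Type*} [Group G] [Finite G] {p : ℕ} [Fact p.Prime]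
    (N : Subgroup G) [N.Normal] (hN : (Nat.card N).Coprime p)
    (hi : ∀ q : ℕ, q.Prime → q ∣ N.index → q = p) : HasNormalPComplement p G := by
  obtain ⟨S⟩ : Nonempty (Sylow p G) := inferInstance
  have hp : p.Prime := Fact.out
  obtain ⟨n, hn⟩ := IsPGroup.iff_card.mp S.isPGroup'
  obtain ⟨k, hk⟩ : ∃ k, N.index = p ^ k :=
    ⟨_, Nat.eq_prime_pow_of_unique_prime_dvd index_ne_zero_of_finite fun {q} hq h => hi q hq h⟩
  have hnp : ∀ m, Nat.Coprime (Nat.card N) (p ^ m) := fun m => hN.pow_right m
  have hcard : Nat.card N * Nat.card S = Nat.card G := by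
    have h1 := N.card_mul_index
    have h2 := (S : Subgroup G).card_mul_index
    rw [hk] at h1
    rw [hn] at h2 ⊢
    have h3 : p ^ n ∣ p ^ k := (hnp n).symm.dvd_of_dvd_mul_left (h1 ▸ h2 ▸ dvd_mul_right _ _)
    have h4 : p ^ k ∣ p ^ n := by
      have hco : Nat.Coprime (p ^ k) (S : Subgroup G).index :=
        (hp.coprime_iff_not_dvd.2 S.not_dvd_index).pow_left k
      exact hco.dvd_of_dvd_mul_right (by rw [h2, ← h1]; exact dvd_mul_left _ _)
    rw [Nat.dvd_antisymm h3 h4, h1]
  exact ⟨S, N, inferInstance, isComplement'_of_coprime hcard (by rw [hn]; exact hnp n)⟩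

/-- What follows from `G' ≤ O_{p',p}(G)` and a bound on the primes. -/
theorem local_consequences {G : Type*} [Group G] [Finite G] {p : ℕ} [Fact p.Prime]
    (hodd : Odd (Nat.card G)) (hc : commutator G ≤ pPrimePCore p G)
    (hq : ∀ q : ℕ, q.Prime → q ∣ (pPrimeCore p G).index → q ≤ p) :
    (∀ q : ℕ, q.Prime → q ∣ (pPrimeCore p G).index → q ≤ p) ∧
      ((p = 3 ∨ ∀ q : ℕ, q.Prime → q ∣ Nat.card G → p ≤ q) → HasNormalPComplement p G) ∧
      HasNormalPComplement p ↥(commutator G) ∧
      (∀ L : Subgroup ↥(commutator G), (Nat.card L).Coprime p → L ≤ pPrimeCore p ↥(commutator G)) ∧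
      commutator G ≤ pPrimePCore p G ∧ ((pPrimePCore p G).index).Coprime p := by
  have hp : p.Prime := Fact.out
  set O := pPrimeCore p G with hO
  have hcop : (Nat.card O).Coprime p := CfsgLib.Base.pPrimeCore_coprime p G
  set N₀ := pPrimeCore p ↥(commutator G) with hN₀
  have hN₀i : ∀ q : ℕ, q.Prime → q ∣ N₀.index → q = p := by
    intro q hq hqd
    have hle : O.subgroupOf (commutator G) ≤ N₀ := by
      refine CfsgLib.Base.le_pPrimeCore ?_
      refine Nat.Coprime.coprime_dvd_left ?_ hcop
      calc Nat.card (O.subgroupOf (commutator G))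
          = Nat.card ↥(O ⊓ commutator G) := Nat.card_congr
            (((O.subgroupOf (commutator G)).equivMapOfInjective _ (commutator G).subtype_injective).trans
              (MulEquiv.subgroupCongr (subgroupOf_map_subtype _ _))).toEquiv
        _ ∣ Nat.card O := card_dvd_of_le inf_le_left
    have h1 : q ∣ O.relIndex (commutator G) := hqd.trans (index_dvd_of_le hle)
    have h2 := h1.trans (CfsgLib.PLocal.relIndex_dvd_relIndex_of_normal O hc)
    have hPi : Nat.card (pCore p (G ⧸ O)) = O.relIndex (pPrimePCore p G) := by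
      rw [← CfsgLib.PLocal.card_map_mk'_eq_relIndex, pPrimePCore,
        map_comap_eq_self_of_surjective (QuotientGroup.mk'_surjective _)]
    rw [← hPi] at h2
    obtain ⟨k, hk⟩ := IsPGroup.iff_card.mp (CfsgLib.Base.isPGroup_pCore p (G ⧸ O))
    rw [hk] at h2
    exact (Nat.prime_dvd_prime_iff_eq hq hp).1 (hq.dvd_of_dvd_pow h2)
  refine ⟨hq, fun h => hasNormalPComplement_of_normal O hcop fun q hqp hqd => ?_,
    hasNormalPComplement_of_normal N₀ (CfsgLib.Base.pPrimeCore_coprime p _) hN₀i, ?_, hc,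
    pPrimePCore_index hc⟩
  · have hqG : q ∣ Nat.card G := hqd.trans O.index_dvd_card
    rcases h with h | h
    · have h3 := hq q hqp hqd
      have h2 := hqp.two_le
      rcases hodd.of_dvd_nat hqG with ⟨m, hm⟩
      omega
    · exact le_antisymm (hq q hqp hqd) (h q hqp hqG)
  · intro L hL x hx
    have h1 : (x : commutator G ⧸ N₀) = 1 := by
      rw [← orderOf_eq_one_iff]
      refine Nat.eq_one_of_dvd_coprimes ?_ (orderOf_map_dvd (QuotientGroup.mk' N₀) x)
        (orderOf_dvd_natCard (x : commutator G ⧸ N₀))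
      have hi : ∃ k, N₀.index = p ^ k :=
        ⟨_, Nat.eq_prime_pow_of_unique_prime_dvd index_ne_zero_of_finite fun {q} hq h => hN₀i q hq h⟩
      obtain ⟨k, hk⟩ := hi
      rw [show Nat.card (commutator G ⧸ N₀) = p ^ k from hk]
      exact (hL.coprime_dvd_left (orderOf_dvd_natCard L hx)).pow_right k
    exact (QuotientGroup.eq_one_iff x).1 h1

/-- The quotient by `O_{p'}` embeds each `p`-subgroup, so has the same `p`-rank. -/
theorem pRankLE_quotient_pPrimeCore {G : Type*} [Group G] [Finite G] {p : ℕ} [Fact p.Prime] {k : ℕ}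
    (hr : PRankLE p k G) : PRankLE p k (G ⧸ pPrimeCore p G) := by
  obtain ⟨S⟩ : Nonempty (Sylow p G) := inferInstance
  set f := QuotientGroup.mk' (pPrimeCore p G) with hf
  refine (CfsgLib.Base.pRankLE_iff_sylow (S.mapSurjective (QuotientGroup.mk'_surjective _))).2 ?_
  have hinj : Function.Injective (f.subgroupMap (S : Subgroup G)) := by
    rw [← MonoidHom.ker_eq_bot_iff, eq_bot_iff]
    intro x hx
    have h1 : (x : G) ∈ pPrimeCore p G ⊓ (S : Subgroup G) := by
      refine ⟨?_, x.2⟩
      have := congrArg Subtype.val hx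
      exact (QuotientGroup.eq_one_iff _).1 this
    rw [inf_comm, CfsgLib.Base.inf_eq_bot_of_isPGroup_of_coprime S.isPGroup'
      (CfsgLib.Base.pPrimeCore_coprime p G)] at h1
    exact Subtype.ext (mem_bot.1 h1)
  let e := MulEquiv.ofBijective (f.subgroupMap (S : Subgroup G))
    ⟨hinj, f.subgroupMap_surjective _⟩
  exact (CfsgLib.Base.pRankLE_congr e).1 (CfsgLib.Base.pRankLE_subgroup hr _)

/-- `p`-rank at most two: the derived group lies in `O_{p',p}` and the primes are at most `p`. -/
theorem smallRank_core {G : Type*} [Group G] [Finite G] [Group.IsSolvable G] {p : ℕ} [Fact p.Prime]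
    (hodd : Odd (Nat.card G)) (hp : p ≠ 2) (hr : PRankLE p 2 G) :
    commutator G ≤ pPrimePCore p G ∧ ∀ q : ℕ, q.Prime → q ∣ (pPrimeCore p G).index → q ≤ p := by
  set Q := G ⧸ pPrimeCore p G with hQ
  have hQs : Group.IsSolvable Q := inferInstance
  have hQodd : Odd (Nat.card Q) := hodd.of_dvd_nat (pPrimeCore p G).index_dvd_card
  set R := pCore p Q with hR
  have hRp : IsPGroup p R := CfsgLib.Base.isPGroup_pCore p Q
  have hrR : PRankLE p 2 R := CfsgLib.Base.pRankLE_subgroup (pRankLE_quotient_pPrimeCore hr) R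
  have hC : centralizer (R : Set Q) ≤ R :=
    CfsgLib.Base.centralizer_pCore_le_of_isSolvable (CfsgLib.Base.pPrimeCore_quotient_pPrimeCore p G)
  have hN : ∀ x : Q, x ∈ normalizer (R : Set Q) := fun x => by
    rw [show normalizer (R : Set Q) = ⊤ from normalizer_eq_top R]; exact mem_top x
  have hf : ∀ a : Q, (orderOf a).Coprime p → a ∈ centralizer (R : Set Q) → a = 1 := by
    intro a ha hc
    obtain ⟨k, hk⟩ := IsPGroup.iff_orderOf.mp hRp ⟨a, hC hc⟩
    rw [orderOf_mk] at hk
    rw [← orderOf_eq_one_iff]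
    exact Nat.eq_one_of_dvd_coprimes (ha.pow_right k) dvd_rfl (hk ▸ dvd_rfl)
  refine ⟨?_, fun q hq hqd => ?_⟩
  · have hT : Group.IsSolvable (⊤ : Subgroup Q) := inferInstance
    have h := (isPGroup_commutator (A := (⊤ : Subgroup Q)) hp hRp hrR (fun x _ => hN x)
      (by rw [card_top]; exact hQodd) fun a _ => hf a).map (⊤ : Subgroup Q).subtype
    rw [map_subtype_commutator, ← _root_.commutator_def] at h
    have h2 : commutator Q ≤ R := CfsgLib.Base.le_pCore h
    intro x hx
    refine mem_comap.2 (h2 ?_)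
    have h3 := mem_map_of_mem (QuotientGroup.mk' (pPrimeCore p G)) hx
    rw [_root_.commutator_def, map_commutator,
      map_top_of_surjective _ (QuotientGroup.mk'_surjective _), ← _root_.commutator_def] at h3
    exact h3
  · by_cases hqp : q = p
    · exact hqp.le
    have : Fact q.Prime := ⟨hq⟩
    obtain ⟨a, ha⟩ := exists_prime_orderOf_dvd_card' (G := Q) q hqd
    refine (prime_dvd_and_lt hp hRp hrR hq hqp ha (hN a) fun hc => hq.ne_one ?_).2.le
    rw [← ha, hf a (by rw [ha]; exact (Nat.coprime_primes hq Fact.out).2 hqp) hc, orderOf_one]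

end CfsgLib.OddOrder
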