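import Cfsg.Agent.Lib.OddOrder.NarrowAction
import Cfsg.Agent.Lib.OddOrder.SmallRankSolvable
import Cfsg.Agent.Lib.OddOrder.PLengthOne

/-!
Solvable groups of odd order with a narrow Sylow `p`-subgroup, and the derived group when the
Fitting subgroup is small off an elementary abelian subgroup.
-/

set_option autoImplicit false

namespace CfsgLib.OddOrder

open Cfsg
open Subgroup
open scoped commutatorElement Pointwise

variable {G : Type*} [Group G] [Finite G] {p : ℕ} [Fact p.Prime]

omit [Finite G] [Fact p.Prime] in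
theorem relIndex_dvd_of_normal_in {R C B : Subgroup G}
    (hn : C ≤ normalizer (R : Set G)) (hB : B ≤ C) : R.relIndex B ∣ R.relIndex C := by
  have : (R.subgroupOf C).Normal := normal_subgroupOf_of_le_normalizer hn
  have h := CfsgLib.PLocal.relIndex_dvd_relIndex_of_normal (R.subgroupOf C)
    (le_top : B.subgroupOf C ≤ ⊤)
  rwa [relIndex_subgroupOf hB, relIndex_top_right] at h

/-- The centralizer in the definition of a narrow group has rank at most two. -/
theorem pRankLE_two_of_mul_cyclic {C R₀ R₁ : Subgroup G} (h0 : Nat.card R₀ = p)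
    (h1 : IsCyclic R₁) (hcomm : ∀ a ∈ R₀, ∀ b ∈ R₁, a * b = b * a) (hC : R₀ ⊔ R₁ = C) :
    PRankLE p 2 C := by
  intro B hB hBp
  set B' := B.map C.subtype with hB'
  have hcard : Nat.card B = Nat.card B' :=
    Nat.card_congr (B.equivMapOfInjective _ C.subtype_injective).toEquiv
  have hR₁C : R₁ ≤ C := hC ▸ le_sup_right
  have hn : C ≤ normalizer (R₁ : Set G) := by
    rw [← hC]
    refine sup_le (fun a ha => ?_) le_normalizer
    refine centralizer_le_normalizer _ (mem_centralizer_iff.2 fun b hb => (hcomm a ha b hb).symm)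
  have hrel : R₁.relIndex C ≤ p := by
    rw [← h0, ← hC]
    have h := Nat.card_congr (subgroupOfEquivOfLe (le_sup_right : R₁ ≤ R₀ ⊔ R₁)).toEquiv
    have hmul : Nat.card R₁ * R₁.relIndex (R₀ ⊔ R₁) = Nat.card ↥(R₀ ⊔ R₁) := by
      rw [← h]; exact (R₁.subgroupOf (R₀ ⊔ R₁)).card_mul_index
    have hset : ((R₀ ⊔ R₁ : Subgroup G) : Set G) = (R₀ : Set G) * (R₁ : Set G) :=
      coe_mul_of_left_le_normalizer_right R₀ R₁ (by
        intro a ha
        exact centralizer_le_normalizer _ (mem_centralizer_iff.2 fun b hb => (hcomm a ha b hb).symm))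
    have hle : Nat.card ↥(R₀ ⊔ R₁) ≤ Nat.card R₀ * Nat.card R₁ := by
      let f : R₀ × R₁ → ↥(R₀ ⊔ R₁) := fun x => ⟨x.1 * x.2, mul_mem_sup x.1.2 x.2.2⟩
      rw [← Nat.card_prod]
      refine Nat.card_le_card_of_surjective f fun y => ?_
      obtain ⟨a, ha, b, hb, hab⟩ := Set.mem_mul.1 (hset ▸ y.2 : (y : G) ∈ (R₀ : Set G) * (R₁ : Set G))
      exact ⟨(⟨a, ha⟩, ⟨b, hb⟩), Subtype.ext hab⟩
    refine Nat.le_of_mul_le_mul_left ?_ (Nat.card_pos (α := R₁))
    rw [hmul, Nat.mul_comm]
    exact hle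
  have hi : Nat.card ↥(B' ⊓ R₁) ≤ p := by
    have hcyc : IsCyclic ↥(B' ⊓ R₁) :=
      isCyclic_of_injective (inclusion (inf_le_right : B' ⊓ R₁ ≤ R₁)) (inclusion_injective _)
    obtain ⟨g, hg⟩ := hcyc.exists_generator
    have hgp : g ^ p = 1 := by
      obtain ⟨b, hb, hbg⟩ := g.2.1
      exact Subtype.ext (by
        rw [SubmonoidClass.coe_pow, ← hbg]
        exact congrArg (fun t : C => (t : G)) (hBp b hb))
    rw [← orderOf_eq_card_of_forall_mem_zpowers hg]
    exact Nat.le_of_dvd (Fact.out : p.Prime).pos (orderOf_dvd_of_pow_eq_one hgp)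
  rw [hcard, ← (R₁.subgroupOf B').card_mul_index, pow_two]
  refine Nat.mul_le_mul ?_ ?_
  · refine le_trans (le_of_eq ?_) hi
    exact Nat.card_congr (((R₁.subgroupOf B').equivMapOfInjective _ B'.subtype_injective).trans
      (MulEquiv.subgroupCongr (by rw [subgroupOf_map_subtype, inf_comm]))).toEquiv
  · exact le_trans (Nat.le_of_dvd (Nat.pos_of_ne_zero index_ne_zero_of_finite)
      (relIndex_dvd_of_normal_in hn (map_subtype_le B))) hrel

/-- The hypothesis of narrowness as a rank bound on a centralizer. -/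
theorem exists_small_centralizer_of_narrow {P : Type*} [Group P] [Finite P] (h : IsNarrow p P) :
    ∃ E : Subgroup P, IsElementaryAbelian p E ∧ PRankLE p 2 ↥(centralizer (E : Set P)) := by
  rcases h with h | ⟨R₀, R₁, h0, h1, -, hcomm, hC⟩
  · exact ⟨⊥, CfsgLib.Base.isElementaryAbelian_bot p, CfsgLib.Base.pRankLE_subgroup h _⟩
  · refine ⟨R₀, ?_, pRankLE_two_of_mul_cyclic h0 h1 hcomm hC⟩
    have : IsCyclic R₀ := isCyclic_of_prime_card h0
    refine CfsgLib.Base.isElementaryAbelian_iff.2 ⟨fun a ha b hb => ?_, fun a ha => ?_⟩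
    · exact congrArg Subtype.val (IsCyclic.commGroup.mul_comm (⟨a, ha⟩ : R₀) ⟨b, hb⟩)
    · have := pow_card_eq_one' (x := (⟨a, ha⟩ : R₀))
      rw [h0] at this
      exact congrArg Subtype.val this

/-- The conclusion of `smallRank_core` for a narrow Sylow subgroup and `p`-length one. -/
theorem narrow_core [Group.IsSolvable G] (hodd : Odd (Nat.card G)) (hp : p ≠ 2) (S : Sylow p G)
    (hS : IsNarrow p ↥(S : Subgroup G))
    (hpl : ¬ PRankLE p 2 ↥(S : Subgroup G) → PLengthLE p 1 G) :
    commutator G ≤ pPrimePCore p G ∧ ∀ q : ℕ, q.Prime → q ∣ (pPrimeCore p G).index → q ≤ p := by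
  by_cases hr : PRankLE p 2 ↥(S : Subgroup G)
  · exact smallRank_core hodd hp ((CfsgLib.Base.pRankLE_iff_sylow S).2 hr)
  set O := pPrimeCore p G with hO
  set f := QuotientGroup.mk' O with hf
  set Q := G ⧸ O with hQ
  set R := pCore p Q with hR
  have hRp : IsPGroup p R := CfsgLib.Base.isPGroup_pCore p Q
  have hSR : (S : Subgroup G).map f = R := by
    refine le_antisymm (map_le_pCore_quotient (hpl hr) S.isPGroup') ?_
    exact CfsgLib.Base.pCore_le_sylow (S.mapSurjective (QuotientGroup.mk'_surjective O))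
  have hinj : Function.Injective (f.subgroupMap (S : Subgroup G)) := by
    rw [← MonoidHom.ker_eq_bot_iff, eq_bot_iff]
    intro x hx
    have h1 : (x : G) ∈ O ⊓ (S : Subgroup G) :=
      ⟨(QuotientGroup.eq_one_iff _).1 (congrArg Subtype.val hx), x.2⟩
    rw [inf_comm, CfsgLib.Base.inf_eq_bot_of_isPGroup_of_coprime S.isPGroup'
      (CfsgLib.Base.pPrimeCore_coprime p G)] at h1
    exact Subtype.ext (mem_bot.1 h1)
  let e : (S : Subgroup G) ≃* R := (MulEquiv.ofBijective (f.subgroupMap (S : Subgroup G))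
    ⟨hinj, f.subgroupMap_surjective _⟩).trans (MulEquiv.subgroupCongr hSR)
  obtain ⟨E₀, hE₀, hC₀⟩ := exists_small_centralizer_of_narrow hS
  set E := (E₀.map e.toMonoidHom).map R.subtype with hE
  have hEe : IsElementaryAbelian p E :=
    CfsgLib.Base.isElementaryAbelian_map _ (CfsgLib.Base.isElementaryAbelian_map _ hE₀)
  have hC : PRankLE p 2 ↥(R ⊓ centralizer (E : Set Q)) := by
    have hle : ∀ x : ↥(R ⊓ centralizer (E : Set Q)),
        e.symm ⟨x.1, x.2.1⟩ ∈ centralizer (E₀ : Set (S : Subgroup G)) := fun x => by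
      refine mem_centralizer_iff.2 fun y hy => e.injective ?_
      rw [map_mul, map_mul, e.apply_symm_apply]
      exact Subtype.ext (mem_centralizer_iff.1 x.2.2 (e y : Q) ⟨e y, ⟨y, hy, rfl⟩, rfl⟩)
    let g : ↥(R ⊓ centralizer (E : Set Q)) →* centralizer (E₀ : Set (S : Subgroup G)) :=
      (e.symm.toMonoidHom.comp (inclusion inf_le_left)).codRestrict _ hle
    refine CfsgLib.Base.pRankLE_of_injective g (fun a b h => ?_) hC₀
    exact inclusion_injective inf_le_left (e.symm.injective (congrArg Subtype.val h))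
  have hQodd : Odd (Nat.card Q) := hodd.of_dvd_nat O.index_dvd_card
  have hCR : centralizer (R : Set Q) ≤ R :=
    CfsgLib.Base.centralizer_pCore_le_of_isSolvable (CfsgLib.Base.pPrimeCore_quotient_pPrimeCore p G)
  have hN : (⊤ : Subgroup Q) ≤ normalizer (R : Set Q) := by rw [normalizer_eq_top R]
  have hTodd : Odd (Nat.card (⊤ : Subgroup Q)) := by rw [card_top]; exact hQodd
  refine ⟨fun x hx => ?_, fun q hq hqd => ?_⟩
  · refine mem_comap.2 (CfsgLib.Base.le_pCore (N := commutator Q) ?_ ?_)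
    · intro y
      have h : ((commutator (⊤ : Subgroup Q)).map (⊤ : Subgroup Q).subtype) = commutator Q := by
        rw [map_subtype_commutator, ← _root_.commutator_def]
      obtain ⟨z, hz, hzy⟩ := Subgroup.mem_map.1 (h.symm.le y.2)
      obtain ⟨k, hk⟩ := exists_pow_mem_centralizer_of_narrow (A := (⊤ : Subgroup Q)) hp hRp
        (map_subtype_le _) hEe hC hN hTodd ⟨z, hz⟩
      obtain ⟨j, hj⟩ := hRp ⟨_, hCR hk⟩
      refine ⟨k + j, Subtype.ext ?_⟩
      rw [pow_add, pow_mul, SubmonoidClass.coe_pow, SubmonoidClass.coe_pow, ← hzy]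
      exact congrArg Subtype.val hj
    · have h3 := mem_map_of_mem (QuotientGroup.mk' O) hx
      rw [_root_.commutator_def, map_commutator,
        map_top_of_surjective _ (QuotientGroup.mk'_surjective _), ← _root_.commutator_def] at h3
      exact h3
  · by_contra hlt
    have : Fact q.Prime := ⟨hq⟩
    obtain ⟨a, ha⟩ := exists_prime_orderOf_dvd_card' (G := Q) q hqd
    have hord : orderOf (⟨a, mem_top a⟩ : (⊤ : Subgroup Q)) = q := by rw [← orderOf_coe]; exact ha
    have hcop : q.Coprime p := (Nat.coprime_primes hq Fact.out).2 (by omega)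
    have hc := mem_centralizer_of_narrow (A := (⊤ : Subgroup Q)) hp hRp (map_subtype_le _) hEe hC hN
      (a := ⟨a, mem_top a⟩) (gl2_trivial_of_gt hp hq (by omega) hord) (by rw [hord]; exact hcop)
    obtain ⟨k, hk⟩ := IsPGroup.iff_orderOf.mp hRp ⟨a, hCR hc⟩
    rw [orderOf_mk] at hk
    exact hq.ne_one (Nat.eq_one_of_dvd_coprimes (hcop.pow_right k) dvd_rfl
      (by rw [← hk, ha]))

/-- The derived group lies in the Fitting subgroup when `F(G) ∩ C(E)` has rank at most two. -/
theorem commutator_le_fitting_of_centralizer [Group.IsSolvable G] (hodd : Odd (Nat.card G))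
    {E : Subgroup G} (hE : E ≤ fittingSubgroup G) (hEe : IsElementaryAbelian p E)
    (hr : RankLE 2 ↥(fittingSubgroup G ⊓ centralizer (E : Set G))) :
    commutator G ≤ fittingSubgroup G := by
  refine commutator_le_fitting hodd fun q hq hq2 c hc => ?_
  have : Fact q.Prime := ⟨hq⟩
  have hEp : E ≤ pCore p G := fun x hx => by
    refine pPower_mem_pCore_of_mem_fitting (k := 1) (hE hx) ?_
    rw [pow_one]; exact (CfsgLib.Base.isElementaryAbelian_iff.1 hEe).2 x hx
  have h : ((commutator (⊤ : Subgroup G)).map (⊤ : Subgroup G).subtype) = commutator G := by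
    rw [map_subtype_commutator, ← _root_.commutator_def]
  obtain ⟨y, hy, hyx⟩ := h.symm ▸ hc
  have hN : (⊤ : Subgroup G) ≤ normalizer (pCore q G : Set G) := by rw [normalizer_eq_top (pCore q G)]
  have hTodd : Odd (Nat.card (⊤ : Subgroup G)) := by rw [card_top]; exact hodd
  by_cases hqp : q = p
  · subst hqp
    obtain ⟨j, hj⟩ := exists_pow_mem_centralizer_of_narrow hq2
      (CfsgLib.Base.isPGroup_pCore q G) hEp hEe
      (CfsgLib.Base.pRankLE_of_injective (inclusion (inf_le_inf_right _
        (CfsgLib.Base.pCore_le_fittingSubgroup q G))) (inclusion_injective _) (hr q hq))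
      hN hTodd ⟨y, hy⟩
    exact ⟨j, by rw [← hyx]; exact hj⟩
  · have hle : pCore q G ≤ fittingSubgroup G ⊓ centralizer (E : Set G) := by
      refine le_inf (CfsgLib.Base.pCore_le_fittingSubgroup q G) fun x hx => ?_
      refine mem_centralizer_iff.2 fun e he => ?_
      have hd : Disjoint (pCore p G) (pCore q G) := IsPGroup.disjoint_of_ne p q (fun h => hqp h.symm)
        _ _ (CfsgLib.Base.isPGroup_pCore p G) (CfsgLib.Base.isPGroup_pCore q G)
      exact commute_of_normal_of_disjoint _ _ inferInstance inferInstance hd e x (hEp he) hx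
    obtain ⟨j, hj⟩ := exists_pow_mem_centralizer hq2 (CfsgLib.Base.isPGroup_pCore q G)
      (CfsgLib.Base.pRankLE_of_injective (inclusion hle) (inclusion_injective _) (hr q hq))
      hN hTodd ⟨y, hy⟩
    exact ⟨j, by rw [← hyx]; exact hj⟩

end CfsgLib.OddOrder
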