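import Cfsg.Agent.Lib.OddOrder.PLengthZGroupConfig
import Cfsg.Agent.Lib.FT.PLengthClosure
import Cfsg.Agent.Lib.Coprime.Hall
import Cfsg.Agent.Lib.Base.Fitting

/-!
BG Theorem 3.6: if a prime order subgroup of a complement has a Z-group as centralizer in the
normal Hall subgroup `H`, then `⁅H, R⁆` has `p`-length at most one.
-/

set_option autoImplicit false

universe u

namespace CfsgLib.OddOrder.PLengthZGroup

open Cfsg Subgroup
open scoped commutatorElement

section PLength

variable {G : Type u} [Group G] [Finite G] {p : ℕ} [Fact p.Prime]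

theorem pLengthLE_one_of_injective {K : Type u} [Group K] [Finite K] (f : G →* K)
    (hf : Function.Injective f) (h : PLengthLE p 1 K) : PLengthLE p 1 G := by
  rw [CfsgLib.FT.pLengthLE_one_iff] at h ⊢
  have : (pPrimePCore p K).Normal := CfsgLib.PLocal.pPrimePCore_normal p K
  have hle : (pPrimePCore p K).comap f ≤ pPrimePCore p G := by
    refine CfsgLib.FT.le_pPrimePCore fun x hx => ?_
    obtain ⟨k, hk⟩ := CfsgLib.FT.exists_pow_mem_of_mem_pPrimePCore (mem_comap.1 hx)
    have hc : (Nat.card ((pPrimeCore p K).comap f)).Coprime p :=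
      (CfsgLib.Base.pPrimeCore_coprime p K).coprime_dvd_left (card_comap_dvd_of_injective _ _ hf)
    exact ⟨k, CfsgLib.Base.le_pPrimeCore hc (mem_comap.2 (by simpa using hk))⟩
  refine h.coprime_dvd_left ((index_dvd_of_le hle).trans ?_)
  rw [index_comap]
  exact relIndex_dvd_index_of_normal _ _

/-- A normal `p`-subgroup with index prime to `p`. -/
theorem pLengthLE_one_of_pGroup {P : Subgroup G} [P.Normal] (hP : IsPGroup p P)
    (hi : P.index.Coprime p) : PLengthLE p 1 G := by
  rw [CfsgLib.FT.pLengthLE_one_iff]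
  refine hi.coprime_dvd_left (index_dvd_of_le (CfsgLib.FT.le_pPrimePCore fun x hx => ?_))
  obtain ⟨k, hk⟩ := hP ⟨x, hx⟩
  refine ⟨k, ?_⟩
  rw [show x ^ p ^ k = 1 from congrArg Subtype.val hk]
  exact one_mem _

theorem pLengthLE_one_of_quotient {N : Subgroup G} [N.Normal] (hN : (Nat.card N).Coprime p)
    (h : PLengthLE p 1 (G ⧸ N)) : PLengthLE p 1 G := by
  rw [CfsgLib.FT.pLengthLE_one_iff] at h ⊢
  have : (pPrimePCore p (G ⧸ N)).Normal := CfsgLib.PLocal.pPrimePCore_normal p _
  have hle : (pPrimePCore p (G ⧸ N)).comap (QuotientGroup.mk' N) ≤ pPrimePCore p G := by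
    refine CfsgLib.FT.le_pPrimePCore fun x hx => ?_
    obtain ⟨k, hk⟩ := CfsgLib.FT.exists_pow_mem_of_mem_pPrimePCore (mem_comap.1 hx)
    refine ⟨k, ?_⟩
    rw [← map_pow] at hk
    rw [← CfsgLib.Base.comap_mk'_pPrimeCore N hN]
    exact hk
  refine h.coprime_dvd_left ((index_dvd_of_le hle).trans ?_)
  rw [index_comap_of_surjective _ (QuotientGroup.mk'_surjective N)]

theorem pLengthLE_one_of_two {N₁ N₂ : Subgroup G} [N₁.Normal] [N₂.Normal] (hd : N₁ ⊓ N₂ = ⊥)
    (h₁ : PLengthLE p 1 (G ⧸ N₁)) (h₂ : PLengthLE p 1 (G ⧸ N₂)) : PLengthLE p 1 G := by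
  rw [CfsgLib.FT.pLengthLE_one_iff] at h₁ h₂ ⊢
  have : (pPrimePCore p (G ⧸ N₁)).Normal := CfsgLib.PLocal.pPrimePCore_normal p _
  have : (pPrimePCore p (G ⧸ N₂)).Normal := CfsgLib.PLocal.pPrimePCore_normal p _
  set π₁ := QuotientGroup.mk' N₁
  set π₂ := QuotientGroup.mk' N₂
  set A₁ := (pPrimeCore p (G ⧸ N₁)).comap π₁
  set A₂ := (pPrimeCore p (G ⧸ N₂)).comap π₂
  have hinj : Function.Injective ((π₁.prod π₂).comp (A₁ ⊓ A₂).subtype) := by
    rw [← MonoidHom.ker_eq_bot_iff, eq_bot_iff]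
    intro a ha
    have h3 : (π₁ a, π₂ a) = 1 := ha
    rw [Prod.mk_eq_one] at h3
    have h4 : (a : G) ∈ N₁ ⊓ N₂ :=
      ⟨(QuotientGroup.eq_one_iff _).1 h3.1, (QuotientGroup.eq_one_iff _).1 h3.2⟩
    rw [hd, Subgroup.mem_bot] at h4
    exact Subgroup.mem_bot.2 (Subtype.ext h4)
  have hA : (Nat.card ↥(A₁ ⊓ A₂)).Coprime p := by
    have h3 : ((π₁.prod π₂).comp (A₁ ⊓ A₂).subtype).range ≤
        (pPrimeCore p (G ⧸ N₁)).prod (pPrimeCore p (G ⧸ N₂)) := by
      rintro _ ⟨a, rfl⟩
      exact ⟨(Subgroup.mem_inf.1 a.2).1, (Subgroup.mem_inf.1 a.2).2⟩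
    rw [Nat.card_congr (MonoidHom.ofInjective hinj).toEquiv]
    refine Nat.Coprime.coprime_dvd_left (card_dvd_of_le h3) ?_
    rw [Nat.card_congr ((pPrimeCore p (G ⧸ N₁)).prodEquiv (pPrimeCore p (G ⧸ N₂))).toEquiv,
      Nat.card_prod]
    exact Nat.Coprime.mul_left (CfsgLib.Base.pPrimeCore_coprime p _)
      (CfsgLib.Base.pPrimeCore_coprime p _)
  set T₁ := (pPrimePCore p (G ⧸ N₁)).comap π₁
  set T₂ := (pPrimePCore p (G ⧸ N₂)).comap π₂
  have hle : T₁ ⊓ T₂ ≤ pPrimePCore p G := by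
    refine CfsgLib.FT.le_pPrimePCore fun x hx => ?_
    obtain ⟨k₁, hk₁⟩ := CfsgLib.FT.exists_pow_mem_of_mem_pPrimePCore (mem_comap.1 (mem_inf.1 hx).1)
    obtain ⟨k₂, hk₂⟩ := CfsgLib.FT.exists_pow_mem_of_mem_pPrimePCore (mem_comap.1 (mem_inf.1 hx).2)
    refine ⟨k₁ + k₂, CfsgLib.Base.le_pPrimeCore hA (mem_inf.2 ⟨mem_comap.2 ?_, mem_comap.2 ?_⟩)⟩
    · rw [map_pow, pow_add, pow_mul]
      exact pow_mem hk₁ _
    · rw [map_pow, add_comm, pow_add, pow_mul]
      exact pow_mem hk₂ _
  refine Nat.Coprime.coprime_dvd_left (index_dvd_of_le hle) ?_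
  refine Nat.Coprime.coprime_dvd_left ?_ (Nat.Coprime.mul_left (k := p) h₁ h₂)
  have hn : T₁.Normal := inferInstance
  rw [← relIndex_mul_index (inf_le_right : T₁ ⊓ T₂ ≤ T₂), inf_relIndex_right]
  refine mul_dvd_mul ((relIndex_dvd_index_of_normal T₁ T₂).trans ?_) ?_
  · rw [index_comap_of_surjective _ (QuotientGroup.mk'_surjective N₁)]
  · rw [index_comap_of_surjective _ (QuotientGroup.mk'_surjective N₂)]

end PLength

variable {G : Type u} [Group G] [Finite G] {p : ℕ} [Fact p.Prime]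

/-- A `p`-group normalizing a nontrivial `p`-group fixes a nontrivial element of it. -/
theorem inf_centralizer_ne_bot {P V : Subgroup G} (hP : IsPGroup p P) (hV : IsPGroup p V)
    (hVne : V ≠ ⊥) (hPV : P ≤ normalizer (V : Set G)) : V ⊓ centralizer (P : Set G) ≠ ⊥ := by
  classical
  let _ : MulAction P V :=
    { smul := fun g v => ⟨g * v * (g : G)⁻¹, (mem_normalizer_iff.1 (hPV g.2) _).1 v.2⟩
      one_smul := fun v => Subtype.ext (show (1 : G) * v * (1 : G)⁻¹ = v by simp)
      mul_smul := fun g h v => Subtype.ext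
        (show (g : G) * h * v * ((g : G) * h)⁻¹ = g * (h * v * (h : G)⁻¹) * (g : G)⁻¹ by group) }
  have h1 : (1 : V) ∈ MulAction.fixedPoints P V := fun g =>
    Subtype.ext (show (g : G) * ((1 : V) : G) * (g : G)⁻¹ = ((1 : V) : G) by simp)
  have hd : p ∣ Nat.card V := by
    obtain ⟨k, hk⟩ := IsPGroup.iff_card.1 hV
    rcases k with _ | k
    · exact absurd (V.eq_bot_of_card_eq (by rw [hk, pow_zero])) hVne
    · rw [hk, pow_succ]
      exact Dvd.intro_left _ rfl
  obtain ⟨v, hv, hne⟩ := hP.exists_fixed_point_of_prime_dvd_card_of_fixed_point V hd h1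
  intro e
  apply hne
  have hm : (v : G) ∈ V ⊓ centralizer (P : Set G) := mem_inf.2 ⟨v.2, mem_centralizer_iff.2
    fun g hg => by
      have h2 : g * v * g⁻¹ = (v : G) := congrArg Subtype.val (hv ⟨g, hg⟩)
      conv_rhs => rw [← h2, inv_mul_cancel_right]⟩
  rw [e, Subgroup.mem_bot] at hm
  exact (Subtype.ext hm).symm

/-- A cyclic group has at most one subgroup of order `p`. -/
theorem zpowers_eq_of_isCyclic {C : Subgroup G} [IsCyclic C] {a b : G} (ha : a ∈ C) (hb : b ∈ C)
    (ha' : a ^ p = 1) (hb' : b ^ p = 1) (ha1 : a ≠ 1) (hb1 : b ≠ 1) : zpowers a = zpowers b := by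
  classical
  let _ := Fintype.ofFinite C
  have hcard : Nat.card {z : C // z ^ p = 1} ≤ p := by
    rw [Nat.card_eq_fintype_card, Fintype.card_subtype]
    exact IsCyclic.card_pow_eq_one_le (Fact.out : p.Prime).pos
  suffices h : ∀ x ∈ C, x ^ p = 1 → x ≠ 1 → ∀ y ∈ C, y ^ p = 1 → y ∈ zpowers x from
    le_antisymm (zpowers_le.2 (h b hb hb' hb1 a ha ha')) (zpowers_le.2 (h a ha ha' ha1 b hb hb'))
  intro x hx hx' hx1 y hy hy'
  by_contra hn
  have hxC : zpowers x ≤ C := zpowers_le.2 hx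
  let f : Option (zpowers x) → {z : C // z ^ p = 1} := fun o =>
    match o with
    | none => ⟨⟨y, hy⟩, Subtype.ext hy'⟩
    | some z => ⟨⟨z, hxC z.2⟩, Subtype.ext (by
        obtain ⟨i, hi⟩ := mem_zpowers_iff.1 z.2
        show (z : G) ^ p = 1
        rw [← hi, ← zpow_natCast, ← zpow_mul, mul_comm, zpow_mul, zpow_natCast, hx', one_zpow])⟩
  have hf : Function.Injective f := by
    rintro (_ | u) (_ | v) h
    · rfl
    · have e : y = (v : G) := congrArg (fun z : {z : C // z ^ p = 1} => ((z : C) : G)) h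
      exact absurd (e ▸ v.2) hn
    · have e : (u : G) = y := congrArg (fun z : {z : C // z ^ p = 1} => ((z : C) : G)) h
      exact absurd (e ▸ u.2) hn
    · exact congrArg some (Subtype.ext
        (congrArg (fun z : {z : C // z ^ p = 1} => ((z : C) : G)) h))
  have h2 := Nat.card_le_card_of_injective f hf
  rw [Finite.card_option, Nat.card_zpowers, orderOf_eq_prime hx' hx1] at h2
  omega

theorem pLengthLE_aux (n : ℕ) : ∀ {G : Type u} [Group G] [Finite G] (H R R₀ : Subgroup G)
    [H.Normal], Nat.card G ≤ n → Group.IsSolvable H → Odd (Nat.card G) → H ⊔ R = ⊤ →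
    (Nat.card H).Coprime (Nat.card R) → R₀ ≤ R → (Nat.card R₀).Prime →
    IsZGroup ↥(H ⊓ centralizer (R₀ : Set G)) → PLengthLE p 1 ↥⁅H, R⁆ := by
  induction n with
  | zero =>
    intro G _ _ H R R₀ _ hn
    exact absurd hn (not_le.2 Nat.card_pos)
  | succ n IH =>
  intro G _ _ H R R₀ _ hn hsolH hodd hHR hcop hR₀ hR₀p hZ
  classical
  set r := Nat.card R₀ with hr
  have hRH : R ≤ normalizer (H : Set G) := le_normalizer_of_normal
  have hcardG : Nat.card G = Nat.card R * Nat.card H := by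
    rw [← card_top (G := G), ← hHR, sup_comm]
    exact CfsgLib.Coprime.card_sup_of_inf_eq_bot hRH
      (CfsgLib.Coprime.inf_eq_bot_of_coprime hcop.symm)
  -- recursion to smaller subgroups
  have recurse : ∀ X R' : Subgroup G, X ≤ H → R' ≤ R → R₀ ≤ R' → R' ≤ normalizer (X : Set G) →
      (X < H ∨ R' < R) → PLengthLE p 1 ↥⁅X, R'⁆ := by
    intro X R' hX hR' hR₀' hn' hlt
    set G₁ := X ⊔ R' with hG₁
    have hXG₁ : X ≤ G₁ := le_sup_left
    have hR'G₁ : R' ≤ G₁ := le_sup_right
    have hG₁n : G₁ ≤ normalizer (X : Set G) := sup_le le_normalizer hn'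
    have : (X.subgroupOf G₁).Normal := normal_subgroupOf_of_le_normalizer hG₁n
    have hcop' : (Nat.card X).Coprime (Nat.card R') :=
      (hcop.coprime_dvd_left (card_dvd_of_le hX)).coprime_dvd_right (card_dvd_of_le hR')
    have hcard : Nat.card G₁ ≤ n := by
      have h : Nat.card G₁ = Nat.card R' * Nat.card X := by
        rw [hG₁, sup_comm]
        exact CfsgLib.Coprime.card_sup_of_inf_eq_bot hn'
          (CfsgLib.Coprime.inf_eq_bot_of_coprime hcop'.symm)
      have hstrict : Nat.card R' * Nat.card X < Nat.card R * Nat.card H := by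
        rcases hlt with h' | h'
        · exact Nat.mul_lt_mul_of_le_of_lt (card_le_of_le hR')
            (Set.ncard_lt_ncard (s := (X : Set G)) h' (Set.toFinite _)) Nat.card_pos
        · exact Nat.mul_lt_mul_of_lt_of_le
            (Set.ncard_lt_ncard (s := (R' : Set G)) h' (Set.toFinite _)) (card_le_of_le hX)
            Nat.card_pos
      omega
    have hsolX : Group.IsSolvable (X.subgroupOf G₁) :=
      CfsgLib.Coprime.isSolvable_subgroupOf G₁ (CfsgLib.Coprime.isSolvable_of_le hX hsolH)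
    have hZ₁ : IsZGroup ↥(X.subgroupOf G₁ ⊓ centralizer ((R₀.subgroupOf G₁ : Subgroup G₁) :
        Set G₁)) := by
      let f : ↥(X.subgroupOf G₁ ⊓ centralizer ((R₀.subgroupOf G₁ : Subgroup G₁) : Set G₁)) →*
          ↥(H ⊓ centralizer (R₀ : Set G)) :=
        { toFun := fun z => ⟨((z : G₁) : G), hX (mem_inf.1 z.2).1, fun y hy =>
            congrArg Subtype.val (mem_centralizer_iff.1 (mem_inf.1 z.2).2
              ⟨y, hR'G₁ (hR₀' hy)⟩ hy)⟩
          map_one' := rfl
          map_mul' := fun a b => rfl }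
      exact IsZGroup.of_injective (f := f) fun a b h =>
        Subtype.ext (Subtype.ext (congrArg (fun z : ↥(H ⊓ centralizer (R₀ : Set G)) => (z : G)) h))
    have h := IH (X.subgroupOf G₁) (R'.subgroupOf G₁) (R₀.subgroupOf G₁) hcard hsolX
      (hodd.of_dvd_nat G₁.card_subgroup_dvd_card)
      (by rw [← subgroupOf_sup hXG₁ hR'G₁, subgroupOf_self])
      (by rwa [CfsgLib.Base.card_subgroupOf hXG₁, CfsgLib.Base.card_subgroupOf hR'G₁])
      (fun z hz => hR₀' hz) (by rwa [CfsgLib.Base.card_subgroupOf (hR₀'.trans hR'G₁)]) hZ₁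
    have hmap : (⁅X.subgroupOf G₁, R'.subgroupOf G₁⁆).map G₁.subtype = ⁅X, R'⁆ := by
      rw [map_commutator, map_subgroupOf_eq_of_le hXG₁, map_subgroupOf_eq_of_le hR'G₁]
    rw [← hmap]
    exact pLengthLE_one_of_injective
      ((⁅X.subgroupOf G₁, R'.subgroupOf G₁⁆).equivMapOfInjective _
        G₁.subtype_injective).symm.toMonoidHom
      ((⁅X.subgroupOf G₁, R'.subgroupOf G₁⁆).equivMapOfInjective _
        G₁.subtype_injective).symm.injective h
  -- we may assume that `H = ⁅H, R⁆`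
  by_cases hcom : ⁅H, R⁆ < H
  · have h := recurse ⁅H, R⁆ R hcom.le le_rfl hR₀ (normalizer_commutator_ge_right H R) (Or.inl hcom)
    rwa [CfsgLib.Coprime.commutator_commutator_eq hRH hcop.symm (Or.inr hsolH)] at h
  have hHeq : ⁅H, R⁆ = H := eq_of_le_of_not_lt (commutator_le_left H R) hcom
  rw [hHeq]
  by_cases hpH : p ∣ Nat.card H
  swap
  · refine pLengthLE_one_of_pGroup (P := (⊥ : Subgroup H)) IsPGroup.of_bot ?_
    rw [index_bot]
    exact ((Fact.out : p.Prime).coprime_iff_not_dvd.2 hpH).symm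
  have hoddH : Odd (Nat.card H) := hodd.of_dvd_nat H.card_subgroup_dvd_card
  have hp2 : p ≠ 2 := fun e => by
    rw [e] at hpH
    exact Nat.not_even_iff_odd.2 hoddH (even_iff_two_dvd.2 hpH)
  have hrR : r ∣ Nat.card R := card_dvd_of_le hR₀
  have hrH : ¬ r ∣ Nat.card H := fun h =>
    hR₀p.ne_one (Nat.eq_one_of_dvd_coprimes hcop h hrR)
  have hpr : p ≠ r := fun e => hrH (e ▸ hpH)
  have hr2 : r ≠ 2 := fun e => by
    have := hodd.of_dvd_nat R₀.card_subgroup_dvd_card
    rw [← hr, e] at this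
    exact absurd this (by decide)
  -- quotients by normal subgroups inside `H`
  have hquot : ∀ N : Subgroup G, [N.Normal] → N ≤ H → N ≠ ⊥ →
      PLengthLE p 1 ↥(H.map (QuotientGroup.mk' N)) := by
    intro N _ hNH hN1
    set π := QuotientGroup.mk' N with hπ
    have : (H.map π).Normal := ‹H.Normal›.map π (QuotientGroup.mk'_surjective N)
    have hlt : Nat.card (G ⧸ N) ≤ n := by
      have h := card_eq_card_quotient_mul_card_subgroup N
      have h2 : 1 < Nat.card N := (N.one_lt_card_iff_ne_bot).2 hN1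
      have h3 : Nat.card (G ⧸ N) * 2 ≤ Nat.card (G ⧸ N) * Nat.card N := Nat.mul_le_mul_left _ h2
      have h4 : 0 < Nat.card (G ⧸ N) := Nat.card_pos
      omega
    have hsol' : Group.IsSolvable (H.map π) := CfsgLib.Coprime.isSolvable_map π hsolH
    have hR₀N : (Nat.card R₀).Coprime (Nat.card N) :=
      (hcop.symm.coprime_dvd_left hrR).coprime_dvd_right (card_dvd_of_le hNH)
    have hR₀card : Nat.card (R₀.map π) = r := by
      rcases hR₀p.eq_one_or_self_of_dvd _ (card_map_dvd R₀ π) with h | h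
      · exfalso
        have hle : R₀ ≤ N := fun x hx => (QuotientGroup.eq_one_iff x).1
          (mem_bot.1 ((eq_bot_of_card_eq _ h).le ⟨x, hx, rfl⟩))
        exact hR₀p.ne_one (Nat.eq_one_of_dvd_coprimes hR₀N dvd_rfl (card_dvd_of_le hle))
      · exact h
    have hZ' : IsZGroup ↥(H.map π ⊓ centralizer ((R₀.map π : Subgroup (G ⧸ N)) : Set (G ⧸ N))) := by
      have hle : H.map π ⊓ centralizer ((R₀.map π : Subgroup (G ⧸ N)) : Set (G ⧸ N)) ≤
          (H ⊓ centralizer (R₀ : Set G)).map π := by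
        rintro y ⟨⟨h, hh, rfl⟩, hc⟩
        have hfix : ∀ a ∈ R₀, h⁻¹ * (a * h * a⁻¹) ∈ N := by
          intro a ha
          have h1 := mem_centralizer_iff.1 hc _ ⟨a, ha, rfl⟩
          rw [← QuotientGroup.eq_one_iff, ← QuotientGroup.mk'_apply, map_mul, map_mul, map_mul,
            h1, map_inv, map_inv, mul_inv_cancel_right, inv_mul_cancel]
        obtain ⟨c, hc', hn'⟩ := CfsgLib.Coprime.exists_centralizing_in_coset
          (le_normalizer_of_normal (H := N)) hR₀N
          (Or.inr (CfsgLib.Coprime.isSolvable_of_le hNH hsolH)) hfix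
        refine ⟨c, mem_inf.2 ⟨by simpa using mul_mem hh (hNH hn'), hc'⟩, ?_⟩
        exact ((QuotientGroup.eq (s := N)).2 hn').symm
      have : IsZGroup ↥((H ⊓ centralizer (R₀ : Set G)).map π) :=
        IsZGroup.of_surjective (π.subgroupMap_surjective _)
      exact IsZGroup.of_injective (f := inclusion hle) (inclusion_injective hle)
    have h := IH (H.map π) (R.map π) (R₀.map π) hlt hsol'
      (hodd.of_dvd_nat (card_quotient_dvd_card N))
      (by rw [← Subgroup.map_sup, hHR, map_top_of_surjective _ (QuotientGroup.mk'_surjective N)])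
      ((hcop.coprime_dvd_left (card_map_dvd H π)).coprime_dvd_right (card_map_dvd R π))
      (map_mono hR₀) (hR₀card ▸ hR₀p) hZ'
    rwa [← map_commutator, hHeq] at h
  have hquot' : ∀ N : Subgroup G, [N.Normal] → N ≤ H → N ≠ ⊥ →
      PLengthLE p 1 (H ⧸ N.subgroupOf H) := by
    intro N _ hNH hN1
    let f : H ⧸ N.subgroupOf H →* ↥(H.map (QuotientGroup.mk' N)) :=
      QuotientGroup.lift (N.subgroupOf H) ((QuotientGroup.mk' N).subgroupMap H)
        (fun h hh => Subtype.ext ((QuotientGroup.eq_one_iff _).2 hh))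
    refine pLengthLE_one_of_injective f ?_ (hquot N hNH hN1)
    rw [← MonoidHom.ker_eq_bot_iff, eq_bot_iff]
    intro y hy
    obtain ⟨h, rfl⟩ := QuotientGroup.mk'_surjective _ y
    rw [Subgroup.mem_bot, QuotientGroup.mk'_apply, QuotientGroup.eq_one_iff]
    exact (QuotientGroup.eq_one_iff (N := N) (h : G)).1 (congrArg Subtype.val hy)
  have hdisj : ∀ N : Subgroup G, [N.Normal] → N ≤ H → N ≠ ⊥ → ∀ N' : Subgroup G, [N'.Normal] →
      N' ≤ H → N' ≠ ⊥ → N ⊓ N' = ⊥ → PLengthLE p 1 H := by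
    intro N _ hNH hN1 N' _ hN'H hN'1 h
    refine pLengthLE_one_of_two (N₁ := N.subgroupOf H) (N₂ := N'.subgroupOf H) ?_
      (hquot' N hNH hN1) (hquot' N' hN'H hN'1)
    refine (eq_bot_iff_forall _).2 fun a ha => ?_
    have : (a : G) ∈ N ⊓ N' := ⟨(mem_inf.1 ha).1, (mem_inf.1 ha).2⟩
    rw [h, Subgroup.mem_bot] at this
    exact Subtype.ext this
  -- `O_{p'}(H) = 1`
  by_contra hgoal
  have hOp' : ∀ N : Subgroup G, N.Normal → N ≤ H → (Nat.card N).Coprime p → N = ⊥ := by
    intro N hNn hNH hc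
    by_contra hN1
    refine hgoal (pLengthLE_one_of_quotient (N := N.subgroupOf H) ?_ (hquot' N hNH hN1))
    rwa [CfsgLib.Base.card_subgroupOf hNH]
  -- the minimal normal subgroup `V`
  have hH1 : H ≠ ⊥ := by
    intro e
    rw [e, card_bot] at hpH
    exact (Fact.out : p.Prime).ne_one (Nat.dvd_one.1 hpH)
  obtain ⟨V, hVH, hVmin⟩ := CfsgLib.Base.exists_isMinimalNormal_le hH1
  have hVn : V.Normal := hVmin.normal
  have hVne := hVmin.ne_bot
  obtain ⟨l, hl, hVcomm, hVexp, hVl⟩ :=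
    hVmin.exists_prime (CfsgLib.Coprime.isSolvable_of_le hVH hsolH)
  obtain rfl : l = p := by
    by_contra hne
    refine hVne (hOp' V hVn hVH ?_)
    have := Fact.mk hl
    obtain ⟨k, hk⟩ := IsPGroup.iff_card.1 hVl
    rw [hk]
    exact ((Nat.coprime_primes hl Fact.out).2 hne).pow_left k
  have hVel : IsElementaryAbelian l V := ⟨hVcomm, hVexp⟩
  have huniq : ∀ N : Subgroup G, N.Normal → N ≤ H → N ≠ ⊥ → V ≤ N := by
    intro N hNn hNH hN1
    exact (hVmin.le_or_inf_eq_bot N).resolve_right fun h =>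
      hgoal (hdisj V hVH hVne N hNH hN1 h)
  -- the `p'`-core modulo `V`
  set π := QuotientGroup.mk' V with hπ
  set Hb := H.map π with hHb
  have hHbn : Hb.Normal := ‹H.Normal›.map π (QuotientGroup.mk'_surjective V)
  have hHb1 : PLengthLE l 1 Hb := hquot V hVH hVne
  set O := (pPrimeCore l Hb).map Hb.subtype with hO
  have hOn : O.Normal := CfsgLib.Base.normal_map_subtype _
  have hOne : O ≠ ⊥ := by
    intro e
    apply hgoal
    rw [CfsgLib.FT.pLengthLE_one_iff] at hHb1
    have e' : pPrimeCore l Hb = ⊥ := (map_eq_bot_iff_of_injective _ Hb.subtype_injective).1 e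
    have : (pPrimePCore l Hb).Normal := CfsgLib.PLocal.pPrimePCore_normal l Hb
    refine pLengthLE_one_of_pGroup (P := (pPrimePCore l Hb).comap (π.subgroupMap H)) ?_ ?_
    · rintro ⟨x, hx⟩
      obtain ⟨k, hk⟩ := CfsgLib.FT.exists_pow_mem_of_mem_pPrimePCore (mem_comap.1 hx)
      rw [e', Subgroup.mem_bot, ← map_pow] at hk
      have hmem : ((x ^ l ^ k : H) : G) ∈ V :=
        (QuotientGroup.eq_one_iff _).1 (congrArg Subtype.val hk)
      refine ⟨k + 1, Subtype.ext (Subtype.ext ?_)⟩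
      simp only [SubmonoidClass.coe_pow] at hmem ⊢
      rw [pow_succ, pow_mul, hVexp _ hmem]
      rfl
    · rw [index_comap_of_surjective _ (π.subgroupMap_surjective H)]
      exact hHb1
  set K := O.comap π with hK
  have hKn : K.Normal := hOn.comap π
  have hKH : K ≤ H := by
    rw [hK]
    refine (comap_mono (map_subtype_le _)).trans ?_
    rw [hHb, comap_map_eq, QuotientGroup.ker_mk', sup_eq_left.2 hVH]
  have hVK : V ≤ K := fun v hv => by
    rw [hK, mem_comap, hπ, QuotientGroup.mk'_apply, (QuotientGroup.eq_one_iff v).2 hv]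
    exact one_mem _
  have hOcop : (Nat.card O).Coprime l := by
    rw [hO, CfsgLib.Base.card_map_subtype]
    exact CfsgLib.Base.pPrimeCore_coprime l Hb
  have hKsol : Group.IsSolvable K := CfsgLib.Coprime.isSolvable_of_le hKH hsolH
  have hcopKR : (Nat.card R).Coprime (Nat.card K) := hcop.symm.coprime_dvd_right (card_dvd_of_le hKH)
  have hD : CfsgLib.Coprime.HallD {l}ᶜ K := CfsgLib.Coprime.hallD_of_solvable _
  obtain ⟨Q₀, hQ₀, hRQ₀⟩ := CfsgLib.Coprime.exists_invariant_piHall
    (A := R) (K := K) le_normalizer_of_normal hcopKR (Or.inr hKsol) hD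
  have hQ₀K : Q₀ ≤ K := hQ₀.1
  have hQ₀cop : (Nat.card Q₀).Coprime l := by
    refine Nat.coprime_of_dvd fun k hk h1 h2 => ?_
    exact hQ₀.2.1 k hk h1 ((Nat.prime_dvd_prime_iff_eq hk Fact.out).1 h2)
  have hVQ₀ : V ⊔ Q₀ = K := by
    have hd : V ⊓ Q₀ = ⊥ := CfsgLib.Coprime.inf_eq_bot_of_coprime (by
      obtain ⟨k, hk⟩ := IsPGroup.iff_card.1 hVl
      rw [hk]; exact (hQ₀cop.symm).pow_left k)
    refine eq_of_le_of_card_ge (sup_le hVK hQ₀K) ?_
    have hKcard : Nat.card K = Nat.card V * Nat.card O := by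
      rw [hK, hπ, CfsgLib.Base.card_comap_mk']
    rw [sup_comm, CfsgLib.Coprime.card_sup_of_inf_eq_bot le_normalizer_of_normal
      (by rwa [inf_comm]), hKcard, mul_comm (Nat.card V)]
    refine Nat.mul_le_mul_right _ (Nat.le_of_dvd Nat.card_pos ?_)
    have hrel : Nat.card Q₀ * Q₀.relIndex K = Nat.card V * Nat.card O := by
      rw [← hKcard, ← relIndex_bot_left Q₀, ← relIndex_bot_left K,
        relIndex_mul_relIndex _ _ _ bot_le hQ₀K]
    have hc1 : (Nat.card O).Coprime (Q₀.relIndex K) := Nat.coprime_of_dvd fun k hk h1 h2 => by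
      refine hQ₀.2.2 k hk ?_ h2
      rintro (rfl : k = l)
      exact hk.ne_one (Nat.eq_one_of_dvd_coprimes hOcop h1 dvd_rfl)
    exact hc1.dvd_of_dvd_mul_right (Dvd.intro_left _ hrel.symm)
  have hVQN : V ⊔ normalizer (Q₀ : Set G) = ⊤ := by
    rw [eq_top_iff, ← hD.frattini hQ₀K (CfsgLib.Coprime.piHallOf_iff.1 hQ₀).2]
    refine sup_le ?_ le_sup_right
    rw [← hVQ₀]
    exact sup_le le_sup_left (le_normalizer.trans le_sup_right)
  set N₀ := normalizer (Q₀ : Set G) with hN₀
  -- a subgroup normalized by `V` and `N₀` is normal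
  have hnormal : ∀ U : Subgroup G, V ≤ normalizer (U : Set G) → N₀ ≤ normalizer (U : Set G) →
      U.Normal := fun U h1 h2 =>
    normalizer_eq_top_iff.1 (top_le_iff.1 (hVQN ▸ sup_le h1 h2))
  have hVab : ∀ U : Subgroup G, U ≤ V → V ≤ normalizer (U : Set G) := fun U hU v hv =>
    mem_normalizer_fintype fun u hu => by
      have h := congrArg Subtype.val (hVcomm.is_comm.comm ⟨v, hv⟩ ⟨u, hU hu⟩)
      rw [show v * u = u * v from h, mul_inv_cancel_right]
      exact hu
  have hVN₀ : V ⊓ N₀ = ⊥ := by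
    refine (hVmin.eq_bot_or_eq (hnormal _ (hVab _ inf_le_left)
      (CfsgLib.Coprime.le_normalizer_inf_inf le_normalizer_of_normal le_normalizer)) inf_le_left)
      |>.resolve_right fun h => ?_
    have htop : N₀ = ⊤ := top_le_iff.1 (hVQN ▸ sup_le (h.ge.trans inf_le_right) le_rfl)
    have hQn : Q₀.Normal := normalizer_eq_top_iff.1 htop
    have hQb := hOp' Q₀ hQn (hQ₀K.trans hKH) hQ₀cop
    rw [hQb, sup_bot_eq] at hVQ₀
    apply hOne
    have : O = K.map π := by rw [hK, hπ, CfsgLib.Base.map_mk'_comap]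
    rw [this, ← hVQ₀, hπ, CfsgLib.Base.map_mk'_eq_bot_iff]
  set M := H ⊓ N₀ with hM
  have hMH : M ≤ H := inf_le_left
  have hsolM : Group.IsSolvable M := CfsgLib.Coprime.isSolvable_of_le hMH hsolH
  have hN₀M : N₀ ≤ normalizer (M : Set G) :=
    CfsgLib.Coprime.le_normalizer_inf_inf le_normalizer_of_normal le_normalizer
  have hRM : R ≤ normalizer (M : Set G) := hRQ₀.trans hN₀M
  have hVM : V ⊓ M = ⊥ := le_bot_iff.1 (hVN₀ ▸ inf_le_inf le_rfl inf_le_right)
  have hdec : ∀ h ∈ H, ∃ v ∈ V, ∃ m ∈ M, v * m = h := by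
    intro h hh
    have h1 : h ∈ N₀ ⊔ V := by rw [sup_comm, hVQN]; trivial
    obtain ⟨m, hm, v, hv, e⟩ :=
      (CfsgLib.Coprime.mem_sup_iff_of_le_normalizer le_normalizer_of_normal).1 h1
    refine ⟨m * v * m⁻¹, hVn.conj_mem v hv m, m, mem_inf.2 ⟨?_, hm⟩,
      by rw [inv_mul_cancel_right]; exact e⟩
    rw [show m = m * v * v⁻¹ by group, e]
    exact mul_mem hh (inv_mem (hVH hv))
  have hCV : M ⊓ centralizer (V : Set G) = ⊥ := by
    by_contra hne
    have hn' : (M ⊓ centralizer (V : Set G)).Normal := hnormal _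
      (fun v hv => mem_normalizer_fintype fun u hu => by
        rw [mem_centralizer_iff.1 (mem_inf.1 hu).2 v hv, mul_inv_cancel_right]
        exact hu)
      (CfsgLib.Coprime.le_normalizer_inf_inf hN₀M
        (CfsgLib.Coprime.le_normalizer_centralizer le_normalizer_of_normal))
    exact hVne (le_bot_iff.1 (hVM ▸ le_inf le_rfl
      ((huniq _ hn' (inf_le_left.trans hMH) hne).trans inf_le_left)))
  have hCH : H ⊓ centralizer (V : Set G) ≤ V := by
    rintro h ⟨hh, hc⟩
    obtain ⟨v, hv, m, hm, rfl⟩ := hdec h hh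
    have hm' : m ∈ M ⊓ centralizer (V : Set G) := ⟨hm, by
      have hvc : v ∈ centralizer (V : Set G) := mem_centralizer_iff.2 fun w hw =>
        congrArg Subtype.val (hVcomm.is_comm.comm ⟨w, hw⟩ ⟨v, hv⟩)
      simpa using mul_mem (inv_mem hvc) hc⟩
    rw [hCV, Subgroup.mem_bot] at hm'
    rwa [hm', mul_one]
  have hM1 : PLengthLE l 1 M := by
    refine pLengthLE_one_of_injective ((π.subgroupMap H).comp (inclusion hMH)) ?_ hHb1
    rw [← MonoidHom.ker_eq_bot_iff, eq_bot_iff]
    intro m hm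
    have h : (m : G) ∈ V ⊓ M :=
      ⟨(QuotientGroup.eq_one_iff _).1 (congrArg Subtype.val hm), m.2⟩
    rw [hVM, Subgroup.mem_bot] at h
    exact Subgroup.mem_bot.2 (Subtype.ext h)
  -- `O_p(M) = 1`
  have hOpM : (pCore l M).map M.subtype = ⊥ := by
    set P := (pCore l M).map M.subtype with hP
    have hPp : IsPGroup l P := CfsgLib.Base.isPGroup_map_pCore l M
    have hPN : N₀ ≤ normalizer (P : Set G) :=
      hN₀M.trans (CfsgLib.Base.normalizer_le_normalizer_map_subtype M _)
    set E := V ⊓ centralizer (P : Set G) with hE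
    have hEne : E ≠ ⊥ := inf_centralizer_ne_bot hPp hVl hVne le_normalizer_of_normal
    have hEn : E.Normal := hnormal E (hVab E inf_le_left)
      (CfsgLib.Coprime.le_normalizer_inf_inf le_normalizer_of_normal
        (CfsgLib.Coprime.le_normalizer_centralizer hPN))
    have hEV := (hVmin.eq_bot_or_eq hEn inf_le_left).resolve_left hEne
    rw [← le_bot_iff, ← hCV]
    refine le_inf (map_subtype_le _) fun y hy => mem_centralizer_iff.2 fun v hv => ?_
    exact (mem_centralizer_iff.1 (mem_inf.1 (hEV.ge hv)).2 y hy).symm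
  have hMR : ⁅M, R⁆ = M := by
    refine le_antisymm (CfsgLib.Coprime.commutator_le_of_le_normalizer hRM) fun m hm => ?_
    have hHM : H.map π = M.map π := by
      refine le_antisymm ?_ (map_mono hMH)
      rintro _ ⟨h, hh, rfl⟩
      obtain ⟨v, hv, m, hm, rfl⟩ := hdec h hh
      refine ⟨m, hm, ?_⟩
      rw [map_mul, hπ, QuotientGroup.mk'_apply, QuotientGroup.mk'_apply,
        (QuotientGroup.eq_one_iff v).2 hv, one_mul]
    have h2 : H.map π = (⁅M, R⁆).map π := by
      conv_lhs => rw [← hHeq, map_commutator, hHM, ← map_commutator]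
    obtain ⟨k, hk, e⟩ := h2.le (mem_map_of_mem π (hMH hm))
    have h3 : k⁻¹ * m ∈ V ⊓ M :=
      mem_inf.2 ⟨(QuotientGroup.eq (s := V)).1 e,
        mul_mem (inv_mem (CfsgLib.Coprime.commutator_le_of_le_normalizer hRM hk)) hm⟩
    rw [hVM, Subgroup.mem_bot, inv_mul_eq_one] at h3
    exact h3 ▸ hk
  have hRV : R ≤ normalizer (V : Set G) := le_normalizer_of_normal
  -- an `R`-invariant Sylow subgroup of `M`
  have hcopM : (Nat.card R).Coprime (Nat.card M) := hcop.symm.coprime_dvd_right (card_dvd_of_le hMH)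
  obtain ⟨P₀, hP₀⟩ := CfsgLib.Coprime.exists_invariant_sylow (p := l) hRM hcopM (Or.inr hsolM)
  set S := (P₀ : Subgroup M).map M.subtype with hS
  have hSp : IsPGroup l S := P₀.2.map _
  have hSM : S ≤ M := map_subtype_le _
  have hSne : S ≠ ⊥ := by
    intro e
    apply hgoal
    have hM' : (Nat.card M).Coprime l := by
      refine ((Fact.out : l.Prime).coprime_iff_not_dvd.2 fun hd => ?_).symm
      exact P₀.ne_bot_of_dvd_card hd ((map_eq_bot_iff_of_injective _ M.subtype_injective).1 e)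
    refine pLengthLE_one_of_pGroup (P := V.subgroupOf H)
      (hVl.comap_of_injective H.subtype H.subtype_injective) ?_
    have hsup : V ⊔ M = H := le_antisymm (sup_le hVH hMH) fun h hh => by
      obtain ⟨v, hv, m, hm, rfl⟩ := hdec h hh
      exact mul_mem_sup hv hm
    show (V.relIndex H).Coprime l
    rw [← hsup, sup_comm, relIndex_sup_right]
    exact hM'.coprime_dvd_left (relIndex_dvd_card V M)
  -- a `p`-subgroup of `⁅Y, R'⁆` lies in `O_p(Y)`
  have claim : ∀ Y R' : Subgroup G, Y ≤ M → R' ≤ R → R₀ ≤ R' → R' ≤ normalizer (Y : Set G) →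
      (Y < M ∨ R' < R) → ∀ T : Subgroup G, IsPGroup l T → T ≤ ⁅Y, R'⁆ →
        T ≤ (pCore l Y).map Y.subtype := by
    intro Y R' hY hR' hR₀' hnY hlt T hT hTc
    set X := V ⊔ Y with hX
    have hXH : X ≤ H := sup_le hVH (hY.trans hMH)
    have hnX : R' ≤ normalizer (X : Set G) :=
      CfsgLib.Coprime.le_normalizer_sup_sup (hR'.trans hRV) hnY
    have hlt' : X < H ∨ R' < R := hlt.imp_left fun h => lt_of_le_of_ne hXH fun e => by
      refine h.ne (le_antisymm h.le fun m hm => ?_)
      have h1 : m ∈ Y ⊔ V := by rw [sup_comm, ← hX, e]; exact hMH hm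
      obtain ⟨y, hy, v, hv, rfl⟩ :=
        (CfsgLib.Coprime.mem_sup_iff_of_le_normalizer le_normalizer_of_normal).1 h1
      have h2 : v ∈ V ⊓ M := ⟨hv, by simpa using mul_mem (inv_mem (hY hy)) hm⟩
      rw [hVM, Subgroup.mem_bot] at h2
      rwa [h2, mul_one]
    have h := recurse X R' hXH hR' hR₀' hnX hlt'
    set D := ⁅X, R'⁆ with hD'
    have hDX : D ≤ X := CfsgLib.Coprime.commutator_le_of_le_normalizer hnX
    have hXD : X ≤ normalizer (D : Set G) := normalizer_commutator_ge_left X R'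
    have hXO : ∀ (L : Subgroup D) [L.Characteristic],
        X ≤ normalizer ((L.map D.subtype : Subgroup G) : Set G) := fun L _ =>
      hXD.trans (CfsgLib.Base.normalizer_le_normalizer_map_subtype D L)
    have hOD : pPrimeCore l D = ⊥ := by
      set Od := (pPrimeCore l D).map D.subtype with hOd
      have hdj : Od ⊓ V = ⊥ := CfsgLib.Coprime.inf_eq_bot_of_coprime (by
        obtain ⟨k, hk⟩ := IsPGroup.iff_card.1 hVl
        rw [hk]
        exact (CfsgLib.Base.coprime_card_map_pPrimeCore D).pow_right k)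
      have hcen : Od ≤ centralizer (V : Set G) := by
        rw [← commutator_eq_bot_iff_le_centralizer, ← le_bot_iff, ← hdj]
        refine le_inf ?_ (commutator_le_right _ _)
        rw [commutator_comm]
        exact CfsgLib.Coprime.commutator_le_of_le_normalizer (le_sup_left.trans (hXO _))
          |> fun h => (commutator_comm _ _).le.trans h
      have h2 : Od ≤ Od ⊓ V :=
        le_inf le_rfl ((le_inf ((map_subtype_le _).trans (hDX.trans hXH)) hcen).trans hCH)
      rw [hdj, le_bot_iff] at h2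
      exact (map_eq_bot_iff_of_injective _ D.subtype_injective).1 h2
    have : (pPrimePCore l D).Characteristic := CfsgLib.FT.pPrimePCore_characteristic l D
    set P := (pPrimePCore l D).map D.subtype with hP
    have hPp : IsPGroup l P := by
      refine IsPGroup.map ?_ _
      rintro ⟨x, hx⟩
      obtain ⟨k, hk⟩ := CfsgLib.FT.exists_pow_mem_of_mem_pPrimePCore hx
      rw [hOD, Subgroup.mem_bot] at hk
      exact ⟨k, Subtype.ext hk⟩
    have hTD : T ≤ D := hTc.trans (commutator_mono le_sup_right le_rfl)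
    have hTP : T ≤ P := by
      rw [CfsgLib.FT.pLengthLE_one_iff] at h
      have : (pPrimePCore l D).Normal := CfsgLib.PLocal.pPrimePCore_normal l D
      intro t ht
      refine ⟨⟨t, hTD ht⟩, ?_, rfl⟩
      rw [SetLike.mem_coe, ← QuotientGroup.eq_one_iff, ← orderOf_eq_one_iff]
      obtain ⟨k, hk⟩ := hT ⟨t, ht⟩
      have h1 : orderOf ((⟨t, hTD ht⟩ : D) : D ⧸ pPrimePCore l D) ∣ l ^ k :=
        orderOf_dvd_of_pow_eq_one (by
          rw [← QuotientGroup.mk_pow, show (⟨t, hTD ht⟩ : D) ^ l ^ k = 1 from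
            Subtype.ext (by simpa using congrArg Subtype.val hk)]
          rfl)
      exact Nat.eq_one_of_dvd_coprimes (h.pow_right k)
        (by rw [index_eq_card]; exact orderOf_dvd_natCard _) h1
    refine (le_inf hTP ?_).trans (CfsgLib.Base.le_map_pCore (M := P ⊓ Y) inf_le_right
      (CfsgLib.Coprime.le_normalizer_inf_inf (le_sup_right.trans (hXO _)) le_normalizer)
      (hPp.to_le inf_le_left))
    exact hTc.trans (CfsgLib.Coprime.commutator_le_of_le_normalizer hnY)
  have hrM : ¬ r ∣ Nat.card M := fun h => hrH (h.trans (card_dvd_of_le hMH))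
  -- the `p'`-core of `M`
  set Q := (pPrimeCore l M).map M.subtype with hQdef
  have hQM : Q ≤ M := map_subtype_le _
  have hMQ : M ≤ normalizer (Q : Set G) := CfsgLib.Base.le_normalizer_map_pPrimeCore M
  have hRQ : R ≤ normalizer (Q : Set G) :=
    hRM.trans (CfsgLib.Base.normalizer_le_normalizer_map_subtype M _)
  have hQcop : (Nat.card Q).Coprime l := CfsgLib.Base.coprime_card_map_pPrimeCore M
  have hlM : pCore l M = ⊥ := (map_eq_bot_iff_of_injective _ M.subtype_injective).1 hOpM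
  have hFQ : fittingSubgroup M ≤ pPrimeCore l M := by
    rw [CfsgLib.Base.fittingSubgroup_eq_iSup_pCore]
    refine iSup_le fun q => ?_
    have := Fact.mk q.2
    by_cases hq : (q : ℕ) = l
    · rw [hq, hlM]
      exact bot_le
    · obtain ⟨k, hk⟩ := CfsgLib.Base.pCore_eq_pow_card (q : ℕ) M
      refine CfsgLib.Base.le_pPrimeCore ?_
      rw [hk]
      exact ((Nat.coprime_primes q.2 Fact.out).2 hq).pow_left k
  have hCQ : M ⊓ centralizer (Q : Set G) ≤ Q := by
    rintro m ⟨hm, hmc⟩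
    refine ⟨⟨m, hm⟩, hFQ (CfsgLib.Base.centralizer_fittingSubgroup_le
      (mem_centralizer_iff.2 fun f hf => Subtype.ext ?_)), rfl⟩
    exact mem_centralizer_iff.1 hmc _ ⟨f, hFQ hf, rfl⟩
  have hR₀M : R₀ ≤ normalizer (M : Set G) := hR₀.trans hRM
  -- BG 3.4
  have hV34 : V ⊓ centralizer (R₀ : Set G) = ⊥ → M ≤ centralizer (R₀ : Set G) := by
    intro h
    have hrQ : ¬ r ∣ Nat.card Q := fun h => hrM (h.trans (card_dvd_of_le hQM))
    have h3 : ⁅R₀, Q⁆ ≤ centralizer (V : Set G) :=
      LinearBridge.commutator_le_centralizer hVel le_normalizer_of_normal le_normalizer_of_normal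
        (hR₀.trans hRQ) (CfsgLib.Coprime.isSolvable_of_le hQM hsolM)
        (hoddH.of_dvd_nat (card_dvd_of_le (hQM.trans hMH))) hR₀p hr2 hrQ
        (fun hd => (Fact.out : l.Prime).ne_one (Nat.eq_one_of_dvd_coprimes hQcop hd dvd_rfl))
        hpr h
    have hRQ' : ⁅R₀, Q⁆ = ⊥ := by
      rw [← le_bot_iff, ← hCV]
      refine le_inf ?_ h3
      rw [commutator_comm]
      exact (CfsgLib.Coprime.commutator_le_of_le_normalizer (hR₀.trans hRQ)).trans hQM
    have hR₀Q : R₀ ≤ centralizer (Q : Set G) := commutator_eq_bot_iff_le_centralizer.1 hRQ'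
    have hMR₀ : ⁅M, R₀⁆ ≤ centralizer (Q : Set G) := by
      rw [← commutator_eq_bot_iff_le_centralizer]
      refine commutator_commutator_eq_bot_of_rotate ?_ ?_
      · rw [hRQ', commutator_bot_left]
      · rw [commutator_eq_bot_iff_le_centralizer]
        refine ((commutator_comm Q M).le.trans ?_).trans (le_centralizer_iff.1 hR₀Q)
        rw [commutator_comm]
        exact CfsgLib.Coprime.commutator_le_of_le_normalizer hMQ
    have h4 : ⁅M, R₀⁆ ≤ Q := (le_inf
      (CfsgLib.Coprime.commutator_le_of_le_normalizer hR₀M) hMR₀).trans hCQ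
    rw [← commutator_eq_bot_iff_le_centralizer]
    refine le_bot_iff.1 ?_
    rw [← CfsgLib.Coprime.commutator_commutator_eq hR₀M (hcopM.coprime_dvd_left hrR)
      (Or.inr hsolM)]
    refine (commutator_mono h4 le_rfl).trans ?_
    rw [commutator_comm, hRQ']
  -- a `p`-group in `C(R₀)` kills the fixed points on `V`
  have hZarg : ∀ T : Subgroup G, IsPGroup l T → T ≤ M → T ≤ centralizer (R₀ : Set G) → T ≠ ⊥ →
      V ⊓ centralizer (R₀ : Set G) = ⊥ := by
    intro T hTp hTM hTc hTne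
    by_contra hE
    have hTE : T ≤ normalizer ((V ⊓ centralizer (R₀ : Set G) : Subgroup G) : Set G) :=
      CfsgLib.Coprime.le_normalizer_inf_inf le_normalizer_of_normal
        (hTc.trans le_normalizer)
    obtain ⟨v, hv, hv1⟩ := (bot_or_exists_ne_one _).resolve_left
      (inf_centralizer_ne_bot hTp (hVl.to_le inf_le_left) hE hTE)
    have : Nontrivial T := (nontrivial_iff_ne_bot T).2 hTne
    obtain ⟨k, hk0, hk⟩ := hTp.nontrivial_iff_card.1 this
    obtain ⟨t, ht⟩ := exists_prime_orderOf_dvd_card' l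
      (show l ∣ Nat.card T by rw [hk]; exact dvd_pow_self l hk0.ne')
    have ht1 : (t : G) ≠ 1 := by
      intro e
      rw [show t = 1 from Subtype.ext e, orderOf_one] at ht
      exact (Fact.out : l.Prime).ne_one ht.symm
    have htl : (t : G) ^ l = 1 := by
      rw [← ht, ← Subgroup.orderOf_coe]
      exact pow_orderOf_eq_one _
    have hvt : Commute v (t : G) := (mem_centralizer_iff.1 (mem_inf.1 hv).2 t t.2).symm
    have hvV : v ∈ V := (mem_inf.1 (mem_inf.1 hv).1).1
    -- the elementary group `⟨v, t⟩` lies in a cyclic group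
    set C := closure ({v, (t : G)} : Set G) with hC
    have hCle : C ≤ H ⊓ centralizer (R₀ : Set G) := by
      rw [hC, closure_le]
      rintro y (rfl | rfl)
      · exact ⟨hVH hvV, (mem_inf.1 (mem_inf.1 hv).1).2⟩
      · exact ⟨hMH (hTM t.2), hTc t.2⟩
    have hCp : IsPGroup l C := by
      intro ⟨y, hy⟩
      refine ⟨1, Subtype.ext ?_⟩
      simp only [pow_one, SubmonoidClass.coe_pow, OneMemClass.coe_one]
      have : y ^ l = 1 ∧ y ∈ centralizer ({v, (t : G)} : Set G) := by
        induction hy using closure_induction with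
        | mem y hy =>
          refine ⟨?_, mem_centralizer_iff.2 fun z hz => ?_⟩
          · rcases hy with rfl | rfl
            · exact hVexp _ hvV
            · exact htl
          · rcases hy with rfl | rfl <;> rcases hz with rfl | rfl
            · rfl
            · exact hvt.symm.eq
            · exact hvt.eq
            · rfl
        | one => exact ⟨one_pow _, one_mem _⟩
        | mul a b _ _ ha hb =>
          refine ⟨?_, mul_mem ha.2 hb.2⟩
          have hab : Commute a b := by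
            have hbc : b ∈ closure ({v, (t : G)} : Set G) := ‹_›
            have h5 := (centralizer_closure ({v, (t : G)} : Set G)).ge ha.2
            exact (mem_centralizer_iff.1 h5 b hbc).symm
          rw [hab.mul_pow, ha.1, hb.1, one_mul]
        | inv a _ ha => exact ⟨by rw [inv_pow, ha.1, inv_one], inv_mem ha.2⟩
      exact this.1
    have : IsZGroup C := IsZGroup.of_injective (f := inclusion hCle) (inclusion_injective hCle)
    have hcyc : IsCyclic C := by
      have h := (hCp.to_subgroup ⊤).isCyclic_of_isZGroup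
      exact isCyclic_of_surjective topEquiv topEquiv.surjective
    have h5 := zpowers_eq_of_isCyclic (C := C) (p := l) (subset_closure (by simp))
      (subset_closure (by simp)) (hVexp v hvV) htl hv1 ht1
    have h6 : (t : G) ∈ V ⊓ M :=
      ⟨zpowers_le.2 hvV (h5.ge (mem_zpowers _)), hTM t.2⟩
    rw [hVM, Subgroup.mem_bot] at h6
    exact ht1 h6
  -- `R₀` does not centralize `S`
  have hSR₀ : ¬ S ≤ centralizer (R₀ : Set G) := by
    intro hS'
    have hMc := hV34 (hZarg S hSp hSM hS' hSne)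
    have : IsZGroup M := IsZGroup.of_injective (f := inclusion (le_inf hMH hMc))
      (inclusion_injective _)
    have := CfsgLib.Base.isNilpotent_fittingSubgroup M
    have hFc : IsCyclic (fittingSubgroup M) := inferInstance
    set F := (fittingSubgroup M).map M.subtype with hF
    have hMF : M ≤ normalizer (F : Set G) :=
      le_normalizer.trans (CfsgLib.Base.normalizer_le_normalizer_map_subtype M _)
    have hRF : R ≤ normalizer (F : Set G) :=
      hRM.trans (CfsgLib.Base.normalizer_le_normalizer_map_subtype M _)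
    have : IsCyclic F := isCyclic_of_surjective _
      ((fittingSubgroup M).equivMapOfInjective _ M.subtype_injective).surjective
    obtain ⟨⟨f, hfF⟩, hf⟩ := IsCyclic.exists_generator (α := F)
    have hcom : ⁅M, R⁆ ≤ centralizer (F : Set G) := by
      rw [commutator_le]
      intro a ha b hb
      have hact : ∀ c : G, c ∈ normalizer (F : Set G) → ∃ i : ℤ, c * f * c⁻¹ = f ^ i := fun c hc => by
        obtain ⟨i, hi⟩ := mem_zpowers_iff.1 (hf ⟨_, (mem_normalizer_iff.1 hc f).1 hfF⟩)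
        exact ⟨i, (congrArg Subtype.val hi).symm⟩
      obtain ⟨i, hi⟩ := hact a (hMF ha)
      obtain ⟨j, hj⟩ := hact b (hRF hb)
      have hab : (a * b) * f * (a * b)⁻¹ = (b * a) * f * (b * a)⁻¹ := by
        rw [show (a * b) * f * (a * b)⁻¹ = a * (b * f * b⁻¹) * a⁻¹ by group,
          show (b * a) * f * (b * a)⁻¹ = b * (a * f * a⁻¹) * b⁻¹ by group,
          hi, hj, ← conj_zpow, ← conj_zpow, hi, hj, ← zpow_mul, ← zpow_mul, mul_comm]
      have hfc : ⁅a, b⁆ * f = f * ⁅a, b⁆ := by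
        have h1 : (b * a)⁻¹ * (a * b) * f * ((b * a)⁻¹ * (a * b))⁻¹ = f := by
          rw [show (b * a)⁻¹ * (a * b) * f * ((b * a)⁻¹ * (a * b))⁻¹ =
            (b * a)⁻¹ * ((a * b) * f * (a * b)⁻¹) * (b * a) by group, hab]
          group
        set u := (b * a)⁻¹ * (a * b) with hu
        have h2 : u * f = f * u := by
          conv_rhs => rw [← h1, inv_mul_cancel_right]
        -- conjugate into the commutator
        have h3 : ⁅a, b⁆ = (b * a) * u * (b * a)⁻¹ := by
          rw [hu, commutatorElement_def]; group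
        obtain ⟨k, hk⟩ := hact (b * a) (mul_mem (hRF hb) (hMF ha))
        obtain ⟨m, hm⟩ := hact (b * a)⁻¹ (inv_mem (mul_mem (hRF hb) (hMF ha)))
        have h4 : u * f ^ m = f ^ m * u := (Commute.zpow_right h2 m).eq
        rw [h3]
        calc b * a * u * (b * a)⁻¹ * f = b * a * (u * ((b * a)⁻¹ * f * (b * a)⁻¹⁻¹)) * (b * a)⁻¹ := by
              group
          _ = b * a * (((b * a)⁻¹ * f * (b * a)⁻¹⁻¹) * u) * (b * a)⁻¹ := by rw [hm, h4]
          _ = _ := by group
      refine mem_centralizer_iff.2 fun y hy => ?_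
      obtain ⟨k, hk⟩ := mem_zpowers_iff.1 (hf ⟨y, hy⟩)
      rw [show y = f ^ k from (congrArg Subtype.val hk).symm]
      exact (Commute.zpow_right hfc k).eq.symm
    rw [hMR] at hcom
    have htop : fittingSubgroup M = ⊤ := by
      rw [eq_top_iff]
      intro m _
      exact CfsgLib.Base.centralizer_fittingSubgroup_le (mem_centralizer_iff.2 fun g hg =>
        Subtype.ext (mem_centralizer_iff.1 (hcom m.2) g ⟨g, hg, rfl⟩))
    have hMn : Group.IsNilpotent M := CfsgLib.Base.fittingSubgroup_eq_top_iff.1 htop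
    have hP₀n : (P₀ : Subgroup M).Normal := inferInstance
    have := CfsgLib.Base.le_pCore P₀.2
    rw [hlM, le_bot_iff] at this
    exact hSne (by rw [hS, this, Subgroup.map_bot])
  -- hence `R = R₀`
  obtain rfl : R₀ = R := by
    by_contra hne
    refine hSR₀ ?_
    rw [← commutator_eq_bot_iff_le_centralizer, ← le_bot_iff, ← hOpM]
    have hSR : R₀ ≤ normalizer (S : Set G) := hR₀.trans hP₀
    exact claim M R₀ le_rfl hR₀ le_rfl hR₀M (Or.inr (lt_of_le_of_ne hR₀ hne)) _
      (hSp.to_le (CfsgLib.Coprime.commutator_le_of_le_normalizer hSR))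
      (commutator_mono hSM le_rfl)
  -- `R₀` acts without fixed points on `S`, and its fixed points on `V` form a line
  have hRS : R₀ ≤ normalizer (S : Set G) := hP₀
  have hCVne : V ⊓ centralizer (R₀ : Set G) ≠ ⊥ := fun h => hSR₀ (hSM.trans (hV34 h))
  have hCS : S ⊓ centralizer (R₀ : Set G) = ⊥ := by
    by_contra hne
    exact hCVne (hZarg _ (hSp.to_le inf_le_left) (inf_le_left.trans hSM) inf_le_right hne)
  have hCVcyc : ∃ a ∈ V, V ⊓ centralizer (R₀ : Set G) ≤ zpowers a := by
    have hle : V ⊓ centralizer (R₀ : Set G) ≤ H ⊓ centralizer (R₀ : Set G) :=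
      inf_le_inf_right _ hVH
    have : IsZGroup ↥(V ⊓ centralizer (R₀ : Set G)) :=
      IsZGroup.of_injective (f := inclusion hle) (inclusion_injective hle)
    have := ((hVl.to_le (inf_le_left : V ⊓ centralizer (R₀ : Set G) ≤ V)).to_subgroup
      ⊤).isCyclic_of_isZGroup
    have hcyc : IsCyclic ↥(V ⊓ centralizer (R₀ : Set G)) :=
      isCyclic_of_surjective topEquiv topEquiv.surjective
    obtain ⟨⟨a, ha⟩, hgen⟩ := IsCyclic.exists_generator (α := ↥(V ⊓ centralizer (R₀ : Set G)))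
    refine ⟨a, ha.1, fun y hy => ?_⟩
    obtain ⟨i, hi⟩ := mem_zpowers_iff.1 (hgen ⟨y, hy⟩)
    exact mem_zpowers_iff.2 ⟨i, congrArg Subtype.val hi⟩
  have hsolS : ∀ T : Subgroup G, T ≤ S → Group.IsSolvable T := fun T hT =>
    CfsgLib.Coprime.isSolvable_of_le (hT.trans hSM) hsolM
  have hSfull : ∀ T : Subgroup G, T ≤ S → R₀ ≤ normalizer (T : Set G) → T ≤ ⁅T, R₀⁆ := by
    intro T hT hRT
    have h := CfsgLib.Coprime.commutator_sup_centralizer hRT
      (hcopM.coprime_dvd_right (card_dvd_of_le (hT.trans hSM))) (Or.inr (hsolS T hT))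
    rw [show T ⊓ centralizer (R₀ : Set G) = ⊥ from
      le_bot_iff.1 (hCS ▸ inf_le_inf_right _ hT), sup_bot_eq] at h
    exact h.ge
  -- small configurations are centralized
  have cent : ∀ Q₁ S₁ : Subgroup G, Q₁ ≤ Q → S₁ ≤ S → R₀ ≤ normalizer (Q₁ : Set G) →
      S₁ ≤ normalizer (Q₁ : Set G) → R₀ ≤ normalizer (S₁ : Set G) → Q₁ ⊔ S₁ < M →
      S₁ ≤ centralizer (Q₁ : Set G) := by
    intro Q₁ S₁ hQ₁ hS₁ hRQ₁ hSQ₁ hRS₁ hlt
    have h := claim (Q₁ ⊔ S₁) R₀ hlt.le le_rfl le_rfl
      (CfsgLib.Coprime.le_normalizer_sup_sup hRQ₁ hRS₁) (Or.inl hlt) S₁ (hSp.to_le hS₁)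
      ((hSfull S₁ hS₁ hRS₁).trans (commutator_mono le_sup_right le_rfl))
    set P := (pCore l (Q₁ ⊔ S₁ : Subgroup G)).map (Q₁ ⊔ S₁).subtype with hP
    have hYP : Q₁ ⊔ S₁ ≤ normalizer (P : Set G) :=
      le_normalizer.trans (CfsgLib.Base.normalizer_le_normalizer_map_subtype _ _)
    have hPQ : Q₁ ⊓ P = ⊥ := CfsgLib.Coprime.inf_eq_bot_of_coprime (by
      obtain ⟨k, hk⟩ := IsPGroup.iff_card.1 (CfsgLib.Base.isPGroup_map_pCore l (Q₁ ⊔ S₁))
      rw [hP, hk]
      exact (hQcop.coprime_dvd_left (card_dvd_of_le hQ₁)).pow_right k)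
    rw [← commutator_eq_bot_iff_le_centralizer, commutator_comm, ← le_bot_iff, ← hPQ]
    refine le_inf ((commutator_comm Q₁ S₁).le.trans ?_) ?_
    · exact (commutator_comm S₁ Q₁).le.trans (CfsgLib.Coprime.commutator_le_of_le_normalizer hSQ₁)
    · refine (commutator_mono le_rfl h).trans ?_
      rw [commutator_comm]
      exact CfsgLib.Coprime.commutator_le_of_le_normalizer (le_sup_left.trans hYP)
  have hSQ : S ≤ normalizer (Q : Set G) := hSM.trans hMQ
  have hSnQ : ¬ S ≤ centralizer (Q : Set G) := by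
    intro h
    refine hSne (le_bot_iff.1 ?_)
    have hd : S ⊓ Q = ⊥ := CfsgLib.Coprime.inf_eq_bot_of_coprime (by
      obtain ⟨k, hk⟩ := IsPGroup.iff_card.1 hSp
      rw [hk]; exact hQcop.symm.pow_left k)
    rw [← hd]
    exact le_inf le_rfl ((le_inf hSM h).trans hCQ)
  have hMQS : Q ⊔ S = M := by
    by_contra hne
    exact hSnQ (cent Q S le_rfl le_rfl hRQ hSQ hRS (lt_of_le_of_ne (sup_le hQM hSM) hne))
  have hQS : Q ⊓ S = ⊥ := CfsgLib.Coprime.inf_eq_bot_of_coprime (by
    obtain ⟨k, hk⟩ := IsPGroup.iff_card.1 hSp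
    rw [hk]; exact hQcop.pow_right k)
  have hQS_eq : ∀ Q₁ S₁ : Subgroup G, Q₁ ≤ Q → S₁ ≤ S → S₁ ≤ normalizer (Q₁ : Set G) →
      Q₁ ⊔ S₁ = M → Q₁ = Q ∧ S₁ = S := by
    intro Q₁ S₁ hQ₁ hS₁ hn he
    have h1 : Nat.card M = Nat.card S₁ * Nat.card Q₁ := by
      rw [← he, sup_comm]
      exact CfsgLib.Coprime.card_sup_of_inf_eq_bot hn
        (le_bot_iff.1 (hQS ▸ (inf_comm _ _).le.trans (inf_le_inf hQ₁ hS₁)))
    have h2 : Nat.card M = Nat.card S * Nat.card Q := by
      rw [← hMQS, sup_comm]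
      exact CfsgLib.Coprime.card_sup_of_inf_eq_bot hSQ (by rwa [inf_comm])
    have hq := card_le_of_le hQ₁
    have hs := card_le_of_le hS₁
    have hqpos : 0 < Nat.card Q₁ := Nat.card_pos
    have hspos : 0 < Nat.card S₁ := Nat.card_pos
    refine ⟨eq_of_le_of_card_ge hQ₁ ?_, eq_of_le_of_card_ge hS₁ ?_⟩
    · by_contra hc
      have := Nat.mul_lt_mul_of_le_of_lt hs (not_le.1 hc) Nat.card_pos
      omega
    · by_contra hc
      have := Nat.mul_lt_mul_of_lt_of_le (not_le.1 hc) hq Nat.card_pos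
      omega
  have hSirr : ∀ T ≤ S, R₀ ≤ normalizer (T : Set G) → T = ⊥ ∨ T = S := by
    intro T hT hRT
    by_contra hc
    push Not at hc
    have h := cent Q T le_rfl hT hRQ (hT.trans hSQ) hRT (lt_of_le_of_ne
      (sup_le hQM (hT.trans hSM)) fun e => hc.2 (hQS_eq Q T le_rfl hT (hT.trans hSQ) e).2)
    refine hc.1 (le_bot_iff.1 ?_)
    rw [← hQS]
    exact le_inf ((le_inf (hT.trans hSM) h).trans hCQ) hT
  have hQcent : ∀ L : Subgroup G, L < Q → S ≤ normalizer (L : Set G) →
      R₀ ≤ normalizer (L : Set G) → S ≤ centralizer (L : Set G) := fun L hL hSL hRL =>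
    cent L S hL.le le_rfl hRL hSL hRS (lt_of_le_of_ne (sup_le (hL.le.trans hQM) hSM)
      fun e => hL.ne (hQS_eq L S hL.le le_rfl hSL e).1)
  -- `Q` is a `q`-group
  have hcopQ : (Nat.card ↥(S ⊔ R₀)).Coprime (Nat.card Q) := by
    refine Nat.Coprime.coprime_dvd_left (CfsgLib.Coprime.card_sup_dvd (hRS) |> fun h =>
      (by rwa [sup_comm] : Nat.card ↥(S ⊔ R₀) ∣ Nat.card R₀ * Nat.card S)) ?_
    refine Nat.Coprime.mul_left (hcopM.coprime_dvd_right (card_dvd_of_le hQM)) ?_
    obtain ⟨k, hk⟩ := IsPGroup.iff_card.1 hSp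
    rw [hk]
    exact hQcop.symm.pow_left k
  obtain ⟨q, hq, hQq⟩ : ∃ q : ℕ, q.Prime ∧ IsPGroup q Q := by
    by_contra hc
    push Not at hc
    apply hSnQ
    set C := Q ⊓ centralizer (S : Set G) with hC
    have hC' : C = Q := by
      refine eq_of_le_of_card_ge inf_le_left (Nat.le_of_dvd Nat.card_pos ?_)
      rw [Nat.dvd_iff_prime_pow_dvd_dvd]
      intro k m hk hm
      have := Fact.mk hk
      obtain ⟨Pk, hPk⟩ := CfsgLib.Coprime.exists_invariant_sylow (p := k) (A := S ⊔ R₀) (K := Q)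
        (sup_le hSQ hRQ) hcopQ (Or.inr (CfsgLib.Coprime.isSolvable_of_le hQM hsolM))
      set Lk := (Pk : Subgroup Q).map Q.subtype with hLk
      have hLlt : Lk < Q := lt_of_le_of_ne (map_subtype_le _) fun e =>
        hc k hk (e ▸ Pk.2.map Q.subtype)
      have hSL := hQcent Lk hLlt (le_sup_left.trans hPk) (le_sup_right.trans hPk)
      have hLC : Lk ≤ C := le_inf (map_subtype_le _) (le_centralizer_iff.1 hSL)
      refine (dvd_trans ?_ (card_dvd_of_le hLC))
      rw [hLk, CfsgLib.Base.card_map_subtype, Pk.card_eq_multiplicity]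
      exact (pow_dvd_pow k ((hk.pow_dvd_iff_le_factorization Nat.card_pos.ne').1 hm))
    exact le_centralizer_iff.1 (hC'.ge.trans inf_le_right)
  have := Fact.mk hq
  have hQne : Q ≠ ⊥ := fun e => hSnQ (by rw [e]; exact fun s _ => by simp [mem_centralizer_iff])
  have hqQ : q ∣ Nat.card Q := by
    obtain ⟨k, hk⟩ := IsPGroup.iff_card.1 hQq
    rcases k with _ | k
    · exact absurd (Q.eq_bot_of_card_eq (by rw [hk, pow_zero])) hQne
    · rw [hk, pow_succ]; exact Dvd.intro_left _ rfl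
  have hql : q ≠ l := fun e =>
    (Fact.out : l.Prime).ne_one (Nat.eq_one_of_dvd_coprimes hQcop (e ▸ hqQ) dvd_rfl)
  have hqr : q ≠ r := fun e => hrM (e ▸ hqQ.trans (card_dvd_of_le hQM))
  have hq2 : q ≠ 2 := fun e => by
    rw [e] at hqQ
    exact Nat.not_even_iff_odd.2 (hoddH.of_dvd_nat (card_dvd_of_le (hQM.trans hMH)))
      (even_iff_two_dvd.2 hqQ)
  have hcomQS : ⁅Q, S⁆ = Q := by
    refine eq_of_le_of_not_lt (CfsgLib.Coprime.commutator_le_of_le_normalizer hSQ) fun hlt => hSnQ ?_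
    have hcSQ : (Nat.card S).Coprime (Nat.card Q) :=
      hcopQ.coprime_dvd_left (card_dvd_of_le le_sup_left)
    have hRL : R₀ ≤ normalizer ((⁅Q, S⁆ : Subgroup G) : Set G) := fun y hy =>
      mem_normalizer_fintype fun z hz => by
        have h1 : ⁅Q, S⁆ ≤ (⁅Q, S⁆ : Subgroup G).comap (MulAut.conj y).toMonoidHom := by
          rw [commutator_le]
          intro a ha b hb
          show y * ⁅a, b⁆ * y⁻¹ ∈ ⁅Q, S⁆
          rw [show y * ⁅a, b⁆ * y⁻¹ = ⁅y * a * y⁻¹, y * b * y⁻¹⁆ by
            simp only [commutatorElement_def]; group]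
          exact commutator_mem_commutator ((mem_normalizer_iff.1 (hRQ hy) a).1 ha)
            ((mem_normalizer_iff.1 (hRS hy) b).1 hb)
        exact h1 hz
    have h1 := hQcent _ hlt (normalizer_commutator_ge_right Q S) hRL
    have h2 : ⁅Q, S⁆ = ⊥ := by
      rw [← CfsgLib.Coprime.commutator_commutator_eq hSQ hcSQ
        (Or.inr (CfsgLib.Coprime.isSolvable_of_le hQM hsolM)), commutator_comm]
      exact commutator_eq_bot_iff_le_centralizer.2 h1
    rw [← commutator_eq_bot_iff_le_centralizer, commutator_comm]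
    exact h2
  -- the generator
  have : Nontrivial R₀ := (nontrivial_iff_ne_bot R₀).2 fun e => by
    rw [hr, e, card_bot] at hR₀p
    exact Nat.not_prime_one hR₀p
  obtain ⟨⟨x, hx⟩, hx1⟩ := exists_ne (1 : R₀)
  have hgen : zpowers x = R₀ := by
    refine eq_of_le_of_card_ge (zpowers_le.2 hx) ?_
    rw [Nat.card_zpowers]
    rcases hR₀p.eq_one_or_self_of_dvd _ (R₀.orderOf_dvd_natCard hx) with h | h
    · exact absurd (Subtype.ext (orderOf_eq_one_iff.1 h)) hx1
    · exact h.ge
  have hcx : centralizer ({x} : Set G) = centralizer (R₀ : Set G) := by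
    rw [← hgen, zpowers_eq_closure, centralizer_closure]
  have hxnorm : ∀ T : Subgroup G, x ∈ normalizer (T : Set G) → R₀ ≤ normalizer (T : Set G) :=
    fun T h => hgen ▸ zpowers_le.2 h
  refine false_of_config (p := l) (q := q) (V := V) (Q := Q) (S := S) (x := x) hR₀p hr2 hpr hql
    hqr hq2 (orderOf_dvd_iff_pow_eq_one.1 (R₀.orderOf_dvd_natCard hx)) hVel le_normalizer_of_normal
    le_normalizer_of_normal (by rw [normalizer_eq_top_iff.2 hVn]; trivial) (by rw [hMQS]; exact hCV)
    (by rw [hcx]; exact hCVcyc) ?_ hQq hSp (hoddH.of_dvd_nat (card_dvd_of_le (hSM.trans hMH))) hSQ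
    (hRQ hx) (hRS hx) (by rw [hcx]; exact hCS) (fun T hT h => hSirr T hT (hxnorm T h)) hSne hcomQS
    hQne (fun L hL h1 h2 => hQcent L hL h1 (hxnorm L h2)) ?_
  · intro U hU hQU hSU hxU
    refine hVmin.eq_bot_or_eq (normalizer_eq_top_iff.1 (top_le_iff.1 ?_)) hU
    rw [← hHR]
    refine sup_le (fun h hh => ?_) (hxnorm U hxU)
    obtain ⟨v, hv, m, hm, rfl⟩ := hdec h hh
    exact mul_mem (hVab U hU hv) ((hMQS ▸ sup_le hQU hSU) hm)
  · rw [hcx]
    have hle : Q ⊓ centralizer (R₀ : Set G) ≤ H ⊓ centralizer (R₀ : Set G) :=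
      inf_le_inf_right _ (hQM.trans hMH)
    have : IsZGroup ↥(Q ⊓ centralizer (R₀ : Set G)) :=
      IsZGroup.of_injective (f := inclusion hle) (inclusion_injective hle)
    have := ((hQq.to_le (inf_le_left : Q ⊓ centralizer (R₀ : Set G) ≤ Q)).to_subgroup
      ⊤).isCyclic_of_isZGroup
    exact isCyclic_of_surjective topEquiv topEquiv.surjective

/-- **BG Theorem 3.6.** -/
theorem pLengthLE_commutator [Group.IsSolvable G] (hodd : Odd (Nat.card G)) (H R R₀ : Subgroup G)
    [H.Normal] (hHall : (Nat.card H).Coprime H.index) (hR : IsComplement' H R) (hR₀ : R₀ ≤ R)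
    (hR₀p : (Nat.card R₀).Prime) (hZ : IsZGroup ↥(H ⊓ centralizer (R₀ : Set G))) :
    PLengthLE p 1 ↥⁅H, R⁆ :=
  pLengthLE_aux (Nat.card G) H R R₀ le_rfl inferInstance hodd hR.sup_eq_top
    (hR.symm.index_eq_card ▸ hHall) hR₀ hR₀p hZ

end CfsgLib.OddOrder.PLengthZGroup
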