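import Cfsg.Agent.Lib.OddOrder.MinSimple
import Cfsg.Agent.Lib.Coprime.Action
import Cfsg.Agent.Lib.Base.Rank
import Cfsg.Agent.Lib.PLocal.CyclicMaxApps

/-!
Maximal subgroups of a minimal simple group of odd order, and subgroups lying in only one of them.
-/

set_option autoImplicit false
set_option linter.unusedSectionVars false

open scoped Pointwise

namespace CfsgLib.OddOrder

open Cfsg
open Subgroup

variable {G : Type*} [Group G] [Finite G]

theorem exists_coatom_ge {H : Subgroup G} (h : H ≠ ⊤) : ∃ M : Subgroup G, IsCoatom M ∧ H ≤ M :=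
  (IsCoatomic.eq_top_or_exists_le_coatom H).resolve_left h

theorem minSimple_coatom_ne_bot (hG : IsMinSimpleOddOrder G) {M : Subgroup G} (hM : IsCoatom M) :
    M ≠ ⊥ := by
  rintro rfl
  refine hG.2.2.1 ⟨⟨fun a b => ?_⟩⟩
  by_cases ha : a = 1
  · simp [ha]
  have h := hM.2 (zpowers a) (bot_lt_iff_ne_bot.2 fun h => ha (zpowers_eq_bot.1 h))
  obtain ⟨j, hj⟩ := mem_zpowers_iff.1 (h ▸ mem_top b : b ∈ zpowers a)
  rw [← hj]
  exact ((Commute.refl a).zpow_right j).eq

theorem minSimple_normalizer_coatom (hG : IsMinSimpleOddOrder G) {M : Subgroup G}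
    (hM : IsCoatom M) : normalizer (M : Set G) = M :=
  ((hM.le_iff).1 le_normalizer).resolve_left
    (minSimple_normalizer_ne_top hG (minSimple_coatom_ne_bot hG hM) hM.1)

theorem le_of_le_normalizer_coatom (hG : IsMinSimpleOddOrder G) {M X : Subgroup G}
    (hM : IsCoatom M) (h : X ≤ normalizer (M : Set G)) : X ≤ M := by
  rwa [minSimple_normalizer_coatom hG hM] at h

omit [Finite G] in
theorem isCoatom_map_conj {M : Subgroup G} (hM : IsCoatom M) (g : G) :
    IsCoatom (M.map (MulAut.conj g).toMonoidHom) :=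
  ((MulAut.conj g).mapSubgroup.isCoatom_iff M).2 hM

theorem inUniqueMaximal_iff {X : Subgroup G} : InUniqueMaximal X ↔
    ∃ M : Subgroup G, IsCoatom M ∧ X ≤ M ∧ ∀ L : Subgroup G, IsCoatom L → X ≤ L → L = M :=
  ⟨fun ⟨M, ⟨h1, h2⟩, h3⟩ => ⟨M, h1, h2, fun L hL hXL => h3 L ⟨hL, hXL⟩⟩,
    fun ⟨M, h1, h2, h3⟩ => ⟨M, ⟨h1, h2⟩, fun L hL => h3 L hL.1 hL.2⟩⟩

theorem inUniqueMaximal_ne_top {X : Subgroup G} (hX : InUniqueMaximal X) : X ≠ ⊤ := by
  obtain ⟨M, ⟨hM, hXM⟩, -⟩ := hX
  exact fun h => hM.1 (top_unique (h ▸ hXM))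

theorem inUniqueMaximal_mono {X Y : Subgroup G} (hX : InUniqueMaximal X) (hXY : X ≤ Y)
    (hY : Y ≠ ⊤) : InUniqueMaximal Y := by
  obtain ⟨M, ⟨hM, hXM⟩, huniq⟩ := hX
  obtain ⟨L, hL, hYL⟩ := exists_coatom_ge hY
  obtain rfl := huniq L ⟨hL, hXY.trans hYL⟩
  exact ⟨L, ⟨hL, hYL⟩, fun N hN => huniq N ⟨hN.1, hXY.trans hN.2⟩⟩

theorem inUniqueMaximal_ne_bot (hG : IsMinSimpleOddOrder G) {X : Subgroup G}
    (hX : InUniqueMaximal X) : X ≠ ⊥ := by
  rintro rfl
  obtain ⟨M, ⟨hM, -⟩, huniq⟩ := hX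
  refine minSimple_normalizer_ne_top hG (minSimple_coatom_ne_bot hG hM) hM.1 (eq_top_iff.2 ?_)
  intro g _
  rw [mem_normalizer_iff_map_conj_eq]
  exact huniq _ ⟨isCoatom_map_conj hM g, bot_le⟩

/-- If `M` is the only maximal subgroup over `X`, it contains the normalizer of `X`. -/
theorem normalizer_le_of_unique (hG : IsMinSimpleOddOrder G) {X M : Subgroup G} (hM : IsCoatom M)
    (hXM : X ≤ M) (huniq : ∀ L : Subgroup G, IsCoatom L → X ≤ L → L = M) :
    normalizer (X : Set G) ≤ M := by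
  refine le_of_le_normalizer_coatom hG hM fun g hg => ?_
  rw [mem_normalizer_iff_map_conj_eq] at hg ⊢
  exact huniq _ (isCoatom_map_conj hM g) (by rw [← hg]; exact map_mono hXM)

/-- If `M` is the only maximal subgroup over `X`, it contains each proper subgroup over `X`. -/
theorem le_of_unique {X M H : Subgroup G}
    (huniq : ∀ L : Subgroup G, IsCoatom L → X ≤ L → L = M) (hH : H ≠ ⊤) (hXH : X ≤ H) : H ≤ M := by
  obtain ⟨L, hL, hHL⟩ := exists_coatom_ge hH
  exact huniq L hL (hXH.trans hHL) ▸ hHL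

theorem inUniqueMaximal_map_conj {X : Subgroup G} (hX : InUniqueMaximal X) (g : G) :
    InUniqueMaximal (X.map (MulAut.conj g).toMonoidHom) := by
  obtain ⟨M, ⟨hM, hXM⟩, huniq⟩ := hX
  refine ⟨_, ⟨isCoatom_map_conj hM g, map_mono hXM⟩, fun L hL => ?_⟩
  have h := huniq ((MulAut.conj g).mapSubgroup.symm L)
    ⟨((MulAut.conj g).mapSubgroup.symm.isCoatom_iff L).2 hL.1, by
      rw [OrderIso.le_symm_apply]; exact hL.2⟩
  rw [← h]
  exact ((MulAut.conj g).mapSubgroup.apply_symm_apply L).symm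

theorem inUniqueMaximal_of_map_conj {X : Subgroup G} {g : G}
    (hX : InUniqueMaximal (X.map (MulAut.conj g).toMonoidHom)) : InUniqueMaximal X := by
  have h := inUniqueMaximal_map_conj hX g⁻¹
  rw [map_map] at h
  convert h using 1
  conv_lhs => rw [← map_id X]
  congr 1
  ext x
  simp [mul_assoc]

theorem isPGroup_ne_top (hG : IsMinSimpleOddOrder G) {p : ℕ} [Fact p.Prime] {P : Subgroup G}
    (hP : IsPGroup p P) : P ≠ ⊤ := by
  have : Group.IsNilpotent P := hP.isNilpotent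
  exact minSimple_ne_top_of_isSolvable hG inferInstance

theorem minSimple_centralizer_ne_top (hG : IsMinSimpleOddOrder G) {X : Subgroup G} (hX : X ≠ ⊥) :
    centralizer (X : Set G) ≠ ⊤ := by
  obtain ⟨x, hx, hx1⟩ := (Subgroup.bot_or_exists_ne_one X).resolve_left hX
  intro h
  refine minSimple_centralizer_singleton_ne_top hG hx1 (top_unique ?_)
  rw [← h]
  exact centralizer_le (Set.singleton_subset_iff.2 hx)

/-- A `p`-group that is not cyclic, `p` odd, has an elementary abelian subgroup of order `p²`. -/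
theorem exists_elementary_sq {p : ℕ} [Fact p.Prime] (hp : p ≠ 2) {B : Subgroup G}
    (hB : IsPGroup p B) (hnc : ¬ IsCyclic B) :
    ∃ E : Subgroup G, E ≤ B ∧ IsElementaryAbelian p E ∧ ¬ IsCyclic E ∧ Nat.card E = p ^ 2 := by
  obtain ⟨A, -, -, hA, hA2⟩ := CfsgLib.PLocal.exists_normal_elementary_sq hp hB (⊤ : Subgroup B)
    (fun h => hnc (isCyclic_of_surjective (topEquiv (G := B)).toMonoidHom (MulEquiv.surjective _)))
  refine ⟨A.map B.subtype, map_subtype_le A, CfsgLib.Base.isElementaryAbelian_map _ hA,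
    fun hc => ?_, by rw [CfsgLib.Base.card_map_subtype]; exact hA2⟩
  obtain ⟨g, hg⟩ := hc.exists_generator
  have ho := orderOf_eq_card_of_forall_mem_zpowers hg
  rw [CfsgLib.Base.card_map_subtype, hA2] at ho
  have hgp : g ^ p = 1 := Subtype.ext (by
    simpa using (CfsgLib.Base.isElementaryAbelian_iff.1
      (CfsgLib.Base.isElementaryAbelian_map B.subtype hA)).2 g.1 g.2)
  have h1 := Nat.le_of_dvd (Fact.out : p.Prime).pos (ho ▸ orderOf_dvd_of_pow_eq_one hgp)
  have h2 : p ^ 1 < p ^ 2 := Nat.pow_lt_pow_right (Fact.out : p.Prime).one_lt (by omega)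
  rw [pow_one] at h2
  omega

end CfsgLib.OddOrder
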