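import Cfsg.Prelude.Def_Local
import Cfsg.Agent.Lib.Base.Cores
import Cfsg.Agent.Lib.Transfer.NormalPComplement
import Cfsg.Agent.Lib.OddOrder.OmegaFixed

/-!
In a `p`-constrained group, the `p'`-subgroups normalized by a `p`-subgroup containing all
`p`-elements of its centralizer lie in `O_{p'}`.
-/

set_option autoImplicit false

namespace CfsgLib.OddOrder

open Cfsg
open scoped commutatorElement

/-- A `p`-element of `L / M` fixed by a `p`-group `E` lifts to a `p`-element centralizing `E`,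
when `M` is a `p'`-group. -/
theorem exists_pElement_lift {L : Type*} [Group L] [Finite L] {p : ℕ} [Fact p.Prime]
    {M E : Subgroup L} [M.Normal] (hM : (Nat.card M).Coprime p) (hE : IsPGroup p E)
    {t : L ⧸ M} (ht : ∃ k, t ^ (p ^ k) = 1)
    (hc : ∀ e ∈ E, Commute (QuotientGroup.mk' M e) t) :
    ∃ u : L, QuotientGroup.mk' M u = t ∧ (∃ k, u ^ (p ^ k) = 1) ∧ ∀ e ∈ E, Commute e u := by
  set π := QuotientGroup.mk' M with hπ
  obtain ⟨x, hx⟩ := QuotientGroup.mk'_surjective M t
  let α := {g : L // π g = t}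
  let act : MulAction E α :=
    { smul := fun e g => ⟨(e : L) * g.1 * (e : L)⁻¹, by
        rw [map_mul, map_mul, map_inv, g.2, (hc e e.2).eq]; group⟩
      one_smul := fun g => Subtype.ext (by show ((1 : E) : L) * g.1 * ((1 : E) : L)⁻¹ = g.1; simp)
      mul_smul := fun a b g => Subtype.ext (by
        show ((a * b : E) : L) * g.1 * ((a * b : E) : L)⁻¹
          = (a : L) * ((b : L) * g.1 * (b : L)⁻¹) * (a : L)⁻¹
        simp [mul_assoc]) }
  letI := act
  have hcard : Nat.card α = Nat.card M := by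
    refine Nat.card_congr
      { toFun := fun g => ⟨x⁻¹ * g.1, (QuotientGroup.eq_one_iff _).mp (by
          change π (x⁻¹ * g.1) = 1
          rw [map_mul, map_inv, g.2, hx, inv_mul_cancel])⟩
        invFun := fun m => ⟨x * m, by
          rw [map_mul, hx]
          have : π (m : L) = 1 := by
            rw [hπ, ← MonoidHom.mem_ker, QuotientGroup.ker_mk']; exact m.2
          rw [this, mul_one]⟩
        left_inv := fun g => Subtype.ext (by simp)
        right_inv := fun m => Subtype.ext (by simp) }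
  obtain ⟨g, hg⟩ := hE.nonempty_fixed_point_of_prime_not_dvd_card α
    (hcard ▸ ((Fact.out : p.Prime).coprime_iff_not_dvd.mp hM.symm))
  have hge : ∀ e ∈ E, Commute e g.1 := fun e he =>
    mul_inv_eq_iff_eq_mul.mp (congrArg Subtype.val (hg ⟨e, he⟩))
  obtain ⟨a, ha, b, hb, hab, ⟨k, hk⟩, hbp⟩ := CfsgLib.Transfer.exists_pPart_mul (p := p) g.1
  obtain ⟨l, hl⟩ := ht
  refine ⟨a, ?_, ⟨k, orderOf_dvd_iff_pow_eq_one.mp hk⟩, fun e he => ?_⟩
  · -- the `p'`-part dies in the quotient
    have hab' : Commute a b := by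
      obtain ⟨i, rfl⟩ := Subgroup.mem_zpowers_iff.mp ha
      obtain ⟨j, rfl⟩ := Subgroup.mem_zpowers_iff.mp hb
      exact (Commute.refl g.1).zpow_zpow i j
    have h1 : π b = (π a)⁻¹ * t := by rw [← g.2, ← hab, map_mul]; group
    have h2 : (π b) ^ (p ^ (k + l)) = 1 := by
      have hc1 : Commute (π a)⁻¹ t := by
        rw [← g.2, ← hab, map_mul]
        exact ((Commute.refl (π a)).inv_left).mul_right ((hab'.map π).inv_left)
      rw [h1, hc1.mul_pow, inv_pow, pow_add, pow_mul, ← map_pow,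
        orderOf_dvd_iff_pow_eq_one.mp hk, mul_comm (p ^ k), pow_mul, hl]
      simp
    have h3 : orderOf (π b) = 1 := Nat.eq_one_of_dvd_coprimes (hbp.pow_right (k + l))
      (orderOf_map_dvd π b) (orderOf_dvd_of_pow_eq_one h2)
    rw [orderOf_eq_one_iff] at h3
    rw [← g.2, ← hab, map_mul, h3, mul_one]
  · obtain ⟨i, rfl⟩ := Subgroup.mem_zpowers_iff.mp ha
    exact (hge e he).zpow_right i

/-- Basic data for the quotient by `O_{p'}`. -/
theorem quotient_data {L : Type*} [Group L] [Finite L] {p : ℕ} [Fact p.Prime] {E Y : Subgroup L}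
    (hE : IsPGroup p E) (hY : (Nat.card Y).Coprime p) (hEY : E ≤ Subgroup.normalizer (Y : Set L)) :
    IsPGroup p (E.map (QuotientGroup.mk' (pPrimeCore p L))) ∧
    (Nat.card (Y.map (QuotientGroup.mk' (pPrimeCore p L)))).Coprime p ∧
    E.map (QuotientGroup.mk' (pPrimeCore p L)) ≤
      Subgroup.normalizer ((Y.map (QuotientGroup.mk' (pPrimeCore p L)) : Subgroup _) :
        Set (L ⧸ pPrimeCore p L)) :=
  ⟨hE.map _, hY.coprime_dvd_left (CfsgLib.Base.card_map_dvd _ _),
    (Subgroup.map_mono hEY).trans (Subgroup.le_normalizer_map _)⟩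

/-- If a subgroup centralizes `O_p (L / O_{p'} L)`, which contains its centralizer, it is in
`O_{p'}(L)`. -/
theorem le_pPrimeCore_of_centralizes {L : Type*} [Group L] [Finite L] {p : ℕ} [Fact p.Prime]
    {Y : Subgroup L} (hY : (Nat.card Y).Coprime p)
    (hcon : Subgroup.centralizer (pCore p (L ⧸ pPrimeCore p L) : Set (L ⧸ pPrimeCore p L)) ≤
      pCore p (L ⧸ pPrimeCore p L))
    (hc : Y.map (QuotientGroup.mk' (pPrimeCore p L)) ≤
      Subgroup.centralizer (pCore p (L ⧸ pPrimeCore p L) : Set (L ⧸ pPrimeCore p L))) :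
    Y ≤ pPrimeCore p L := by
  rw [← CfsgLib.Base.map_mk'_eq_bot_iff, ← Subgroup.card_eq_one]
  obtain ⟨k, hk⟩ := IsPGroup.iff_card.mp ((CfsgLib.Base.isPGroup_pCore p
    (L ⧸ pPrimeCore p L)).to_le (hc.trans hcon))
  have h1 : (Nat.card (Y.map (QuotientGroup.mk' (pPrimeCore p L)))).Coprime (p ^ k) :=
    (hY.coprime_dvd_left (CfsgLib.Base.card_map_dvd _ _)).pow_right k
  exact Nat.eq_one_of_dvd_coprimes h1 dvd_rfl hk.dvd

/-- The main lemma: `E` contains every `p`-element of its centralizer. -/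
theorem le_pPrimeCore_of_full {L : Type*} [Group L] [Finite L] {p : ℕ} [Fact p.Prime]
    {E Y : Subgroup L} (hE : IsPGroup p E) (hY : (Nat.card Y).Coprime p)
    (hEY : E ≤ Subgroup.normalizer (Y : Set L))
    (hcon : Subgroup.centralizer (pCore p (L ⧸ pPrimeCore p L) : Set (L ⧸ pPrimeCore p L)) ≤
      pCore p (L ⧸ pPrimeCore p L))
    (hfull : ∀ u : L, (∀ e ∈ E, Commute e u) → (∃ k, u ^ (p ^ k) = 1) → u ∈ E)
    (hcl : p = 2 → ∀ (S : Sylow p L), ∀ x ∈ (S : Subgroup L), ∀ y ∈ (S : Subgroup L),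
      ∀ z ∈ (S : Subgroup L), Commute ⁅x, y⁆ z) :
    Y ≤ pPrimeCore p L := by
  obtain ⟨hE', hY', hEY'⟩ := quotient_data hE hY hEY
  refine le_pPrimeCore_of_centralizes hY hcon ?_
  set M := pPrimeCore p L with hM
  set π := QuotientGroup.mk' M with hπ
  set T := pCore p (L ⧸ M) with hT
  have hTn : ∀ X : Subgroup (L ⧸ M), X ≤ Subgroup.normalizer (T : Set (L ⧸ M)) := fun _ =>
    Subgroup.le_normalizer_of_normal
  have hTp : IsPGroup p T := CfsgLib.Base.isPGroup_pCore p _
  have hfix : T ⊓ Subgroup.centralizer (E.map π : Set (L ⧸ M)) ≤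
      Subgroup.centralizer (Y.map π : Set (L ⧸ M)) := by
    intro t ht
    obtain ⟨k, hk⟩ := hTp ⟨t, ht.1⟩
    obtain ⟨u, hu, hup, hue⟩ := exists_pElement_lift (CfsgLib.Base.pPrimeCore_coprime p L) hE
      ⟨k, congrArg Subtype.val hk⟩
      (fun e he => Subgroup.mem_centralizer_iff.mp ht.2 _ (Subgroup.mem_map_of_mem _ he))
    have htE : t ∈ E.map π := ⟨u, hfull u hue hup, hu⟩
    refine Subgroup.mem_centralizer_iff.mpr fun q hq => ?_
    have h1 : ⁅t, q⁆ ∈ T ⊓ Y.map π := by
      refine ⟨?_, ?_⟩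
      · rw [commutatorElement_def, mul_assoc, mul_assoc]
        refine T.mul_mem ht.1 ?_
        rw [← mul_assoc]
        exact Subgroup.Normal.conj_mem (inferInstance : T.Normal) _ (T.inv_mem ht.1) q
      · rw [commutatorElement_def]
        exact (Y.map π).mul_mem ((Subgroup.mem_normalizer_iff.mp (hEY' htE) q).mp hq)
          ((Y.map π).inv_mem hq)
    have h2 : T ⊓ Y.map π = ⊥ := by
      obtain ⟨k, hk⟩ := IsPGroup.iff_card.mp hTp
      exact CfsgLib.Base.inf_eq_bot_of_coprime (hk ▸ (hY'.pow_right k).symm)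
    rw [h2, Subgroup.mem_bot, commutatorElement_eq_one_iff_mul_comm] at h1
    exact h1.symm
  by_cases hp : p = 2
  · refine le_centralizer_of_fixed_central hTp hY' (hTn _) (hTn _) hEY' ?_ hfix
    -- a Sylow subgroup containing `T` and the image of `E`
    obtain ⟨S', hS'⟩ := IsPGroup.exists_le_sylow
      (IsPGroup.to_sup_of_normal_right hE' hTp : IsPGroup p ↥(E.map π ⊔ T))
    obtain ⟨S, rfl⟩ := Sylow.mapSurjective_surjective (QuotientGroup.mk'_surjective M) p S'
    rw [Sylow.coe_mapSurjective] at hS'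
    intro t ht e he
    obtain ⟨s, hs, rfl⟩ := hS' (Subgroup.mem_sup_right ht)
    obtain ⟨f, hf, rfl⟩ := hS' (Subgroup.mem_sup_left he)
    have hall : ∀ z ∈ E.map π ⊔ T, Commute ⁅π s, π f⁆ z := by
      intro z hz
      obtain ⟨w, hw, rfl⟩ := hS' hz
      rw [← map_commutatorElement]
      exact (hcl hp S s hs f hf w hw).map π
    exact ⟨Subgroup.mem_centralizer_iff.mpr fun z hz =>
        ((hall z (Subgroup.mem_sup_left hz)).eq).symm,
      Subgroup.mem_centralizer_iff.mpr fun z hz =>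
        ((hall z (Subgroup.mem_sup_right hz)).eq).symm⟩
  · exact le_centralizer_of_fixed hp T _ _ hTp hE' hY' (hTn _) (hTn _) hEY' hfix

/-- The variant where the elementary abelian `E` contains the elements of order `p` of its
centralizer and lies in a normal Sylow subgroup of `L / O_{p'}(L)`. -/
theorem le_pPrimeCore_of_omega {L : Type*} [Group L] [Finite L] {p : ℕ} [Fact p.Prime]
    (hp : p ≠ 2) {E Y : Subgroup L} (hE : IsPGroup p E)
    (hY : (Nat.card Y).Coprime p) (hEY : E ≤ Subgroup.normalizer (Y : Set L))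
    (hcon : Subgroup.centralizer (pCore p (L ⧸ pPrimeCore p L) : Set (L ⧸ pPrimeCore p L)) ≤
      pCore p (L ⧸ pPrimeCore p L))
    (hsyl : E.map (QuotientGroup.mk' (pPrimeCore p L)) ≤ pCore p (L ⧸ pPrimeCore p L))
    (hfull : ∀ u : L, (∀ e ∈ E, Commute e u) → u ^ p = 1 → u ∈ E) :
    Y ≤ pPrimeCore p L := by
  obtain ⟨hE', hY', hEY'⟩ := quotient_data hE hY hEY
  refine le_pPrimeCore_of_centralizes hY hcon ?_
  set M := pPrimeCore p L with hM
  set π := QuotientGroup.mk' M with hπ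
  set T := pCore p (L ⧸ M) with hT
  have hTn : ∀ X : Subgroup (L ⧸ M), X ≤ Subgroup.normalizer (T : Set (L ⧸ M)) := fun _ =>
    Subgroup.le_normalizer_of_normal
  have hTp : IsPGroup p T := CfsgLib.Base.isPGroup_pCore p _
  have hTY : T ⊓ Y.map π = ⊥ := by
    obtain ⟨k, hk⟩ := IsPGroup.iff_card.mp hTp
    exact CfsgLib.Base.inf_eq_bot_of_coprime (hk ▸ (hY'.pow_right k).symm)
  -- `E` and `Y` commute in the quotient
  have hcomm : Y.map π ≤ Subgroup.centralizer (E.map π : Set (L ⧸ M)) := by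
    intro q hq
    refine Subgroup.mem_centralizer_iff.mpr fun t ht => ?_
    have h1 : ⁅t, q⁆ ∈ T ⊓ Y.map π := by
      refine ⟨?_, ?_⟩
      · rw [commutatorElement_def, mul_assoc, mul_assoc]
        refine T.mul_mem (hsyl ht) ?_
        rw [← mul_assoc]
        exact Subgroup.Normal.conj_mem (inferInstance : T.Normal) _ (T.inv_mem (hsyl ht)) q
      · rw [commutatorElement_def]
        exact (Y.map π).mul_mem ((Subgroup.mem_normalizer_iff.mp (hEY' ht) q).mp hq)
          ((Y.map π).inv_mem hq)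
    rw [hTY, Subgroup.mem_bot, commutatorElement_eq_one_iff_mul_comm] at h1
    exact h1
  have hYC : Y.map π ≤ Subgroup.normalizer
      ((T ⊓ Subgroup.centralizer (E.map π : Set (L ⧸ M)) : Subgroup (L ⧸ M)) : Set (L ⧸ M)) :=
    (le_inf (hTn _) (hcomm.trans Subgroup.le_normalizer)).trans
      Subgroup.inf_normalizer_le_normalizer_inf
  have hfixC : Y.map π ≤ Subgroup.centralizer
      ((T ⊓ Subgroup.centralizer (E.map π : Set (L ⧸ M)) : Subgroup (L ⧸ M)) : Set (L ⧸ M)) := by
    refine le_centralizer_of_fix_order_prime hp _ _ (hTp.to_le inf_le_left) hY' hYC ?_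
    intro t ht htp q hq
    obtain ⟨u, hu, ⟨k, hk⟩, hue⟩ := exists_pElement_lift (CfsgLib.Base.pPrimeCore_coprime p L) hE
      ⟨1, by rwa [pow_one]⟩
      (fun e he => Subgroup.mem_centralizer_iff.mp ht.2 _ (Subgroup.mem_map_of_mem _ he))
    have hup : u ^ p = 1 := by
      have h1 : u ^ p ∈ M := by
        rw [← QuotientGroup.ker_mk' M, MonoidHom.mem_ker, map_pow]
        show (π u) ^ p = 1
        rw [hu, htp]
      have h2 : orderOf (u ^ p) = 1 := Nat.eq_one_of_dvd_coprimes
        ((CfsgLib.Base.pPrimeCore_coprime p L).pow_right k) (Subgroup.orderOf_dvd_natCard M h1)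
        (orderOf_dvd_of_pow_eq_one (by rw [← pow_mul, mul_comm, pow_mul, hk, one_pow]))
      exact orderOf_eq_one_iff.mp h2
    have htE : t ∈ E.map π := ⟨u, hfull u hue hup, hu⟩
    exact (Subgroup.mem_centralizer_iff.mp (hcomm hq) t htE).symm
  exact le_centralizer_of_fixed hp T _ _ hTp hE' hY' (hTn _) (hTn _) hEY'
    (Subgroup.le_centralizer_iff.mp hfixC)

end CfsgLib.OddOrder
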