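import Cfsg.Agent.Lib.OddOrder.Transitivity
import Cfsg.Agent.Lib.OddOrder.Signalizer
import Cfsg.Agent.Lib.PLocal.Constrained

/-!
The transitivity theorem in a group with `p`-constrained `p`-local subgroups.
-/

set_option autoImplicit false

open scoped Pointwise commutatorElement

namespace CfsgLib.OddOrder

open Cfsg

variable {G : Type*} [Group G] [Finite G] {p : ℕ} [hp : Fact p.Prime]

theorem isPGroup_zpowers_of_pow_eq_one {u : G} {k : ℕ} (hk : u ^ (p ^ k) = 1) :
    IsPGroup p (Subgroup.zpowers u) := by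
  intro g
  refine ⟨k, Subtype.ext ?_⟩
  obtain ⟨i, hi⟩ := Subgroup.mem_zpowers_iff.mp g.2
  rw [SubmonoidClass.coe_pow, Subgroup.coe_one, ← hi, ← zpow_natCast, ← zpow_mul,
    mul_comm, zpow_mul, zpow_natCast, hk, one_zpow]

/-- The `p'`-subgroups of `C(E)` lie in its `p'`-core, when `E` is abelian and contains all
`p`-elements of `C(E)`. -/
theorem full_le_core {E : Subgroup G} (hEp : IsPGroup p E) (hEc : IsMulCommutative E)
    (hEfull : ∀ x ∈ Subgroup.centralizer (E : Set G), IsPGroup p (Subgroup.zpowers x) → x ∈ E)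
    {Y : Subgroup G} (hYC : Y ≤ Subgroup.centralizer (E : Set G))
    (hY : (Nat.card Y).Coprime p) :
    Y ≤ piCoreOf (primesNotDvd p) (Subgroup.centralizer (E : Set G)) := by
  set C := Subgroup.centralizer (E : Set G) with hC
  have hEC : E ≤ C := Subgroup.le_centralizer_iff_isMulCommutative.mpr hEc
  set E' := E.subgroupOf C with hE'
  have hcen : E' ≤ Subgroup.center C := by
    intro e he
    refine Subgroup.mem_center_iff.mpr fun c => Subtype.ext ?_
    exact (Subgroup.mem_centralizer_iff.mp c.2 _ he).symm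
  haveI hE'n : E'.Normal := CfsgLib.Base.normal_of_le_center hcen
  obtain ⟨k, hk⟩ := IsPGroup.iff_card.mp hEp
  have hcard : Nat.card E' = p ^ k := hk ▸ CfsgLib.Base.card_subgroupOf hEC
  have hidx : ¬ p ∣ E'.index := by
    intro hd
    obtain ⟨P⟩ : Nonempty (Sylow p C) := inferInstance
    have hPE : (P : Subgroup C) ≤ E' := by
      intro x hx
      rw [hE', Subgroup.mem_subgroupOf]
      obtain ⟨i, hi⟩ := P.isPGroup' ⟨x, hx⟩
      have hi' : ((x : G)) ^ (p ^ i) = 1 := by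
        have h := congrArg Subtype.val hi
        simp only [SubmonoidClass.coe_pow, Subgroup.coe_one] at h
        rw [← SubmonoidClass.coe_pow, h, Subgroup.coe_one]
      exact hEfull _ x.2 (isPGroup_zpowers_of_pow_eq_one hi')
    exact P.not_dvd_index (hd.trans (Subgroup.index_dvd_of_le hPE))
  have hcop : (Nat.card E').Coprime E'.index :=
    hcard ▸ (hp.out.coprime_iff_not_dvd.mpr hidx).pow_left k
  obtain ⟨H, hH⟩ := Subgroup.exists_right_complement'_of_coprime hcop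
  haveI hHn : H.Normal := by
    refine ⟨fun h hh g => ?_⟩
    obtain ⟨⟨⟨e, he⟩, ⟨a, ha⟩⟩, rfl⟩ := hH.2 g
    have h1 : e * a * h * (e * a)⁻¹ = e * (a * h * a⁻¹) * e⁻¹ := by group
    show e * a * h * (e * a)⁻¹ ∈ H
    rw [h1, ← Subgroup.mem_center_iff.mp (hcen he) (a * h * a⁻¹), mul_inv_cancel_right]
    exact H.mul_mem (H.mul_mem ha hh) (H.inv_mem ha)
  have hHidx : H.index = p ^ k := hH.index_eq_card.trans hcard
  have hYH : Y.subgroupOf C ≤ H := by
    intro y hy
    rw [← QuotientGroup.eq_one_iff, ← orderOf_eq_one_iff]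
    refine Nat.eq_one_of_dvd_coprimes ((hY.pow_right k)) ?_ (dvd_rfl.trans ?_)
    · refine (orderOf_map_dvd (QuotientGroup.mk' H) y).trans ?_
      rw [← Subgroup.orderOf_coe]
      exact Subgroup.orderOf_dvd_natCard Y hy
    · rw [← hHidx, Subgroup.index_eq_card]; exact orderOf_dvd_natCard _
  have hHp : ∀ r : ℕ, r.Prime → r ∣ Nat.card H → r ∈ primesNotDvd p := by
    intro r hr hd
    refine ⟨hr, fun hrp => hidx ?_⟩
    rw [(Nat.prime_dvd_prime_iff_eq hr hp.out).mp hrp] at hd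
    rwa [hH.symm.index_eq_card]
  have := Subgroup.map_mono (f := C.subtype) (hYH.trans (CfsgLib.Base.le_piCore hHp))
  rwa [Subgroup.map_subgroupOf_eq_of_le hYC] at this

/-- A `p'`-subgroup normalized by `E` in the normalizer of a subgroup of order `p` of `E` lies
in its `p'`-core. -/
theorem full_local {E : Subgroup G} (hEp : IsPGroup p E)
    (hEfull : ∀ x ∈ Subgroup.centralizer (E : Set G), IsPGroup p (Subgroup.zpowers x) → x ∈ E)
    (hcl : p = 2 → ∀ (S : Sylow p G), ∀ x ∈ (S : Subgroup G), ∀ y ∈ (S : Subgroup G),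
      ∀ z ∈ (S : Subgroup G), Commute ⁅x, y⁆ z)
    {L : Subgroup G} (hL : IsPConstrained p L) (hEL : E ≤ L) {Y : Subgroup G} (hYL : Y ≤ L)
    (hY : (Nat.card Y).Coprime p) (hEY : E ≤ Subgroup.normalizer (Y : Set G)) :
    Y ≤ (pPrimeCore p L).map L.subtype := by
  have h := le_pPrimeCore_of_full (L := L) (E := E.subgroupOf L) (Y := Y.subgroupOf L)
    (hEp.of_equiv (Subgroup.subgroupOfEquivOfLe hEL).symm)
    (by rwa [CfsgLib.Base.card_subgroupOf hYL])
    (fun e he => Subgroup.mem_normalizer_iff.mpr fun z => by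
      simpa [Subgroup.mem_subgroupOf] using Subgroup.mem_normalizer_iff.mp (hEY he) (z : G))
    (CfsgLib.PLocal.isPConstrained_iff.mp hL)
    (fun u hu hk => by
      obtain ⟨k, hk⟩ := hk
      refine hEfull _ (Subgroup.mem_centralizer_iff.mpr fun e he => ?_)
        (isPGroup_zpowers_of_pow_eq_one (k := k) ?_)
      · exact congrArg Subtype.val (hu ⟨e, hEL he⟩ he).eq
      · rw [← map_pow, hk, map_one])
    (fun hp2 S x hx y hy z hz => by
      obtain ⟨T, hT⟩ := (S.isPGroup'.map L.subtype).exists_le_sylow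
      apply Subtype.ext
      have h1 := (hcl hp2 T x (hT (Subgroup.mem_map_of_mem _ hx)) y
        (hT (Subgroup.mem_map_of_mem _ hy)) z (hT (Subgroup.mem_map_of_mem _ hz))).eq
      simpa [commutatorElement_def] using h1)
  have h2 := Subgroup.map_mono (f := L.subtype) h
  rwa [Subgroup.map_subgroupOf_eq_of_le hYL] at h2

theorem full_transitive (hloc : ∀ T : Subgroup G, IsPGroup p T → T ≠ ⊥ →
      IsPConstrained p ↥(Subgroup.normalizer (T : Set G)))
    (hcl : p = 2 → ∀ (S : Sylow p G), ∀ x ∈ (S : Subgroup G), ∀ y ∈ (S : Subgroup G),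
      ∀ z ∈ (S : Subgroup G), Commute ⁅x, y⁆ z)
    {E : Subgroup G} (hEp : IsPGroup p E) (hEc : IsMulCommutative E) (hE3 : ¬ PRankLE p 2 E)
    (hEfull : ∀ x ∈ Subgroup.centralizer (E : Set G), IsPGroup p (Subgroup.zpowers x) → x ∈ E)
    {q : ℕ} [hq : Fact q.Prime] (hqp : q ≠ p) {Q₁ Q₂ : Subgroup G}
    (h₁ : Q₁ ∈ maxInvSubgroups ⊤ E {q}) (h₂ : Q₂ ∈ maxInvSubgroups ⊤ E {q}) :
    ConjBy (piCoreOf (primesNotDvd p) (Subgroup.centralizer (E : Set G))) Q₁ Q₂ := by
  obtain ⟨B₀, hB₀e, hB₀⟩ : ∃ B : Subgroup E, IsElementaryAbelian p B ∧ p ^ 2 < Nat.card B := by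
    rw [CfsgLib.Base.pRankLE_iff] at hE3
    push Not at hE3
    exact hE3
  set B := B₀.map E.subtype with hBdef
  have hBE : B ≤ E := Subgroup.map_subtype_le _
  have hBe : IsElementaryAbelian p B := CfsgLib.Base.isElementaryAbelian_map _ hB₀e
  have hB3 : p ^ 2 < Nat.card B := by rwa [hBdef, CfsgLib.Base.card_map_subtype]
  have hEsol : Group.IsSolvable E := by
    haveI : Group.IsNilpotent E := hEp.isNilpotent
    infer_instance
  obtain ⟨i, hi⟩ := IsPGroup.iff_card.mp hEp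
  refine transitivity_induction hEsol (fun _ => True) ?_ (fun _ _ _ _ => trivial) Q₁ h₁ Q₂ h₂ trivial
  intro D U₁ U₂ _ hDq hED hU₁ hU₂ hlt₁ hlt₂
  obtain ⟨hUN₁, hUq₁, hEU₁⟩ := mem_invSubgroups_singleton_iff.mp hU₁
  obtain ⟨hUN₂, hUq₂, hEU₂⟩ := mem_invSubgroups_singleton_iff.mp hU₂
  haveI : Group.IsNilpotent U₁ := hUq₁.isNilpotent
  haveI : Group.IsNilpotent U₂ := hUq₂.isNilpotent
  have hc : ∀ Q : Subgroup G, IsPGroup q Q → (Nat.card Q).Coprime p := fun Q hQ => by
    obtain ⟨j, hj⟩ := IsPGroup.iff_card.mp hQ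
    rw [hj]
    exact ((Nat.coprime_primes hq.out hp.out).mpr hqp).pow_left j
  obtain ⟨z, hz, hz1, ⟨u₁, hu₁, hu₁D, hzu₁⟩, u₂, hu₂, hu₂D, hzu₂⟩ := exists_common_centralized
    hBe hB3 (inferInstance : Group.IsSolvable U₁) (inferInstance : Group.IsSolvable U₂)
    (hc _ hUq₁) (hc _ hUq₂) hUN₁ hUN₂ (hBE.trans hED) (hBE.trans hEU₁) (hBE.trans hEU₂) hlt₁ hlt₂
  set C := Subgroup.centralizer ({z} : Set G) with hCdef
  set L := Subgroup.normalizer (Subgroup.zpowers z : Set G) with hL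
  have hCL : C ≤ L := by
    rw [hCdef, hL]
    intro g hg
    refine Subgroup.centralizer_le_normalizer _ ?_
    rw [← SetLike.mem_coe, Subgroup.zpowers_eq_closure, Subgroup.centralizer_closure]
    exact hg
  have hEC : E ≤ C := fun e he => Subgroup.mem_centralizer_singleton_iff.mpr
    (CfsgLib.Base.isMulCommutative_subgroup_iff.mp hEc _ he _ (hBE hz))
  have hzp : IsPGroup p (Subgroup.zpowers z) :=
    isPGroup_zpowers_of_pow_eq_one (k := 1) (by rw [pow_one]; exact hBe.2 _ hz)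
  have hLc : IsPConstrained p L := hloc _ hzp fun h => hz1 (Subgroup.zpowers_eq_bot.mp h)
  set R₀ := (pPrimeCore p L).map L.subtype ⊓ Subgroup.normalizer (D : Set G) with hR₀
  set R := R₀ ⊔ D with hR
  have hER₀ : E ≤ Subgroup.normalizer (R₀ : Set G) :=
    CfsgLib.Coprime.le_normalizer_inf_inf
      ((hEC.trans hCL).trans (CfsgLib.Base.le_normalizer_map_pPrimeCore L))
      (hED.trans Subgroup.le_normalizer)
  have hER : E ≤ Subgroup.normalizer (R : Set G) := CfsgLib.Coprime.le_normalizer_sup_sup hER₀ hED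
  have hRp : (Nat.card R).Coprime p :=
    (Nat.Coprime.mul_left ((CfsgLib.Base.coprime_card_map_pPrimeCore L).coprime_dvd_left
      (Subgroup.card_dvd_of_le inf_le_left)) (hc D hDq)).coprime_dvd_left
      (CfsgLib.Coprime.card_sup_dvd inf_le_right)
  have hV : ∀ U : Subgroup G, U ≤ Subgroup.normalizer (D : Set G) → IsPGroup q U →
      E ≤ Subgroup.normalizer (U : Set G) → D ≤ U → ∀ u ∈ U, u ∉ D → Commute z u →
      (U ⊓ C) ⊔ D ∈ invSubgroups R E {q} ∧ (U ⊓ C) ⊔ D ≤ U ∧ D < (U ⊓ C) ⊔ D := by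
    intro U hUN hUq hEU hDU u hu huD hzu
    have hle : U ⊓ C ≤ (pPrimeCore p L).map L.subtype :=
      full_local hEp hEfull hcl hLc (hEC.trans hCL) (inf_le_right.trans hCL)
        ((hc U hUq).coprime_dvd_left (Subgroup.card_dvd_of_le inf_le_left))
        (CfsgLib.Coprime.le_normalizer_inf_inf hEU (hEC.trans Subgroup.le_normalizer))
    refine ⟨mem_invSubgroups_singleton_iff.mpr ⟨sup_le_sup_right (le_inf hle (inf_le_left.trans hUN)) D,
      hUq.to_le (sup_le inf_le_left hDU), CfsgLib.Coprime.le_normalizer_sup_sup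
        (CfsgLib.Coprime.le_normalizer_inf_inf hEU (hEC.trans Subgroup.le_normalizer)) hED⟩,
      sup_le inf_le_left hDU, lt_of_le_of_ne le_sup_right fun h => huD ?_⟩
    rw [h]
    exact Subgroup.mem_sup_left ⟨hu, Subgroup.mem_centralizer_singleton_iff.mpr hzu.eq.symm⟩
  obtain ⟨hV₁, hVU₁, hDV₁⟩ := hV U₁ hUN₁ hUq₁ hEU₁ hlt₁.le u₁ hu₁ hu₁D hzu₁
  obtain ⟨hV₂, hVU₂, hDV₂⟩ := hV U₂ hUN₂ hUq₂ hEU₂ hlt₂.le u₂ hu₂ hu₂D hzu₂
  refine ⟨R, _, _, hER, by rw [hi]; exact hRp.symm.pow_left i, ?_, hV₁, hV₂, hVU₁, hVU₂, hDV₁,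
    hDV₂⟩
  exact full_le_core hEp hEc hEfull inf_le_right
    (hRp.coprime_dvd_left (Subgroup.card_dvd_of_le inf_le_left))

end CfsgLib.OddOrder
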