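import Cfsg.Agent.Lib.OddOrder.SmallRank
import Cfsg.Agent.Lib.Coprime.Action
import Cfsg.Agent.Lib.Base.Cores
import Cfsg.Agent.Lib.Base.Fitting
import Cfsg.Agent.Lib.Base.MinimalNormal
import Cfsg.Agent.Lib.Base.Nilpotent
import Cfsg.Agent.Lib.PLocal.PSolvable
import Cfsg.Prelude.Def_OddOrderLocal

/-!
Solvable groups of odd order whose Fitting subgroup has rank at most two.
-/

set_option autoImplicit false

namespace CfsgLib.OddOrder

open Cfsg
open Subgroup
open scoped commutatorElement

/-- The derived group acts on a `p`-group of rank at most two as a `p`-group. -/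
theorem exists_pow_mem_centralizer {G : Type*} [Group G] [Finite G] {p : ℕ} [Fact p.Prime]
    (hp : p ≠ 2) {R A : Subgroup G} (hR : IsPGroup p R) (hr : PRankLE p 2 R)
    (hA : A ≤ normalizer (R : Set G)) [Group.IsSolvable A] (hodd : Odd (Nat.card A))
    (c : commutator A) : ∃ k : ℕ, ((c : A) : G) ^ p ^ k ∈ centralizer (R : Set G) := by
  obtain ⟨φ, hφ⟩ := exists_gl2_rep hp hR hr hA
  let ψ : A →* (Matrix (Fin 2) (Fin 2) (ZMod p))ˣ := φ.toHomUnits
  have hrodd : Odd (Nat.card ψ.range) := hodd.of_dvd_nat (card_range_dvd ψ)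
  have : Group.IsSolvable ψ.range := Group.isSolvable_of_surjective ψ.rangeRestrict_surjective
  have h1 := pow_eq_one_of_mem_commutator (p := p) (F := ZMod p) hp hrodd
    ((Units.coeHom _).comp ψ.range.subtype) (Units.val_injective.comp Subtype.val_injective)
    (c := ψ.rangeRestrict c.1) (by
      have h : (commutator A).map ψ.rangeRestrict ≤ commutator ψ.range := by
        rw [_root_.commutator_def, map_commutator]
        exact commutator_mono le_top le_top
      exact h (mem_map_of_mem _ c.2))
  have ha : φ (c.1 ^ p) = 1 := congrArg (fun t : ψ.range =>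
    ((t : (Matrix (Fin 2) (Fin 2) (ZMod p))ˣ) : Matrix (Fin 2) (Fin 2) (ZMod p)))
    ((map_pow ψ.rangeRestrict c.1 p).trans h1)
  generalize hy : c.1 ^ p = y at ha
  obtain ⟨k, m, hm, hk⟩ := Nat.exists_eq_pow_mul_and_not_dvd (orderOf_pos y).ne' p
    (Fact.out : p.Prime).ne_one
  have hcop : (orderOf (y ^ p ^ k)).Coprime p := by
    rw [orderOf_pow_of_dvd (pow_ne_zero _ (Fact.out : p.Prime).ne_zero) (hk ▸ dvd_mul_right _ _),
      hk, Nat.mul_div_cancel_left _ (pow_pos (Fact.out : p.Prime).pos k)]
    exact ((Fact.out : p.Prime).coprime_iff_not_dvd.2 hm).symm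
  refine ⟨k + 1, ?_⟩
  have := hφ _ (by rw [map_pow, ha, one_pow]) hcop
  rw [← hy, ← pow_mul, ← pow_succ'] at this
  exact this

variable {G : Type*} [Group G] [Finite G]

omit [Finite G] in
/-- An element of prime power order with a coprime power in a subgroup lies in it. -/
theorem mem_of_pow_mem_of_orderOf {C : Subgroup G} {x : G} {q k p j : ℕ} (hq : q.Prime)
    (hp : p.Prime) (hne : p ≠ q) (hx : orderOf x = q ^ k) (hC : x ^ p ^ j ∈ C) : x ∈ C := by
  obtain ⟨m, hm⟩ := exists_pow_eq_self_of_coprime (x := x) (n := p ^ j)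
    (hx ▸ ((Nat.coprime_primes hp hq).2 hne).pow j k)
  exact hm ▸ pow_mem hC m

/-- If the prime power parts lie in a subgroup, so does the element. -/
theorem mem_of_primary_parts (H : Subgroup G) (y : G)
    (h : ∀ p : ℕ, p.Prime → p ∣ orderOf y → ∀ z ∈ zpowers y, (∃ k, z ^ p ^ k = 1) → z ∈ H) :
    y ∈ H := by
  set K := H.subgroupOf (zpowers y) with hK
  by_contra hy
  obtain ⟨p, hp, hpd⟩ := Nat.exists_prime_and_dvd (show K.index ≠ 1 from fun h1 => hy (by
    have := (index_eq_one.1 h1).symm.le (mem_top (⟨y, mem_zpowers y⟩ : zpowers y))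
    exact this))
  have : Fact p.Prime := ⟨hp⟩
  obtain ⟨S⟩ : Nonempty (Sylow p (zpowers y)) := inferInstance
  have hle : (S : Subgroup (zpowers y)) ≤ K := fun z hz => by
    refine h p hp ?_ z z.2 ?_
    · rw [← Nat.card_zpowers]; exact hpd.trans K.index_dvd_card
    · obtain ⟨k, hk⟩ := S.isPGroup' ⟨z, hz⟩
      exact ⟨k, by simpa using congrArg (fun t : (S : Subgroup (zpowers y)) => ((t : zpowers y) : G)) hk⟩
  exact S.not_dvd_index (hpd.trans (index_dvd_of_le hle))

theorem pPower_mem_pCore_of_mem_fitting {p : ℕ} [Fact p.Prime] {y : G} (hy : y ∈ fittingSubgroup G)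
    {k : ℕ} (hk : y ^ p ^ k = 1) : y ∈ pCore p G := by
  have hnil := CfsgLib.Base.isNilpotent_fittingSubgroup G
  have hsub : IsPGroup p (zpowers (⟨y, hy⟩ : fittingSubgroup G)) := by
    intro z
    obtain ⟨j, hj⟩ := mem_zpowers_iff.1 z.2
    exact ⟨k, Subtype.ext (Subtype.ext (by
      simp only [SubmonoidClass.coe_pow, ← hj, SubgroupClass.coe_zpow, OneMemClass.coe_one]
      rw [← zpow_natCast, ← zpow_mul, mul_comm, zpow_mul, zpow_natCast, hk, one_zpow]))⟩
  rw [← CfsgLib.Base.map_pCore_fittingSubgroup p G]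
  exact ⟨⟨y, hy⟩, CfsgLib.Base.le_pCore_of_isSubnormal
    (CfsgLib.Base.isSubnormal_of_isNilpotent _) hsub (mem_zpowers _), rfl⟩

/-- The standing hypothesis. -/
def FittingRankTwo (G : Type*) [Group G] : Prop :=
  ∀ p : ℕ, p.Prime → PRankLE p 2 (pCore p G)

theorem fittingRankTwo_of {G : Type*} [Group G] [Finite G]
    (h : RankLE 2 G ∨ RankLE 2 (fittingSubgroup G)) : FittingRankTwo G := by
  intro p hp
  have : Fact p.Prime := ⟨hp⟩
  rcases h with h | h
  · exact CfsgLib.Base.pRankLE_subgroup (h p hp) _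
  · exact CfsgLib.Base.pRankLE_of_injective (inclusion (CfsgLib.Base.pCore_le_fittingSubgroup p G))
      (inclusion_injective _) (h p hp)

/-- The derived group acts on each `O_p(G)` as a `p`-group. -/
def DerivedActs (G : Type*) [Group G] : Prop :=
  ∀ p : ℕ, p.Prime → p ≠ 2 → ∀ c ∈ commutator G, ∃ j : ℕ, c ^ p ^ j ∈ centralizer (pCore p G : Set G)

theorem FittingRankTwo.derivedActs [Group.IsSolvable G] (hodd : Odd (Nat.card G))
    (hr : FittingRankTwo G) : DerivedActs G := by
  intro p hp hp2 c hc
  have : Fact p.Prime := ⟨hp⟩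
  have h : ((commutator (⊤ : Subgroup G)).map (⊤ : Subgroup G).subtype) = commutator G := by
    rw [map_subtype_commutator, ← _root_.commutator_def]
  obtain ⟨y, hy, hyx⟩ := h.symm ▸ hc
  obtain ⟨j, hj⟩ := exists_pow_mem_centralizer (A := (⊤ : Subgroup G)) hp2
    (CfsgLib.Base.isPGroup_pCore p G) (hr p hp)
    (by rw [normalizer_eq_top (pCore p G)]) (by rw [card_top]; exact hodd) ⟨y, hy⟩
  exact ⟨j, by rw [← hyx]; exact hj⟩

/-- A `q`-element of the derived group centralizes `O_p` for `p ≠ q`. -/
theorem mem_centralizer_pCore (hodd : Odd (Nat.card G))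
    (hr : DerivedActs G) {p q k : ℕ} [Fact p.Prime] (hq : q.Prime) (hne : p ≠ q) {x : G}
    (hx : x ∈ commutator G) (hxo : orderOf x = q ^ k) :
    x ∈ centralizer (pCore p G : Set G) := by
  have hp : p.Prime := Fact.out
  by_cases hp2 : p = 2
  · subst hp2
    have hb : pCore 2 G = ⊥ := by
      obtain ⟨j, hj⟩ := IsPGroup.iff_card.mp (CfsgLib.Base.isPGroup_pCore 2 G)
      rcases j with _ | j
      · exact card_eq_one.1 (by simpa using hj)
      · rcases hodd.of_dvd_nat ((dvd_pow_self 2 j.succ_ne_zero).trans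
          (hj ▸ card_subgroup_dvd_card (pCore 2 G))) with ⟨m, hm⟩
        omega
    rw [hb]
    exact mem_centralizer_iff.2 fun h hh => by rw [SetLike.mem_coe, mem_bot] at hh; simp [hh]
  obtain ⟨j, hj⟩ := hr p hp hp2 x hx
  exact mem_of_pow_mem_of_orderOf hq hp hne hxo hj

/-- The derived group is nilpotent. -/
theorem isNilpotent_commutator [Group.IsSolvable G] (hodd : Odd (Nat.card G))
    (hr : DerivedActs G) : Group.IsNilpotent (commutator G) := by
  apply ((Group.isNilpotent_of_finite_tfae (G := commutator G)).out 0 3 rfl rfl).mpr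
  intro q hq Q
  have hqp : q.Prime := hq.out
  set Q' := (Q : Subgroup (commutator G)).map (commutator G).subtype with hQ'
  have hQ'p : IsPGroup q Q' := Q.isPGroup'.map _
  have hQ'K : Q' ≤ commutator G := map_subtype_le _
  let M : Subgroup G := commutator G ⊓ ⨅ p : {p : ℕ // p.Prime ∧ p ≠ q}, centralizer (pCore p G : Set G)
  have hQM : Q' ≤ M := by
    refine le_inf hQ'K (le_iInf fun p x hx => ?_)
    obtain ⟨k, hk⟩ := IsPGroup.iff_orderOf.mp hQ'p ⟨x, hx⟩
    rw [orderOf_mk] at hk
    have : Fact (p : ℕ).Prime := ⟨p.2.1⟩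
    exact mem_centralizer_pCore hodd hr hqp p.2.2 (hQ'K hx) hk
  have hMn : M.Normal := by
    have hi : (⨅ p : {p : ℕ // p.Prime ∧ p ≠ q}, centralizer (pCore p G : Set G)).Normal :=
      normal_iInf_normal fun p => inferInstance
    exact normal_inf_normal _ _
  -- every element of `M` normalizes `Q'`
  set Z := M ⊓ centralizer (pCore q G : Set G) with hZdef
  have hZC : Z ≤ centralizer (fittingSubgroup G : Set G) := by
    rw [le_centralizer_iff, CfsgLib.Base.fittingSubgroup_eq_iSup_pCore]
    refine iSup_le fun p => le_centralizer_iff.1 ?_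
    by_cases hpq : (p : ℕ) = q
    · rw [hpq]; exact inf_le_right
    · exact inf_le_left.trans (inf_le_right.trans (iInf_le_of_le ⟨p, p.2, hpq⟩ le_rfl))
  have hZF : Z ≤ fittingSubgroup G := hZC.trans CfsgLib.Base.centralizer_fittingSubgroup_le
  have hOq : commutator G ⊓ pCore q G ≤ Q' := by
    intro x hx
    have hN : ((commutator G ⊓ pCore q G).subgroupOf (commutator G)).Normal := inferInstance
    have hNp : IsPGroup q ((commutator G ⊓ pCore q G).subgroupOf (commutator G)) :=
      ((CfsgLib.Base.isPGroup_pCore q G).to_le inf_le_right).comap_of_injective _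
        (commutator G).subtype_injective
    exact ⟨⟨x, hx.1⟩, CfsgLib.Base.pCore_le_sylow Q (CfsgLib.Base.le_pCore hNp hx), rfl⟩
  have hZN : Z ≤ normalizer (Q' : Set G) := by
    intro y hy
    refine mem_of_primary_parts _ y fun p hp _ z hz hzk => ?_
    obtain ⟨k, hk⟩ := hzk
    have hzZ : z ∈ Z := zpowers_le.2 hy hz
    have : Fact p.Prime := ⟨hp⟩
    have hzp : z ∈ pCore p G := pPower_mem_pCore_of_mem_fitting (hZF hzZ) hk
    by_cases hpq : p = q
    · subst hpq
      exact le_normalizer (hOq ⟨(hzZ.1 : z ∈ M).1, hzp⟩)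
    · have hcent : z ∈ centralizer (Q' : Set G) := mem_centralizer_iff.2 fun a ha =>
        ((mem_centralizer_iff.1 ((iInf_le_of_le ⟨p, hp, hpq⟩ le_rfl : _ ≤ centralizer
          (pCore p G : Set G)) ((hQM ha).2))) z hzp).symm
      exact centralizer_le_normalizer (G := G) (s := (Q' : Set G)) hcent
  have hMN : M ≤ normalizer (Q' : Set G) := by
    intro y hy
    refine mem_of_primary_parts _ y fun p hp _ z hz hzk => ?_
    obtain ⟨k, hk⟩ := hzk
    have : Fact p.Prime := ⟨hp⟩
    have hzM : z ∈ M := zpowers_le.2 hy hz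
    by_cases hpq : p = q
    · subst hpq
      -- a `q`-element of `M`: it lies in `Q' Z`
      have hQZ : IsPGroup p Q' := hQ'p
      let T := (Q' ⊔ Z).subgroupOf (commutator G)
      have hrel : ¬ p ∣ (Q' ⊔ Z).relIndex M := fun hd => Q.not_dvd_index (by
        have e : (Q : Subgroup (commutator G)).index = Q'.relIndex (commutator G) := by
          rw [relIndex, hQ']
          congr 1
          exact (comap_map_eq_self_of_injective (commutator G).subtype_injective _).symm
        rw [e]
        have h1 : (Q' ⊔ Z).relIndex M ∣ (Q' ⊔ Z).relIndex (commutator G) :=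
          ⟨M.relIndex (commutator G), (relIndex_mul_relIndex _ _ _
            (sup_le hQM inf_le_left) inf_le_left).symm⟩
        exact (hd.trans h1).trans ⟨Q'.relIndex (Q' ⊔ Z), by
          rw [mul_comm]; exact (relIndex_mul_relIndex _ _ _ le_sup_left
            (sup_le hQ'K ((inf_le_left : Z ≤ M).trans inf_le_left))).symm⟩)
      have hZn : Z.Normal := normal_inf_normal _ _
      -- `Q' Z` is normal in `M` as `M / Z` is abelian-by-`q`
      by_contra hzn
      have hle : Q' ⊔ Z ≤ normalizer (Q' : Set G) := sup_le le_normalizer hZN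
      have hbar := QuotientGroup.mk'_surjective Z
      -- `M / Z` is a `q`-group
      have hMZ : IsPGroup p (M.map (QuotientGroup.mk' Z)) := by
        rintro ⟨_, w, hw, rfl⟩
        by_cases hp2 : p = 2
        · subst hp2
          refine ⟨0, Subtype.ext ?_⟩
          have : Z = M := by
            refine le_antisymm inf_le_left (le_inf le_rfl ?_)
            have hb : pCore 2 G = ⊥ := by
              obtain ⟨j, hj⟩ := IsPGroup.iff_card.mp (CfsgLib.Base.isPGroup_pCore 2 G)
              rcases j with _ | j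
              · exact card_eq_one.1 (by simpa using hj)
              · rcases hodd.of_dvd_nat ((dvd_pow_self 2 j.succ_ne_zero).trans
                  (hj ▸ card_subgroup_dvd_card (pCore 2 G))) with ⟨m, hm⟩
                omega
            rw [hb]
            intro a _
            exact mem_centralizer_iff.2 fun h hh => by
              rw [SetLike.mem_coe, mem_bot] at hh; simp [hh]
          simp only [pow_zero, pow_one]
          exact (QuotientGroup.eq_one_iff w).2 (this.symm ▸ hw)
        obtain ⟨j, hj⟩ := hr p hp hp2 w hw.1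
        exact ⟨j, Subtype.ext ((QuotientGroup.eq_one_iff _).2 ⟨pow_mem hw _, hj⟩)⟩
      have hz' : z ∈ Q' ⊔ Z := by
        have hidx : (Q' ⊔ Z).relIndex M = 1 := by
          have hd : (Q' ⊔ Z).relIndex M ∣ Z.relIndex M :=
            relIndex_dvd_of_le_left M (le_sup_right : Z ≤ Q' ⊔ Z)
          obtain ⟨j, hj⟩ := IsPGroup.iff_card.mp hMZ
          rw [CfsgLib.PLocal.card_map_mk'_eq_relIndex] at hj
          rw [hj] at hd
          obtain ⟨i, -, hi⟩ := (Nat.dvd_prime_pow hp).1 hd
          rcases i with _ | i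
          · simpa using hi
          · exact absurd (hi ▸ dvd_pow_self p i.succ_ne_zero) hrel
        exact relIndex_eq_one.1 hidx hzM
      exact hzn (hle hz')
    · have ho : ∃ i, orderOf z = p ^ i := by
        obtain ⟨i, -, hi⟩ := (Nat.dvd_prime_pow hp).1 (orderOf_dvd_of_pow_eq_one hk)
        exact ⟨i, hi⟩
      obtain ⟨i, hi⟩ := ho
      exact hZN ⟨hzM, mem_centralizer_pCore hodd hr hp (Ne.symm hpq) hzM.1 hi⟩
  -- so `Q'` is normal in `M`, hence in `G'`
  have hQn : ((Q' : Subgroup G).subgroupOf M).Normal := normal_subgroupOf_of_le_normalizer hMN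
  have hGn : Q'.Normal := by
    have hS : ¬ q ∣ ((Q' : Subgroup G).subgroupOf M).index := fun hd => Q.not_dvd_index (by
      have e : (Q : Subgroup (commutator G)).index = Q'.relIndex (commutator G) := by
        rw [relIndex, hQ']
        congr 1
        exact (comap_map_eq_self_of_injective (commutator G).subtype_injective _).symm
      rw [e]
      exact hd.trans ⟨M.relIndex (commutator G),
        (relIndex_mul_relIndex _ _ _ hQM inf_le_left).symm⟩)
    let SM : Sylow q M := IsPGroup.toSylow (hQ'p.comap_of_injective _ M.subtype_injective) hS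
    have hSMn : (SM : Subgroup M).Normal := hQn
    have hc : ((Q' : Subgroup G).subgroupOf M).Characteristic := Sylow.characteristic_of_normal SM hSMn
    have := ConjAct.normal_of_characteristic_of_normal (H := M) (K := (Q' : Subgroup G).subgroupOf M)
    rwa [map_subgroupOf_eq_of_le hQM] at this
  have h2 := hGn.comap (commutator G).subtype
  rwa [hQ', comap_map_eq_self_of_injective (commutator G).subtype_injective] at h2

theorem commutator_le_fitting [Group.IsSolvable G] (hodd : Odd (Nat.card G))
    (hr : DerivedActs G) : commutator G ≤ fittingSubgroup G :=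
  CfsgLib.Base.le_fittingSubgroup (isNilpotent_commutator hodd hr)

theorem fitting_sup_normal [Group.IsSolvable G] (hodd : Odd (Nat.card G))
    (hr : FittingRankTwo G) (H : Subgroup G) : (H ⊔ fittingSubgroup G).Normal :=
  ⟨fun x hx g => by
    rw [show g * x * g⁻¹ = ⁅g, x⁆ * x by rw [commutatorElement_def]; group]
    exact mul_mem (le_sup_right (a := H) (commutator_le_fitting hodd (hr.derivedActs hodd)
      (commutator_mem_commutator (mem_top g) (mem_top x)))) hx⟩

/-- A characteristic subgroup of a Sylow subgroup inside its derived group is normal. -/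
theorem normal_of_le_derived_sylow [Group.IsSolvable G] (hodd : Odd (Nat.card G))
    (hr : FittingRankTwo G) {q : ℕ} [Fact q.Prime] (S : Sylow q G) (T : Subgroup (S : Subgroup G))
    (hT : T.Characteristic)
    (hTd : T.map (S : Subgroup G).subtype ≤ ⁅(S : Subgroup G), (S : Subgroup G)⁆) :
    (T.map (S : Subgroup G).subtype).Normal := by
  set T' := T.map (S : Subgroup G).subtype with hT'
  have hT'S : T' ≤ (S : Subgroup G) := map_subtype_le T
  have hNS : normalizer ((S : Subgroup G) : Set G) ≤ normalizer (T' : Set G) := by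
    intro g hg
    rw [mem_normalizer_iff_map_conj_eq, hT', map_map]
    have hφ := characteristic_iff_map_eq.1 hT ((S : Subgroup G).normalizerMonoidHom ⟨g, hg⟩)
    conv_rhs => rw [← hφ, map_map]
    congr 1
  have hSN : (S : Subgroup G) ≤ normalizer (T' : Set G) := le_normalizer.trans hNS
  have hFN : fittingSubgroup G ≤ normalizer (T' : Set G) := by
    rw [CfsgLib.Base.fittingSubgroup_eq_iSup_pCore]
    refine iSup_le fun r => ?_
    by_cases hrq : (r : ℕ) = q
    · rw [hrq]; exact (CfsgLib.Base.pCore_le_sylow S).trans hSN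
    · have : Fact (r : ℕ).Prime := ⟨r.2⟩
      refine le_trans ?_ (centralizer_le_normalizer (G := G) (s := (T' : Set G)))
      rw [le_centralizer_iff]
      intro t ht
      obtain ⟨k, hk⟩ := IsPGroup.iff_orderOf.mp S.isPGroup' ⟨t, hT'S ht⟩
      rw [orderOf_mk] at hk
      exact mem_centralizer_pCore hodd (hr.derivedActs hodd) (Fact.out : q.Prime) hrq
        (commutator_mono le_top le_top (hTd ht)) hk
  set N := (S : Subgroup G) ⊔ fittingSubgroup G with hN
  have hNn : N.Normal := fitting_sup_normal hodd hr _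
  rw [← normalizer_eq_top_iff, eq_top_iff,
    ← Sylow.normalizer_sup_eq_top' S (le_sup_left : (S : Subgroup G) ≤ N)]
  exact sup_le hNS (sup_le hSN hFN)

/-- A characteristic Hall subgroup for the primes greater than `p`. -/
theorem exists_characteristic_hall_gt [Group.IsSolvable G] (hodd : Odd (Nat.card G))
    (hr : FittingRankTwo G) (p : ℕ) :
    ∃ N : Subgroup G, N.Characteristic ∧ IsPiHall {q | q.Prime ∧ p < q} N := by
  set π : Set ℕ := {q | q.Prime ∧ p < q} with hπ
  set N := piCore π G with hN
  have hNπ : ∀ r : ℕ, r.Prime → r ∣ Nat.card N → r ∈ π :=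
    (CfsgLib.Base.le_piCore_iff (K := G)).1 (le_refl N)
  refine ⟨N, characteristic_iff_map_eq.2 fun e => CfsgLib.Base.map_piCore_mulEquiv e, hNπ,
    fun q hq hqπ hqd => ?_⟩
  have : Fact q.Prime := ⟨hq⟩
  obtain ⟨S⟩ : Nonempty (Sylow q G) := inferInstance
  refine S.not_dvd_index (hqd.trans (index_dvd_of_le ?_))
  -- a Sylow `q`-subgroup centralizes `O_r` for the primes `r ≤ p`
  have hcent : ∀ r : ℕ, r.Prime → r ≤ p →
      (S : Subgroup G) ≤ centralizer (pCore r G : Set G) := by
    intro r hrp hle x hx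
    have : Fact r.Prime := ⟨hrp⟩
    by_contra hxc
    have hqr : r < q := lt_of_le_of_lt hle hqπ.2
    by_cases hr2 : r = 2
    · subst hr2
      apply hxc
      refine mem_centralizer_iff.2 fun h hh => ?_
      obtain ⟨j, hj⟩ := IsPGroup.iff_orderOf.mp (CfsgLib.Base.isPGroup_pCore 2 G) ⟨h, hh⟩
      rw [orderOf_mk] at hj
      rcases j with _ | j
      · rw [pow_zero, orderOf_eq_one_iff] at hj; simp [hj]
      · rcases hodd.of_dvd_nat ((dvd_pow_self 2 j.succ_ne_zero).trans (hj ▸ orderOf_dvd_natCard h))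
          with ⟨m, hm⟩
        omega
    obtain ⟨φ, hφ⟩ := exists_gl2_rep (A := (⊤ : Subgroup G)) hr2
      (CfsgLib.Base.isPGroup_pCore r G) (hr r hrp) (by rw [normalizer_eq_top (pCore r G)])
    obtain ⟨k, hk⟩ := IsPGroup.iff_orderOf.mp S.isPGroup' ⟨x, hx⟩
    rw [orderOf_mk] at hk
    set x' : (⊤ : Subgroup G) := ⟨x, mem_top x⟩ with hx'
    have hord : orderOf x' = q ^ k := by rw [← orderOf_coe]; exact hk
    set u : GL (Fin 2) (ZMod r) := φ.toHomUnits x' with hu
    have hu1 : u ≠ 1 := fun h => hxc (hφ x' (congrArg Units.val h) (by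
      rw [hord]; exact ((Nat.coprime_primes hq hrp).2 hqr.ne').pow_left k))
    have huo : orderOf u ∣ q ^ k := hord ▸ orderOf_map_dvd _ x'
    obtain ⟨i, -, hi⟩ := (Nat.dvd_prime_pow hq).1 huo
    have hqu : q ∣ orderOf u := by
      rcases i with _ | i
      · exact absurd (orderOf_eq_one_iff.1 (by simpa using hi)) hu1
      · exact hi ▸ dvd_pow_self q i.succ_ne_zero
    have h := hqu.trans (orderOf_dvd_natCard u)
    rw [Matrix.card_GL_field, ← Nat.card_eq_fintype_card, Nat.card_zmod, Fin.prod_univ_two] at h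
    have e1 : r ^ 2 - r ^ 0 = (r + 1) * (r - 1) := by simpa using Nat.sq_sub_sq r 1
    have e2 : r ^ 2 - r ^ 1 = r * (r - 1) := by rw [pow_two, pow_one, Nat.mul_sub, mul_one]
    change q ∣ (r ^ 2 - r ^ 0) * (r ^ 2 - r ^ 1) at h
    rw [e1, e2] at h
    have h2 := hrp.two_le
    rcases hq.dvd_mul.1 h with h | h <;> rcases hq.dvd_mul.1 h with h | h
    · rcases hq.eq_two_or_odd' with h' | ⟨m, hm⟩
      · omega
      · rcases hrp.odd_of_ne_two hr2 with ⟨l, hl⟩
        have := Nat.le_of_dvd (by omega) h
        omega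
    · have := Nat.le_of_dvd (by omega) h; omega
    · have := Nat.le_of_dvd (by omega) h; omega
    · have := Nat.le_of_dvd (by omega) h; omega
  set T := (S : Subgroup G) ⊔ N with hT
  set M := (S : Subgroup G) ⊔ fittingSubgroup G ⊔ N with hM
  have hMn : M.Normal := by
    have := fitting_sup_normal hodd hr (S : Subgroup G)
    exact sup_normal _ _
  have hTπ : ∀ r : ℕ, r.Prime → r ∣ Nat.card T → r ∈ π := by
    intro r hrp hd
    have h1 : Nat.card T ∣ Nat.card N * Nat.card (S : Subgroup G) := by
      rw [← card_mul_index (N.subgroupOf T),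
        Nat.card_congr (subgroupOfEquivOfLe (le_sup_right : N ≤ T)).toEquiv]
      refine mul_dvd_mul_left _ ?_
      change N.relIndex T ∣ _
      rw [hT, relIndex_sup_right]
      exact relIndex_dvd_card N _
    rcases hrp.dvd_mul.1 (hd.trans h1) with h | h
    · exact hNπ r hrp h
    · obtain ⟨k, hk⟩ := IsPGroup.iff_card.mp S.isPGroup'
      rw [hk] at h
      rw [(Nat.prime_dvd_prime_iff_eq hrp hq).1 (hrp.dvd_of_dvd_pow h)]
      exact hqπ
  have hMT : M ≤ normalizer (T : Set G) := by
    refine sup_le (sup_le ((le_sup_left : (S : Subgroup G) ≤ T).trans le_normalizer) ?_)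
      ((le_sup_right : N ≤ T).trans le_normalizer)
    rw [CfsgLib.Base.fittingSubgroup_eq_iSup_pCore]
    refine iSup_le fun r => ?_
    have : Fact (r : ℕ).Prime := ⟨r.2⟩
    rcases le_or_gt (r : ℕ) p with hle | hgt
    · refine CfsgLib.Coprime.le_normalizer_sup_sup ((le_centralizer_iff.1 (hcent r r.2 hle)).trans
        (centralizer_le_normalizer _)) ?_
      rw [normalizer_eq_top N]; exact le_top
    · refine (le_trans ?_ (le_sup_right : N ≤ T)).trans le_normalizer
      refine CfsgLib.Base.le_piCore fun s hs hd => ?_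
      obtain ⟨k, hk⟩ := IsPGroup.iff_card.mp (CfsgLib.Base.isPGroup_pCore (r : ℕ) G)
      rw [hk] at hd
      rw [(Nat.prime_dvd_prime_iff_eq hs r.2).1 (hs.dvd_of_dvd_pow hd)]
      exact ⟨r.2, hgt⟩
  have hTM : T ≤ M := sup_le (le_sup_left.trans le_sup_left) le_sup_right
  have : (T.subgroupOf M).Normal := normal_subgroupOf_of_le_normalizer hMT
  have h1 : T.subgroupOf M ≤ piCore π M := CfsgLib.Base.le_piCore fun r hrp hd => hTπ r hrp (by
    rwa [Nat.card_congr (subgroupOfEquivOfLe hTM).toEquiv] at hd)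
  have h2 := map_mono (f := M.subtype) h1
  rw [map_subgroupOf_eq_of_le hTM, CfsgLib.Base.map_piCore_eq_inf] at h2
  exact le_sup_left.trans (h2.trans inf_le_left)

end CfsgLib.OddOrder
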