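import Cfsg.Prelude.Def_OddOrderLocal
import Cfsg.Agent.Lib.Base.Rank
import Cfsg.Agent.Lib.PGroups.Omega

/-!
Self-centralizing normal subgroups of rank at least three.
-/

set_option autoImplicit false
set_option linter.unusedSectionVars false

namespace CfsgLib.OddOrder

open Cfsg
open Subgroup

variable {p : ℕ} [Fact p.Prime]

/-- In a `p`-group of rank at least three, `p` odd, a normal elementary abelian subgroup lies in a
normal elementary abelian subgroup of order greater than `p²`. -/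
theorem exists_normal_elementary_ge {R : Type*} [Group R] [Finite R] (hp : p ≠ 2)
    (hR : IsPGroup p R) (hr : ¬ PRankLE p 2 R) (A₀ : Subgroup R) [A₀.Normal]
    (hA₀ : IsElementaryAbelian p A₀) :
    ∃ A : Subgroup R, A₀ ≤ A ∧ A.Normal ∧ IsElementaryAbelian p A ∧ p ^ 2 < Nat.card A := by
  have hpp : p.Prime := Fact.out
  obtain ⟨A, hle, hA⟩ := Set.Finite.exists_le_maximal
    (s := {A : Subgroup R | A.Normal ∧ IsElementaryAbelian p A}) (Set.toFinite _)
    (a := A₀) ⟨inferInstance, hA₀⟩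
  obtain ⟨hAn, hAe⟩ := hA.1
  refine ⟨A, hle, hAn, hAe, not_le.1 fun h2 => ?_⟩
  obtain ⟨hAc, hAp⟩ := CfsgLib.Base.isElementaryAbelian_iff.1 hAe
  have homega : ∀ x ∈ centralizer (A : Set R), x ^ p = 1 → x ∈ A := fun x hx hxp =>
    CfsgLib.PGroups.mem_of_maximal_abelian_exponent (n := 1) hR (by rwa [pow_one]) hAe.1
      (by rw [pow_one]; exact hAp)
      (fun B hBn hBc hBe hAB => le_antisymm (hA.2 ⟨hBn, CfsgLib.Base.isElementaryAbelian_iff.2
        ⟨CfsgLib.Base.isMulCommutative_subgroup_iff.1 hBc, by simpa using hBe⟩⟩ hAB) hAB)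
      hx (by rw [pow_one]; exact hxp)
  obtain ⟨k, hk⟩ := IsPGroup.iff_card.mp (hR.to_subgroup A)
  have hk2 : k ≤ 2 := (Nat.pow_le_pow_iff_right hpp.one_lt).1 (hk ▸ h2)
  have hidx : (centralizer (A : Set R)).index ≤ p := by
    refine (CfsgLib.PGroups.index_centralizer_le hR k hk).trans ?_
    refine (Nat.pow_le_pow_right hpp.pos (show k.choose 2 ≤ 1 from ?_)).trans (pow_one p).le
    interval_cases k <;> decide
  rw [CfsgLib.Base.pRankLE_iff] at hr
  push Not at hr
  obtain ⟨B, hBe, hB⟩ := hr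
  obtain ⟨hBc, hBp⟩ := CfsgLib.Base.isElementaryAbelian_iff.1 hBe
  have hBA : B ⊓ centralizer (A : Set R) ≤ A := fun x hx => homega x hx.2 (hBp x hx.1)
  have hB3 : p ^ 3 ≤ Nat.card B := by
    obtain ⟨n, hn⟩ := CfsgLib.Base.exists_card_eq_pow_of_isElementaryAbelian hBe
    rw [hn] at hB ⊢
    exact Nat.pow_le_pow_right hpp.pos ((Nat.pow_lt_pow_iff_right hpp.one_lt).1 hB)
  have hmul : Nat.card B = Nat.card ↥(B ⊓ centralizer (A : Set R)) *
      (centralizer (A : Set R)).relIndex B := by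
    rw [← ((centralizer (A : Set R)).subgroupOf B).card_mul_index,
      ← CfsgLib.Base.card_map_subtype ((centralizer (A : Set R)).subgroupOf B),
      subgroupOf_map_subtype, inf_comm]
    rfl
  have hrel : (centralizer (A : Set R)).relIndex B ≤ p := by
    refine le_trans (le_of_le_of_eq ?_ (relIndex_top_right _)) hidx
    exact relIndex_le_of_le_right le_top
      (by rw [relIndex_top_right]; exact index_ne_zero_of_finite)
  have hcard : Nat.card A ≤ Nat.card ↥(B ⊓ centralizer (A : Set R)) := by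
    by_contra hlt
    push Not at hlt
    have : Nat.card B < p ^ 3 :=
      calc Nat.card B = Nat.card ↥(B ⊓ centralizer (A : Set R)) *
            (centralizer (A : Set R)).relIndex B := hmul
        _ ≤ Nat.card ↥(B ⊓ centralizer (A : Set R)) * p := Nat.mul_le_mul_left _ hrel
        _ < p ^ 2 * p := Nat.mul_lt_mul_of_pos_right (hlt.trans_le h2) hpp.pos
        _ = p ^ 3 := (pow_succ p 2).symm
    omega
  have heq : B ⊓ centralizer (A : Set R) = A := eq_of_le_of_card_ge hBA hcard
  have hAB : A ≤ B := heq ▸ inf_le_left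
  have hBC : B ≤ centralizer (A : Set R) := fun b hb =>
    mem_centralizer_iff.2 fun a ha => hBc a (hAB ha) b hb
  have hfin : Nat.card B ≤ Nat.card A := card_le_of_le ((le_inf le_rfl hBC).trans hBA)
  have h23 : p ^ 2 < p ^ 3 := Nat.pow_lt_pow_right hpp.one_lt (by omega)
  omega

/-- A `p`-group of rank at least three, `p` odd, has a self-centralizing normal subgroup of rank at
least three over each normal elementary abelian subgroup. -/
theorem exists_scn3_ge {R : Type*} [Group R] [Finite R] (hp : p ≠ 2) (hR : IsPGroup p R)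
    (hr : ¬ PRankLE p 2 R) (A₀ : Subgroup R) [A₀.Normal] (hA₀ : IsElementaryAbelian p A₀) :
    ∃ A : Subgroup R, A₀ ≤ A ∧ A.Normal ∧ centralizer (A : Set R) = A ∧ ¬ PRankLE p 2 A := by
  obtain ⟨E, hle, hEn, hEe, hE⟩ := exists_normal_elementary_ge hp hR hr A₀ hA₀
  obtain ⟨A, hAn, hAc, hEA, hA⟩ := CfsgLib.PGroups.exists_selfCentralizing_normal hR E hEe.1
  exact ⟨A, hle.trans hEA, hAn, hA, fun h => absurd
    (CfsgLib.Base.pRankLE_subgroup_iff.1 h E hEA hEe) (not_le.2 hE)⟩

/-- A `p`-subgroup of rank at least three contains an `SCN₃`-subgroup of itself. -/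
theorem exists_isSCN_three {G : Type*} [Group G] [Finite G] (hp : p ≠ 2) {P : Subgroup G}
    (hP : IsPGroup p P) (hr : ¬ PRankLE p 2 P) :
    ∃ A : Subgroup G, IsSCN P A ∧ ¬ PRankLE p 2 A := by
  obtain ⟨A, -, hAn, hA, h3⟩ := exists_scn3_ge hp hP hr ⊥ (CfsgLib.Base.isElementaryAbelian_bot p)
  refine ⟨A.map P.subtype, ⟨map_subtype_le A, ?_, ?_⟩, fun h => h3
    ((CfsgLib.Base.pRankLE_congr (A.equivMapOfInjective _ P.subtype_injective)).2 h)⟩
  · refine le_trans ?_ (le_normalizer_map P.subtype)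
    rw [normalizer_eq_top A, ← MonoidHom.range_eq_map, range_subtype]
  · ext x
    constructor
    · rintro ⟨hxP, hxC⟩
      refine ⟨⟨x, hxP⟩, hA.le (mem_centralizer_iff.2 fun a ha => Subtype.ext ?_), rfl⟩
      exact mem_centralizer_iff.1 hxC a ⟨a, ha, rfl⟩
    · rintro ⟨y, hy, rfl⟩
      refine ⟨y.2, mem_centralizer_iff.2 ?_⟩
      rintro _ ⟨a, ha, rfl⟩
      exact congrArg Subtype.val (mem_centralizer_iff.1 (hA.ge hy) a ha)

end CfsgLib.OddOrder
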