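import Cfsg.Agent.Lib.Base.Fitting
import Cfsg.Agent.Lib.Coprime.Action2
import Cfsg.Agent.Lib.PGroups.Basic

/-!
Normal Hall subgroups inside the derived subgroup.
-/

set_option autoImplicit false

open scoped commutatorElement

namespace CfsgLib.OddOrder

open Cfsg

variable {G : Type*} [Group G] [Finite G] [Group.IsSolvable G]

omit [Finite G] in
theorem eq_of_le_sup_commutator {N H : Subgroup G} [N.Normal] (hNH : N ≤ H)
    (h : H ≤ N ⊔ ⁅H, H⁆) : H = N := by
  refine le_antisymm ?_ hNH
  have hmap : H.map (QuotientGroup.mk' N) ≤ ⁅H.map (QuotientGroup.mk' N), H.map (QuotientGroup.mk' N)⁆ := by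
    calc H.map (QuotientGroup.mk' N) ≤ (N ⊔ ⁅H, H⁆).map (QuotientGroup.mk' N) := Subgroup.map_mono h
      _ = _ := by rw [Subgroup.map_sup, QuotientGroup.map_mk'_self, bot_sup_eq, Subgroup.map_commutator]
  rw [← CfsgLib.Base.map_mk'_eq_bot_iff]
  by_contra hne
  exact absurd (hmap.trans_lt (Group.IsSolvable.commutator_lt_of_ne_bot hne)) (lt_irrefl _)

theorem hall_le_derived {H K : Subgroup G} [H.Normal] (hcop : (Nat.card H).Coprime H.index)
    (hK : Subgroup.IsComplement' H K) (hle : H ≤ commutator G) :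
    H = ⁅H, K⁆ ∧ H ⊓ Subgroup.centralizer (K : Set G) ≤ ⁅H, H⁆ := by
  have htop : H ⊔ K = ⊤ := hK.sup_eq_top
  have hdisj : H ⊓ K = ⊥ := hK.disjoint.eq_bot
  have hcop' : (Nat.card K).Coprime (Nat.card H) := by
    rw [← hK.symm.index_eq_card]; exact hcop.symm
  have hNH : ⁅H, K⁆ ≤ H := Subgroup.commutator_le_left H K
  haveI hN : (⁅H, K⁆ : Subgroup G).Normal := by
    rw [← Subgroup.normalizer_eq_top_iff, eq_top_iff, ← htop, sup_le_iff]
    exact ⟨Subgroup.normalizer_commutator_ge_left (H₁ := H) (H₂ := K),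
      Subgroup.normalizer_commutator_ge_right (H₁ := H) (H₂ := K)⟩
  set N := ⁅H, K⁆ with hNdef
  set D := ⁅H, H⁆ with hD
  set D' := ⁅K, K⁆ with hD'
  -- `G' ≤ N H' K'`
  have hG' : commutator G ≤ N ⊔ D ⊔ D' := by
    have h1 : ((commutator G).map (QuotientGroup.mk' N)) ≤
        (D ⊔ D').map (QuotientGroup.mk' N) := by
      set f := QuotientGroup.mk' N
      rw [commutator_def, Subgroup.map_commutator, ← htop, Subgroup.map_sup, Subgroup.map_sup,
        hD, hD', Subgroup.map_commutator, Subgroup.map_commutator]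
      set A := H.map f
      set B := K.map f
      have hAB : A ≤ Subgroup.centralizer (B : Set (G ⧸ N)) := by
        rw [← Subgroup.commutator_eq_bot_iff_le_centralizer, ← Subgroup.map_commutator,
          CfsgLib.Base.map_mk'_eq_bot_iff]
      rw [Subgroup.commutator_le]
      intro x hx y hy
      rw [CfsgLib.Coprime.mem_sup_iff_of_le_normalizer
        (hAB.trans (Subgroup.centralizer_le_normalizer _))] at hx hy
      obtain ⟨a, ha, b, hb, rfl⟩ := hx
      obtain ⟨c, hc, d, hd, rfl⟩ := hy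
      have hbc : Commute b c := Subgroup.mem_centralizer_iff.mp (hAB hc) b hb
      have had : Commute a d := (Subgroup.mem_centralizer_iff.mp (hAB ha) d hd).symm
      have hcb : Commute c b := hbc.symm
      have e : ⁅a * b, c * d⁆ = ⁅a, c⁆ * ⁅b, d⁆ := by
        have h2 : ∀ u ∈ A, ∀ v ∈ B, Commute u v := fun u hu v hv =>
          (Subgroup.mem_centralizer_iff.mp (hAB hu) v hv).symm
        have hx1 := h2 _ (A.mul_mem (A.inv_mem ha) (A.inv_mem hc))
        simp only [commutatorElement_def, mul_inv_rev]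
        calc a * b * (c * d) * (b⁻¹ * a⁻¹) * (d⁻¹ * c⁻¹)
            = a * (b * c) * d * b⁻¹ * (a⁻¹ * d⁻¹) * c⁻¹ := by group
          _ = a * (c * b) * d * b⁻¹ * (d⁻¹ * a⁻¹) * c⁻¹ := by
            rw [hbc.eq, (had.inv_inv).eq]
          _ = a * c * ((b * d * b⁻¹ * d⁻¹) * (a⁻¹ * c⁻¹)) := by group
          _ = a * c * ((a⁻¹ * c⁻¹) * (b * d * b⁻¹ * d⁻¹)) := by
            rw [(hx1 _ (B.mul_mem (B.mul_mem (B.mul_mem hb hd) (B.inv_mem hb)) (B.inv_mem hd))).eq]
          _ = a * c * a⁻¹ * c⁻¹ * (b * d * b⁻¹ * d⁻¹) := by group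
      rw [e]
      exact mul_mem (Subgroup.mem_sup_left (Subgroup.commutator_mem_commutator ha hc))
        (Subgroup.mem_sup_right (Subgroup.commutator_mem_commutator hb hd))
    have h2 := CfsgLib.Coprime.le_sup_of_map_mk'_le h1
    rwa [← sup_assoc] at h2
  have hND : N ⊔ D ≤ H := sup_le hNH (Subgroup.commutator_le_self H)
  have hH : H = N := by
    refine eq_of_le_sup_commutator hNH fun x hx => ?_
    have hx' : x ∈ D' ⊔ (N ⊔ D) := by rw [sup_comm]; exact hG' (hle hx)
    have hnorm : D' ≤ Subgroup.normalizer ((N ⊔ D : Subgroup G) : Set G) := by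
      haveI : (D : Subgroup G).Normal := Subgroup.commutator_normal H H
      exact Subgroup.le_normalizer_of_normal
    obtain ⟨d, hd, v, hv, rfl⟩ := (CfsgLib.Coprime.mem_sup_iff_of_le_normalizer hnorm).mp hx'
    have : d ∈ H ⊓ K :=
      ⟨(H.mul_mem_cancel_right (hND hv)).mp hx, Subgroup.commutator_le_self K hd⟩
    rw [hdisj, Subgroup.mem_bot] at this
    rw [this, one_mul]; exact hv
  refine ⟨hH, fun x hx => ?_⟩
  haveI : (D : Subgroup G).Normal := Subgroup.commutator_normal H H
  set f := QuotientGroup.mk' D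
  set V := H.map f with hV
  haveI : IsMulCommutative V := by
    rw [← Subgroup.le_centralizer_iff_isMulCommutative,
      ← Subgroup.commutator_eq_bot_iff_le_centralizer, hV, ← Subgroup.map_commutator,
      CfsgLib.Base.map_mk'_eq_bot_iff]
  have hbot := CfsgLib.Coprime.centralizer_inf_commutator_eq_bot (A := K.map f) (V := V)
    ((Subgroup.map_mono (Subgroup.le_normalizer_of_normal (H := H) (K := K))).trans
      (Subgroup.le_normalizer_map _))
    ((hcop'.coprime_dvd_left (CfsgLib.Base.card_map_dvd _ _)).coprime_dvd_right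
      (CfsgLib.Base.card_map_dvd _ _))
  have hcomm : ⁅V, K.map f⁆ = V := by rw [hV, ← Subgroup.map_commutator, ← hNdef, ← hH]
  rw [hcomm, inf_assoc] at hbot
  have hmem : f x ∈ V ⊓ (Subgroup.centralizer (K.map f : Set (G ⧸ D)) ⊓ V) := by
    refine ⟨Subgroup.mem_map_of_mem _ hx.1, Subgroup.mem_centralizer_iff.mpr ?_,
      Subgroup.mem_map_of_mem _ hx.1⟩
    rintro _ ⟨k, hk, rfl⟩
    rw [← map_mul, ← map_mul, Subgroup.mem_centralizer_iff.mp hx.2 k hk]
  rw [hbot, Subgroup.mem_bot] at hmem
  exact (QuotientGroup.eq_one_iff x).mp hmem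

/-- A finite group whose derived subgroup is nilpotent of prime index `r` has `r ∤ |G'|`. -/
theorem coprime_derived_of_prime_index (hn : Group.IsNilpotent ↥(commutator G))
    (hr : (commutator G).index.Prime) :
    (Nat.card ↥(commutator G)).Coprime (commutator G).index := by
  set r := (commutator G).index with hrdef
  haveI : Fact r.Prime := ⟨hr⟩
  set O := (pPrimeCore r ↥(commutator G)).map (commutator G).subtype with hO
  haveI hOn : O.Normal := CfsgLib.Base.normal_map_subtype _
  have hOc : (Nat.card O).Coprime r := CfsgLib.Base.coprime_card_map_pPrimeCore _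
  -- `G' / O` is an `r`-group
  have hp : IsPGroup r (↥(commutator G) ⧸ pPrimeCore r ↥(commutator G)) := by
    set Q := ↥(commutator G) ⧸ pPrimeCore r ↥(commutator G)
    haveI : Group.IsNilpotent Q :=
      Group.nilpotent_of_surjective (QuotientGroup.mk' _) (QuotientGroup.mk'_surjective _)
    refine IsPGroup.of_card (n := (Nat.card Q).primeFactorsList.length)
      (Nat.eq_prime_pow_of_unique_prime_dvd Nat.card_pos.ne' fun {s} hs hd => ?_)
    by_contra hne
    haveI : Fact s.Prime := ⟨hs⟩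
    obtain ⟨S⟩ : Nonempty (Sylow s Q) := inferInstance
    have hnQ : Group.IsNilpotent Q := inferInstance
    have hSn : (S : Subgroup Q).Normal :=
      ((Group.isNilpotent_of_finite_tfae (G := Q)).out 0 3 : Group.IsNilpotent Q ↔
        ∀ (p : ℕ) (_ : Fact p.Prime) (P : Sylow p Q), (P : Subgroup Q).Normal).mp hnQ s ⟨hs⟩ S
    obtain ⟨i, hi⟩ := IsPGroup.iff_card.mp S.isPGroup'
    have hle : (S : Subgroup Q) ≤ pPrimeCore r Q := CfsgLib.Base.le_pPrimeCore (by
      rw [hi]; exact ((Nat.coprime_primes hs hr).mpr hne).pow_left i)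
    rw [CfsgLib.Base.pPrimeCore_quotient_pPrimeCore, le_bot_iff] at hle
    exact S.ne_bot_of_dvd_card hd hle
  -- hence `G / O` is an `r`-group
  have hOle : O ≤ commutator G := Subgroup.map_subtype_le _
  have hcardQ : ∃ i, Nat.card (G ⧸ O) = r ^ i := by
    obtain ⟨i, hi⟩ := IsPGroup.iff_card.mp hp
    refine ⟨i + 1, ?_⟩
    rw [← Subgroup.index_eq_card, ← Subgroup.relIndex_mul_index hOle, pow_succ, ← hi]
    congr 1
    rw [Subgroup.relIndex, ← Subgroup.index_eq_card, hO, Subgroup.subgroupOf,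
      Subgroup.comap_map_eq_self_of_injective (commutator G).subtype_injective]
  obtain ⟨i, hi⟩ := hcardQ
  have hQp : IsPGroup r (G ⧸ O) := IsPGroup.of_card hi
  haveI : Group.IsNilpotent (G ⧸ O) := hQp.isNilpotent
  -- its commutator subgroup has prime index, so it is cyclic, hence abelian
  set C := (commutator G).map (QuotientGroup.mk' O) with hC
  have hCeq : C = commutator (G ⧸ O) := by
    rw [hC, commutator_def, Subgroup.map_commutator,
      Subgroup.map_top_of_surjective _ (QuotientGroup.mk'_surjective _), ← commutator_def]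
  have hCi : C.index = r := by
    rw [hC, Subgroup.index_map, QuotientGroup.ker_mk', sup_eq_left.mpr hOle,
      MonoidHom.range_eq_top.mpr (QuotientGroup.mk'_surjective _), Subgroup.index_top, mul_one]
  have hcyc : ∃ x : G ⧸ O, Subgroup.zpowers x = ⊤ := by
    obtain ⟨x, -, hxC⟩ : ∃ x ∈ (⊤ : Subgroup (G ⧸ O)), x ∉ C := by
      refine SetLike.not_le_iff_exists.mp fun h => ?_
      rw [top_le_iff.mp h, Subgroup.index_top] at hCi
      exact hr.one_lt.ne hCi
    refine ⟨x, frattini_nongenerating ?_⟩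
    refine top_le_iff.mp (le_trans (le_of_eq ?_) (sup_le_sup_left
      (hCeq ▸ CfsgLib.PGroups.commutator_le_frattini hQp : C ≤ frattini (G ⧸ O)) _))
    symm
    rw [← Subgroup.index_eq_one]
    have hd := Subgroup.index_dvd_of_le (show C ≤ Subgroup.zpowers x ⊔ C from le_sup_right)
    rw [hCi] at hd
    refine ((Nat.dvd_prime hr).mp hd).resolve_right fun h => hxC ?_
    have heq : C = Subgroup.zpowers x ⊔ C := by
      refine Subgroup.eq_of_le_of_card_ge le_sup_right (le_of_eq ?_)
      have h1 := C.card_mul_index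
      rw [← (Subgroup.zpowers x ⊔ C).card_mul_index, h, hCi] at h1
      exact (Nat.eq_of_mul_eq_mul_right hr.pos h1).symm
    rw [heq]
    exact Subgroup.mem_sup_left (Subgroup.mem_zpowers x)
  obtain ⟨x, hx⟩ := hcyc
  have hab : ∀ a b : G ⧸ O, a * b = b * a := by
    intro a b
    obtain ⟨m, rfl⟩ := Subgroup.mem_zpowers_iff.mp (hx.symm ▸ Subgroup.mem_top a)
    obtain ⟨n, rfl⟩ := Subgroup.mem_zpowers_iff.mp (hx.symm ▸ Subgroup.mem_top b)
    exact ((Commute.refl x).zpow_zpow m n).eq
  have hCbot : C = ⊥ := by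
    rw [hCeq, _root_.commutator_eq_bot_iff]
    exact ⟨⟨hab⟩⟩
  rw [hC, CfsgLib.Base.map_mk'_eq_bot_iff] at hCbot
  exact hOc.coprime_dvd_left (Subgroup.card_dvd_of_le hCbot)

end CfsgLib.OddOrder
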