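import Cfsg.Agent.Lib.OddOrder.UniqueSCN

/-!
The uniqueness theorem for a minimal simple group of odd order.
-/

set_option autoImplicit false
set_option linter.unusedSectionVars false

namespace CfsgLib.OddOrder

open Cfsg
open Subgroup

variable {G : Type*} [Group G] [Finite G] {p : ℕ} [Fact p.Prime]

/-- Elementary abelian subgroups of order at least `p³` are uniqueness subgroups. -/
theorem inUniqueMaximal_of_card_ge (hG : IsMinSimpleOddOrder G) {E : Subgroup G}
    (hE : IsElementaryAbelian p E) (hE3 : p ^ 3 ≤ Nat.card E) : InUniqueMaximal E := by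
  have hp : p.Prime := Fact.out
  have hpG : p ∣ Nat.card G := by
    obtain ⟨n, hn⟩ := CfsgLib.Base.exists_card_eq_pow_of_isElementaryAbelian hE
    rcases n with _ | n
    · rw [hn, pow_zero] at hE3
      exact absurd hE3 (not_le.2 (Nat.one_lt_pow (by omega) hp.one_lt))
    · exact (dvd_pow_self p n.succ_ne_zero).trans (hn ▸ E.card_subgroup_dvd_card)
  obtain ⟨P, hP⟩ := (CfsgLib.Base.isPGroup_of_isElementaryAbelian hE).exists_le_sylow
  obtain ⟨A, hA, hA3⟩ := exists_isSCN_three (minSimple_ne_two hG hpG) P.isPGroup'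
    (not_pRankLE_of_le_card hP hE hE3)
  obtain ⟨E₀, hE₀A, hE₀, hE₀3⟩ := exists_elementary_pow_le hA3
  have hAU := inUniqueMaximal_scn hG P hA hA3
  refine inUniqueMaximal_of_rank_three hG hE₀ hE₀3 (inUniqueMaximal_of_commute hG hAU hE₀
    (not_isCyclic_of_lt_card hE₀ (lt_of_lt_of_le ?_ hE₀3))
    (hE₀A.trans (le_centralizer_iff_isMulCommutative.2 (scn_comm hA)))) hE hE3
  simpa using Nat.pow_lt_pow_right hp.one_lt (show 1 < 3 by omega)

end CfsgLib.OddOrder
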