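import Cfsg.Agent.Lib.OddOrder.UniqueCriterion

/-!
Spreading uniqueness along commuting elementary abelian subgroups.
-/

set_option autoImplicit false
set_option linter.unusedSectionVars false

open scoped Pointwise

namespace CfsgLib.OddOrder

open Cfsg
open Subgroup

variable {G : Type*} [Group G] [Finite G] {p : ℕ} [Fact p.Prime]

theorem not_isCyclic_of_lt_card {E : Subgroup G} (hE : IsElementaryAbelian p E)
    (h : p < Nat.card E) : ¬ IsCyclic E := by
  intro hc
  obtain ⟨g, hg⟩ := hc.exists_generator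
  have ho := orderOf_eq_card_of_forall_mem_zpowers hg
  have hgp : g ^ p = 1 := Subtype.ext (by
    simpa using (CfsgLib.Base.isElementaryAbelian_iff.1 hE).2 g.1 g.2)
  have h1 := Nat.le_of_dvd (Fact.out : p.Prime).pos (ho ▸ orderOf_dvd_of_pow_eq_one hgp)
  omega

theorem exists_elementary_pow_le {H : Subgroup G} {k : ℕ} (h : ¬ PRankLE p k H) :
    ∃ E : Subgroup G, E ≤ H ∧ IsElementaryAbelian p E ∧ p ^ (k + 1) ≤ Nat.card E := by
  rw [CfsgLib.Base.pRankLE_subgroup_iff] at h
  push Not at h
  obtain ⟨E, hEH, hE, hcard⟩ := h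
  obtain ⟨n, hn⟩ := CfsgLib.Base.exists_card_eq_pow_of_isElementaryAbelian hE
  refine ⟨E, hEH, hE, ?_⟩
  rw [hn] at hcard ⊢
  exact Nat.pow_le_pow_right (Fact.out : p.Prime).pos
    ((Nat.pow_lt_pow_iff_right (Fact.out : p.Prime).one_lt).1 hcard)

theorem not_pRankLE_of_le_card {H E : Subgroup G} {k : ℕ} (hEH : E ≤ H)
    (hE : IsElementaryAbelian p E) (h : p ^ (k + 1) ≤ Nat.card E) : ¬ PRankLE p k H := fun hr =>
  absurd (CfsgLib.Base.pRankLE_subgroup_iff.1 hr E hEH hE)
    (not_le.2 ((Nat.pow_lt_pow_right (Fact.out : p.Prime).one_lt k.lt_succ_self).trans_le h))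

/-- A noncyclic elementary abelian subgroup commuting with one in a unique maximal subgroup is in a
unique maximal subgroup. -/
theorem inUniqueMaximal_of_commute (hG : IsMinSimpleOddOrder G) {L B : Subgroup G}
    (hL : InUniqueMaximal L) (hBe : IsElementaryAbelian p B) (hBnc : ¬ IsCyclic B)
    (hB : B ≤ centralizer (L : Set G)) : InUniqueMaximal B := by
  obtain ⟨M, hM, hLM, huniq⟩ := inUniqueMaximal_iff.1 hL
  have hBM : B ≤ M := (hB.trans (centralizer_le_normalizer _)).trans
    (normalizer_le_of_unique hG hM hLM huniq)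
  have hBp := CfsgLib.Base.isPGroup_of_isElementaryAbelian hBe
  have hpG : p ∣ Nat.card G := by
    obtain ⟨n, hn⟩ := IsPGroup.iff_card.mp hBp
    rcases n with _ | n
    · have h1 : B = ⊥ := card_eq_one.1 (by simpa using hn)
      exact absurd (by rw [h1]; infer_instance) hBnc
    · exact (dvd_pow_self p n.succ_ne_zero).trans (hn ▸ B.card_subgroup_dvd_card)
  refine inUniqueMaximal_iff.2 ⟨M, hM, hBM, unique_of_centralizer_le hG hpG hM hBM hBp
    hBe.1 hBnc fun b hb hb1 => le_of_unique huniq (minSimple_centralizer_singleton_ne_top hG hb1) ?_⟩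
  intro x hx
  rw [mem_centralizer_iff]
  rintro y rfl
  exact (mem_centralizer_iff.1 (hB hb) x hx).symm

/-- A subgroup of rank at least two commuting with a subgroup in a unique maximal subgroup is in a
unique maximal subgroup. -/
theorem inUniqueMaximal_of_le_centralizer (hG : IsMinSimpleOddOrder G) {L K : Subgroup G}
    (hL : InUniqueMaximal L) (hK : K ≤ centralizer (L : Set G)) (hr : ¬ PRankLE p 1 K) :
    InUniqueMaximal K := by
  obtain ⟨E, hEK, hE, hEc⟩ := exists_elementary_pow_le hr
  have hEnc : ¬ IsCyclic E := not_isCyclic_of_lt_card hE (by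
    have h : p ^ 1 < p ^ (1 + 1) := Nat.pow_lt_pow_right (Fact.out : p.Prime).one_lt (by omega)
    exact lt_of_lt_of_le ((pow_one p).symm.trans_lt h) hEc)
  exact inUniqueMaximal_mono (inUniqueMaximal_of_commute hG hL hE hEnc (hEK.trans hK)) hEK
    fun h => minSimple_centralizer_ne_top hG (inUniqueMaximal_ne_bot hG hL) (top_unique (h ▸ hK))

/-- One subgroup of order at least `p³` in a unique maximal subgroup makes all of them such. -/
theorem inUniqueMaximal_of_rank_three (hG : IsMinSimpleOddOrder G) {E E' : Subgroup G}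
    (hE : IsElementaryAbelian p E) (hE3 : p ^ 3 ≤ Nat.card E) (hEU : InUniqueMaximal E)
    (hE' : IsElementaryAbelian p E') (hE'3 : p ^ 3 ≤ Nat.card E') : InUniqueMaximal E' := by
  have hpp : p.Prime := Fact.out
  have hp2 : p < p ^ 2 := by
    have h : p ^ 1 < p ^ 2 := Nat.pow_lt_pow_right hpp.one_lt (by omega)
    rwa [pow_one] at h
  have hp3 : p < p ^ 3 := hp2.trans (Nat.pow_lt_pow_right hpp.one_lt (by omega))
  have hpG : p ∣ Nat.card G := by
    obtain ⟨n, hn⟩ := CfsgLib.Base.exists_card_eq_pow_of_isElementaryAbelian hE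
    rcases n with _ | n
    · rw [hn, pow_zero] at hE3
      exact absurd hE3 (not_le.2 (lt_of_le_of_lt hpp.one_lt.le hp3))
    · exact (dvd_pow_self p n.succ_ne_zero).trans (hn ▸ E.card_subgroup_dvd_card)
  have hp : p ≠ 2 := minSimple_ne_two hG hpG
  obtain ⟨P, hEP⟩ := (CfsgLib.Base.isPGroup_of_isElementaryAbelian hE).exists_le_sylow
  have hnc : ¬ IsCyclic (⊤ : Subgroup (P : Subgroup G)) := fun h => by
    have : IsCyclic (P : Subgroup G) :=
      isCyclic_of_surjective topEquiv.toMonoidHom (MulEquiv.surjective _)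
    exact not_isCyclic_of_lt_card hE (hp3.trans_le hE3)
      (isCyclic_of_injective (inclusion hEP) (inclusion_injective hEP))
  obtain ⟨U, -, hUn, hU, hU2⟩ :=
    CfsgLib.PLocal.exists_normal_elementary_sq hp P.isPGroup' (⊤ : Subgroup (P : Subgroup G)) hnc
  set V := U.map (P : Subgroup G).subtype with hV
  have hVe : IsElementaryAbelian p V := CfsgLib.Base.isElementaryAbelian_map _ hU
  have hVnc : ¬ IsCyclic V := not_isCyclic_of_lt_card hVe (by
    rw [hV, CfsgLib.Base.card_map_subtype, hU2]; exact hp2)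
  -- the part of an elementary subgroup of order `≥ p³` centralising `V` is noncyclic
  have hpart : ∀ F : Subgroup G, F ≤ P → IsElementaryAbelian p F → p ^ 3 ≤ Nat.card F →
      ∃ F₀ : Subgroup G, F₀ ≤ F ∧ IsElementaryAbelian p F₀ ∧ ¬ IsCyclic F₀ ∧
        F₀ ≤ centralizer (V : Set G) := by
    intro F hFP hF hF3
    set F' := F.subgroupOf (P : Subgroup G) with hF'
    set C := centralizer (U : Set (P : Subgroup G)) with hC
    have hidx : C.index ≤ p :=
      (CfsgLib.PGroups.index_centralizer_le P.isPGroup' 2 hU2).trans (by norm_num)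
    have hrel : C.relIndex F' ≤ p := by
      refine le_trans (le_of_le_of_eq ?_ (relIndex_top_right _)) hidx
      exact relIndex_le_of_le_right le_top
        (by rw [relIndex_top_right]; exact index_ne_zero_of_finite)
    have hmul : Nat.card F' = Nat.card ↥(F' ⊓ C) * C.relIndex F' := by
      rw [← (C.subgroupOf F').card_mul_index,
        ← CfsgLib.Base.card_map_subtype (C.subgroupOf F'), subgroupOf_map_subtype, inf_comm]
      rfl
    have hle : (F' ⊓ C).map (P : Subgroup G).subtype ≤ F := by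
      rintro _ ⟨x, hx, rfl⟩
      exact hx.1
    refine ⟨(F' ⊓ C).map (P : Subgroup G).subtype, hle,
      CfsgLib.Base.isElementaryAbelian_le hle hF,
      not_isCyclic_of_lt_card (CfsgLib.Base.isElementaryAbelian_le hle hF) ?_, ?_⟩
    · rw [CfsgLib.Base.card_map_subtype]
      by_contra hlt
      push Not at hlt
      have h1 : Nat.card F' ≤ p * p := hmul ▸ Nat.mul_le_mul hlt hrel
      rw [CfsgLib.Base.card_subgroupOf hFP] at h1
      have h2 : p * p < p ^ 3 := by
        rw [← pow_two]; exact Nat.pow_lt_pow_right hpp.one_lt (by omega)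
      omega
    · rintro _ ⟨x, hx, rfl⟩
      rw [mem_centralizer_iff]
      rintro _ ⟨u, hu, rfl⟩
      exact congrArg Subtype.val (mem_centralizer_iff.1 hx.2 u hu)
  have hcomm : ∀ F : Subgroup G, IsElementaryAbelian p F → F ≤ centralizer (F : Set G) := fun F hF =>
    le_centralizer_iff_isMulCommutative.2 hF.1
  obtain ⟨E₀, hE₀E, hE₀, hE₀nc, hE₀V⟩ := hpart E hEP hE hE3
  have hVU : InUniqueMaximal V := inUniqueMaximal_of_commute hG
    (inUniqueMaximal_of_commute hG hEU hE₀ hE₀nc (hE₀E.trans (hcomm E hE))) hVe hVnc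
    (le_centralizer_iff.1 hE₀V)
  obtain ⟨R, hE'R⟩ := (CfsgLib.Base.isPGroup_of_isElementaryAbelian hE').exists_le_sylow
  obtain ⟨g, hg⟩ := MulAction.exists_smul_eq G R P
  have hF : IsElementaryAbelian p (E'.map (MulAut.conj g).toMonoidHom) :=
    CfsgLib.Base.isElementaryAbelian_map _ hE'
  have hFP : E'.map (MulAut.conj g).toMonoidHom ≤ P := by
    rw [← hg]
    rintro _ ⟨x, hx, rfl⟩
    exact ⟨x, hE'R hx, rfl⟩
  have hF3 : p ^ 3 ≤ Nat.card ↥(E'.map (MulAut.conj g).toMonoidHom) := by
    rwa [card_map_of_injective (MulAut.conj g).injective]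
  obtain ⟨F₀, hF₀E, hF₀, hF₀nc, hF₀V⟩ := hpart _ hFP hF hF3
  exact inUniqueMaximal_of_map_conj (inUniqueMaximal_of_commute hG
    (inUniqueMaximal_of_commute hG hVU hF₀ hF₀nc hF₀V) hF
    (not_isCyclic_of_lt_card hF (hp3.trans_le hF3))
    (le_centralizer_iff.1 (hF₀E.trans (hcomm _ hF))))

end CfsgLib.OddOrder
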