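import Cfsg.Agent.Lib.OddOrder.SmallCenter
import Cfsg.Agent.Lib.OddOrder.UniqueRank
import Cfsg.Agent.Lib.PGroups.Omega
import Cfsg.Agent.Lib.PLocal.CyclicMaxApps

/-!
A `p`-group of rank at least three with a maximal elementary subgroup of order `p ^ 2`
(Bender–Glauberman, Lemma 5.2).
-/

set_option autoImplicit false
set_option linter.unusedSectionVars false

open scoped commutatorElement

namespace CfsgLib.OddOrder

open Cfsg
open Subgroup

variable {R : Type*} [Group R] [Finite R] {p : ℕ} [Fact p.Prime]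

omit [Finite R] [Fact p.Prime] in
/-- A central commutator with an element of order dividing `n` has order dividing `n`. -/
theorem commutator_pow_eq_one_of_central {x g : R} {n : ℕ} (hc : ⁅x, g⁆ ∈ center R)
    (hx : x ^ n = 1) : ⁅x, g⁆ ^ n = 1 := by
  set c := ⁅x, g⁆ with hcdef
  have hpow : ∀ m : ℕ, x ^ m * g * (x ^ m)⁻¹ = c ^ m * g := by
    intro m
    induction m with
    | zero => simp
    | succ m ih =>
      calc x ^ (m + 1) * g * (x ^ (m + 1))⁻¹ = x * (x ^ m * g * (x ^ m)⁻¹) * x⁻¹ := by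
            rw [pow_succ']; group
        _ = x * c ^ m * (g * x⁻¹) := by rw [ih]; group
        _ = c ^ m * x * (g * x⁻¹) := by rw [mem_center_iff.1 (pow_mem hc m) x]
        _ = c ^ m * (c * g) := by simp only [hcdef, commutatorElement_def]; group
        _ = c ^ (m + 1) * g := by rw [pow_succ, mul_assoc]
  have h := hpow n
  rw [hx, inv_one, mul_one, one_mul] at h
  exact mul_right_cancel (b := g) (by rw [one_mul]; exact h.symm)

omit [Finite R] [Fact p.Prime] in
theorem mem_upperCentralSeries_two_iff {x : R} :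
    x ∈ Subgroup.upperCentralSeries R 2 ↔ ∀ y : R, ⁅x, y⁆ ∈ center R := by
  rw [show (2 : ℕ) = 1 + 1 from rfl, Subgroup.mem_upperCentralSeries_succ_iff]
  simp only [Subgroup.upperCentralSeries_one]

/-- The elements of order dividing `p` of the second centre, as a subgroup. -/
def omegaSecondCentre (hp : p ≠ 2) : Subgroup R where
  carrier := {x : R | x ∈ Subgroup.upperCentralSeries R 2 ∧ x ^ p = 1}
  one_mem' := ⟨one_mem _, one_pow p⟩
  mul_mem' := fun {a b} ha hb => by
    refine ⟨mul_mem ha.1 hb.1, ?_⟩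
    have hc : ⁅b, a⁆ ∈ center R := mem_upperCentralSeries_two_iff.1 hb.1 a
    have hcp := commutator_pow_eq_one_of_central hc hb.2
    obtain ⟨k, hk⟩ := (Fact.out : p.Prime).dvd_choose_self (k := 2) (by norm_num)
      (lt_of_le_of_ne (Fact.out : p.Prime).two_le (Ne.symm hp))
    rw [CfsgLib.PGroups.mul_pow_of_commute (mem_center_iff.1 hc a).symm
      (mem_center_iff.1 hc b).symm, ha.2, hb.2, hk, pow_mul, hcp, one_pow, one_mul, one_mul]
  inv_mem' := fun {a} ha => ⟨inv_mem ha.1, by rw [inv_pow, ha.2, inv_one]⟩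

theorem rankThree_maximal_elementary (hp : p ≠ 2) (hR : IsPGroup p R) (hr : ¬ PRankLE p 2 R)
    (E : Subgroup R) (hE : IsElementaryAbelian p E) (hE2 : Nat.card E = p ^ 2)
    (hEmax : ∀ B : Subgroup R, IsElementaryAbelian p B → E ≤ B → B = E) :
    ¬ E ≤ centralizer ((closure {x : R | x ∈ Subgroup.upperCentralSeries R 2 ∧ x ^ p = 1} : Subgroup R) : Set R) ∧
      Nat.card ↥(closure {x : R | x ∈ center R ∧ x ^ p = 1}) = p ∧
      (IsElementaryAbelian p (closure {x : R | x ∈ Subgroup.upperCentralSeries R 2 ∧ x ^ p = 1}) ∧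
        Nat.card ↥(closure {x : R | x ∈ Subgroup.upperCentralSeries R 2 ∧ x ^ p = 1}) = p ^ 2) ∧
      (centralizer ((closure {x : R | x ∈ Subgroup.upperCentralSeries R 2 ∧ x ^ p = 1} : Subgroup R) : Set R)).Characteristic ∧
      (centralizer ((closure {x : R | x ∈ Subgroup.upperCentralSeries R 2 ∧ x ^ p = 1} : Subgroup R) : Set R)).index = p := by
  have hpp : p.Prime := Fact.out
  obtain ⟨hEc, hEp⟩ := CfsgLib.Base.isElementaryAbelian_iff.1 hE
  -- elements of order dividing `p` centralizing `E` lie in `E`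
  have hfix : ∀ x : R, x ∈ centralizer (E : Set R) → x ^ p = 1 → x ∈ E := fun x hx hxp => by
    have h := hEmax _ (CfsgLib.Base.isElementaryAbelian_sup hE
      (CfsgLib.Base.isElementaryAbelian_zpowers hxp) (le_centralizer_iff.1 (zpowers_le.2 hx)))
      le_sup_left
    exact h.le (mem_sup_right (mem_zpowers x))
  obtain ⟨F, hFe, hF3⟩ : ∃ F : Subgroup R, IsElementaryAbelian p F ∧ p ^ 2 < Nat.card F := by
    rw [CfsgLib.Base.pRankLE_iff] at hr
    push Not at hr
    exact hr
  obtain ⟨hFc, hFp⟩ := CfsgLib.Base.isElementaryAbelian_iff.1 hFe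
  have hEF : ¬ F ≤ centralizer (E : Set R) := fun h => by
    have hle : Nat.card F ≤ Nat.card E := card_le_of_le fun x hx => hfix x (h hx) (hFp x hx)
    omega
  have hEnc : ¬ E ≤ center R := fun h => hEF fun x _ =>
    mem_centralizer_iff.2 fun e he => (mem_center_iff.1 (h he) x).symm
  -- `Z = Ω₁ Z(R)`
  set Z := omegaCenter p (⊤ : Subgroup R) with hZdef
  have hmemZ : ∀ x, x ∈ Z ↔ x ∈ center R ∧ x ^ p = 1 := fun x => by
    simp [hZdef, mem_omegaCenter, mem_center_iff, mem_centralizer_iff]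
  have hZcl : closure {x : R | x ∈ center R ∧ x ^ p = 1} = Z := by
    rw [show {x : R | x ∈ center R ∧ x ^ p = 1} = (Z : Set R) from Set.ext fun x => (hmemZ x).symm,
      closure_eq]
  have hZE : Z ≤ E := fun x hx => hfix x
    (mem_centralizer_iff.2 fun e _ => mem_center_iff.1 ((hmemZ x).1 hx).1 e) ((hmemZ x).1 hx).2
  have hZne : Z ≠ ⊥ := omegaCenter_ne_bot (hR.to_subgroup ⊤) fun h => by
    have := Nat.one_lt_pow (n := 2) two_ne_zero hpp.one_lt
    rw [← hE2, le_bot_iff.1 (le_top.trans h.le : E ≤ ⊥), card_bot] at this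
    omega
  have hsub : ∀ {A : Subgroup R}, A < E → A ≠ ⊥ → Nat.card A = p := by
    intro A hlt hne
    obtain ⟨i, hi⟩ := IsPGroup.iff_card.mp (hR.to_subgroup A)
    have h2 := CfsgLib.PLocal.card_lt_of_lt hlt
    rw [hi, hE2, Nat.pow_lt_pow_iff_right hpp.one_lt] at h2
    have h0 : i ≠ 0 := fun h => hne (card_eq_one.1 (by rw [hi, h, pow_zero]))
    rw [hi, show i = 1 by omega, pow_one]
  have hZcard : Nat.card Z = p := hsub (lt_of_le_of_ne hZE fun h => hEnc (h ▸ fun x hx =>
    ((hmemZ x).1 hx).1)) hZne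
  -- the second centre
  set W := omegaSecondCentre (R := R) hp with hWdef
  have hmemW : ∀ x, x ∈ W ↔ x ∈ Subgroup.upperCentralSeries R 2 ∧ x ^ p = 1 := fun x => Iff.rfl
  have hWcl : closure {x : R | x ∈ Subgroup.upperCentralSeries R 2 ∧ x ^ p = 1} = W := closure_eq W
  rw [hZcl, hWcl]
  have hcommZ : ∀ w ∈ W, ∀ g : R, ⁅w, g⁆ ∈ Z := fun w hw g => (hmemZ _).2
    ⟨mem_upperCentralSeries_two_iff.1 hw.1 g,
      commutator_pow_eq_one_of_central (mem_upperCentralSeries_two_iff.1 hw.1 g) hw.2⟩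
  have hZW : Z ≤ W := fun x hx => by
    refine ⟨mem_upperCentralSeries_two_iff.2 fun y => ?_, ((hmemZ x).1 hx).2⟩
    rw [commutatorElement_eq_one_iff_mul_comm.2 (mem_center_iff.1 ((hmemZ x).1 hx).1 y).symm]
    exact one_mem _
  have hEW : ¬ E ≤ W := fun hle => by
    have hEn : E.Normal := ⟨fun e he g => by
      have h1 : ⁅e, g⁆ ∈ E := hZE (hcommZ e (hle he) g)
      have h2 : g * e * g⁻¹ = ⁅e, g⁆⁻¹ * e := by simp only [commutatorElement_def]; group
      rw [h2]; exact E.mul_mem (E.inv_mem h1) he⟩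
    have hidx : (centralizer (E : Set R)).index ≤ p := by
      simpa using CfsgLib.PGroups.index_centralizer_le hR 2 hE2
    have hFC : F ⊓ centralizer (E : Set R) ≤ E := fun x hx => hfix x hx.2 (hFp x hx.1)
    have hcard : Nat.card ↥(F ⊓ centralizer (E : Set R)) * (centralizer (E : Set R)).relIndex F =
        Nat.card F := by
      rw [← ((centralizer (E : Set R)).subgroupOf F).card_mul_index,
        ← CfsgLib.Base.card_subgroupOf (inf_le_left : F ⊓ centralizer (E : Set R) ≤ F),
        inf_subgroupOf_left]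
      rfl
    have hrel : (centralizer (E : Set R)).relIndex F ≤ p := le_trans
      (Nat.le_of_dvd (Nat.pos_of_ne_zero index_ne_zero_of_finite)
        (relIndex_dvd_index_of_normal (centralizer (E : Set R)) F)) hidx
    have hge : p ^ 2 ≤ Nat.card ↥(F ⊓ centralizer (E : Set R)) := by
      obtain ⟨i, hi⟩ := IsPGroup.iff_card.mp (hR.to_subgroup (F ⊓ centralizer (E : Set R)))
      obtain ⟨j, hj⟩ := IsPGroup.iff_card.mp (hR.to_subgroup F)
      rw [hi]
      refine Nat.pow_le_pow_right hpp.pos ?_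
      rw [hj, Nat.pow_lt_pow_iff_right hpp.one_lt] at hF3
      have hle' : p ^ j ≤ p ^ (i + 1) := by
        rw [← hj, ← hcard, hi, pow_succ]
        exact Nat.mul_le_mul_left _ hrel
      have := (Nat.pow_le_pow_iff_right hpp.one_lt).1 hle'
      omega
    have heq : F ⊓ centralizer (E : Set R) = E := eq_of_le_of_card_ge hFC (hE2 ▸ hge)
    exact hEF fun x hx => mem_centralizer_iff.2 fun e he => hFc e (heq.ge he).1 x hx
  obtain ⟨e, heE, heW⟩ := SetLike.not_le_iff_exists.1 hEW
  have hEWZ : E ⊓ W = Z := by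
    refine (eq_of_le_of_card_ge (le_inf hZE hZW) ?_).symm
    rw [hZcard, hsub (lt_of_le_of_ne inf_le_left fun h => hEW (inf_eq_left.1 h))
      fun h => hZne (le_bot_iff.1 (h ▸ le_inf hZE hZW))]
  have hEgen : Z ⊔ zpowers e = E := by
    refine eq_of_le_of_card_ge (sup_le hZE (zpowers_le.2 heE)) ?_
    by_contra hlt
    push Not at hlt
    have hlt' : Z ⊔ zpowers e < E :=
      lt_of_le_of_ne (sup_le hZE (zpowers_le.2 heE)) fun h => by rw [h] at hlt; exact lt_irrefl _ hlt
    have h1 := hsub hlt' fun h => hZne (le_bot_iff.1 (h ▸ le_sup_left))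
    have h2 : Z = Z ⊔ zpowers e := eq_of_le_of_card_ge le_sup_left (by rw [h1, hZcard])
    exact heW (hZW (h2.ge (mem_sup_right (mem_zpowers e))))
  let f : W →* Z :=
    { toFun := fun w => ⟨⁅(w : R), e⁆, hcommZ w w.2 e⟩
      map_one' := Subtype.ext (by simp)
      map_mul' := fun a b => Subtype.ext (by
        have h := ((hmemZ _).1 (hcommZ b b.2 e)).1
        show ⁅(a : R) * b, e⁆ = ⁅(a : R), e⁆ * ⁅(b : R), e⁆
        calc ⁅(a : R) * b, e⁆ = a * ⁅(b : R), e⁆ * (e * (a : R)⁻¹ * e⁻¹) := by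
              simp only [commutatorElement_def]; group
          _ = ⁅(b : R), e⁆ * a * (e * (a : R)⁻¹ * e⁻¹) := by rw [mem_center_iff.1 h (a : R)]
          _ = ⁅(b : R), e⁆ * ⁅(a : R), e⁆ := by simp only [commutatorElement_def]; group
          _ = ⁅(a : R), e⁆ * ⁅(b : R), e⁆ := (mem_center_iff.1 h _).symm) }
  have hker : f.ker.map W.subtype ≤ Z := by
    rintro x ⟨w, hw, rfl⟩
    have hwe : Commute (w : R) e :=
      commutatorElement_eq_one_iff_mul_comm.1 (congrArg Subtype.val (MonoidHom.mem_ker.1 hw))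
    have hwC : (w : R) ∈ centralizer (E : Set R) := by
      rw [← hEgen, ← zpowers_le, le_centralizer_iff]
      refine sup_le (fun z hz => mem_centralizer_iff.2 fun y _ => ?_) (zpowers_le.2 ?_)
      · exact mem_center_iff.1 ((hmemZ z).1 hz).1 y
      · exact mem_centralizer_iff.2 fun y hy => by
          obtain ⟨k, rfl⟩ := mem_zpowers_iff.1 hy
          exact (hwe.zpow_left k).eq
    exact hEWZ.le ⟨hfix _ hwC w.2.2, w.2⟩
  have hWle : Nat.card W ≤ p ^ 2 := by
    rw [← f.ker.card_mul_index, index_ker, pow_two]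
    refine Nat.mul_le_mul ?_ (le_trans (card_le_card_group _) hZcard.le)
    rw [← card_map_of_injective W.subtype_injective, ← hZcard]
    exact card_le_of_le hker
  -- a normal elementary subgroup of order `p ^ 2`
  have hncyc : ¬ IsCyclic (⊤ : Subgroup R) := fun h => by
    have hpE : p < Nat.card E := by
      rw [hE2]; exact lt_self_pow₀ hpp.one_lt one_lt_two
    exact not_isCyclic_of_lt_card hE hpE
      (isCyclic_of_injective (Subgroup.inclusion (le_top : E ≤ ⊤)) (inclusion_injective _))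
  obtain ⟨U, -, hUn, hUe, hU2⟩ := CfsgLib.PLocal.exists_normal_elementary_sq hp hR ⊤ hncyc
  have hUW : U ≤ W := fun u hu => by
    refine ⟨mem_upperCentralSeries_two_iff.2 fun g => ?_,
      (CfsgLib.Base.isElementaryAbelian_iff.1 hUe).2 u hu⟩
    by_cases hUc : U ≤ center R
    · rw [commutatorElement_eq_one_iff_mul_comm.2 (mem_center_iff.1 (hUc hu) g).symm]
      exact one_mem _
    obtain ⟨i, hi⟩ := IsPGroup.iff_card.mp (hR.to_subgroup (U ⊓ center R))
    have hi0 : i ≠ 0 := fun h => CfsgLib.PGroups.inf_center_ne_bot hR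
      (N := U) (fun hb => by rw [hb, card_bot] at hU2; exact (Nat.one_lt_pow two_ne_zero hpp.one_lt).ne hU2)
      (card_eq_one.1 (by rw [hi, h, pow_zero]))
    have hlt : U ⊓ center R < U := lt_of_le_of_ne inf_le_left fun h => hUc (inf_eq_left.1 h)
    have h2 := CfsgLib.PLocal.card_lt_of_lt hlt
    rw [hi, hU2, Nat.pow_lt_pow_iff_right hpp.one_lt] at h2
    have hC : Nat.card ↥(U ⊓ center R) = p := by rw [hi, show i = 1 by omega, pow_one]
    have hgn : g ∈ normalizer (U : Set R) := normalizer_eq_top U ▸ mem_top g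
    have h3 := commutator_mem_line (g := g) hUe hU2 inf_le_left hC hgn (hR.to_subgroup _)
      (mem_centralizer_iff.2 fun y hy => (mem_center_iff.1 hy.2 g).symm) hu
    rw [← commutatorElement_inv]
    exact inv_mem h3.2
  have hUeq : U = W := eq_of_le_of_card_ge hUW (hU2 ▸ hWle)
  have hWe : IsElementaryAbelian p W := hUeq ▸ hUe
  have hW2 : Nat.card W = p ^ 2 := hUeq ▸ hU2
  have hEC : ¬ E ≤ centralizer (W : Set R) := fun h => hEW (eq_of_le_of_card_ge
    (fun w hw => hfix w (le_centralizer_iff.1 h hw) hw.2 : W ≤ E) (by rw [hE2, hW2])).ge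
  have hWchar : W.Characteristic := characteristic_iff_le_comap.2 fun φ x hx =>
    ⟨characteristic_iff_le_comap.1 inferInstance φ hx.1, by rw [← map_pow, hx.2, map_one]⟩
  refine ⟨hEC, hZcard, ⟨hWe, hW2⟩, inferInstance, ?_⟩
  obtain ⟨k, hk⟩ := hR.index (centralizer (W : Set R))
  have hidx : (centralizer (W : Set R)).index ≤ p := by
    simpa using CfsgLib.PGroups.index_centralizer_le hR 2 hW2
  rw [hk] at hidx ⊢
  have hk1 : k ≤ 1 := (Nat.pow_le_pow_iff_right hpp.one_lt).1 (hidx.trans (pow_one p).ge)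
  have hk0 : k ≠ 0 := fun h => hEC (by
    rw [index_eq_one.1 (by rw [hk, h, pow_zero] : (centralizer (W : Set R)).index = 1)]
    exact le_top)
  rw [show k = 1 by omega, pow_one]

end CfsgLib.OddOrder
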