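import Cfsg.Agent.Lib.OddOrder.TransitivityMinSimple
import Cfsg.Agent.Lib.Techniques.SylIn

/-!
Transitivity passes to subgroups in which `A` is subnormal (BG 7.5).
-/

set_option autoImplicit false
set_option linter.style.haveILetI false

open scoped Pointwise commutatorElement

namespace CfsgLib.OddOrder

open Cfsg

variable {G : Type*} [Group G] [Finite G] {q : ℕ} [hq : Fact q.Prime]

/-- `O_{π(A)'}(C(H))`. -/
abbrev cenCore (A H : Subgroup G) : Subgroup G :=
  piCoreOf (primesNotDvd (Nat.card A)) (Subgroup.centralizer (H : Set G))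

theorem coprime_card_cenCore {A H L : Subgroup G}
    (hL : ∀ r : ℕ, r.Prime → r ∣ Nat.card L → r ∣ Nat.card A) :
    (Nat.card L).Coprime (Nat.card (cenCore A H)) :=
  Nat.coprime_of_dvd fun r hr h1 h2 => (piCoreOf_primes _ _ r hr h2).2 (hL r hr h1)

omit [Finite G] in
theorem centralizer_le_normalizer_cenCore {A H : Subgroup G} :
    Subgroup.centralizer (H : Set G) ≤ Subgroup.normalizer (cenCore A H : Set G) :=
  le_normalizer_piCoreOf _ _

omit [Finite G] in
theorem normalizer_le_normalizer_cenCore {A H : Subgroup G} :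
    Subgroup.normalizer (H : Set G) ≤ Subgroup.normalizer (cenCore A H : Set G) :=
  (CfsgLib.Coprime.le_normalizer_centralizer le_rfl).trans
    (CfsgLib.Base.normalizer_le_normalizer_map_subtype _ _)

theorem inf_centralizer_le_cenCore {A H L : Subgroup G} (hHL : H ≤ L) :
    cenCore A H ⊓ Subgroup.centralizer (L : Set G) ≤ cenCore A L :=
  le_piCoreOf inf_le_right
    (CfsgLib.Coprime.le_normalizer_inf_inf
      ((Subgroup.centralizer_le hHL).trans centralizer_le_normalizer_cenCore)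
      Subgroup.le_normalizer)
    fun r hr hd => piCoreOf_primes _ _ r hr (hd.trans (Subgroup.card_dvd_of_le inf_le_left))

theorem conj_smul_mem_max_of_normalizer {A Q : Subgroup G} {π : Set ℕ} {g : G}
    (hg : g ∈ Subgroup.normalizer (A : Set G)) (hQ : Q ∈ maxInvSubgroups ⊤ A π) :
    MulAut.conj g • Q ∈ maxInvSubgroups ⊤ A π := by
  have key : ∀ {x : G}, x ∈ Subgroup.normalizer (A : Set G) → ∀ {R : Subgroup G},
      R ∈ invSubgroups ⊤ A π → MulAut.conj x • R ∈ invSubgroups ⊤ A π := by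
    intro x hx R hR
    refine ⟨le_top, fun r hr hd => hR.2.1 r hr (by
      rwa [CfsgLib.Coprime.card_conj_smul] at hd), ?_⟩
    have h := CfsgLib.Coprime.le_normalizer_conj_smul (g := x) hR.2.2
    rwa [CfsgLib.Coprime.conj_smul_eq_self_of_mem_normalizer hx] at h
  refine ⟨key hg hQ.1, fun R hR hle => ?_⟩
  have h1 := hQ.2 _ (key ((Subgroup.normalizer (A : Set G)).inv_mem hg) hR) (by
    rw [map_inv, Subgroup.subset_pointwise_smul_iff, inv_inv]; exact hle)
  rw [← h1, map_inv, smul_inv_smul]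

/-- A maximal invariant `q`-subgroup for a bigger `π(A)`-group is one for `A`. -/
theorem th_maxInv_of_maxInv (hG : IsMinSimpleOddOrder G) {A L : Subgroup G}
    (hA : TransitivityHypothesis A) (hqA : ¬ q ∣ Nat.card A)
    (hLs : Group.IsSolvable L) (hL : ∀ r : ℕ, r.Prime → r ∣ Nat.card L → r ∣ Nat.card A)
    (hAL : A ≤ L) (hex : ∃ Q₀ ∈ maxInvSubgroups ⊤ A {q}, L ≤ Subgroup.normalizer (Q₀ : Set G))
    {R : Subgroup G} (hR : R ∈ maxInvSubgroups ⊤ L {q}) : R ∈ maxInvSubgroups ⊤ A {q} := by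
  obtain ⟨-, hRq, hLR⟩ := mem_invSubgroups_singleton_iff.mp hR.1
  rcases eq_or_ne R ⊥ with hbot | hne
  · obtain ⟨Q₀, hQ₀, hLQ₀⟩ := hex
    have : Q₀ = R := hR.2 Q₀ (mem_invSubgroups_singleton_iff.mpr
      ⟨le_top, (mem_invSubgroups_singleton_iff.mp hQ₀.1).2.1, hLQ₀⟩) (hbot ▸ bot_le)
    exact this ▸ hQ₀
  obtain ⟨Q₁, hQ₁, hRQ₁⟩ := exists_maxInvSubgroups_ge (H := ⊤) (A := A) (π := {q}) (Y := R)
    (mem_invSubgroups_singleton_iff.mpr ⟨le_top, hRq, hAL.trans hLR⟩)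
  rcases eq_or_lt_of_le hRQ₁ with he | hlt
  · exact he ▸ hQ₁
  exfalso
  obtain ⟨-, hQ₁q, hAQ₁⟩ := mem_invSubgroups_singleton_iff.mp hQ₁.1
  haveI : Group.IsNilpotent R := hRq.isNilpotent
  set X := Subgroup.normalizer (R : Set G) with hXdef
  have hX : X ≠ ⊤ := minSimple_normalizer_ne_top hG hne
    (minSimple_ne_top_of_isSolvable hG inferInstance)
  obtain ⟨-, -, -, h4⟩ := th_step_data hG hA hX (hAL.trans hLR) hqA
  set D := piCoreOf (primesNotDvd (Nat.card A)) X with hD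
  have hgrow := CfsgLib.Techniques.lt_inf_normalizer' hQ₁q hlt
  have hND : Q₁ ⊓ X ≤ D := (h4 _ (mem_invSubgroups_singleton_iff.mpr ⟨inf_le_right,
    hQ₁q.to_le inf_le_left, CfsgLib.Coprime.le_normalizer_inf_inf hAQ₁
      ((hAL.trans hLR).trans Subgroup.le_normalizer)⟩)).1
  have hLD : L ≤ Subgroup.normalizer (D : Set G) := hLR.trans (le_normalizer_piCoreOf _ X)
  have hcop : (Nat.card L).Coprime (Nat.card D) :=
    Nat.coprime_of_dvd fun r hr h1 h2 => (piCoreOf_primes _ X r hr h2).2 (hL r hr h1)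
  obtain ⟨T, hRT, hLT⟩ := CfsgLib.Coprime.exists_invariant_sylow_ge hLD hcop (Or.inl hLs)
    ((le_inf hRQ₁ Subgroup.le_normalizer).trans hND) hRq hLR
  have h1 : (T : Subgroup D).map D.subtype = R :=
    hR.2 _ (mem_invSubgroups_singleton_iff.mpr ⟨le_top, T.2.map _, hLT⟩) hRT
  have hTD : CfsgLib.Techniques.SylIn q ((T : Subgroup D).map D.subtype) D := by
    refine ⟨Subgroup.map_subtype_le _, T.2.map _, ?_⟩
    rw [Subgroup.relIndex, Subgroup.subgroupOf,
      Subgroup.comap_map_eq_self_of_injective D.subtype_injective]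
    exact T.not_dvd_index
  have h2 := hTD.card_le (hQ₁q.to_le (inf_le_left : Q₁ ⊓ X ≤ Q₁)) hND
  rw [h1] at h2
  exact absurd h2 (not_le.mpr (CfsgLib.Techniques.card_lt_of_lt hgrow))

/-- What is carried up the subnormal chain. -/
def ThGood (q : ℕ) (A H : Subgroup G) : Prop :=
  maxInvSubgroups ⊤ H {q} ⊆ maxInvSubgroups ⊤ A {q} ∧
    ∀ Q₁ ∈ maxInvSubgroups ⊤ H {q}, ∀ Q₂ ∈ maxInvSubgroups ⊤ H {q},
      ConjBy (cenCore A H) Q₁ Q₂

theorem thGood_step (hG : IsMinSimpleOddOrder G) {A H L : Subgroup G}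
    (hA : TransitivityHypothesis A) (hqA : ¬ q ∣ Nat.card A) (hLs : Group.IsSolvable L)
    (hL : ∀ r : ℕ, r.Prime → r ∣ Nat.card L → r ∣ Nat.card A) (hAH : A ≤ H) (hHL : H ≤ L)
    (hn : L ≤ Subgroup.normalizer (H : Set G)) (hgood : ThGood q A H) : ThGood q A L := by
  have hLK : L ≤ Subgroup.normalizer (cenCore A H : Set G) :=
    hn.trans normalizer_le_normalizer_cenCore
  have hcop := coprime_card_cenCore (A := A) (H := H) hL
  obtain ⟨Q, hQ, -⟩ := exists_maxInvSubgroups_ge (H := ⊤) (A := H) (π := {q}) (Y := ⊥)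
    (mem_invSubgroups_singleton_iff.mpr
      ⟨bot_le, IsPGroup.of_bot, Subgroup.le_normalizer_of_normal⟩)
  obtain ⟨k, hk, hkL⟩ := CfsgLib.Coprime.exists_normalized_conj hLK hcop (Or.inl hLs) Q
    fun l hl => hgood.2 Q hQ _ (conj_smul_mem_max_of_normalizer (hn hl) hQ)
  have hkH : MulAut.conj k • Q ∈ maxInvSubgroups ⊤ H {q} :=
    conj_smul_mem_maxInvSubgroups (piCoreOf_le _ _ hk) hQ
  have hsub : maxInvSubgroups ⊤ L {q} ⊆ maxInvSubgroups ⊤ A {q} := fun R hR =>
    th_maxInv_of_maxInv hG hA hqA hLs hL (hAH.trans hHL) ⟨_, hgood.1 hkH, hkL⟩ hR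
  refine ⟨hsub, fun R₁ h₁ R₂ h₂ => ?_⟩
  have hmem : ∀ R ∈ maxInvSubgroups ⊤ L {q}, R ∈ maxInvSubgroups ⊤ H {q} := fun R hR =>
    ⟨⟨le_top, hR.1.2.1, hHL.trans hR.1.2.2⟩, fun S hS hle =>
      (hsub hR).2 S ⟨hS.1, hS.2.1, hAH.trans hS.2.2⟩ hle⟩
  obtain ⟨c, hc, he⟩ := CfsgLib.Coprime.exists_centralizing_conj_eq hLK hcop (Or.inl hLs)
    h₁.1.2.2 h₂.1.2.2 (hgood.2 R₁ (hmem _ h₁) R₂ (hmem _ h₂))
  exact ⟨c, inf_centralizer_le_cenCore hHL hc, he⟩

theorem thGood_of_subnormal (hG : IsMinSimpleOddOrder G) {A P : Subgroup G}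
    (hA : TransitivityHypothesis A) (hqA : ¬ q ∣ Nat.card A) (hPs : Group.IsSolvable P)
    (hP : ∀ r : ℕ, r.Prime → r ∣ Nat.card P → r ∣ Nat.card A) :
    ∀ S : Subgroup P, S.IsSubnormal → A ≤ S.map P.subtype →
      ThGood q A (S.map P.subtype) → ThGood q A P := by
  intro S hS
  induction hS with
  | top => intro _ h; rwa [← MonoidHom.range_eq_map, Subgroup.range_subtype] at h
  | step S T hle _ hN ih =>
    intro hAS hgood
    refine ih (hAS.trans (Subgroup.map_mono hle))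
      (thGood_step hG hA hqA (CfsgLib.Coprime.isSolvable_of_le (Subgroup.map_subtype_le T) hPs)
        (fun r hr hd => hP r hr (hd.trans (Subgroup.card_dvd_of_le (Subgroup.map_subtype_le T))))
        hAS (Subgroup.map_mono hle) ?_ hgood)
    exact (Subgroup.map_mono ((Subgroup.normal_subgroupOf_iff_le_normalizer hle).mp hN)).trans
      (Subgroup.le_normalizer_map _)

/-- BG 7.5. -/
theorem th_subnormal (hG : IsMinSimpleOddOrder G) {A P : Subgroup G}
    (hA : TransitivityHypothesis A) (hqA : ¬ q ∣ Nat.card A) (hP : P ≠ ⊤)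
    (hPπ : ∀ r : ℕ, r.Prime → r ∣ Nat.card P → r ∣ Nat.card A) (hAP : A ≤ P)
    (hsn : (A.subgroupOf P).IsSubnormal)
    (htr : ∀ Q₁ ∈ maxInvSubgroups ⊤ A {q}, ∀ Q₂ ∈ maxInvSubgroups ⊤ A {q},
      ConjBy (cenCore A A) Q₁ Q₂) :
    cenCore A A ⊓ Subgroup.centralizer (P : Set G) = cenCore A P ∧
      (∀ Q₁ ∈ maxInvSubgroups ⊤ P {q}, ∀ Q₂ ∈ maxInvSubgroups ⊤ P {q},
        ConjBy (cenCore A P) Q₁ Q₂) ∧
      maxInvSubgroups ⊤ P {q} ⊆ maxInvSubgroups ⊤ A {q} ∧
      ∀ Q ∈ maxInvSubgroups ⊤ P {q},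
        P ⊓ ⁅Subgroup.normalizer (P : Set G), Subgroup.normalizer (P : Set G)⁆ ≤
            ⁅Subgroup.normalizer (Q : Set G), Subgroup.normalizer (Q : Set G)⁆ ∧
          Subgroup.normalizer (P : Set G) = cenCore A P ⊔
            (Subgroup.normalizer (P : Set G) ⊓ Subgroup.normalizer (Q : Set G)) := by
  have hgood : ThGood q A P := by
    refine thGood_of_subnormal hG hA hqA (minSimple_solvable hG hP) hPπ (A.subgroupOf P) hsn
      (by rw [Subgroup.map_subgroupOf_eq_of_le hAP]) ?_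
    rw [Subgroup.map_subgroupOf_eq_of_le hAP]
    exact ⟨subset_rfl, htr⟩
  refine ⟨le_antisymm (inf_centralizer_le_cenCore hAP) (le_inf ?_ (piCoreOf_le _ _)), hgood.2,
    hgood.1, fun Q hQ => ?_⟩
  · exact th_le_core hG hA ((piCoreOf_le _ _).trans (Subgroup.centralizer_le hAP))
      (coprime_card_cenCore fun r _ hd => hd)
  set N := Subgroup.normalizer (P : Set G) with hN
  set O := cenCore A P with hO
  set N₁ := N ⊓ Subgroup.normalizer (Q : Set G) with hN₁
  have hON : O ≤ N := (piCoreOf_le _ _).trans (Subgroup.centralizer_le_normalizer _)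
  have hNO : N₁ ≤ Subgroup.normalizer (O : Set G) :=
    inf_le_left.trans normalizer_le_normalizer_cenCore
  have heq : N = O ⊔ N₁ := by
    refine le_antisymm (fun g hg => ?_) (sup_le hON inf_le_left)
    obtain ⟨k, hk, he⟩ := hgood.2 _ (conj_smul_mem_max_of_normalizer hg hQ) Q hQ
    rw [smul_smul, ← map_mul] at he
    have hmem : k * g ∈ N₁ :=
      ⟨N.mul_mem (hON hk) hg, CfsgLib.Coprime.mem_normalizer_iff_conj_smul.mpr he⟩
    have := Subgroup.mul_mem (O ⊔ N₁) (Subgroup.mem_sup_left (O.inv_mem hk))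
      (Subgroup.mem_sup_right hmem)
    rwa [inv_mul_cancel_left] at this
  refine ⟨fun x hx => ?_, heq⟩
  haveI : (O.subgroupOf N).Normal :=
    Subgroup.normal_subgroupOf_of_le_normalizer normalizer_le_normalizer_cenCore
  set f := QuotientGroup.mk' (O.subgroupOf N) with hf
  have htop : (N₁.subgroupOf N).map f = ⊤ := by
    rw [eq_top_iff]
    rintro y -
    obtain ⟨⟨m, hm⟩, rfl⟩ := QuotientGroup.mk'_surjective _ y
    have hm' : m ∈ ((O ⊔ N₁ : Subgroup G) : Set G) := heq ▸ hm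
    rw [Subgroup.coe_mul_of_right_le_normalizer_left O N₁ hNO] at hm'
    obtain ⟨o, ho, n, hn, he⟩ := hm'
    refine ⟨⟨n, hn.1⟩, hn, ?_⟩
    rw [hf, QuotientGroup.mk'_eq_mk']
    refine ⟨⟨n⁻¹ * (o * n), N.mul_mem (N.inv_mem hn.1) (N.mul_mem (hON ho) hn.1)⟩, ?_,
      Subtype.ext (show n * (n⁻¹ * (o * n)) = m by rw [mul_inv_cancel_left]; exact he)⟩
    rw [Subgroup.mem_subgroupOf]
    have := (Subgroup.mem_normalizer_iff''.mp (hNO hn) o).mp ho
    simpa [mul_assoc] using this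
  have hd : commutator N ≤ ⁅N₁.subgroupOf N, N₁.subgroupOf N⁆ ⊔ O.subgroupOf N := by
    rw [← QuotientGroup.ker_mk' (O.subgroupOf N), ← Subgroup.map_le_map_iff,
      Subgroup.map_commutator _ _ f, htop, commutator_def, Subgroup.map_commutator]
    exact Subgroup.commutator_mono le_top le_top
  have hxd : x ∈ ⁅N₁, N₁⁆ ⊔ O := by
    have h1 : ⁅N, N⁆ ≤ ⁅N₁, N₁⁆ ⊔ O := by
      rw [← Subgroup.map_subtype_commutator]
      refine (Subgroup.map_mono hd).trans ?_
      rw [Subgroup.map_sup, Subgroup.map_commutator,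
        Subgroup.map_subgroupOf_eq_of_le (inf_le_left : N₁ ≤ N),
        Subgroup.map_subgroupOf_eq_of_le hON]
    exact h1 hx.2
  have hdO : ⁅N₁, N₁⁆ ≤ Subgroup.normalizer (O : Set G) :=
    (Subgroup.commutator_le_self N₁).trans hNO
  rw [← SetLike.mem_coe, Subgroup.coe_mul_of_left_le_normalizer_right _ _ hdO] at hxd
  obtain ⟨y, hy, o, ho, hyo⟩ := hxd
  set L := Subgroup.normalizer (Q : Set G) with hL
  have hxL : x ∈ L := hQ.1.2.2 hx.1
  have hyL : y ∈ L := (Subgroup.commutator_le_self N₁ hy).2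
  have hoL : o ∈ L := by
    have := L.mul_mem (L.inv_mem hyL) (show y * o ∈ L by rw [show y * o = x from hyo]; exact hxL)
    rwa [inv_mul_cancel_left] at this
  have hy' : y ∈ ⁅L, L⁆ := Subgroup.commutator_mono inf_le_right inf_le_right hy
  set g := QuotientGroup.mk' (commutator L) with hg
  have hgy : g ⟨y, hyL⟩ = 1 := by
    refine (QuotientGroup.eq_one_iff _).mpr ?_
    obtain ⟨z, hz, hzy⟩ : y ∈ (commutator L).map L.subtype := by
      rw [Subgroup.map_subtype_commutator]; exact hy'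
    obtain rfl : z = ⟨y, hyL⟩ := Subtype.ext hzy
    exact hz
  have hgx : g ⟨x, hxL⟩ = g ⟨o, hoL⟩ := by
    have : (⟨x, hxL⟩ : L) = ⟨y, hyL⟩ * ⟨o, hoL⟩ := Subtype.ext hyo.symm
    rw [this, map_mul, hgy, one_mul]
  have hcop : (orderOf x).Coprime (orderOf o) :=
    ((coprime_card_cenCore (A := A) (H := P) hPπ).coprime_dvd_left
      (Subgroup.orderOf_dvd_natCard P hx.1)).coprime_dvd_right
      (Subgroup.orderOf_dvd_natCard O ho)
  have h1 : g ⟨x, hxL⟩ = 1 := orderOf_eq_one_iff.mp (Nat.eq_one_of_dvd_coprimes hcop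
    ((orderOf_map_dvd g _).trans (Subgroup.orderOf_mk x hxL).dvd)
    (hgx ▸ (orderOf_map_dvd g _).trans (Subgroup.orderOf_mk o hoL).dvd))
  rw [← Subgroup.map_subtype_commutator]
  exact ⟨⟨x, hxL⟩, (QuotientGroup.eq_one_iff _).mp h1, rfl⟩

end CfsgLib.OddOrder
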