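import Cfsg.Agent.Lib.OddOrder.SmallCenter
import Cfsg.Agent.Lib.OddOrder.UniqueRank
import Cfsg.Agent.Lib.PGroups.Omega
import Cfsg.Agent.Lib.PLocal.CyclicMaxApps
import Cfsg.Agent.Lib.Base.Transport

/-!
`p`-groups of rank at most two, `p ≥ 5` (Blackburn): either the `p`-th powers generate a subgroup
of index at most `p ^ 2`, or the elements of order dividing `p` form an extraspecial group of order
`p ^ 3`.
-/

set_option autoImplicit false
set_option linter.unusedSectionVars false

open scoped commutatorElement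

namespace CfsgLib.OddOrder

open Cfsg
open Subgroup

variable {R : Type*} [Group R] [Finite R] {p : ℕ} [Fact p.Prime]

/-- If the elements of order dividing `p` are central, elements with the same `p`-th power differ
by an element of order dividing `p`. -/
theorem pow_eq_one_of_pow_eq_pow (hp : p ≠ 2) (hR : IsPGroup p R)
    (hcen : ∀ z : R, z ^ p = 1 → z ∈ center R) {x y : R} (h : x ^ p = y ^ p) :
    (x⁻¹ * y) ^ p = 1 := by
  suffices key : ∀ n : ℕ, ∀ x y : R, Nat.card (closure ({x, y} : Set R)) = n → x ^ p = y ^ p →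
      (x⁻¹ * y) ^ p = 1 from key _ x y rfl h
  clear h x y
  intro n
  induction n using Nat.strong_induction_on with
  | _ n ih =>
  intro x y hn h
  have hp' : p.Prime := Fact.out
  set H := closure ({x, y} : Set R) with hH
  have hxH : x ∈ H := subset_closure (Or.inl rfl)
  have hyH : y ∈ H := subset_closure (Or.inr rfl)
  set x' := y * x * y⁻¹ with hx'
  have hx'p : x' ^ p = x ^ p := by
    rw [hx', conj_pow, h, ← pow_succ', pow_succ, mul_inv_cancel_right]
  have hle : closure ({x, x'} : Set R) ≤ H := by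
    rw [closure_le]
    rintro u (rfl | rfl)
    · exact hxH
    · exact H.mul_mem (H.mul_mem hyH hxH) (H.inv_mem hyH)
  have hcp : (x⁻¹ * x') ^ p = 1 := by
    rcases hle.eq_or_lt with heq | hlt
    · have hK : H ≤ (zpowers (⟨x, hxH⟩ : H) ⊔ commutator H).map H.subtype := by
        refine le_trans heq.ge ((closure_le _).2 ?_)
        rintro u (rfl | rfl)
        · exact ⟨_, mem_sup_left (mem_zpowers _), rfl⟩
        · refine ⟨⁅(⟨y, hyH⟩ : H), ⟨x, hxH⟩⁆ * ⟨x, hxH⟩,
            mul_mem (mem_sup_right (commutator_mem_commutator (mem_top _) (mem_top _)))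
              (mem_sup_left (mem_zpowers _)), ?_⟩
          simp [hx', commutatorElement_def, mul_assoc]
      have htop : zpowers (⟨x, hxH⟩ : H) ⊔ frattini H = ⊤ := by
        rw [eq_top_iff]
        intro u _
        obtain ⟨v, hv, hvu⟩ := hK u.2
        rw [show u = v from Subtype.ext hvu.symm]
        exact (sup_le_sup_left
          (CfsgLib.PGroups.commutator_le_frattini (hR.to_subgroup H)) _ : _) hv
      obtain ⟨i, hi⟩ := mem_zpowers_iff.1
        ((frattini_nongenerating htop).ge (mem_top (⟨y, hyH⟩ : H)))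
      have hi' : x ^ i = y := by simpa using congrArg Subtype.val hi
      rw [show x⁻¹ * x' = 1 by rw [hx', ← hi']; group, one_pow]
    · exact ih _ (hn ▸ CfsgLib.PLocal.card_lt_of_lt hlt) x x' rfl hx'p.symm
  have hc := hcen _ hcp
  have hcomm : ⁅y, x⁻¹⁆ = (x⁻¹ * x')⁻¹ := by rw [hx', commutatorElement_def]; group
  obtain ⟨k, hk⟩ := hp'.dvd_choose_self (k := 2) (by norm_num)
    (lt_of_le_of_ne hp'.two_le (Ne.symm hp))
  rw [CfsgLib.PGroups.mul_pow_of_commute (a := x⁻¹) (b := y)
    (by rw [hcomm]; exact (mem_center_iff.1 (inv_mem hc) _).symm)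
    (by rw [hcomm]; exact (mem_center_iff.1 (inv_mem hc) _).symm), hcomm, hk, pow_mul,
    inv_pow (x⁻¹ * x'), hcp, inv_one, one_pow, mul_one, inv_pow, h, inv_mul_cancel]

/-- Counting `p`-th powers when the elements of order dividing `p` are central. -/
theorem card_le_mul_card_range (hp : p ≠ 2) (hR : IsPGroup p R) {U : Subgroup R}
    (hU : ∀ z : R, z ^ p = 1 → z ∈ U) (hcen : U ≤ center R) :
    Nat.card R ≤ Nat.card U * Nat.card (Set.range fun x : R => x ^ p) := by
  classical
  let sec : Set.range (fun x : R => x ^ p) → R := fun w => w.2.choose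
  have hsec : ∀ w, sec w ^ p = w.1 := fun w => w.2.choose_spec
  let φ : R → U × Set.range (fun x : R => x ^ p) := fun x =>
    (⟨(sec ⟨x ^ p, x, rfl⟩)⁻¹ * x, hU _ (pow_eq_one_of_pow_eq_pow hp hR
      (fun z hz => hcen (hU z hz)) (hsec ⟨x ^ p, x, rfl⟩))⟩, ⟨x ^ p, x, rfl⟩)
  rw [← Nat.card_prod]
  refine Nat.card_le_card_of_injective φ fun a b hab => ?_
  have h2 : a ^ p = b ^ p := congrArg (fun t => ((t.2 : Set.range fun x : R => x ^ p) : R)) hab
  have h1 : (sec ⟨a ^ p, a, rfl⟩)⁻¹ * a = (sec ⟨b ^ p, b, rfl⟩)⁻¹ * b :=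
    congrArg (fun t => ((t.1 : U) : R)) hab
  rwa [show sec ⟨a ^ p, a, rfl⟩ = sec ⟨b ^ p, b, rfl⟩ from congrArg sec (Subtype.ext h2),
    mul_left_cancel_iff] at h1

omit [Finite R] in
/-- The `p`-th power of a product with unipotent commutators. -/
theorem mul_pow_unipotent (hp5 : 5 ≤ p) {x c : R} (hcd : Commute c ⁅x, c⁆)
    (hcz : Commute c ⁅x, ⁅x, c⁆⁆) (hxz : Commute x ⁅x, ⁅x, c⁆⁆)
    (hdz : Commute ⁅x, c⁆ ⁅x, ⁅x, c⁆⁆) (hd : ⁅x, c⁆ ^ p = 1) (hz : ⁅x, ⁅x, c⁆⁆ ^ p = 1) :
    (c * x) ^ p = c ^ p * x ^ p := by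
  set δ := ⁅x, c⁆ with hδ
  set ζ := ⁅x, δ⁆ with hζ
  have e1 : x * c = c * δ * x := by
    rw [hcd.eq, hδ, commutatorElement_def]; group
  have e2 : ∀ n : ℕ, x * δ ^ n = δ ^ n * ζ ^ n * x := by
    intro n
    have : x * δ * x⁻¹ = δ * ζ := by
      rw [hdz.eq, hζ, commutatorElement_def]; group
    rw [← hdz.mul_pow, ← this, conj_pow, inv_mul_cancel_right]
  have step : ∀ n : ℕ, x ^ n * c = c * δ ^ n * ζ ^ n.choose 2 * x ^ n := by
    intro n
    induction n with
    | zero => simp
    | succ n ih =>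
      calc x ^ (n + 1) * c = x * (x ^ n * c) := by rw [pow_succ']; group
        _ = (x * c) * δ ^ n * ζ ^ n.choose 2 * x ^ n := by rw [ih]; group
        _ = c * δ * (x * δ ^ n) * ζ ^ n.choose 2 * x ^ n := by rw [e1]; group
        _ = c * δ * δ ^ n * ζ ^ n * (x * ζ ^ n.choose 2) * x ^ n := by rw [e2]; group
        _ = c * δ ^ (n + 1) * ζ ^ (n + 1).choose 2 * x ^ (n + 1) := by
          rw [(hxz.pow_right (n.choose 2)).eq, Nat.choose_succ_succ, Nat.choose_one_right,
            pow_succ' δ, pow_succ' x, pow_add]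
          group
  have main : ∀ n : ℕ, (c * x) ^ n = c ^ n * δ ^ n.choose 2 * ζ ^ n.choose 3 * x ^ n := by
    intro n
    induction n with
    | zero => simp
    | succ n ih =>
      calc (c * x) ^ (n + 1) = c ^ n * δ ^ n.choose 2 * ζ ^ n.choose 3 * (x ^ n * c) * x := by
            rw [pow_succ, ih]; group
        _ = c ^ n * (δ ^ n.choose 2 * ζ ^ n.choose 3 * c) * δ ^ n * ζ ^ n.choose 2 * x ^ (n + 1) := by
            rw [step, pow_succ x]; group
        _ = c ^ (n + 1) * δ ^ n.choose 2 * (ζ ^ n.choose 3 * δ ^ n) * ζ ^ n.choose 2 *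
              x ^ (n + 1) := by
            rw [← ((hcd.pow_right (n.choose 2)).mul_right (hcz.pow_right (n.choose 3))).eq,
              pow_succ c]
            group
        _ = c ^ (n + 1) * δ ^ (n + 1).choose 2 * ζ ^ (n + 1).choose 3 * x ^ (n + 1) := by
            rw [← (hdz.pow_pow n (n.choose 3)).eq, Nat.choose_succ_succ n 1, Nat.choose_one_right,
              Nat.choose_succ_succ n 2, Nat.add_comm n, pow_add, Nat.add_comm (n.choose 2),
              pow_add]
            group
  have hp' : p.Prime := Fact.out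
  obtain ⟨k, hk⟩ := hp'.dvd_choose_self (k := 2) (by norm_num) (by omega)
  obtain ⟨l, hl⟩ := hp'.dvd_choose_self (k := 3) (by norm_num) (by omega)
  rw [main, hk, hl, pow_mul, pow_mul, hd, hz, one_pow, one_pow, mul_one, mul_one]

/-- The structure of a `p`-group of rank at most two, `p ≥ 5`. -/
theorem rankTwo_structure (hp5 : 5 ≤ p) (hR : IsPGroup p R) (hr : PRankLE p 2 R)
    (hnc : ¬ IsCyclic R) :
    (closure {x : R | ∃ y, y ^ p = x}).index ≤ p ^ 2 ∨
      ∃ E U : Subgroup R, (∀ x, x ∈ E ↔ x ^ p = 1) ∧ Nat.card E = p ^ 3 ∧ U ≤ E ∧ U.Normal ∧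
        IsElementaryAbelian p U ∧ Nat.card U = p ^ 2 ∧ (centralizer (U : Set R)).index = p ∧
        ∀ z : R, z ∈ centralizer (U : Set R) → z ^ p = 1 → z ∈ U := by
  classical
  have hpp : p.Prime := Fact.out
  have hp : p ≠ 2 := by omega
  obtain ⟨U, -, hUn, hUe, hU2⟩ := CfsgLib.PLocal.exists_normal_elementary_sq hp hR ⊤ (fun h =>
    hnc (isCyclic_of_surjective (Subgroup.topEquiv (G := R)).toMonoidHom
      (Subgroup.topEquiv (G := R)).surjective))
  obtain ⟨hUc, hUp⟩ := CfsgLib.Base.isElementaryAbelian_iff.1 hUe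
  set C := centralizer (U : Set R) with hC
  have hUC : U ≤ C := le_centralizer_iff_isMulCommutative.2 hUe.1
  have hΩ : ∀ z : R, z ∈ C → z ^ p = 1 → z ∈ U := by
    intro z hz hzp
    have hB := CfsgLib.Base.isElementaryAbelian_sup hUe (CfsgLib.Base.isElementaryAbelian_zpowers hzp)
      (le_centralizer_iff.1 (zpowers_le.2 hz))
    have h1 : U ⊔ zpowers z = U := (eq_of_le_of_card_ge le_sup_left
      (hU2 ▸ CfsgLib.Base.pRankLE_iff.1 hr _ hB)).symm
    exact h1.le (mem_sup_right (mem_zpowers z))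
  have hCn : C.Normal := inferInstance
  set W := closure {x : R | ∃ y, y ^ p = x} with hW
  set Pset := Set.range (fun x : C => x ^ p) with hPset
  have hcount : Nat.card C ≤ p ^ 2 * Nat.card Pset := by
    have h1 := card_le_mul_card_range hp (hR.to_subgroup C) (U := U.subgroupOf C)
      (fun z hz => hΩ z z.2 (by simpa using congrArg Subtype.val hz))
      (fun u hu => mem_center_iff.2 fun v => Subtype.ext (mem_centralizer_iff.1 v.2 u hu).symm)
    rwa [CfsgLib.Base.card_subgroupOf hUC, hU2] at h1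
  have hidx : C.index ≤ p := by simpa using CfsgLib.PGroups.index_centralizer_le hR 2 hU2
  let incl : Pset → W := fun w => ⟨((w.1 : C) : R), by
    obtain ⟨y, hy⟩ := w.2
    exact subset_closure ⟨(y : R), by rw [← hy]; rfl⟩⟩
  have hincl : Function.Injective incl := fun a b hab => by
    have := congrArg Subtype.val hab
    exact Subtype.ext (Subtype.ext this)
  have hPW : Nat.card Pset ≤ Nat.card W := Nat.card_le_card_of_injective _ hincl
  by_cases hWle : W.index ≤ p ^ 2
  · exact Or.inl hWle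
  right
  push Not at hWle
  have hsurj : Function.Surjective incl := by
    have h1 := C.card_mul_index
    have h2 := W.card_mul_index
    obtain ⟨i, hi⟩ := hR.index W
    have hi3 : 3 ≤ i := by
      rw [hi, Nat.pow_lt_pow_iff_right hpp.one_lt] at hWle; omega
    have hp3 : p ^ 3 ≤ W.index := hi ▸ Nat.pow_le_pow_right hpp.pos hi3
    have hge : Nat.card W ≤ Nat.card Pset := by
      refine Nat.le_of_mul_le_mul_right ?_ (pow_pos hpp.pos 3)
      calc Nat.card W * p ^ 3 ≤ Nat.card W * W.index := Nat.mul_le_mul_left _ hp3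
        _ = Nat.card C * C.index := h2.trans h1.symm
        _ ≤ p ^ 2 * Nat.card Pset * p := Nat.mul_le_mul hcount hidx
        _ = Nat.card Pset * p ^ 3 := by ring
    exact ((Nat.bijective_iff_injective_and_card incl).2 ⟨hincl, le_antisymm hPW hge⟩).2
  have hCidx : C.index = p := by
    obtain ⟨i, hi⟩ := hR.index C
    rcases Nat.eq_zero_or_pos i with h0 | h0
    · exfalso
      have hCt : C = ⊤ := index_eq_one.1 (by rw [hi, h0, pow_zero])
      have h1 := W.card_mul_index
      have h2 : Nat.card R ≤ p ^ 2 * Nat.card W := by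
        refine le_trans ?_ (Nat.mul_le_mul_left _ hPW)
        refine le_trans (le_of_eq ?_) hcount
        rw [hCt, card_top]
      rw [← h1, mul_comm] at h2
      exact absurd (Nat.le_of_mul_le_mul_right h2 Nat.card_pos) (not_le.2 hWle)
    · rw [hi] at hidx ⊢
      have : i ≤ 1 := (Nat.pow_le_pow_iff_right hpp.one_lt).1 (hidx.trans (pow_one p).ge)
      rw [show i = 1 by omega, pow_one]
  -- the line `U ∩ Z(R)`
  have hne : ¬ U ≤ center R := fun h => by
    have : C = ⊤ := eq_top_iff.2 fun u _ => mem_centralizer_iff.2 fun v hv =>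
      (mem_center_iff.1 (h hv) u).symm
    rw [this, index_top] at hCidx
    exact hpp.ne_one hCidx.symm
  have hline : Nat.card ↥(U ⊓ center R) = p := by
    obtain ⟨i, hi⟩ := IsPGroup.iff_card.mp (hR.to_subgroup (U ⊓ center R))
    have hi0 : i ≠ 0 := fun h => CfsgLib.PGroups.inf_center_ne_bot hR (N := U)
      (fun hb => by rw [hb, card_bot] at hU2; exact (Nat.one_lt_pow two_ne_zero hpp.one_lt).ne hU2)
      (card_eq_one.1 (by rw [hi, h, pow_zero]))
    have hlt : U ⊓ center R < U := lt_of_le_of_ne inf_le_left fun h => hne (inf_eq_left.1 h)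
    have h2 := CfsgLib.PLocal.card_lt_of_lt hlt
    rw [hi, hU2, Nat.pow_lt_pow_iff_right hpp.one_lt] at h2
    rw [hi, show i = 1 by omega, pow_one]
  have hzeta : ∀ g : R, ∀ u ∈ U, ⁅g, u⁆ ∈ U ⊓ center R := fun g u hu =>
    commutator_mem_line hUe hU2 inf_le_left hline (normalizer_eq_top U ▸ mem_top g)
      (hR.to_subgroup _) (mem_centralizer_iff.2 fun v hv => (mem_center_iff.1 hv.2 g).symm) hu
  have hprod : ∀ x c : R, c ∈ C → ⁅x, c⁆ ∈ U → (c * x) ^ p = c ^ p * x ^ p := by
    intro x c hc hδ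
    have hz := hzeta x _ hδ
    exact mul_pow_unipotent hp5 (mem_centralizer_iff.1 hc _ hδ).symm
      (mem_center_iff.1 hz.2 c) (mem_center_iff.1 hz.2 x) (hUc _ hδ _ hz.1) (hUp _ hδ) (hUp _ hz.1)
  obtain ⟨x, hxC⟩ : ∃ x, x ∉ C := by
    by_contra! h
    rw [show C = ⊤ from eq_top_iff.2 fun u _ => h u, index_top] at hCidx
    exact hpp.ne_one hCidx.symm
  -- an element of order `p` outside `C`
  obtain ⟨e, heC, hep⟩ : ∃ e, e ∉ C ∧ e ^ p = 1 := by
    obtain ⟨⟨w, ⟨c, hc⟩⟩, hw⟩ := hsurj ⟨x ^ p, subset_closure ⟨x, rfl⟩⟩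
    have hcx : (c : R) ^ p = x ^ p := by
      have h1 : ((w : C) : R) = x ^ p := congrArg Subtype.val hw
      rw [show w = c ^ p from hc.symm] at h1
      simpa using h1
    have hδ : ⁅x, (c : R)⁆ ∈ U := by
      have hxc : x * (c : R) * x⁻¹ ∈ C := hCn.conj_mem _ c.2 x
      have h1 : (c : R) ^ p = (x * (c : R) * x⁻¹) ^ p := by
        rw [conj_pow, hcx, ← pow_succ', pow_succ, mul_inv_cancel_right]
      have hcen : ∀ z : C, z ^ p = 1 → z ∈ center C := fun z hz => mem_center_iff.2 fun v =>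
        Subtype.ext (mem_centralizer_iff.1 v.2 z (hΩ z z.2 (by simpa using congrArg Subtype.val hz))).symm
      have h2 := pow_eq_one_of_pow_eq_pow hp (hR.to_subgroup C) hcen
        (x := c) (y := ⟨_, hxc⟩) (Subtype.ext h1)
      have h3 := hΩ _ (C.mul_mem (C.inv_mem c.2) hxc) (by simpa using congrArg Subtype.val h2)
      have h4 : ⁅x, (c : R)⁆ = (c : R) * ((c : R)⁻¹ * (x * c * x⁻¹)) * (c : R)⁻¹ := by
        rw [commutatorElement_def]; group
      rw [h4]
      exact hUn.conj_mem _ h3 _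
    refine ⟨(c : R)⁻¹ * x, fun h => hxC ?_, ?_⟩
    · simpa using C.mul_mem c.2 h
    · have hδ' : ⁅x, (c : R)⁻¹⁆ ∈ U := by
        have : ⁅x, (c : R)⁻¹⁆ = (c : R)⁻¹ * ⁅x, (c : R)⁆⁻¹ * (c : R)⁻¹⁻¹ := by
          simp only [commutatorElement_def]; group
        rw [this]
        exact hUn.conj_mem _ (U.inv_mem hδ) _
      rw [hprod x _ (C.inv_mem c.2) hδ', inv_pow, hcx, inv_mul_cancel]
  -- the subgroups generated by `U` and such elements
  have hE : ∀ e, e ∉ C → e ^ p = 1 →
      Nat.card ↥(zpowers e ⊔ U) = p ^ 3 ∧ ∀ v ∈ zpowers e ⊔ U, v ^ p = 1 := by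
    intro e heC hep
    have hord : orderOf e = p := orderOf_eq_prime hep fun h => heC (h ▸ one_mem C)
    have hdisj : zpowers e ⊓ U = ⊥ := by
      refine (eq_bot_iff_forall _).2 ?_
      rintro v ⟨hv, hvU⟩
      by_contra hv1
      obtain ⟨i, rfl⟩ := mem_zpowers_iff.1 hv
      have hgen : zpowers (e ^ i) = zpowers e := by
        refine eq_of_le_of_card_ge (zpowers_le.2 hv) ?_
        rw [Nat.card_zpowers, Nat.card_zpowers, hord, orderOf_eq_prime (hUp _ hvU) hv1]
      exact heC (hUC ((hgen ▸ zpowers_le.2 hvU : zpowers e ≤ U) (mem_zpowers e)))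
    refine ⟨?_, fun v hv => ?_⟩
    · have h1 := CfsgLib.Base.card_sup_mul_card_inf (zpowers e) U
      rw [hdisj, card_bot, mul_one, Nat.card_zpowers, hord, hU2] at h1
      rw [h1]; ring
    · rw [sup_comm, mem_sup_of_normal_left] at hv
      obtain ⟨u, hu, w, hw, rfl⟩ := hv
      obtain ⟨i, rfl⟩ := mem_zpowers_iff.1 hw
      rw [hprod _ u (hUC hu) (hzeta _ u hu).1, hUp u hu, one_mul, ← zpow_natCast, ← zpow_mul,
        mul_comm, zpow_mul, zpow_natCast, hep, one_zpow]
  have hsame : ∀ e y : R, e ∉ C → e ^ p = 1 → y ∉ C → y ^ p = 1 →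
      e ∈ normalizer ((zpowers y ⊔ U : Subgroup R) : Set R) →
      y ∈ normalizer ((zpowers e ⊔ U : Subgroup R) : Set R) → y ∈ zpowers e ⊔ U := by
    intro e y heC hep hyC hyp hey hye
    by_contra hy
    set E0 := zpowers e ⊔ U with hE0
    set E1 := zpowers y ⊔ U with hE1
    -- replace `e` by a power congruent to `y` modulo `C`
    obtain ⟨i, hi⟩ : ∃ i : ℤ, y * (e ^ i)⁻¹ ∈ C := by
      have hlt : C < C ⊔ zpowers e := left_lt_sup.2 fun h => heC (h (mem_zpowers e))
      have htop : C ⊔ zpowers e = ⊤ := by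
        refine index_eq_one.1 (((Nat.dvd_prime hpp).1 (hCidx ▸ index_dvd_of_le hlt.le)).resolve_right
          fun h1 => (CfsgLib.PLocal.card_lt_of_lt hlt).ne ?_)
        have e1 := C.card_mul_index
        have e2 := (C ⊔ zpowers e).card_mul_index
        rw [hCidx] at e1
        rw [h1] at e2
        exact Nat.eq_of_mul_eq_mul_right hpp.pos (e1.trans e2.symm)
      obtain ⟨c, hc, w, hw, hyw⟩ := mem_sup_of_normal_left.1 (htop.ge (mem_top y))
      obtain ⟨i, rfl⟩ := mem_zpowers_iff.1 hw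
      exact ⟨i, by rw [← hyw, mul_inv_cancel_right]; exact hc⟩
    set x := e ^ i with hx
    have hxE0 : x ∈ E0 := mem_sup_left (zpow_mem (mem_zpowers e) i)
    have hyE1 : y ∈ E1 := mem_sup_left (mem_zpowers y)
    have hxN : x ∈ normalizer (E1 : Set R) := zpow_mem hey i
    have hinf : E0 ⊓ E1 = U := by
      refine (eq_of_le_of_card_ge (le_inf le_sup_right le_sup_right) ?_).symm
      have hlt : E0 ⊓ E1 < E1 := lt_of_le_of_ne inf_le_right fun h => hy (h.ge hyE1).1
      obtain ⟨j, hj⟩ := IsPGroup.iff_card.mp (hR.to_subgroup (E0 ⊓ E1))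
      have h2 := CfsgLib.PLocal.card_lt_of_lt hlt
      rw [hj, (hE y hyC hyp).1, Nat.pow_lt_pow_iff_right hpp.one_lt] at h2
      rw [hj, hU2]
      exact Nat.pow_le_pow_right hpp.pos (by omega)
    have hδ : ⁅x, y * x⁻¹⁆ ∈ U := by
      have e1 : ⁅x, y * x⁻¹⁆ = ⁅x, y⁆ := by simp only [commutatorElement_def]; group
      rw [e1, ← hinf]
      refine ⟨?_, ?_⟩
      · rw [commutatorElement_def, show x * y * x⁻¹ * y⁻¹ = x * (y * x⁻¹ * y⁻¹) by group]
        exact E0.mul_mem hxE0 ((mem_normalizer_iff.1 hye _).1 (E0.inv_mem hxE0))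
      · rw [commutatorElement_def]
        exact E1.mul_mem ((mem_normalizer_iff.1 hxN _).1 hyE1) (E1.inv_mem hyE1)
    have h1 := hprod x (y * x⁻¹) hi hδ
    rw [inv_mul_cancel_right, hyp, (hE e heC hep).2 x hxE0, mul_one] at h1
    have h2 : y * x⁻¹ ∈ E0 := mem_sup_right (hΩ _ hi h1.symm)
    exact hy (by simpa using E0.mul_mem h2 hxE0)
  set E := zpowers e ⊔ U with hEdef
  have hconj : ∀ (g : R), (zpowers e ⊔ U).map (MulAut.conj g).toMonoidHom =
      zpowers (g * e * g⁻¹) ⊔ U := by
    intro g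
    rw [Subgroup.map_sup, MonoidHom.map_zpowers]
    congr 1
    exact mem_normalizer_iff_map_conj_eq.1 (normalizer_eq_top U ▸ mem_top g)
  have hEn : E.Normal := by
    rw [← normalizer_eq_top_iff]
    by_contra hne'
    have hnc := hR.isNilpotent
    have hlt := (Group.normalizerCondition_of_isNilpotent (G := R)) (normalizer (E : Set R))
      (lt_top_iff_ne_top.2 hne')
    obtain ⟨g, hg, hgN⟩ := SetLike.exists_of_lt hlt
    set y := g * e * g⁻¹ with hy
    have hyC : y ∉ C := fun h => heC (by simpa [hy, mul_assoc] using hCn.conj_mem _ h g⁻¹)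
    have hyp : y ^ p = 1 := by rw [hy, conj_pow, hep, mul_one, mul_inv_cancel]
    have hmapN : (normalizer (E : Set R)).map (MulAut.conj g).toMonoidHom =
        normalizer (E : Set R) := mem_normalizer_iff_map_conj_eq.1 hg
    have hyN : y ∈ normalizer (E : Set R) :=
      hmapN.le ⟨e, le_normalizer (mem_sup_left (mem_zpowers e)), rfl⟩
    have heN : e ∈ normalizer ((zpowers y ⊔ U : Subgroup R) : Set R) := by
      rw [← hconj g, ← hEdef]
      have h1 : e ∈ (normalizer (E : Set R)).map (MulAut.conj g).toMonoidHom := by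
        rw [hmapN]; exact le_normalizer (mem_sup_left (mem_zpowers e))
      exact le_normalizer_map _ h1
    have hyE := hsame e y heC hep hyC hyp heN hyN
    refine hgN ?_
    rw [mem_normalizer_iff_map_conj_eq]
    refine eq_of_le_of_card_ge ?_ (card_map_of_injective (MulAut.conj g).injective).ge
    exact ((congrArg (Subgroup.map _) hEdef).trans (hconj g)).le.trans
      (sup_le (zpowers_le.2 hyE) le_sup_right)
  refine ⟨E, U, fun v => ⟨(hE e heC hep).2 v, fun hv => ?_⟩, (hE e heC hep).1, le_sup_right, hUn, hUe,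
    hU2, hCidx, hΩ⟩
  by_cases hvC : v ∈ C
  · exact mem_sup_right (hΩ v hvC hv)
  -- every such subgroup is normal
  have hn2 : (zpowers v ⊔ U).Normal := by
    rw [← normalizer_eq_top_iff]
    by_contra hne'
    have hnc := hR.isNilpotent
    have hlt := (Group.normalizerCondition_of_isNilpotent (G := R)) (normalizer ((zpowers v ⊔ U : Subgroup R) : Set R))
      (lt_top_iff_ne_top.2 hne')
    obtain ⟨g, hg, hgN⟩ := SetLike.exists_of_lt hlt
    set y := g * v * g⁻¹ with hy
    have hyC : y ∉ C := fun h => hvC (by simpa [hy, mul_assoc] using hCn.conj_mem _ h g⁻¹)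
    have hyp : y ^ p = 1 := by rw [hy, conj_pow, hv, mul_one, mul_inv_cancel]
    have hmapN := mem_normalizer_iff_map_conj_eq.1 hg
    have hyN : y ∈ normalizer ((zpowers v ⊔ U : Subgroup R) : Set R) :=
      hmapN.le ⟨v, le_normalizer (mem_sup_left (mem_zpowers v)), rfl⟩
    have hmap : (zpowers v ⊔ U).map (MulAut.conj g).toMonoidHom = zpowers y ⊔ U := by
      rw [Subgroup.map_sup, MonoidHom.map_zpowers]
      congr 1
      exact mem_normalizer_iff_map_conj_eq.1 (normalizer_eq_top U ▸ mem_top g)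
    have hvN : v ∈ normalizer ((zpowers y ⊔ U : Subgroup R) : Set R) := by
      rw [← hmap]
      refine le_normalizer_map _ ?_
      exact hmapN.ge (le_normalizer (mem_sup_left (mem_zpowers v)))
    refine hgN ?_
    rw [mem_normalizer_iff_map_conj_eq]
    refine eq_of_le_of_card_ge ?_ (card_map_of_injective (MulAut.conj g).injective).ge
    exact hmap.le.trans
      (sup_le (zpowers_le.2 (hsame v y hvC hv hyC hyp hvN hyN)) le_sup_right)
  exact hsame e v heC hep hvC hv (normalizer_eq_top (H := zpowers v ⊔ U) ▸ mem_top e)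
    (normalizer_eq_top (H := E) ▸ mem_top v)

end CfsgLib.OddOrder
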