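import Cfsg.Agent.Lib.OddOrder.QuadraticPair
import Cfsg.Prelude.Def_Transfer

/-!
Quadratic pairs acting on abelian groups of exponent `p`, in group-theoretic language.
-/

set_option autoImplicit false

namespace CfsgLib.OddOrder

open Matrix
open scoped commutatorElement

theorem sq_sub_one_eq_zero {R M : Type*} [Ring R] [AddCommGroup M] [Module R M]
    {f : Module.End R M} (h : ∀ v, f (f v) + v = f v + f v) : (f - 1) * (f - 1) = 0 := by
  refine LinearMap.ext fun v => ?_
  simp only [Module.End.mul_apply, LinearMap.sub_apply, Module.End.one_apply, map_sub,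
    LinearMap.zero_apply]
  rw [sub_sub_sub_comm, sub_eq_zero, sub_eq_sub_iff_add_eq_add]
  exact h v

/-- The representation over `ZMod p` attached to an action. -/
def zmodRep (p : ℕ) {H A : Type*} [Group H] [CommGroup A] [Module (ZMod p) (Additive A)]
    (α : H →* MulAut A) : H →* Module.End (ZMod p) (Additive A) where
  toFun h := (MonoidHom.toAdditive (α h).toMonoidHom).toZModLinearMap p
  map_one' := LinearMap.ext fun v => by
    change MonoidHom.toAdditive (α 1).toMonoidHom v = v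
    rw [map_one]; rfl
  map_mul' g h := LinearMap.ext fun v => by
    change MonoidHom.toAdditive (α (g * h)).toMonoidHom v =
      MonoidHom.toAdditive (α g).toMonoidHom (MonoidHom.toAdditive (α h).toMonoidHom v)
    rw [map_mul]; rfl

theorem action_dichotomy_aux (p : ℕ) [Fact p.Prime] (hp : p ≠ 2) {H : Type*} [Group H] [Finite H]
    {A : Type*} [CommGroup A] [Finite A] [Module (ZMod p) (Additive A)] (α : H →* MulAut A)
    {x y : H} (hgen : Subgroup.closure ({x, y} : Set H) = ⊤)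
    (hx : ∀ v, α x (α x v) * v = α x v * α x v) (hy : ∀ v, α y (α y v) * v = α y v * α y v) :
    (∀ h, ∃ k : ℕ, α (h ^ p ^ k) = 1) ∨ InvolvesSL2 p H := by
  classical
  have : Module.Finite (ZMod p) (Additive A) := Module.Finite.of_finite
  set n := Module.finrank (ZMod p) (Additive A) with hn
  let b : Module.Basis (Fin n) (ZMod p) (Additive A) := Module.finBasis (ZMod p) (Additive A)
  let K := AlgebraicClosure (ZMod p)
  let f : ZMod p →+* K := algebraMap (ZMod p) K
  let Φ : Module.End (ZMod p) (Additive A) →+* Module.End K (Fin n → K) :=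
    ((Matrix.toLinAlgEquiv' : Matrix (Fin n) (Fin n) K ≃ₐ[K] Module.End K (Fin n → K)).toRingEquiv.toRingHom).comp
      (f.mapMatrix.comp (LinearMap.toMatrixAlgEquiv b).toRingEquiv.toRingHom)
  have hΦ : Function.Injective Φ :=
    (Matrix.toLinAlgEquiv' : Matrix (Fin n) (Fin n) K ≃ₐ[K] Module.End K (Fin n → K)).injective.comp
      ((Matrix.map_injective f.injective).comp (LinearMap.toMatrixAlgEquiv b).injective)
  have hq : ∀ z, (∀ v, α z (α z v) * v = α z v * α z v) →
      (Φ (zmodRep p α z) - 1) * (Φ (zmodRep p α z) - 1) = 0 := by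
    intro z hz
    have h0 := sq_sub_one_eq_zero (f := zmodRep p α z) fun v =>
      congrArg Additive.ofMul (hz v.toMul)
    rw [← map_one Φ, ← map_sub, ← map_mul, h0, map_zero]
  rcases linear_dichotomy p hp hgen (Φ.toMonoidHom.comp (zmodRep p α)) (hq x hx) (hq y hy)
    with h | h
  · refine Or.inl fun g => ?_
    obtain ⟨k, hk⟩ := h g
    refine ⟨k, MulEquiv.ext fun v => ?_⟩
    have h1 : zmodRep p α (g ^ p ^ k) = 1 := hΦ (by rw [map_one]; exact hk)
    exact congrArg Additive.toMul (LinearMap.congr_fun h1 (Additive.ofMul v))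
  · exact Or.inr h

/-- The basic dichotomy for an action on an abelian group of exponent `p`. -/
theorem action_dichotomy (p : ℕ) [Fact p.Prime] (hp : p ≠ 2) {H : Type*} [Group H] [Finite H]
    {A : Type*} [CommGroup A] [Finite A] (hA : ∀ v : A, v ^ p = 1) (α : H →* MulAut A) {x y : H}
    (hgen : Subgroup.closure ({x, y} : Set H) = ⊤)
    (hx : ∀ v, α x (α x v) * v = α x v * α x v) (hy : ∀ v, α y (α y v) * v = α y v * α y v) :
    (∀ h, ∃ k : ℕ, α (h ^ p ^ k) = 1) ∨ InvolvesSL2 p H :=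
  @action_dichotomy_aux p _ hp H _ _ A _ _
    (AddCommGroup.zmodModule (fun v => Additive.toMul.injective (hA v.toMul))) α x y hgen hx hy

variable {G : Type*} [Group G] [Finite G]

/-- Quadratic action in the form `[[V, a], a] = 1`. -/
theorem quad_apply {V : Subgroup G} (hV : IsMulCommutative V) {a : G}
    (ha : a ∈ Subgroup.normalizer (V : Set G))
    (hq : ⁅⁅V, Subgroup.zpowers a⁆, Subgroup.zpowers a⁆ = ⊥) {v : G} (hv : v ∈ V) :
    a * (a * v * a⁻¹) * a⁻¹ * v = a * v * a⁻¹ * (a * v * a⁻¹) := by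
  rw [Subgroup.commutator_eq_bot_iff_le_centralizer] at hq
  have hc := Subgroup.mem_centralizer_iff.1
    (hq (Subgroup.commutator_mem_commutator hv (Subgroup.mem_zpowers a))) a (Subgroup.mem_zpowers a)
  have hav : a * v * a⁻¹ ∈ V := (Subgroup.mem_normalizer_iff.1 ha v).1 hv
  have haav : a * (a * v * a⁻¹) * a⁻¹ ∈ V := (Subgroup.mem_normalizer_iff.1 ha _).1 hav
  have comm : ∀ s ∈ V, ∀ t ∈ V, s * t = t * s := fun s hs t ht =>
    congrArg Subtype.val (hV.is_comm.comm ⟨s, hs⟩ ⟨t, ht⟩)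
  -- `a` fixes `v * (a v a⁻¹)⁻¹`
  have h1 : a * (v * (a * v * a⁻¹)⁻¹) * a⁻¹ = v * (a * v * a⁻¹)⁻¹ := by
    rw [show v * (a * v * a⁻¹)⁻¹ = ⁅v, a⁆ by rw [commutatorElement_def]; group, hc,
      mul_assoc, mul_inv_cancel, mul_one]
  have h2 : a * v * a⁻¹ = v * (a * v * a⁻¹)⁻¹ * (a * (a * v * a⁻¹) * a⁻¹) := by
    refine mul_inv_eq_iff_eq_mul.1 ?_
    conv_rhs => rw [← h1]
    group
  symm
  calc a * v * a⁻¹ * (a * v * a⁻¹)
      = a * v * a⁻¹ * (v * (a * v * a⁻¹)⁻¹ * (a * (a * v * a⁻¹) * a⁻¹)) :=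
        congrArg (a * v * a⁻¹ * ·) h2
    _ = v * (a * (a * v * a⁻¹) * a⁻¹) := by
        rw [← mul_assoc (a * v * a⁻¹) (v * _), ← mul_assoc (a * v * a⁻¹) v, comm _ hav _ hv,
          mul_inv_cancel_right]
    _ = a * (a * v * a⁻¹) * a⁻¹ * v := comm _ hv _ haav

theorem pair_dichotomy {p : ℕ} [Fact p.Prime] (hp : p ≠ 2) (V : Subgroup G)
    (hV : Cfsg.IsElementaryAbelian p V) (H : Subgroup G)
    (hHV : H ≤ Subgroup.normalizer (V : Set G)) (a b : G)
    (hab : H = Subgroup.closure {a, b})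
    (ha : ⁅⁅V, Subgroup.zpowers a⁆, Subgroup.zpowers a⁆ = ⊥)
    (hb : ⁅⁅V, Subgroup.zpowers b⁆, Subgroup.zpowers b⁆ = ⊥) :
    (∀ h ∈ H, ∃ k : ℕ, h ^ p ^ k ∈ Subgroup.centralizer (V : Set G)) ∨ InvolvesSL2 p H := by
  have haH : a ∈ H := hab ▸ Subgroup.subset_closure (Or.inl rfl)
  have hbH : b ∈ H := hab ▸ Subgroup.subset_closure (Or.inr rfl)
  let _ : CommGroup V := { (inferInstance : Group V) with mul_comm := hV.1.is_comm.comm }
  let α : H →* MulAut V := V.normalizerMonoidHom.comp (Subgroup.inclusion hHV)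
  have hgen : Subgroup.closure ({⟨a, haH⟩, ⟨b, hbH⟩} : Set H) = ⊤ := by
    apply Subgroup.map_injective H.subtype_injective
    rw [MonoidHom.map_closure, ← MonoidHom.range_eq_map, Subgroup.range_subtype, Set.image_pair]
    exact hab.symm
  rcases action_dichotomy p hp (fun v => Subtype.ext (by simpa using hV.2 v v.2)) α hgen
    (fun v => Subtype.ext (quad_apply hV.1 (hHV haH) ha v.2))
    (fun v => Subtype.ext (quad_apply hV.1 (hHV hbH) hb v.2)) with h | h
  · refine Or.inl fun g hg => ?_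
    obtain ⟨k, hk⟩ := h ⟨g, hg⟩
    refine ⟨k, Subgroup.mem_centralizer_iff.2 fun v hv => ?_⟩
    have h2 : g ^ p ^ k * v * (g ^ p ^ k)⁻¹ = v := by
      simpa [α] using congrArg Subtype.val (MulEquiv.congr_fun hk ⟨v, hv⟩)
    exact (mul_inv_eq_iff_eq_mul.1 h2).symm
  · exact Or.inr h

end CfsgLib.OddOrder
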