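import Cfsg.Agent.Lib.OddOrder.GL2Odd
import Cfsg.Agent.Lib.OddOrder.OmegaFixed
import Cfsg.Agent.Lib.OddOrder.FixedPoints
import Cfsg.Agent.Lib.OddOrder.QuadraticGroup
import Cfsg.Agent.Lib.PGroups.Critical
import Cfsg.Agent.Lib.PGroups.Omega
import Cfsg.Agent.Lib.PGroups.Commutator
import Cfsg.Agent.Lib.Coprime.Action2
import Cfsg.Agent.Lib.Base.Rank

/-!
A `p`-group of rank at most two (`p` odd): the automorphisms are controlled by `GL₂(p)`.
-/

set_option autoImplicit false

namespace CfsgLib.OddOrder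

open scoped commutatorElement
open Subgroup

/-- Every `p`-group (`p` odd) has a characteristic subgroup of class at most two and exponent
dividing `p` detecting the `p'`-automorphisms. -/
theorem exists_detecting {G : Type*} [Group G] [Finite G] {p : ℕ} [Fact p.Prime] (hp : p ≠ 2)
    (R : Subgroup G) (hR : IsPGroup p R) :
    ∃ D : Subgroup G, D ≤ R ∧ (∀ x ∈ D, x ^ p = 1) ∧ (∀ x y : D, ⁅x, y⁆ ∈ center D) ∧
      normalizer (R : Set G) ≤ normalizer (D : Set G) ∧
      ∀ a ∈ normalizer (R : Set G), (orderOf a).Coprime p → a ∈ centralizer (D : Set G) →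
        a ∈ centralizer (R : Set G) := by
  obtain ⟨H, hHc, -, hHR, hHC⟩ := CfsgLib.PGroups.exists_critical hR
  have hcl : ∀ x y : H, ⁅x, y⁆ ∈ center H := by
    intro x y
    refine mem_center_iff.2 fun z => Subtype.ext ?_
    exact mem_centralizer_iff.1 (hHR (commutator_mem_commutator x.2 (mem_top y.1))).2 z z.2
  set H' := H.map R.subtype with hH'
  have hH'R : H' ≤ R := map_subtype_le H
  let D : Subgroup G :=
    { carrier := {x | x ∈ H' ∧ x ^ p = 1}
      one_mem' := ⟨one_mem _, one_pow _⟩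
      mul_mem' := by
        rintro a b ⟨⟨a', ha', rfl⟩, ha⟩ ⟨⟨b', hb', rfl⟩, hb⟩
        refine ⟨⟨a' * b', mul_mem ha' hb', map_mul _ _ _⟩, ?_⟩
        have e1 : (⟨a', ha'⟩ : H) ^ p = 1 := Subtype.ext (Subtype.ext (by simpa using ha))
        have e2 : (⟨b', hb'⟩ : H) ^ p = 1 := Subtype.ext (Subtype.ext (by simpa using hb))
        have := CfsgLib.PGroups.mul_pow_eq_one_of_odd (hcl ⟨b', hb'⟩ ⟨a', ha'⟩)
          ((Fact.out : p.Prime).odd_of_ne_two hp) e1 e2
        exact congrArg (fun t : H => ((t : R) : G)) this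
      inv_mem' := fun {a} ha => ⟨inv_mem ha.1, by rw [inv_pow, ha.2, inv_one]⟩ }
  have hnH : normalizer (R : Set G) ≤ normalizer (H' : Set G) := by
    intro g hg
    rw [mem_normalizer_iff_map_conj_eq, hH', map_map]
    have hφ := characteristic_iff_map_eq.1 hHc (R.normalizerMonoidHom ⟨g, hg⟩)
    conv_rhs => rw [← hφ, map_map]
    congr 1
  refine ⟨D, fun x hx => hH'R hx.1, fun x hx => hx.2, ?_, fun g hg => ?_, fun a ha hap haD => ?_⟩
  · rintro ⟨_, ⟨x, hx, rfl⟩, hxp⟩ ⟨_, ⟨y, hy, rfl⟩, hyp⟩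
    refine mem_center_iff.2 ?_
    rintro ⟨_, ⟨z, hz, rfl⟩, hzp⟩
    apply Subtype.ext
    simpa [commutatorElement_def] using congrArg (fun t : H => ((t : R) : G))
      (mem_center_iff.1 (hcl ⟨x, hx⟩ ⟨y, hy⟩) ⟨z, hz⟩)
  · refine mem_normalizer_iff.2 fun x => ?_
    have h1 := mem_normalizer_iff.1 (hnH hg) x
    change (x ∈ H' ∧ x ^ p = 1) ↔ (g * x * g⁻¹ ∈ H' ∧ (g * x * g⁻¹) ^ p = 1)
    rw [← h1, conj_pow, conj_eq_one_iff]
  · have hcop : (Nat.card (zpowers a)).Coprime p := by rwa [Nat.card_zpowers]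
    have hN : zpowers a ≤ normalizer (R : Set G) := zpowers_le.2 ha
    have hH'p : IsPGroup p H' := hR.to_le hH'R
    have haH : zpowers a ≤ centralizer (H' : Set G) := by
      refine le_centralizer_of_fix_order_prime hp H' _ hH'p hcop (hN.trans hnH) fun x hx hxp q hq => ?_
      obtain ⟨j, rfl⟩ := mem_zpowers_iff.1 hq
      exact (show Commute a x from (mem_centralizer_iff.1 haD x ⟨hx, hxp⟩).symm).zpow_left j
    obtain ⟨k, hk⟩ := IsPGroup.iff_card.mp hH'p
    suffices h : zpowers a ≤ centralizer (R : Set G) from h (mem_zpowers a)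
    refine le_centralizer_of_commutator_le (U := H') (by rw [hk]; exact hcop.pow_right k) ?_ haH
    -- three subgroups
    have h1 : ⁅⁅H', R⁆, zpowers a⁆ = ⊥ := by
      have : ⁅H', R⁆ ≤ H' := by
        rw [hH', show ⁅H.map R.subtype, R⁆ = ⁅H, (⊤ : Subgroup R)⁆.map R.subtype by
          rw [map_commutator, ← MonoidHom.range_eq_map, range_subtype]]
        exact map_mono (hHR.trans inf_le_left)
      rw [commutator_eq_bot_iff_le_centralizer]
      exact this.trans (le_centralizer_iff.1 haH)
    have h2 : ⁅⁅zpowers a, H'⁆, R⁆ = ⊥ := by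
      rw [commutator_eq_bot_iff_le_centralizer.mpr haH]
      exact commutator_bot_left _
    have h3 := commutator_commutator_eq_bot_of_rotate h2 h1
    rw [commutator_eq_bot_iff_le_centralizer] at h3
    intro x hx
    have hxR : x ∈ R := by
      refine commutator_le.2 (fun t ht q hq => ?_) hx
      rw [commutatorElement_def, mul_assoc, mul_assoc]
      exact R.mul_mem ht (by
        simpa [mul_assoc] using (mem_normalizer_iff.mp (hN hq) _).mp (R.inv_mem ht))
    refine ⟨⟨x, hxR⟩, hHC (mem_centralizer_iff.2 fun y hy => Subtype.ext ?_), rfl⟩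
    exact mem_centralizer_iff.1 (h3 hx) y ⟨y, hy, rfl⟩

/-- A group of exponent `p`, class at most two and rank at most two has Frattini factor of order
at most `p²`. -/
theorem card_abelianization_le {D : Type*} [Group D] [Finite D] {p : ℕ} [Fact p.Prime]
    (hexp : ∀ x : D, x ^ p = 1) (hr : Cfsg.PRankLE p 2 D) :
    Nat.card (Abelianization D) ≤ p ^ 2 := by
  have hp : p.Prime := Fact.out
  have hD : IsPGroup p D := fun x => ⟨1, by rw [pow_one]; exact hexp x⟩
  obtain ⟨A, hAn, hAc, -, hA⟩ := CfsgLib.PGroups.exists_selfCentralizing_normal hD (⊥ : Subgroup D)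
    (CfsgLib.Base.isMulCommutative_subgroup_iff.2 fun a ha b hb => by
      rw [mem_bot] at ha hb; rw [ha, hb])
  obtain ⟨k, hk⟩ := IsPGroup.iff_card.mp (hD.to_subgroup A)
  have hk2 : k ≤ 2 := (Nat.pow_le_pow_iff_right hp.one_lt).1 (hk ▸ hr A hAc fun a _ => hexp a)
  have hi := CfsgLib.PGroups.index_centralizer_le hD k hk
  rw [hA] at hi
  have hle : Nat.card D ≤ p ^ (k + k.choose 2) := by
    rw [← A.card_mul_index, hk, pow_add]
    exact Nat.mul_le_mul_left _ hi
  have hcard : Nat.card D ≤ p ^ 3 := hle.trans (Nat.pow_le_pow_right hp.pos (by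
    interval_cases k <;> decide))
  change Nat.card (D ⧸ commutator D) ≤ p ^ 2
  by_cases hc : commutator D = ⊥
  · have hcomm : ∀ a b : D, a * b = b * a := fun a b => commutatorElement_eq_one_iff_commute.1
      (mem_bot.1 (hc ▸ commutator_mem_commutator (mem_top a) (mem_top b)))
    calc Nat.card (D ⧸ commutator D) ≤ Nat.card D := Nat.card_le_card_of_surjective _ (QuotientGroup.mk_surjective)
      _ = Nat.card (⊤ : Subgroup D) := (card_top).symm
      _ ≤ p ^ 2 := hr ⊤ (CfsgLib.Base.isMulCommutative_subgroup_iff.2 fun a _ b _ => hcomm a b)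
        (fun a _ => hexp a)
  · have h1 := CfsgLib.PGroups.dvd_card_of_ne_bot hD hc
    have h2 := (commutator D).card_mul_index
    have h3 : p * (commutator D).index ≤ p * p ^ 2 := by
      calc p * (commutator D).index ≤ Nat.card (commutator D) * (commutator D).index :=
            Nat.mul_le_mul_right _ (Nat.le_of_dvd Nat.card_pos h1)
        _ ≤ p * p ^ 2 := by rw [h2, ← pow_succ']; exact hcard
    exact Nat.le_of_mul_le_mul_left h3 hp.pos

theorem exists_gl2_of_action_aux {p : ℕ} [Fact p.Prime] {H W : Type*} [Group H] [CommGroup W]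
    [Finite W] [Module (ZMod p) (Additive W)] (hW : Nat.card W = p ^ 2) (α : H →* MulAut W) :
    ∃ φ : H →* Matrix (Fin 2) (Fin 2) (ZMod p), ∀ h, φ h = 1 → α h = 1 := by
  have : Module.Finite (ZMod p) (Additive W) := Module.Finite.of_finite
  have hrank : Module.finrank (ZMod p) (Additive W) = 2 := by
    have h := Module.natCard_eq_pow_finrank (K := ZMod p) (V := Additive W)
    rw [Nat.card_congr (Additive.toMul : Additive W ≃ W), hW, Nat.card_zmod] at h
    exact (Nat.pow_right_injective (Fact.out : p.Prime).two_le h).symm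
  let b := Module.finBasisOfFinrankEq (ZMod p) (Additive W) hrank
  refine ⟨(LinearMap.toMatrixAlgEquiv b).toMonoidHom.comp (zmodRep p α), fun h hh => ?_⟩
  have h1 : zmodRep p α h = 1 := (LinearMap.toMatrixAlgEquiv b).injective
    (hh.trans (map_one (LinearMap.toMatrixAlgEquiv b)).symm)
  refine MulEquiv.ext fun v => ?_
  exact congrArg Additive.toMul (LinearMap.congr_fun h1 (Additive.ofMul v))

/-- An action on an abelian group of exponent `p` and order at most `p²`, in matrices. -/
theorem exists_gl2_of_action {p : ℕ} [Fact p.Prime] {H V : Type*} [Group H] [CommGroup V]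
    [Finite V] (hV : ∀ v : V, v ^ p = 1) (hcard : Nat.card V ≤ p ^ 2) (α : H →* MulAut V) :
    ∃ φ : H →* Matrix (Fin 2) (Fin 2) (ZMod p), ∀ h, φ h = 1 → α h = 1 := by
  have hp : p.Prime := Fact.out
  obtain ⟨m, hm⟩ := IsPGroup.iff_card.mp (show IsPGroup p V from fun v => ⟨1, by rw [pow_one, hV]⟩)
  have hm2 : m ≤ 2 := (Nat.pow_le_pow_iff_right hp.one_lt).1 (hm ▸ hcard)
  let U := Multiplicative (Fin (2 - m) → ZMod p)
  have hU : ∀ u : U, u ^ p = 1 := fun u => by
    apply Multiplicative.toAdd.injective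
    funext i
    rw [toAdd_pow, Pi.smul_apply, nsmul_eq_mul, CharP.cast_eq_zero, zero_mul]
    rfl
  have hW : Nat.card (V × U) = p ^ 2 := by
    rw [Nat.card_prod, hm, Nat.card_congr (Multiplicative.toAdd (α := Fin (2 - m) → ZMod p)),
      Nat.card_fun, Nat.card_zmod, Nat.card_fin, ← pow_add, Nat.add_sub_cancel' hm2]
  let β : H →* MulAut (V × U) :=
    { toFun := fun h => MulEquiv.prodCongr (α h) (MulEquiv.refl U)
      map_one' := by rw [map_one]; rfl
      map_mul' := fun g h => by rw [map_mul]; rfl }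
  obtain ⟨φ, hφ⟩ := @exists_gl2_of_action_aux p _ H (V × U) _ _ _
    (AddCommGroup.zmodModule fun v => Additive.toMul.injective (Prod.ext (hV v.toMul.1) (hU v.toMul.2)))
    hW β
  refine ⟨φ, fun h hh => MulEquiv.ext fun v => ?_⟩
  exact congrArg Prod.fst (DFunLike.congr_fun (hφ h hh) (v, 1))

/-- A group normalizing a `p`-group of rank at most two maps to `2 × 2` matrices over `ZMod p`;
the `p'`-elements of the kernel centralize the `p`-group. -/
theorem exists_gl2_rep {G : Type*} [Group G] [Finite G] {p : ℕ} [Fact p.Prime] (hp : p ≠ 2)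
    {R A : Subgroup G} (hR : IsPGroup p R) (hr : Cfsg.PRankLE p 2 R)
    (hA : A ≤ normalizer (R : Set G)) :
    ∃ φ : A →* Matrix (Fin 2) (Fin 2) (ZMod p),
      ∀ a : A, φ a = 1 → (orderOf a).Coprime p → (a : G) ∈ centralizer (R : Set G) := by
  obtain ⟨D, hDR, hexp, hcl, hND, hdet⟩ := exists_detecting hp R hR
  have hexp' : ∀ x : D, x ^ p = 1 := fun x => Subtype.ext (hexp x x.2)
  have hrD : Cfsg.PRankLE p 2 D :=
    CfsgLib.Base.pRankLE_of_injective (inclusion hDR) (inclusion_injective hDR) hr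
  have hAD : A ≤ normalizer (D : Set G) := hA.trans hND
  let α₀ : A →* MulAut D := D.normalizerMonoidHom.comp (inclusion hAD)
  let α : A →* MulAut (Abelianization D) :=
    { toFun := fun a => (α₀ a).abelianizationCongr
      map_one' := by
        refine MulEquiv.ext fun v => ?_
        induction v using QuotientGroup.induction_on with | _ x => ?_
        rw [map_one]; rfl
      map_mul' := fun a b => by
        refine MulEquiv.ext fun v => ?_
        induction v using QuotientGroup.induction_on with | _ x => ?_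
        rw [map_mul]; rfl }
  obtain ⟨φ, hφ⟩ := exists_gl2_of_action (V := Abelianization D) (fun v => by
    induction v using QuotientGroup.induction_on with | _ x => ?_
    exact (map_pow Abelianization.of x p).symm.trans (by rw [hexp' x, map_one]))
    (card_abelianization_le hexp' hrD) α
  refine ⟨φ, fun a ha hcop => hdet a (hA a.2) (by rwa [orderOf_coe]) ?_⟩
  -- `a` is trivial on `D / D'`
  have hDp : IsPGroup p D := hR.to_le hDR
  have hα := hφ a ha
  have key : ∀ d : D, α₀ a d * d⁻¹ ∈ commutator D := fun d => by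
    rw [← div_eq_mul_inv, ← QuotientGroup.eq_iff_div_mem]
    exact DFunLike.congr_fun hα (Abelianization.of d)
  obtain ⟨k, hk⟩ := IsPGroup.iff_card.mp (hDp.to_subgroup (frattini D))
  refine CfsgLib.Coprime.le_centralizer_of_trivial_mod_frattini (A := zpowers (a : G))
    (zpowers_le.2 (hAD a.2)) ?_ ?_ (mem_zpowers _)
  · rw [Nat.card_zpowers, orderOf_coe, hk]
    exact hcop.pow_right k
  · intro b hb d hd
    obtain ⟨j, rfl⟩ := mem_zpowers_iff.1 hb
    have hαj : α (a ^ j) = 1 := by rw [map_zpow, hα, one_zpow]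
    have : α₀ (a ^ j) ⟨d, hd⟩ * (⟨d, hd⟩ : D)⁻¹ ∈ commutator D := by
      rw [← div_eq_mul_inv, ← QuotientGroup.eq_iff_div_mem]
      exact DFunLike.congr_fun hαj (Abelianization.of (⟨d, hd⟩ : D))
    exact ⟨_, CfsgLib.PGroups.commutator_le_frattini hDp this, by
      show ((α₀ (a ^ j) ⟨d, hd⟩ : D) : G) * d⁻¹ = _
      simp only [α₀, MonoidHom.comp_apply]
      rfl⟩

/-- If moreover the action is faithful and `A` is solvable of odd order, `A'` is a `p`-group. -/
theorem isPGroup_commutator {G : Type*} [Group G] [Finite G] {p : ℕ} [Fact p.Prime] (hp : p ≠ 2)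
    {R A : Subgroup G} (hR : IsPGroup p R) (hr : Cfsg.PRankLE p 2 R)
    (hA : A ≤ normalizer (R : Set G)) [Group.IsSolvable A] (hodd : Odd (Nat.card A))
    (hf : ∀ a ∈ A, (orderOf a).Coprime p → a ∈ centralizer (R : Set G) → a = 1) :
    IsPGroup p (commutator A) := by
  obtain ⟨φ, hφ⟩ := exists_gl2_rep hp hR hr hA
  have hker : ∀ a : A, φ a = 1 → ∃ k, a ^ p ^ k = 1 := by
    intro a ha
    obtain ⟨k, m, hm, hk⟩ := Nat.exists_eq_pow_mul_and_not_dvd (orderOf_pos a).ne' p
      (Fact.out : p.Prime).ne_one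
    refine ⟨k, Subtype.ext ?_⟩
    have hcop : (orderOf (a ^ p ^ k)).Coprime p := by
      rw [orderOf_pow_of_dvd (pow_ne_zero _ (Fact.out : p.Prime).ne_zero) (hk ▸ dvd_mul_right _ _),
        hk, Nat.mul_div_cancel_left _ (pow_pos (Fact.out : p.Prime).pos k)]
      exact ((Fact.out : p.Prime).coprime_iff_not_dvd.2 hm).symm
    exact hf _ (a ^ p ^ k).2 (by rwa [orderOf_coe]) (hφ _ (by rw [map_pow, ha, one_pow]) hcop)
  intro c
  let ψ : A →* (Matrix (Fin 2) (Fin 2) (ZMod p))ˣ := φ.toHomUnits
  have hrodd : Odd (Nat.card ψ.range) := hodd.of_dvd_nat (card_range_dvd ψ)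
  have : Group.IsSolvable ψ.range := Group.isSolvable_of_surjective ψ.rangeRestrict_surjective
  have h1 := pow_eq_one_of_mem_commutator (p := p) (F := ZMod p) hp hrodd
    ((Units.coeHom _).comp ψ.range.subtype) (Units.val_injective.comp Subtype.val_injective)
    (c := ψ.rangeRestrict c.1) (by
      have h : (commutator A).map ψ.rangeRestrict ≤ commutator ψ.range := by
        rw [_root_.commutator_def, map_commutator]
        exact commutator_mono le_top le_top
      exact h (mem_map_of_mem _ c.2))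
  obtain ⟨k, hk⟩ := hker (c.1 ^ p) (congrArg (fun t : ψ.range => ((t : (Matrix (Fin 2) (Fin 2) (ZMod p))ˣ) :
    Matrix (Fin 2) (Fin 2) (ZMod p))) ((map_pow ψ.rangeRestrict c.1 p).trans h1))
  exact ⟨k + 1, Subtype.ext (by rw [pow_succ', pow_mul]; exact hk)⟩

/-- The order of a prime order `p'`-automorphism of a `p`-group of rank at most two. -/
theorem prime_dvd_and_lt {G : Type*} [Group G] [Finite G] {p : ℕ} [Fact p.Prime] (hp : p ≠ 2)
    {R : Subgroup G} (hR : IsPGroup p R) (hr : Cfsg.PRankLE p 2 R) {a : G} {q : ℕ} (hq : q.Prime)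
    (hqp : q ≠ p) (ha : orderOf a = q) (haN : a ∈ normalizer (R : Set G))
    (hne : a ∉ centralizer (R : Set G)) : q ∣ p ^ 2 - 1 ∧ q < p := by
  have hpp : p.Prime := Fact.out
  obtain ⟨φ, hφ⟩ := exists_gl2_rep hp hR hr (zpowers_le.2 haN)
  set a' : zpowers a := ⟨a, mem_zpowers a⟩ with ha'
  have hord : orderOf a' = q := by rw [← orderOf_coe]; exact ha
  have hcop : q.Coprime p := (Nat.coprime_primes hq hpp).2 hqp
  set u : GL (Fin 2) (ZMod p) := φ.toHomUnits a' with hu
  have hu1 : u ≠ 1 := fun h => hne (hφ a' (congrArg Units.val h) (by rw [hord]; exact hcop))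
  have huq : orderOf u = q :=
    ((Nat.dvd_prime hq).1 (hord ▸ orderOf_map_dvd _ a')).resolve_left
      fun h => hu1 (orderOf_eq_one_iff.1 h)
  have hdvd : q ∣ (p ^ 2 - p ^ 0) * (p ^ 2 - p ^ 1) := by
    have := orderOf_dvd_natCard u
    rw [huq, Matrix.card_GL_field, ← Nat.card_eq_fintype_card, Nat.card_zmod, Fin.prod_univ_two]
      at this
    exact this
  have h1 : q ∣ (p - 1) ∨ q ∣ (p + 1) := by
    have e1 : p ^ 2 - p ^ 0 = (p + 1) * (p - 1) := by simpa using Nat.sq_sub_sq p 1
    have e2 : p ^ 2 - p ^ 1 = p * (p - 1) := by rw [pow_two, pow_one, Nat.mul_sub, mul_one]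
    rw [e1, e2] at hdvd
    rcases hq.dvd_mul.1 hdvd with h | h <;> rcases hq.dvd_mul.1 h with h | h
    · exact Or.inr h
    · exact Or.inl h
    · exact absurd ((Nat.prime_dvd_prime_iff_eq hq hpp).1 h) hqp
    · exact Or.inl h
  refine ⟨?_, ?_⟩
  · rw [show p ^ 2 - 1 = (p + 1) * (p - 1) by simpa using Nat.sq_sub_sq p 1]
    rcases h1 with h | h
    · exact dvd_mul_of_dvd_right h _
    · exact dvd_mul_of_dvd_left h _
  · have h2 := hpp.two_le
    rcases h1 with h | h
    · exact (Nat.le_of_dvd (by omega) h).trans_lt (by omega)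
    · by_cases hq2 : q = 2
      · omega
      · obtain ⟨c, hc⟩ := h
        rcases hpp.odd_of_ne_two hp with ⟨m, hm⟩
        rcases hq.odd_of_ne_two hq2 with ⟨l, hl⟩
        have hc2 : 2 ≤ c := by
          rcases c with _ | _ | c
          · omega
          · omega
          · omega
        have : q * 2 ≤ q * c := Nat.mul_le_mul_left q hc2
        omega

end CfsgLib.OddOrder
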