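import Cfsg.Agent.Lib.OddOrder.RankTwoPowers
import Cfsg.Agent.Lib.OddOrder.RankTwoStructure
import Cfsg.Agent.Lib.OddOrder.SmallRank

/-!
`p`-groups of rank at most two with an operator group of odd coprime order and `[R, A] = R`
(Bender–Glauberman, Proposition 4.19).
-/

set_option autoImplicit false
set_option linter.unusedSectionVars false

open scoped commutatorElement

namespace CfsgLib.OddOrder

open Cfsg
open Subgroup

/-- The data of a rank two `p`-group with extraspecial `E = Ω₁`. -/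
structure OmegaExtra (p : ℕ) (R : Type*) [Group R] (E U : Subgroup R) : Prop where
  le : 5 ≤ p
  isPGroup : IsPGroup p R
  mem_E : ∀ x, x ∈ E ↔ x ^ p = 1
  card_E : Nat.card E = p ^ 3
  U_le : U ≤ E
  U_normal : U.Normal
  U_elem : IsElementaryAbelian p U
  card_U : Nat.card U = p ^ 2
  index_C : (centralizer (U : Set R)).index = p
  omega_C : ∀ z : R, z ∈ centralizer (U : Set R) → z ^ p = 1 → z ∈ U

namespace OmegaExtra

variable {R : Type*} [Group R] [Finite R] {p : ℕ} [Fact p.Prime] {E U : Subgroup R}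
  (h : OmegaExtra p R E U)

include h

theorem E_normal : E.Normal := ⟨fun x hx g => (h.mem_E _).2 (by
  rw [conj_pow, (h.mem_E x).1 hx, mul_one, mul_inv_cancel])⟩

theorem C_normal : (centralizer (U : Set R)).Normal :=
  have := h.U_normal
  inferInstance

theorem exists_not_mem_C : ∃ d ∈ E, d ∉ centralizer (U : Set R) := by
  by_contra! hall
  have hle : E ≤ U := fun x hx => h.omega_C x (hall x hx) ((h.mem_E x).1 hx)
  have := card_le_of_le hle
  rw [h.card_E, h.card_U] at this
  exact absurd this (not_le.2 (Nat.pow_lt_pow_right (Fact.out : p.Prime).one_lt (by norm_num)))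

theorem sup_eq {d : R} (hd : d ∉ centralizer (U : Set R)) :
    centralizer (U : Set R) ⊔ zpowers d = ⊤ := by
  have hlt : centralizer (U : Set R) < centralizer (U : Set R) ⊔ zpowers d :=
    left_lt_sup.2 fun h' => hd (h' (mem_zpowers d))
  refine index_eq_one.1 (((Nat.dvd_prime (Fact.out : p.Prime)).1
    (h.index_C ▸ index_dvd_of_le hlt.le)).resolve_right fun h1 => ?_)
  refine (CfsgLib.PLocal.card_lt_of_lt hlt).ne ?_
  have e1 := (centralizer (U : Set R)).card_mul_index
  have e2 := (centralizer (U : Set R) ⊔ zpowers d).card_mul_index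
  rw [h.index_C] at e1
  rw [h1] at e2
  exact Nat.eq_of_mul_eq_mul_right (Fact.out : p.Prime).pos (e1.trans e2.symm)

theorem E_eq {d : R} (hdE : d ∈ E) (hd : d ∉ centralizer (U : Set R)) : U ⊔ zpowers d = E := by
  refine eq_of_le_of_card_ge (sup_le h.U_le (zpowers_le.2 hdE)) ?_
  have hlt : U < U ⊔ zpowers d := left_lt_sup.2 fun h' =>
    hd (le_centralizer_iff_isMulCommutative.2 h.U_elem.1 (h' (mem_zpowers d)))
  obtain ⟨i, hi⟩ := IsPGroup.iff_card.mp (h.isPGroup.to_subgroup (U ⊔ zpowers d))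
  have h1 := CfsgLib.PLocal.card_lt_of_lt hlt
  rw [hi, h.card_U, Nat.pow_lt_pow_iff_right (Fact.out : p.Prime).one_lt] at h1
  rw [h.card_E, hi]
  exact Nat.pow_le_pow_right (Fact.out : p.Prime).pos (by omega)

theorem line : Nat.card ↥(U ⊓ center R) = p := by
  have hpp : p.Prime := Fact.out
  have hne : ¬ U ≤ center R := fun hle => by
    obtain ⟨d, -, hd⟩ := h.exists_not_mem_C
    exact hd (mem_centralizer_iff.2 fun v hv => (mem_center_iff.1 (hle hv) d).symm)
  obtain ⟨i, hi⟩ := IsPGroup.iff_card.mp (h.isPGroup.to_subgroup (U ⊓ center R))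
  have := h.U_normal
  have hi0 : i ≠ 0 := fun h0 => CfsgLib.PGroups.inf_center_ne_bot h.isPGroup (N := U)
    (fun hb => by
      have := h.card_U
      rw [hb, card_bot] at this
      exact (Nat.one_lt_pow two_ne_zero hpp.one_lt).ne this)
    (card_eq_one.1 (by rw [hi, h0, pow_zero]))
  have h2 := CfsgLib.PLocal.card_lt_of_lt
    (lt_of_le_of_ne inf_le_left fun h => hne (inf_eq_left.1 h) : U ⊓ center R < U)
  rw [hi, h.card_U, Nat.pow_lt_pow_iff_right hpp.one_lt] at h2
  rw [hi, show i = 1 by omega, pow_one]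

theorem comm_mem_line (g : R) {u : R} (hu : u ∈ U) : ⁅g, u⁆ ∈ U ⊓ center R :=
  have := h.U_normal
  commutator_mem_line h.U_elem h.card_U inf_le_left h.line (normalizer_eq_top U ▸ mem_top g)
    (h.isPGroup.to_subgroup _)
    (mem_centralizer_iff.2 fun _ hv => (mem_center_iff.1 hv.2 g).symm) hu

theorem comm_mem_line' (g : R) {u : R} (hu : u ∈ U) : ⁅u, g⁆ ∈ U ⊓ center R := by
  rw [← commutatorElement_inv]; exact inv_mem (h.comm_mem_line g hu)

theorem E_inf_center : E ⊓ center R = U ⊓ center R :=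
  le_antisymm (fun x hx => ⟨h.omega_C x (mem_centralizer_iff.2 fun _ _ => mem_center_iff.1 hx.2 _)
    ((h.mem_E x).1 hx.1), hx.2⟩) (inf_le_inf_right _ h.U_le)

theorem fix_line {d u : R} (hd : d ∉ centralizer (U : Set R)) (hu : u ∈ U) (hud : u * d = d * u) :
    u ∈ center R := by
  refine mem_center_iff.2 fun v => ?_
  have hle : centralizer (U : Set R) ⊔ zpowers d ≤ centralizer ({u} : Set R) :=
    sup_le (centralizer_le (Set.singleton_subset_iff.2 hu))
      (zpowers_le.2 (mem_centralizer_singleton_iff.2 hud.symm))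
  exact mem_centralizer_singleton_iff.1 (hle ((h.sup_eq hd).ge (mem_top v)))

theorem comm_mem_U {c d : R} (hc : c ∈ centralizer (U : Set R)) (hd : d ∈ E) : ⁅c, d⁆ ∈ U := by
  refine h.omega_C _ ?_ ?_
  · rw [commutatorElement_def, show c * d * c⁻¹ * d⁻¹ = c * (d * c⁻¹ * d⁻¹) by group]
    exact mul_mem hc (h.C_normal.conj_mem _ (inv_mem hc) d)
  · rw [← h.mem_E, commutatorElement_def]
    exact E.mul_mem (h.E_normal.conj_mem _ hd c) (E.inv_mem hd)

/-- The map `c ↦ [c, d]` on the centralizer of `U`. -/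
theorem comm_mul {c c' d : R} (hc : c ∈ centralizer (U : Set R))
    (hc' : c' ∈ centralizer (U : Set R)) (hd : d ∈ E) : ⁅c * c', d⁆ = ⁅c, d⁆ * ⁅c', d⁆ := by
  have h1 := h.comm_mem_U hc hd
  have h2 := h.comm_mem_U hc' hd
  calc ⁅c * c', d⁆ = c * ⁅c', d⁆ * c⁻¹ * ⁅c, d⁆ := by simp only [commutatorElement_def]; group
    _ = ⁅c', d⁆ * ⁅c, d⁆ := by rw [← mem_centralizer_iff.1 hc _ h2, mul_inv_cancel_right]
    _ = _ := (CfsgLib.Base.isElementaryAbelian_iff.1 h.U_elem).1 _ h2 _ h1

/-- A cyclic group: the centralizer of `E`. -/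
theorem centralizer_E_le : centralizer (E : Set R) ≤ centralizer (U : Set R) :=
  centralizer_le h.U_le

theorem C2_cyclic : IsCyclic ↥(centralizer (E : Set R)) := by
  obtain ⟨d, hdE, hd⟩ := h.exists_not_mem_C
  refine isCyclic_of_omega_le (W := U ⊓ center R) (by have := h.le; omega) (h.isPGroup.to_subgroup _)
    h.line fun x hx hxp => ?_
  have hxU := h.omega_C x (h.centralizer_E_le hx) hxp
  exact ⟨hxU, h.fix_line hd hxU (mem_centralizer_iff.1 hx d hdE).symm⟩

theorem mem_M {c d : R} (hdE : d ∈ E) (hd : d ∉ centralizer (U : Set R))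
    (hc : c ∈ centralizer (U : Set R)) (hz : ⁅c, d⁆ ∈ center R) :
    c ∈ U ⊔ centralizer (E : Set R) := by
  obtain ⟨hUc, hUp⟩ := CfsgLib.Base.isElementaryAbelian_iff.1 h.U_elem
  let κ : U →* ↥(U ⊓ center R) :=
    MonoidHom.mk' (fun u => ⟨⁅(u : R), d⁆, h.comm_mem_line' d u.2⟩) fun a b => Subtype.ext
      (h.comm_mul (le_centralizer_iff_isMulCommutative.2 h.U_elem.1 a.2)
        (le_centralizer_iff_isMulCommutative.2 h.U_elem.1 b.2) hdE)
  have hsurj : κ.range = ⊤ := by
    refine ((Nat.dvd_prime (Fact.out : p.Prime)).1 (h.line ▸ card_subgroup_dvd_card κ.range)).elim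
      (fun h1 => absurd (card_eq_one.1 h1) fun h0 => hd ?_)
      fun h1 => (card_eq_iff_eq_top _).1 (h1.trans h.line.symm)
    refine mem_centralizer_iff.2 fun u hu => commutatorElement_eq_one_iff_mul_comm.1 ?_
    have : κ ⟨u, hu⟩ ∈ (⊥ : Subgroup ↥(U ⊓ center R)) := h0 ▸ ⟨_, rfl⟩
    exact congrArg Subtype.val (mem_bot.1 this)
  obtain ⟨u, hu⟩ := hsurj.ge (mem_top (⟨⁅c, d⁆, h.comm_mem_U hc hdE, hz⟩ : ↥(U ⊓ center R)))
  have hue : ⁅(u : R), d⁆ = ⁅c, d⁆ := congrArg Subtype.val hu
  have huC := le_centralizer_iff_isMulCommutative.2 h.U_elem.1 u.2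
  have hdec : c = u * ((u : R)⁻¹ * c) := by group
  rw [hdec]
  refine mul_mem (mem_sup_left u.2) (mem_sup_right ?_)
  rw [← h.E_eq hdE hd, ← zpowers_le, le_centralizer_iff]
  refine sup_le (le_centralizer_iff.1 (zpowers_le.2 (mul_mem (inv_mem huC) hc))) (zpowers_le.2 ?_)
  rw [zpowers_eq_closure, centralizer_closure, mem_centralizer_singleton_iff]
  refine (commutatorElement_eq_one_iff_mul_comm.1 ?_).symm
  rw [h.comm_mul (inv_mem huC) hc hdE, ← hue, ← h.comm_mul (inv_mem huC) huC hdE, inv_mul_cancel]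
  exact commutatorElement_one_left d

theorem comm_eq_of_mem_M {μ d : R} (hμ : μ ∈ U ⊔ centralizer (E : Set R)) (hd : d ∈ E) :
    ⁅μ, d⁆ ∈ U ⊓ center R := by
  rw [mem_sup_of_normal_left (hs := h.U_normal)] at hμ
  obtain ⟨u, hu, v, hv, rfl⟩ := hμ
  rw [h.comm_mul (le_centralizer_iff_isMulCommutative.2 h.U_elem.1 hu) (h.centralizer_E_le hv) hd,
    commutatorElement_eq_one_iff_mul_comm.2 (mem_centralizer_iff.1 hv d hd).symm, mul_one]
  exact h.comm_mem_line' d hu

end OmegaExtra

theorem dvd_sub_of_zpow_eq {R : Type*} [Group R] {x : R} {p : ℕ} (hx : p ∣ orderOf x) {a b : ℤ}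
    (h : x ^ a = x ^ b) : ((a : ZMod p)) = b := by
  rw [ZMod.intCast_eq_intCast_iff]
  exact ((zpow_eq_zpow_iff_modEq).1 h).of_dvd (Int.natCast_dvd_natCast.2 hx)

theorem pow_mul_mem {R : Type*} [Group R] (W : Subgroup R) [W.Normal] {a b : R} (hb : b ∈ W)
    (n : ℕ) : (a ^ n)⁻¹ * (a * b) ^ n ∈ W := by
  rw [← QuotientGroup.eq_one_iff]
  show QuotientGroup.mk' W _ = 1
  rw [map_mul, map_inv, map_pow, map_pow, map_mul,
    show QuotientGroup.mk' W b = 1 from (QuotientGroup.eq_one_iff b).2 hb, mul_one, inv_mul_cancel]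

namespace OmegaExtra

variable {R : Type*} [Group R] [Finite R] {p : ℕ} [Fact p.Prime] {E U : Subgroup R}
  (h : OmegaExtra p R E U)

include h

theorem alpha_E (α : MulAut R) {x : R} (hx : x ∈ E) : α x ∈ E := by
  rw [h.mem_E, ← map_pow, (h.mem_E x).1 hx, map_one]

theorem alpha_center (α : MulAut R) {x : R} (hx : x ∈ center R) : α x ∈ center R :=
  characteristic_iff_le_comap.1 inferInstance α hx

/-- If `R` is not a central product, `U` is characteristic. -/
theorem alpha_U {g d : R} (hdE : d ∈ E) (hd : d ∉ centralizer (U : Set R))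
    (hgd : ⁅g, d⁆ ∉ center R) (α : MulAut R) {u : R}
    (hu : u ∈ U) : α u ∈ U := by
  have hpp : p.Prime := Fact.out
  set U' := U.map α.toMonoidHom with hU'
  have hU'n : U'.Normal := h.U_normal.map _ α.surjective
  have hU'e : IsElementaryAbelian p U' := CfsgLib.Base.isElementaryAbelian_map _ h.U_elem
  have hU'2 : Nat.card U' = p ^ 2 := (card_map_of_injective α.injective).trans h.card_U
  have hU'E : U' ≤ E := by
    rintro _ ⟨v, hv, rfl⟩
    exact h.alpha_E α (h.U_le hv)
  by_contra hαu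
  obtain ⟨d', hd', hd'U⟩ : ∃ d' ∈ U', d' ∉ U := ⟨_, mem_map_of_mem _ hu, hαu⟩
  have hd'C : d' ∉ centralizer (U : Set R) := fun hc =>
    hd'U (h.omega_C _ hc ((h.mem_E _).1 (hU'E hd')))
  have hlineU' : U ⊓ center R ≤ U' := by
    intro z hz
    refine ⟨α.symm z, h.omega_C _ (mem_centralizer_iff.2 fun v _ =>
      mem_center_iff.1 (h.alpha_center α.symm hz.2) v) ?_, α.apply_symm_apply z⟩
    rw [← map_pow, (h.mem_E z).1 (h.U_le hz.1), map_one]
  have h1 : ⁅g, d'⁆ ∈ U' ⊓ center R := by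
    have hline' : Nat.card ↥(U' ⊓ center R) = p := by
      refine le_antisymm ?_ ?_
      · refine le_trans (card_le_of_le fun z hz => ?_) h.line.le
        exact h.E_inf_center.le ⟨hU'E hz.1, hz.2⟩
      · exact h.line.ge.trans (card_le_of_le fun z hz => ⟨hlineU' hz, hz.2⟩)
    exact commutator_mem_line hU'e hU'2 inf_le_left hline' (normalizer_eq_top U' ▸ mem_top g)
      (h.isPGroup.to_subgroup _)
      (mem_centralizer_iff.2 fun v hv => (mem_center_iff.1 hv.2 g).symm) hd'
  have h2 : d ∈ U ⊔ zpowers d' := (h.E_eq (hU'E hd') hd'C).ge hdE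
  rw [mem_sup_of_normal_left (hs := h.U_normal)] at h2
  obtain ⟨v, hv, w, hw, rfl⟩ := h2
  obtain ⟨i, rfl⟩ := mem_zpowers_iff.1 hw
  have hcomm : ∀ a b : R, ⁅g, a⁆ ∈ center R → ⁅g, b⁆ ∈ center R → ⁅g, a * b⁆ ∈ center R := by
    intro a b ha hb
    rw [show ⁅g, a * b⁆ = ⁅g, a⁆ * (a * ⁅g, b⁆ * a⁻¹) by simp only [commutatorElement_def]; group]
    exact mul_mem ha ((inferInstance : (center R).Normal).conj_mem _ hb a)
  let S : Subgroup R :=
    { carrier := {a | ⁅g, a⁆ ∈ center R}
      one_mem' := by simp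
      mul_mem' := fun {a b} ha hb => hcomm a b ha hb
      inv_mem' := fun {a} ha => by
        show ⁅g, a⁻¹⁆ ∈ center R
        rw [show ⁅g, a⁻¹⁆ = a⁻¹ * ⁅g, a⁆⁻¹ * a⁻¹⁻¹ by simp only [commutatorElement_def]; group]
        exact (inferInstance : (center R).Normal).conj_mem _ (inv_mem ha) a⁻¹ }
  exact hgd (S.mul_mem (show v ∈ S from (h.comm_mem_line g hv).2)
    (S.zpow_mem (show d' ∈ S from h1.2) i))

/-- In that case every automorphism of odd order fixes `E / U`. -/
theorem trivial_on_quotient {g d : R} (hdE : d ∈ E) (hd : d ∉ centralizer (U : Set R))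
    (hg : g ∈ centralizer (U : Set R)) (hgd : ⁅g, d⁆ ∉ center R) (α : MulAut R) {N : ℕ}
    (hN : Odd N) (hαN : α ^ N = 1) : d⁻¹ * α d ∈ U := by
  classical
  have hpp : p.Prime := Fact.out
  obtain ⟨hUc, hUp⟩ := CfsgLib.Base.isElementaryAbelian_iff.1 h.U_elem
  have hUn := h.U_normal
  have hEn := h.E_normal
  set C := centralizer (U : Set R) with hC
  set C2 := centralizer (E : Set R) with hC2
  set M := U ⊔ C2 with hM
  have hUC : U ≤ C := le_centralizer_iff_isMulCommutative.2 h.U_elem.1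
  have hMC : M ≤ C := sup_le hUC h.centralizer_E_le
  have hαU : ∀ (β : MulAut R) {u : R}, u ∈ U → β u ∈ U := fun β _ hu =>
    h.alpha_U hdE hd hgd β hu
  have hαC : ∀ (β : MulAut R) {x : R}, x ∈ C → β x ∈ C := by
    intro β x hx
    refine mem_centralizer_iff.2 fun v hv => β.symm.injective ?_
    rw [map_mul, map_mul, β.symm_apply_apply]
    exact mem_centralizer_iff.1 hx _ (hαU β.symm hv)
  have hαC2 : ∀ (β : MulAut R) {x : R}, x ∈ C2 → β x ∈ C2 := by
    intro β x hx
    refine mem_centralizer_iff.2 fun v hv => β.symm.injective ?_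
    rw [map_mul, map_mul, β.symm_apply_apply]
    exact mem_centralizer_iff.1 hx _ (h.alpha_E β.symm hv)
  set l := ⁅g, d⁆ with hl
  have hlU : l ∈ U := h.comm_mem_U hg hdE
  have hldC : l * d ≠ d * l := fun e => hgd (h.fix_line hd hlU e)
  have hl1 : l ≠ 1 := fun e => hldC (by rw [e, one_mul, mul_one])
  have hlo : orderOf l = p := orderOf_eq_prime (hUp l hlU) hl1
  set z0 := ⁅l, d⁆ with hz0
  have hz0U : z0 ∈ U ⊓ center R := h.comm_mem_line' d hlU
  have hz0o : orderOf z0 = p := orderOf_eq_prime (hUp _ hz0U.1)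
    fun e => hldC (commutatorElement_eq_one_iff_mul_comm.1 e)
  have hUgen : ∀ u ∈ U, ∃ (j : ℤ) (z : R), z ∈ U ⊓ center R ∧ u = l ^ j * z := by
    intro u hu
    have hlt : U ⊓ center R < U ⊓ center R ⊔ zpowers l :=
      left_lt_sup.2 fun e => hgd (e (mem_zpowers l)).2
    have heq : U ⊓ center R ⊔ zpowers l = U := by
      refine eq_of_le_of_card_ge (sup_le inf_le_left (zpowers_le.2 hlU)) ?_
      obtain ⟨i, hi⟩ := IsPGroup.iff_card.mp (h.isPGroup.to_subgroup (U ⊓ center R ⊔ zpowers l))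
      have h1 := CfsgLib.PLocal.card_lt_of_lt hlt
      rw [hi, h.line] at h1
      nth_rw 1 [← pow_one p] at h1
      rw [Nat.pow_lt_pow_iff_right hpp.one_lt] at h1
      rw [h.card_U, hi]
      exact Nat.pow_le_pow_right hpp.pos (by omega)
    rw [← heq, mem_sup_of_normal_left (hs := normal_of_mem_center inf_le_right)] at hu
    obtain ⟨z, hz, w, hw, rfl⟩ := hu
    obtain ⟨j, rfl⟩ := mem_zpowers_iff.1 hw
    exact ⟨j, z, hz, (mem_center_iff.1 hz.2 _).symm⟩
  -- exponents of `α` on `E / U` and `C / M`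
  obtain ⟨u₀, hu₀, w, hw, hαd⟩ := (mem_sup_of_normal_left (hs := hUn)).1
    ((h.E_eq hdE hd).ge (h.alpha_E α hdE))
  obtain ⟨m, rfl⟩ := mem_zpowers_iff.1 hw
  have hkey : ∀ c ∈ C, ∀ u ∈ U, ⁅c, u * d ^ m⁆ * (⁅c, d⁆ ^ m)⁻¹ ∈ center R := by
    intro c hc u hu
    have e1 : ⁅c, u * d ^ m⁆ = u * ⁅c, d ^ m⁆ * u⁻¹ := by
      have e0 : c * u = u * c := (mem_centralizer_iff.1 hc u hu).symm
      rw [commutatorElement_def, commutatorElement_def]
      calc c * (u * d ^ m) * c⁻¹ * (u * d ^ m)⁻¹ = (c * u) * d ^ m * c⁻¹ * (d ^ m)⁻¹ * u⁻¹ := by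
            group
        _ = _ := by rw [e0]; group
    rw [e1, hUc u hu _ (h.comm_mem_U hc (E.zpow_mem hdE m)), mul_inv_cancel_right]
    let π := QuotientGroup.mk' (center R)
    rw [← QuotientGroup.eq_one_iff]
    show π _ = 1
    have e2 : Commute (π ⁅c, d⁆) (π d) := by
      refine commutatorElement_eq_one_iff_mul_comm.1 ?_
      rw [← map_commutatorElement]
      exact (QuotientGroup.eq_one_iff _).2 (h.comm_mem_line' d (h.comm_mem_U hc hdE)).2
    have e3 : π c * π d * (π c)⁻¹ = π ⁅c, d⁆ * π d := by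
      rw [map_commutatorElement]; simp only [commutatorElement_def]; group
    rw [map_mul, map_inv, map_zpow, map_commutatorElement, map_zpow, commutatorElement_def,
      ← conj_zpow, e3, e2.mul_zpow, mul_inv_cancel_right, mul_inv_cancel]
  obtain ⟨n, z1, hz1, hκ⟩ := hUgen _ (h.comm_mem_U (hαC α hg) hdE)
  set μ := (g ^ n)⁻¹ * α g with hμ
  have hκpow : ∀ i : ℤ, ⁅g ^ i, d⁆ = l ^ i := by
    intro i
    let φ : C →* R := MonoidHom.mk' (fun c => ⁅(c : R), d⁆) fun a b => h.comm_mul a.2 b.2 hdE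
    exact map_zpow φ ⟨g, hg⟩ i
  have hμM : μ ∈ M := by
    refine h.mem_M hdE hd (mul_mem (inv_mem (zpow_mem hg n)) (hαC α hg)) ?_
    rw [h.comm_mul (inv_mem (zpow_mem hg n)) (hαC α hg) hdE, ← zpow_neg, hκpow, hκ, zpow_neg,
      inv_mul_cancel_left]
    exact hz1.2
  have hαg : α g = g ^ n * μ := by rw [hμ, mul_inv_cancel_left]
  -- the action on `U`
  obtain ⟨z2, hz2, hαl⟩ : ∃ z2 ∈ U ⊓ center R, α l = l ^ (n * m) * z2 := by
    have e1 : α l = ⁅α g, u₀ * d ^ m⁆ := by rw [hl, map_commutatorElement, hαd]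
    have e2 := hkey (α g) (hαC α hg) u₀ hu₀
    rw [← e1, hκ, Commute.mul_zpow (mem_center_iff.1 hz1.2 _), mul_inv_rev, ← zpow_mul] at e2
    set w := α l * ((z1 ^ m)⁻¹ * (l ^ (n * m))⁻¹) with hwdef
    refine ⟨w * z1 ^ m, ⟨?_, mul_mem e2 ((center R).zpow_mem hz1.2 m)⟩, ?_⟩
    · exact U.mul_mem (U.mul_mem (hαU α hlU) (U.mul_mem (U.inv_mem (U.zpow_mem hz1.1 m))
        (U.inv_mem (U.zpow_mem hlU _)))) (U.zpow_mem hz1.1 m)
    · rw [mem_center_iff.1 (mul_mem e2 ((center R).zpow_mem hz1.2 m)) (l ^ (n * m)), hwdef,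
        ← mem_center_iff.1 (inv_mem ((center R).zpow_mem hz1.2 m)) (l ^ (n * m))⁻¹]
      group
  have hαz0 : α z0 = z0 ^ (n * m * m) := by
    have e3 : ⁅l, d ^ m⁆ = z0 ^ m := by
      have hc : Commute z0 d := (mem_center_iff.1 hz0U.2 d).symm
      have e : l * d * l⁻¹ = z0 * d := by rw [hz0]; simp only [commutatorElement_def]; group
      rw [commutatorElement_def, ← conj_zpow, e, hc.mul_zpow, mul_inv_cancel_right]
    have e4 : ⁅l ^ (n * m), d ^ m⁆ = z0 ^ (n * m * m) := by
      let φ : U →* R := MonoidHom.mk' (fun u => ⁅(u : R), d ^ m⁆) fun a b =>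
        h.comm_mul (hUC a.2) (hUC b.2) (E.zpow_mem hdE m)
      have := map_zpow φ ⟨l, hlU⟩ (n * m)
      refine (this.trans ?_)
      show ⁅l, d ^ m⁆ ^ (n * m) = _
      rw [e3, ← zpow_mul]; congr 1; ring
    rw [hz0, map_commutatorElement, hαl, ← hαd]
    have e5 : ∀ a b z : R, z ∈ center R → ⁅a * z, b⁆ = ⁅a, b⁆ := fun a b z hz => by
      simp only [commutatorElement_def]
      calc a * z * b * (a * z)⁻¹ * b⁻¹ = a * (z * b) * z⁻¹ * a⁻¹ * b⁻¹ := by group
        _ = _ := by rw [(mem_center_iff.1 hz b).symm]; group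
    rw [e5 _ _ _ hz2.2]
    rw [show ⁅l ^ (n * m), u₀ * d ^ m⁆ = u₀ * ⁅l ^ (n * m), d ^ m⁆ * u₀⁻¹ by
      have e0 : l ^ (n * m) * u₀ = u₀ * l ^ (n * m) := hUc _ (U.zpow_mem hlU _) _ hu₀
      rw [commutatorElement_def, commutatorElement_def]
      calc l ^ (n * m) * (u₀ * d ^ m) * (l ^ (n * m))⁻¹ * (u₀ * d ^ m)⁻¹ =
            (l ^ (n * m) * u₀) * d ^ m * (l ^ (n * m))⁻¹ * (d ^ m)⁻¹ * u₀⁻¹ := by group
        _ = _ := by rw [e0]; group, e4, mem_center_iff.1 ((center R).zpow_mem hz0U.2 _) u₀, mul_inv_cancel_right,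
      hz0]
  have hn0 : (n : ZMod p) ≠ 0 := by
    intro h0
    have h1 : z0 ^ (n * m * m) = 1 := by
      rw [← orderOf_dvd_iff_zpow_eq_one, hz0o, ← ZMod.intCast_zmod_eq_zero_iff_dvd]
      push_cast; rw [h0]; ring
    rw [← hαz0] at h1
    have := α.injective (h1.trans (map_one α).symm)
    rw [this, orderOf_one] at hz0o
    exact hpp.ne_one hz0o.symm
  -- `g ^ p`
  have hgp : g ^ p ∈ M := h.mem_M hdE hd (pow_mem hg p) (by
    rw [← zpow_natCast, hκpow, zpow_natCast, hUp l hlU]; exact one_mem _)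
  obtain ⟨u₁, hu₁, c₁, hc₁, hgpe⟩ := (mem_sup_of_normal_left (hs := hUn)).1 hgp
  obtain ⟨i, z3, hz3, hu₁e⟩ := hUgen u₁ hu₁
  obtain ⟨u₂, hu₂, c₂, hc₂, hμe⟩ := (mem_sup_of_normal_left (hs := hUn)).1 hμM
  have hgu : Commute (g ^ n) u₂ := ((show Commute g u₂ from
    (mem_centralizer_iff.1 hg u₂ hu₂).symm).zpow_left n)
  have hαgp : ∀ (W : Subgroup R) [W.Normal] (c : R), Commute (QuotientGroup.mk' W (g ^ n))
      (QuotientGroup.mk' W c) → c ^ p ∈ W → c₂ = c →
      QuotientGroup.mk' W (α (g ^ p)) = QuotientGroup.mk' W (g ^ p) ^ n := by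
    intro W _ c hc hcp hce
    rw [map_pow α, hαg, ← hμe, hce, ← mul_assoc, map_pow, map_mul,
      ((show Commute (QuotientGroup.mk' W (g ^ n * u₂)) (QuotientGroup.mk' W c) by
        rw [map_mul]
        refine hc.mul_left ?_
        exact ((show Commute u₂ c₂ from (mem_centralizer_iff.1 (h.centralizer_E_le hc₂) u₂ hu₂)).map
          (QuotientGroup.mk' W)) |> fun e => hce ▸ e)).mul_pow, ← map_pow, ← map_pow,
      hgu.mul_pow, hUp u₂ hu₂, mul_one,
      show QuotientGroup.mk' W (c ^ p) = 1 from (QuotientGroup.eq_one_iff _).2 hcp, mul_one,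
      ← zpow_natCast, ← zpow_mul, mul_comm, zpow_mul, zpow_natCast, map_zpow, map_pow]
  have hC2n : C2.Normal := inferInstance
  have hm2 : (m : ZMod p) ^ 2 = 1 := by
    by_cases hi : (i : ZMod p) = 0
    · -- `g ^ p` lies in `C2`
      have hgC2 : g ^ p ∈ C2 := by
        have hu1z : u₁ ∈ center R := by
          rw [hu₁e]
          refine mul_mem ?_ hz3.2
          rw [show l ^ i = 1 from orderOf_dvd_iff_zpow_eq_one.1 (by
            rw [hlo, ← ZMod.intCast_zmod_eq_zero_iff_dvd]; exact hi)]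
          exact one_mem _
        rw [← hgpe]
        exact mul_mem (mem_centralizer_iff.2 fun v _ => mem_center_iff.1 hu1z v) hc₁
      obtain ⟨⟨c, hcC2⟩, hgen⟩ := h.C2_cyclic.exists_generator
      have hgen' : ∀ x ∈ C2, ∃ j : ℤ, c ^ j = x := fun x hx => by
        obtain ⟨j, hj⟩ := mem_zpowers_iff.1 (hgen ⟨x, hx⟩)
        exact ⟨j, by simpa using congrArg Subtype.val hj⟩
      have hZC2 : z0 ∈ C2 := mem_centralizer_iff.2 fun v _ => mem_center_iff.1 hz0U.2 v
      have hco : p ∣ orderOf c := by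
        obtain ⟨j, hj⟩ := hgen' z0 hZC2
        rw [← hz0o]
        exact orderOf_dvd_of_mem_zpowers (mem_zpowers_iff.2 ⟨j, hj⟩)
      set W := zpowers (c ^ p) with hW
      have hWmem : ∀ x, x ∈ W ↔ ∃ j : ℤ, c ^ ((p : ℤ) * j) = x := fun x => by
        simp [hW, mem_zpowers_iff, zpow_mul]
      have hWn : W.Normal := ⟨fun x hx v => by
        obtain ⟨j, rfl⟩ := (hWmem x).1 hx
        obtain ⟨e, he⟩ := hgen' _ (hC2n.conj_mem c hcC2 v)
        refine (hWmem _).2 ⟨e * j, ?_⟩
        rw [← conj_zpow, ← he, ← zpow_mul]; congr 1; ring⟩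
      obtain ⟨j, hj⟩ := hgen' _ hgC2
      have hj0 : (j : ZMod p) ≠ 0 := by
        intro h0
        obtain ⟨s, hs⟩ := (ZMod.intCast_zmod_eq_zero_iff_dvd j p).1 h0
        have e : (c ^ s) ^ p = g ^ p := by rw [← hj, hs, ← zpow_natCast, ← zpow_mul, mul_comm]
        have hcen : ∀ v : C, v ^ p = 1 → v ∈ center C := fun v hv => mem_center_iff.2 fun w =>
          Subtype.ext (mem_centralizer_iff.1 w.2 v
            (h.omega_C v v.2 (by simpa using congrArg Subtype.val hv))).symm
        have h5 := h.le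
        have h6 := pow_eq_one_of_pow_eq_pow (by omega) (h.isPGroup.to_subgroup C) hcen
          (x := (⟨g, hg⟩ : C)) (y := ⟨c ^ s, zpow_mem (h.centralizer_E_le hcC2) s⟩)
          (Subtype.ext e.symm)
        have h7 := h.omega_C _ (mul_mem (inv_mem hg) (zpow_mem (h.centralizer_E_le hcC2) s))
          (by simpa using congrArg Subtype.val h6)
        have hgM : g ∈ M := by
          have e : g = c ^ s * (g⁻¹ * c ^ s)⁻¹ := by group
          rw [e]
          exact mul_mem (mem_sup_right (zpow_mem hcC2 s)) (inv_mem (mem_sup_left h7))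
        exact hgd (h.comm_eq_of_mem_M hgM hdE).2
      obtain ⟨r, hr⟩ := hgen' _ (hαC2 α hcC2)
      have hrn : (r : ZMod p) = n * m * m := by
        obtain ⟨e, he⟩ := hgen' z0 hZC2
        have h1 : z0 ^ r = z0 ^ (n * m * m) := by
          rw [← hαz0, ← he, map_zpow, ← hr, ← zpow_mul, ← zpow_mul, mul_comm]
        have := dvd_sub_of_zpow_eq (p := p) (dvd_of_eq hz0o.symm) h1
        rw [this]; push_cast; ring
      -- compare modulo `W`
      set π := QuotientGroup.mk' W with hπ
      have hπc : ∀ v : R, Commute (π v) (π c) := by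
        have hcp : (π c) ^ p = 1 := by
          rw [← map_pow]; exact (QuotientGroup.eq_one_iff _).2 (mem_zpowers _)
        have hn : (zpowers (π c)).Normal := ⟨fun x hx v => by
          obtain ⟨e, rfl⟩ := mem_zpowers_iff.1 hx
          obtain ⟨v, rfl⟩ := QuotientGroup.mk'_surjective W v
          obtain ⟨e', he'⟩ := hgen' _ (hC2n.conj_mem c hcC2 v)
          refine mem_zpowers_iff.2 ⟨e' * e, ?_⟩
          rw [zpow_mul, ← map_zpow π c e', he', ← conj_zpow, ← map_mul, ← map_inv, ← map_mul]⟩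
        intro v
        rcases eq_or_ne (π c) 1 with h1 | h1
        · rw [h1]; exact Commute.one_right _
        · have hne : zpowers (π c) ⊓ center (R ⧸ W) ≠ ⊥ :=
            CfsgLib.PGroups.inf_center_ne_bot (h.isPGroup.to_quotient W)
              (fun h0 => h1 (zpowers_eq_bot.1 h0))
          have hcard : Nat.card (zpowers (π c)) = p := by
            rw [Nat.card_zpowers, orderOf_eq_prime hcp h1]
          have hd2 := Subgroup.card_dvd_of_le (inf_le_left : zpowers (π c) ⊓ center (R ⧸ W) ≤ _)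
          rw [hcard] at hd2
          have heq : zpowers (π c) ⊓ center (R ⧸ W) = zpowers (π c) := eq_of_le_of_card_ge inf_le_left
            (by
              rw [hcard, ((Nat.dvd_prime hpp).1 hd2).resolve_left fun e => hne (card_eq_one.1 e)])
          exact mem_center_iff.1 (heq.ge (mem_zpowers _)).2 (π v)
      obtain ⟨e2, he2⟩ := hgen' c₂ hc₂
      have hW2 : c₂ ^ p ∈ W := (hWmem _).2 ⟨e2, by rw [← he2, mul_comm, zpow_mul, zpow_natCast]⟩
      have h1 := hαgp W c₂ (by rw [← he2, map_zpow]; exact (hπc _).zpow_right e2) hW2 rfl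
      rw [← hj, map_zpow, ← hr, ← zpow_mul, map_zpow, map_zpow, ← zpow_mul] at h1
      have hπco : p ∣ orderOf (π c) := by
        by_contra hnd
        have hcp : (π c) ^ p = 1 := by
          rw [← map_pow]; exact (QuotientGroup.eq_one_iff _).2 (mem_zpowers _)
        have hπ1 : π c = 1 := orderOf_eq_one_iff.1
          (((Nat.dvd_prime hpp).1 (orderOf_dvd_of_pow_eq_one hcp)).resolve_right
            fun e => hnd (e ▸ dvd_rfl))
        obtain ⟨e, he⟩ := (hWmem c).1 ((QuotientGroup.eq_one_iff c).1 hπ1)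
        have h2 := dvd_sub_of_zpow_eq (p := p) hco (b := (1 : ℤ)) (he.trans (zpow_one c).symm)
        push_cast at h2
        simp at h2
      have h3 := dvd_sub_of_zpow_eq hπco h1
      push_cast at h3
      rw [hrn] at h3
      refine mul_left_cancel₀ (mul_ne_zero hj0 hn0) ?_
      linear_combination h3
    · -- compare modulo `C2`
      have hcomm : Commute (QuotientGroup.mk' C2 (g ^ n)) (QuotientGroup.mk' C2 c₂) := by
        rw [show QuotientGroup.mk' C2 c₂ = 1 from (QuotientGroup.eq_one_iff _).2 hc₂]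
        exact Commute.one_right _
      have h1 := hαgp C2 c₂ hcomm (pow_mem hc₂ p) rfl
      have hzC2 : ∀ z ∈ U ⊓ center R, QuotientGroup.mk' C2 z = 1 := fun z hz =>
        (QuotientGroup.eq_one_iff _).2 (mem_centralizer_iff.2 fun v _ => mem_center_iff.1 hz.2 v)
      rw [← hgpe, hu₁e, map_mul α, map_mul α, map_zpow α, hαl] at h1
      simp only [map_mul, map_zpow, hzC2 _ hz2, hzC2 _ hz3,
        show QuotientGroup.mk' C2 c₁ = 1 from (QuotientGroup.eq_one_iff _).2 hc₁,
        show QuotientGroup.mk' C2 (α c₁) = 1 from (QuotientGroup.eq_one_iff _).2 (hαC2 α hc₁),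
        show QuotientGroup.mk' C2 (α z3) = 1 from (QuotientGroup.eq_one_iff _).2
          (mem_centralizer_iff.2 fun v _ => mem_center_iff.1 (h.alpha_center α hz3.2) v),
        mul_one, ← zpow_mul] at h1
      have hlC2 : p ∣ orderOf (QuotientGroup.mk' C2 l) := by
        have hd := orderOf_map_dvd (QuotientGroup.mk' C2) l
        rw [hlo] at hd
        rw [((Nat.dvd_prime hpp).1 hd).resolve_left fun e => hldC
            (mem_centralizer_iff.1 ((QuotientGroup.eq_one_iff l).1 (orderOf_eq_one_iff.1 e)) d hdE).symm]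
      have h3 := dvd_sub_of_zpow_eq hlC2 h1
      push_cast at h3
      have hm1 : (m : ZMod p) = 1 := mul_left_cancel₀ (mul_ne_zero hn0 hi) (by linear_combination h3)
      rw [hm1, one_pow]
  -- odd order
  set π := QuotientGroup.mk' U with hπ
  have hiter : ∀ k : ℕ, π ((α ^ k) d) = π d ^ (m ^ k) := by
    intro k
    induction k with
    | zero => simp
    | succ k ih =>
      have e1 : π (α d) = π d ^ m := by
        rw [← hαd, map_mul, show π u₀ = 1 from (QuotientGroup.eq_one_iff _).2 hu₀, one_mul, map_zpow]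
      have hdesc : ∀ a b : R, π a = π b → π (α a) = π (α b) := by
        intro a b hab
        have hm : a⁻¹ * b ∈ U := QuotientGroup.eq.1 hab
        refine QuotientGroup.eq.2 ?_
        rw [← map_inv, ← map_mul]
        exact hαU α hm
      rw [pow_succ' α, MulAut.mul_apply, hdesc _ (d ^ (m ^ k)) (by rw [ih, map_zpow]), map_zpow,
        map_zpow, e1, ← zpow_mul]
      congr 1; ring
  have hπd : p ∣ orderOf (π d) := by
    have hd' := orderOf_map_dvd π d
    have hdo : orderOf d = p := orderOf_eq_prime ((h.mem_E d).1 hdE) fun e => hd (e ▸ one_mem C)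
    rw [hdo] at hd'
    rw [((Nat.dvd_prime hpp).1 hd').resolve_left fun e =>
      hd (hUC ((QuotientGroup.eq_one_iff d).1 (orderOf_eq_one_iff.1 e)))]
  have hmN : (m : ZMod p) ^ N = 1 := by
    have h1 := hiter N
    rw [hαN, MulAut.one_apply] at h1
    have := dvd_sub_of_zpow_eq hπd (a := 1) (b := m ^ N) (by rw [zpow_one]; exact h1)
    push_cast at this
    exact this.symm
  have hm1 : (m : ZMod p) = 1 := by
    obtain ⟨k, rfl⟩ := hN
    rwa [pow_succ, pow_mul, hm2, one_pow, one_mul] at hmN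
  rw [← QuotientGroup.eq_one_iff]
  show π _ = 1
  rw [map_mul, map_inv, ← hαd, map_mul, show π u₀ = 1 from (QuotientGroup.eq_one_iff _).2 hu₀,
    one_mul, map_zpow, inv_mul_eq_one]
  obtain ⟨k, hk⟩ := hπd
  have hpd : π d ^ p = 1 := by rw [← map_pow, (h.mem_E d).1 hdE, map_one]
  obtain ⟨s, hs⟩ : (p : ℤ) ∣ m - 1 := by
    rw [← ZMod.intCast_zmod_eq_zero_iff_dvd]; push_cast; rw [hm1, sub_self]
  rw [show m = 1 + (p : ℤ) * s by linarith, zpow_add, zpow_one, zpow_mul, zpow_natCast, hpd,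
    one_zpow, mul_one]

end OmegaExtra

end CfsgLib.OddOrder

namespace CfsgLib.OddOrder

open Cfsg
open Subgroup

variable {G : Type*} [Group G] [Finite G] {p : ℕ} [Fact p.Prime]

/-- An odd coprime operator group with non-trivial action forces `3 < p`. -/
theorem three_lt_of_rank_two_action (hp : p ≠ 2) (R A : Subgroup G) (hR : IsPGroup p R)
    (hR1 : R ≠ ⊥) (hr : PRankLE p 2 R) (hA : A ≤ normalizer (R : Set G))
    (hcop : (Nat.card A).Coprime p) (hodd : Odd (Nat.card A)) (hRA : ⁅R, A⁆ = R) : 3 < p := by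
  have hpp : p.Prime := Fact.out
  by_contra hlt
  obtain rfl : p = 3 := by have := hpp.two_le; omega
  obtain ⟨φ, hφ⟩ := exists_gl2_rep hp hR hr hA
  refine hR1 (hRA ▸ commutator_eq_bot_iff_le_centralizer.2 (le_centralizer_iff.1 fun a ha => ?_))
  have hcopa : (orderOf (⟨a, ha⟩ : A)).Coprime 3 := hcop.coprime_dvd_left (orderOf_dvd_natCard _)
  refine hφ ⟨a, ha⟩ ?_ hcopa
  set u : GL (Fin 2) (ZMod 3) := φ.toHomUnits ⟨a, ha⟩ with hu
  suffices h : u = 1 from congrArg Units.val h
  have h1 : orderOf u ∣ Nat.card A := (orderOf_map_dvd _ _).trans (orderOf_dvd_natCard _)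
  have h2 := orderOf_dvd_natCard u
  rw [Matrix.card_GL_field, ← Nat.card_eq_fintype_card, Nat.card_zmod, Fin.prod_univ_two] at h2
  have h3 : (Nat.card A).Coprime 48 := by
    obtain ⟨k, hk⟩ := hodd
    have h22 : (Nat.card A).Coprime 2 := by
      rw [Nat.coprime_comm, Nat.prime_two.coprime_iff_not_dvd]; omega
    rw [show (48 : ℕ) = 2 ^ 4 * 3 by norm_num]
    exact (h22.pow_right 4).mul_right hcop
  norm_num at h2
  exact orderOf_eq_one_iff.1 (Nat.eq_one_of_dvd_coprimes h3 h1 h2)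

/-- Bender–Glauberman, Proposition 4.19. -/
theorem rank_two_operator (hp : p ≠ 2) (R A : Subgroup G) (hR : IsPGroup p R)
    (hR1 : R ≠ ⊥) (hr : PRankLE p 2 R) (hA : A ≤ normalizer (R : Set G))
    (hcop : (Nat.card A).Coprime p) (hodd : Odd (Nat.card A)) (hRA : ⁅R, A⁆ = R) :
    IsMulCommutative R ∨ ∃ R₁ R₂ : Subgroup G, R₁ ⊔ R₂ = R ∧
        (∀ a ∈ R₁, ∀ b ∈ R₂, a * b = b * a) ∧
        ¬ IsMulCommutative R₁ ∧ Nat.card R₁ = p ^ 3 ∧ Monoid.exponent R₁ = p ∧ IsCyclic R₂ ∧
        Subgroup.closure {x : G | x ∈ R₂ ∧ x ^ p = 1} = ⁅R₁, R₁⁆ := by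
  classical
  have hpp : p.Prime := Fact.out
  by_cases hcy : IsCyclic R
  · exact Or.inl ⟨⟨fun a b => hcy.commGroup.mul_comm a b⟩⟩
  have hp5 : 5 ≤ p := by
    have h3 := three_lt_of_rank_two_action hp R A hR hR1 hr hA hcop hodd hRA
    have h4 : p ≠ 4 := fun h => by rw [h] at hpp; norm_num at hpp
    omega
  rcases rankTwo_structure hp5 hR hr hcy with hidx |
    ⟨E, U, hE, hE3, hUE, hUn, hUe, hU2, hCi, hΩ⟩
  · exact Or.inl (isMulCommutative_of_index_powers hp R A hR hA hcop hRA hidx)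
  right
  have h : OmegaExtra p R E U := ⟨hp5, hR, hE, hE3, hUE, hUn, hUe, hU2, hCi, hΩ⟩
  obtain ⟨d, hdE, hd⟩ := h.exists_not_mem_C
  have hall : ∀ c ∈ centralizer (U : Set R), ⁅c, d⁆ ∈ center R := by
    by_contra! hex
    obtain ⟨g, hg, hgd⟩ := hex
    have hUchar : U.Characteristic := characteristic_iff_le_comap.2 fun φ x hx =>
      h.alpha_U hdE hd hgd φ hx
    obtain ⟨c, hc, hdc⟩ := exists_fixed_in_coset R A hR hA hcop hUchar (x := d) fun a ha => by
      refine h.trivial_on_quotient hdE hd hg hgd _ hodd ?_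
      rw [← map_pow]
      convert map_one (R.normalizerMonoidHom)
      exact Subtype.ext (by
        rw [SubmonoidClass.coe_pow]
        exact congrArg Subtype.val (pow_card_eq_one' (G := A) (x := (⟨a, ha⟩ : A))))
    have hcopR : (Nat.card A).Coprime (Nat.card R) := by
      obtain ⟨n, hn⟩ := IsPGroup.iff_card.mp hR
      rw [hn]; exact hcop.pow_right n
    have hcd := mem_commutator_of_fixed R A hA hcopR hRA hc
    have hle : commutator R ≤ centralizer (U : Set R) := by
      have := h.C_normal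
      have : IsCyclic (R ⧸ centralizer (U : Set R)) := isCyclic_of_prime_card hCi
      let := IsCyclic.commGroup (α := R ⧸ centralizer (U : Set R))
      rw [_root_.commutator_def, commutator_le]
      intro a _ b _
      rw [← QuotientGroup.eq_one_iff]
      show QuotientGroup.mk' _ ⁅a, b⁆ = 1
      rw [map_commutatorElement, commutatorElement_eq_one_iff_mul_comm]
      exact mul_comm _ _
    refine hd ?_
    have h1 : d⁻¹ * c ∈ centralizer (U : Set R) :=
      le_centralizer_iff_isMulCommutative.2 hUe.1 hdc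
    simpa using mul_mem (hle hcd) (inv_mem h1)
  set C2 := centralizer (E : Set R) with hC2
  have htop : E ⊔ C2 = ⊤ := by
    rw [eq_top_iff, ← h.sup_eq hd]
    refine sup_le (fun c hc => ?_) (zpowers_le.2 (mem_sup_left hdE))
    exact (sup_le_sup_right hUE _ : U ⊔ C2 ≤ E ⊔ C2) (h.mem_M hdE hd hc (hall c hc))
  -- the derived group of `E`
  have hEE : ⁅E, E⁆ = U ⊓ center R := by
    refine le_antisymm ?_ ?_
    · rw [← h.E_inf_center]
      refine le_inf (commutator_le.2 fun a ha b hb =>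
        E.mul_mem (E.mul_mem (E.mul_mem ha hb) (E.inv_mem ha)) (E.inv_mem hb)) ?_
      refine commutator_le.2 fun a ha b hb => ?_
      let π := QuotientGroup.mk' (center R)
      have key : ∀ v w : R, v ∈ U ⊔ zpowers d → (w ∈ U ∨ w = d) → Commute (π v) (π w) := by
        intro v w hv hw
        have hle : U ⊔ zpowers d ≤ (centralizer {π w}).comap π := by
          refine sup_le (fun x hx => ?_) (zpowers_le.2 ?_)
          · refine mem_centralizer_singleton_iff.2 (commutatorElement_eq_one_iff_mul_comm.1 ?_)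
            rw [← map_commutatorElement]
            exact (QuotientGroup.eq_one_iff _).2 (h.comm_mem_line' w hx).2
          · refine mem_centralizer_singleton_iff.2 (commutatorElement_eq_one_iff_mul_comm.1 ?_)
            rw [← map_commutatorElement]
            refine (QuotientGroup.eq_one_iff _).2 ?_
            rcases hw with hw | hw
            · exact (h.comm_mem_line d hw).2
            · rw [hw, commutatorElement_self]; exact one_mem _
        exact mem_centralizer_singleton_iff.1 (hle hv)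
      have hab : Commute (π a) (π b) := by
        have hle : U ⊔ zpowers d ≤ (centralizer {π a}).comap π := by
          refine sup_le (fun x hx => ?_) (zpowers_le.2 ?_)
          · exact mem_centralizer_singleton_iff.2
              (key a x ((h.E_eq hdE hd).ge ha) (Or.inl hx)).symm.eq
          · exact mem_centralizer_singleton_iff.2
              (key a d ((h.E_eq hdE hd).ge ha) (Or.inr rfl)).symm.eq
        exact (mem_centralizer_singleton_iff.1 (hle ((h.E_eq hdE hd).ge hb))).symm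
      rw [← QuotientGroup.eq_one_iff]
      show π ⁅a, b⁆ = 1
      rw [map_commutatorElement, commutatorElement_eq_one_iff_mul_comm]
      exact hab
    · obtain ⟨u, hu, hud⟩ : ∃ u ∈ U, u * d ≠ d * u := by
        by_contra! hno
        exact hd (mem_centralizer_iff.2 hno)
      have hz : zpowers ⁅u, d⁆ = U ⊓ center R := by
        refine eq_of_le_of_card_ge (zpowers_le.2 (h.comm_mem_line' d hu)) ?_
        rw [h.line, Nat.card_zpowers, orderOf_eq_prime
          ((CfsgLib.Base.isElementaryAbelian_iff.1 hUe).2 _ (h.comm_mem_line' d hu).1)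
          fun e => hud (commutatorElement_eq_one_iff_mul_comm.1 e)]
      rw [← hz]
      exact zpowers_le.2 (commutator_mem_commutator (hUE hu) hdE)
  refine ⟨E.map R.subtype, C2.map R.subtype, ?_, ?_, ?_, ?_, ?_, ?_, ?_⟩
  · rw [← Subgroup.map_sup, htop, ← MonoidHom.range_eq_map, range_subtype]
  · rintro _ ⟨a, ha, rfl⟩ _ ⟨b, hb, rfl⟩
    exact congrArg Subtype.val (mem_centralizer_iff.1 hb a ha)
  · intro hab
    refine hd (mem_centralizer_iff.2 fun u hu => Subtype.ext ?_)
    exact (CfsgLib.Base.isMulCommutative_subgroup_iff.1 hab) _ (mem_map_of_mem _ (hUE hu)) _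
      (mem_map_of_mem _ hdE)
  · rw [card_map_of_injective R.subtype_injective, hE3]
  · have h1 : Monoid.exponent ↥(E.map R.subtype) ∣ p :=
      Monoid.exponent_dvd_of_forall_pow_eq_one fun x => Subtype.ext (by
        obtain ⟨y, hy, hyx⟩ := x.2
        rw [SubmonoidClass.coe_pow, ← hyx, ← map_pow, (hE y).1 hy, map_one]
        rfl)
    refine ((Nat.dvd_prime hpp).1 h1).resolve_left fun h2 => ?_
    have := Monoid.exp_eq_one_iff.1 h2
    have h3 : Nat.card ↥(E.map R.subtype) = 1 := Nat.card_eq_one_iff_unique.2 ⟨this, ⟨1⟩⟩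
    rw [card_map_of_injective R.subtype_injective, hE3] at h3
    exact absurd h3 (Nat.one_lt_pow (by norm_num) hpp.one_lt).ne'
  · have := h.C2_cyclic
    exact isCyclic_of_surjective (R.subtype.subgroupMap C2) (R.subtype.subgroupMap_surjective C2)
  · rw [← Subgroup.map_commutator, hEE]
    refine le_antisymm ((closure_le _).2 ?_) ?_
    · rintro _ ⟨⟨x, hx, rfl⟩, hxp⟩
      have hxU := hΩ x (h.centralizer_E_le hx) (Subtype.ext hxp)
      exact mem_map_of_mem _
        ⟨hxU, h.fix_line hd hxU (mem_centralizer_iff.1 hx d hdE).symm⟩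
    · rintro _ ⟨x, hx, rfl⟩
      exact subset_closure ⟨mem_map_of_mem _ (mem_centralizer_iff.2 fun v _ =>
        mem_center_iff.1 hx.2 v), by
          rw [← map_pow, (CfsgLib.Base.isElementaryAbelian_iff.1 hUe).2 x hx.1, map_one]⟩

end CfsgLib.OddOrder
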