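import Cfsg.Agent.Lib.OddOrder.FrobeniusWeights
import Cfsg.Agent.Lib.Base.ThompsonFPF
import Cfsg.Agent.Lib.Base.Rank
import Cfsg.Agent.Lib.Techniques.SylIn
import Cfsg.Prelude.Def_Transfer

/-!
BG Theorem 3.8: a Frobenius group `K R` acting coprimely on a nilpotent group `M` without fixed
points of `K`.
-/

set_option autoImplicit false
set_option linter.style.haveILetI false

set_option maxHeartbeats 800000

universe u

open Cfsg Subgroup
open scoped commutatorElement TensorProduct

namespace CfsgLib.OddOrder.FrobeniusAction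

section BaseChange

variable {F : Type*} [Field F] (k : Type*) [Field k] [Algebra F k] {V : Type*} [AddCommGroup V]
  [Module F V] [FiniteDimensional F V]

/-- The rank of a linear map does not change when the field is extended. -/
theorem finrank_range_baseChange (f : V →ₗ[F] V) :
    Module.finrank k (LinearMap.range (f.baseChange k)) = Module.finrank F (LinearMap.range f) := by
  have hf : f = (LinearMap.range f).subtype ∘ₗ f.rangeRestrict := (LinearMap.subtype_comp_codRestrict f _ _).symm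
  have hs : Function.Surjective (f.rangeRestrict.baseChange k) := by
    have := LinearMap.lTensor_surjective k f.surjective_rangeRestrict
    exact this
  have hi : Function.Injective ((LinearMap.range f).subtype.baseChange k) := by
    have := Module.Flat.lTensor_preserves_injective_linearMap (M := k) (LinearMap.range f).subtype
      (Submodule.injective_subtype _)
    exact this
  conv_lhs => rw [hf, LinearMap.baseChange_comp, LinearMap.range_comp_of_range_eq_top _
    (LinearMap.range_eq_top.2 hs)]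
  rw [LinearMap.finrank_range_of_inj hi, Module.finrank_baseChange]

omit [FiniteDimensional F V] in
theorem baseChangeHom_injective :
    Function.Injective (Module.End.baseChangeHom F k V) := by
  refine (injective_iff_map_eq_zero _).2 fun f hf => ?_
  rw [Module.FaithfullyFlat.zero_iff_lTensor_zero F k]
  refine LinearMap.ext fun x => ?_
  exact LinearMap.congr_fun hf x

end BaseChange

variable {X : Type u} [Group X] [Finite X]

/-- A finite group element fixing a coset under conjugation does so with all its powers. -/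
theorem conj_mem_of_mem_zpowers {C : Subgroup X} {r a s : X}
    (hrC : r ∈ normalizer (C : Set X)) (h : a⁻¹ * (r * a * r⁻¹) ∈ C) (hs : s ∈ zpowers r) :
    a⁻¹ * (s * a * s⁻¹) ∈ C := by
  obtain ⟨n, rfl⟩ : s ∈ Submonoid.powers r := mem_powers_iff_mem_zpowers.2 hs
  induction n with
  | zero => simp [one_mem]
  | succ n ih =>
    have h2 := (mem_normalizer_iff.1 hrC _).1 (ih (pow_mem (mem_zpowers r) n))
    have h3 := mul_mem h h2
    rw [show a⁻¹ * (r * a * r⁻¹) * (r * (a⁻¹ * (r ^ n * a * (r ^ n)⁻¹)) * r⁻¹) =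
      a⁻¹ * (r * (r ^ n * a * (r ^ n)⁻¹) * r⁻¹) by group] at h3
    show a⁻¹ * (r ^ (n + 1) * a * (r ^ (n + 1))⁻¹) ∈ C
    rw [pow_succ']
    rwa [show r * r ^ n * a * (r * r ^ n)⁻¹ = r * (r ^ n * a * (r ^ n)⁻¹) * r⁻¹ by group]

/-- The base case: `V` elementary abelian and `A` abelian on `V`. -/
theorem elementary_case {ℓ : ℕ} [hl : Fact ℓ.Prime] {V A R : Subgroup X}
    (hV : IsElementaryAbelian ℓ V) (hAV : A ≤ normalizer (V : Set X))
    (hRV : R ≤ normalizer (V : Set X)) (hRA : R ≤ normalizer (A : Set X))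
    (hab : ⁅A, A⁆ ≤ centralizer (V : Set X)) (hfix : V ⊓ centralizer (A : Set X) = ⊥)
    (hfpf : ∀ r ∈ R, r ≠ 1 → ∀ a ∈ A, ⁅r, a⁆ ∈ centralizer (V : Set X) →
      a ∈ centralizer (V : Set X))
    (hA : ¬ ℓ ∣ Nat.card A) (hR : ¬ ℓ ∣ Nat.card R) :
    Nat.card V = Nat.card ↥(V ⊓ centralizer (R : Set X)) ^ Nat.card R ∧
      (IsCyclic ↥(V ⊓ centralizer (R : Set X)) → ∀ g ∈ normalizer (V : Set X),
        ∀ h ∈ normalizer (V : Set X), (∀ a ∈ A, ⁅g, a⁆ ∈ centralizer (V : Set X)) →
          (∀ a ∈ A, ⁅h, a⁆ ∈ centralizer (V : Set X)) → ⁅g, h⁆ ∈ centralizer (V : Set X)) := by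
  classical
  haveI := Fintype.ofFinite R
  letI : CommGroup V :=
    { (inferInstance : Group V) with mul_comm := fun a b => hV.1.is_comm.comm a b }
  have hexp : ∀ v : Additive V, ℓ • v = 0 := fun v =>
    Additive.toMul.injective (Subtype.ext (hV.2 _ v.toMul.2))
  letI : Module (ZMod ℓ) (Additive V) := AddCommGroup.zmodModule (n := ℓ) hexp
  haveI : Module.Finite (ZMod ℓ) (Additive V) := Module.Finite.of_finite
  set N := normalizer (V : Set X) with hN
  let act : N → (Additive V →+ Additive V) := fun g =>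
    AddMonoidHom.mk' (fun v => Additive.ofMul
      (⟨(g : X) * (v.toMul : X) * (g : X)⁻¹,
        (mem_normalizer_iff.1 g.2 _).1 v.toMul.2⟩ : V))
      fun u v => by
        apply Additive.toMul.injective
        apply Subtype.ext
        show (g : X) * ((u.toMul : X) * (v.toMul : X)) * (g : X)⁻¹ =
          (g : X) * (u.toMul : X) * (g : X)⁻¹ * ((g : X) * (v.toMul : X) * (g : X)⁻¹)
        group
  let α : N →* Module.End (ZMod ℓ) (Additive V) :=
    { toFun := fun g => (act g).toZModLinearMap ℓ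
      map_one' := by
        refine LinearMap.ext fun v => Additive.toMul.injective (Subtype.ext ?_)
        show (1 : X) * (v.toMul : X) * (1 : X)⁻¹ = _
        simp
      map_mul' := fun g h => by
        refine LinearMap.ext fun v => Additive.toMul.injective (Subtype.ext ?_)
        show ((g : X) * h) * (v.toMul : X) * ((g : X) * h)⁻¹ =
          (g : X) * ((h : X) * (v.toMul : X) * (h : X)⁻¹) * (g : X)⁻¹
        group }
  have hα : ∀ (g : N) (v : Additive V),
      ((α g v).toMul : X) = (g : X) * (v.toMul : X) * (g : X)⁻¹ := fun g v => rfl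
  have hfix' : ∀ (g : N) (v : Additive V),
      α g v = v ↔ (g : X) * (v.toMul : X) = (v.toMul : X) * g := by
    intro g v
    rw [← mul_inv_eq_iff_eq_mul, ← hα g v]
    exact ⟨fun h => by rw [h], fun h => Additive.toMul.injective (Subtype.ext h)⟩
  have hker : ∀ g : N, α g = 1 ↔ (g : X) ∈ centralizer (V : Set X) := by
    intro g
    rw [mem_centralizer_iff]
    constructor
    · intro h v hv
      exact ((hfix' g (Additive.ofMul ⟨v, hv⟩)).1 (by rw [h]; rfl)).symm
    · intro h
      exact LinearMap.ext fun v => (hfix' g v).2 (h _ v.toMul.2).symm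
  -- the image of `A`
  haveI : Finite (Module.End (ZMod ℓ) (Additive V)) :=
    Finite.of_injective (fun f => (f : Additive V → Additive V)) DFunLike.coe_injective
  let αu : N →* (Module.End (ZMod ℓ) (Additive V))ˣ := α.toHomUnits
  have hαu : ∀ g : N, (αu g : Module.End (ZMod ℓ) (Additive V)) = α g := fun g => rfl
  have hαu1 : ∀ g : N, αu g = 1 ↔ (g : X) ∈ centralizer (V : Set X) := fun g => by
    rw [← hker]
    exact Units.ext_iff
  have hαuc : ∀ g h : N, αu g * αu h = αu h * αu g ↔ ⁅(g : X), (h : X)⁆ ∈ centralizer (V : Set X) :=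
    fun g h => by
      rw [← commute_iff_eq, ← commutatorElement_eq_one_iff_commute, ← map_commutatorElement, hαu1]
      rfl
  set A' : Subgroup (Module.End (ZMod ℓ) (Additive V))ˣ := (A.subgroupOf N).map αu with hA'
  have hAN : ∀ a ∈ A, ∃ h : a ∈ N, αu ⟨a, h⟩ ∈ A' := fun a ha =>
    ⟨hAV ha, mem_map_of_mem αu (mem_subgroupOf.2 ha)⟩
  letI : CommGroup A' :=
    { (inferInstance : Group A') with
      mul_comm := by
        rintro ⟨_, a, ha, rfl⟩ ⟨_, b, hb, rfl⟩
        exact Subtype.ext ((hαuc a b).2 (hab (commutator_mem_commutator ha hb))) }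
  let ρR : R →* N := inclusion hRV
  have hconj : ∀ (x : R) (a : A'), αu (ρR x) * (a : _) * (αu (ρR x))⁻¹ ∈ A' := by
    rintro x ⟨_, a, ha, rfl⟩
    rw [← map_inv, ← map_mul, ← map_mul]
    exact mem_map_of_mem αu (mem_subgroupOf.2 ((mem_normalizer_iff.1 (hRA x.2) _).1 ha))
  let φ : R →* MulAut A' :=
    { toFun := fun x =>
        { toFun := fun a => ⟨_, hconj x a⟩
          invFun := fun a => ⟨_, hconj x⁻¹ a⟩
          left_inv := fun a => Subtype.ext (by
            show αu (ρR x⁻¹) * (αu (ρR x) * (a : _) * (αu (ρR x))⁻¹) * (αu (ρR x⁻¹))⁻¹ = _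
            rw [map_inv, map_inv]; group)
          right_inv := fun a => Subtype.ext (by
            show αu (ρR x) * (αu (ρR x⁻¹) * (a : _) * (αu (ρR x⁻¹))⁻¹) * (αu (ρR x))⁻¹ = _
            rw [map_inv, map_inv]; group)
          map_mul' := fun a b => Subtype.ext (by
            show αu (ρR x) * ((a : _) * b) * (αu (ρR x))⁻¹ =
              αu (ρR x) * (a : _) * (αu (ρR x))⁻¹ * (αu (ρR x) * (b : _) * (αu (ρR x))⁻¹)
            group) }
      map_one' := MulEquiv.ext fun a => Subtype.ext (by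
        show αu (ρR 1) * (a : _) * (αu (ρR 1))⁻¹ = _
        rw [map_one, map_one, inv_one, one_mul, mul_one]
        rfl)
      map_mul' := fun x y => MulEquiv.ext fun a => Subtype.ext (by
        show αu (ρR (x * y)) * (a : _) * (αu (ρR (x * y)))⁻¹ =
          αu (ρR x) * (αu (ρR y) * (a : _) * (αu (ρR y))⁻¹) * (αu (ρR x))⁻¹
        rw [map_mul, map_mul]; group) }
  set k := AlgebraicClosure (ZMod ℓ)
  have : CharP k ℓ := charP_of_injective_algebraMap (algebraMap (ZMod ℓ) k).injective ℓ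
  let B := Module.End.baseChangeHom (ZMod ℓ) k (Additive V)
  let σ : A' →* Module.End k (k ⊗[ZMod ℓ] Additive V) :=
    ((B : Module.End (ZMod ℓ) (Additive V) →* _).comp (Units.coeHom _)).comp A'.subtype
  let ν : R →* Module.End k (k ⊗[ZMod ℓ] Additive V) :=
    (B : Module.End (ZMod ℓ) (Additive V) →* _).comp (α.comp ρR)
  have hσ : ∀ a : A', σ a = B ((a : (Module.End (ZMod ℓ) (Additive V))ˣ) : Module.End (ZMod ℓ) (Additive V)) :=
    fun a => rfl
  have hν : ∀ x a, ν x * σ a = σ (φ x a) * ν x := fun x a => by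
    show B (α (ρR x)) * B _ = B _ * B (α (ρR x))
    rw [← map_mul, ← map_mul]
    congr 1
    show _ = (((αu (ρR x) * (a : _) * (αu (ρR x))⁻¹) : (Module.End (ZMod ℓ) (Additive V))ˣ) :
      Module.End (ZMod ℓ) (Additive V)) * α (ρR x)
    simp only [← hαu, Units.val_mul, Units.inv_mul_cancel_right]
    rfl
  have hfpf' : ∀ x : R, x ≠ 1 → ∀ a, φ x a = a → a = 1 := by
    rintro x hx ⟨_, a, ha, rfl⟩ h
    have h1 : αu (ρR x) * αu a = αu a * αu (ρR x) := mul_inv_eq_iff_eq_mul.1 (congrArg Subtype.val h)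
    exact Subtype.ext ((hαu1 a).2 (hfpf x x.2 (fun e => hx (Subtype.ext e)) a ha ((hαuc _ _).1 h1)))
  have hA'd : Nat.card A' ∣ Nat.card A := by
    refine (card_map_dvd _ _).trans (dvd_of_eq ?_)
    exact Nat.card_congr (subgroupOfEquivOfLe hAV).toEquiv
  have hA0 : (Nat.card A' : k) ≠ 0 := fun h => hA (((CharP.cast_eq_zero_iff k ℓ _).1 h).trans hA'd)
  have h1 : CfsgLib.OddOrder.Weights.wproj σ 1 = 0 := by
    haveI := Fintype.ofFinite A'
    have hsum : (∑ a : A', ((a : (Module.End (ZMod ℓ) (Additive V))ˣ) : Module.End (ZMod ℓ) (Additive V))) = 0 := by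
      refine LinearMap.ext fun v => ?_
      set w := (∑ a : A', ((a : (Module.End (ZMod ℓ) (Additive V))ˣ) : Module.End (ZMod ℓ) (Additive V))) v with hw
      have hinv : ∀ a ∈ A, (hh : a ∈ N) → α ⟨a, hh⟩ w = w := by
        intro a ha hh
        obtain ⟨_, hm⟩ := hAN a ha
        rw [hw, LinearMap.sum_apply, map_sum]
        refine Fintype.sum_equiv (Equiv.mulLeft (⟨_, hm⟩ : A')) _ _ fun b => ?_
        rfl
      have : (w.toMul : X) ∈ V ⊓ centralizer (A : Set X) :=
        mem_inf.2 ⟨w.toMul.2, mem_centralizer_iff.2 fun a ha =>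
          (hfix' ⟨a, hAV ha⟩ w).1 (hinv a ha _)⟩
      rw [hfix, mem_bot] at this
      exact Additive.toMul.injective (Subtype.ext this)
    unfold CfsgLib.OddOrder.Weights.wproj
    simp only [MonoidHom.one_apply, Units.val_one, one_smul, hσ]
    rw [← map_sum]
    convert smul_zero (Nat.card A' : k)⁻¹ using 2
    convert map_zero B using 2
    convert hsum
  obtain ⟨hdim, hcomm⟩ := FrobeniusWeights.free_of_fixedPointFree (σ := σ) (ν := ν) hν hfpf' hA0 h1
  -- the fixed points of `R`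
  set NF : Module.End (ZMod ℓ) (Additive V) := ∑ x : R, α (ρR x) with hNF
  have hνN : ∑ x, ν x = NF.baseChange k := by
    show ∑ x : R, B (α (ρR x)) = B NF
    rw [hNF, map_sum]
  rw [hνN, finrank_range_baseChange, Module.finrank_baseChange] at hdim
  rw [hνN, finrank_range_baseChange] at hcomm
  have hrange : ∀ v : Additive V, v ∈ LinearMap.range NF ↔
      (v.toMul : X) ∈ V ⊓ centralizer (R : Set X) := by
    intro v
    constructor
    · rintro ⟨w, rfl⟩
      refine mem_inf.2 ⟨(NF w).toMul.2, mem_centralizer_iff.2 fun x hx => ?_⟩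
      refine (hfix' (ρR ⟨x, hx⟩) (NF w)).1 ?_
      rw [hNF, LinearMap.sum_apply, map_sum]
      simp only [← Module.End.mul_apply, ← map_mul]
      exact Fintype.sum_equiv (Equiv.mulLeft (⟨x, hx⟩ : R)) _ _ fun y => rfl
    · intro hv
      have hR0 : (Fintype.card R : ZMod ℓ) ≠ 0 := fun h => hR (by
        rw [Nat.card_eq_fintype_card]
        exact (CharP.cast_eq_zero_iff (ZMod ℓ) ℓ _).1 h)
      refine ⟨(Fintype.card R : ZMod ℓ)⁻¹ • v, ?_⟩
      rw [map_smul, hNF, LinearMap.sum_apply, Finset.sum_congr rfl fun x _ =>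
        ((hfix' (ρR x) v).2 (mem_centralizer_iff.1 (mem_inf.1 hv).2 x x.2) : α (ρR x) v = v),
        Finset.sum_const, Finset.card_univ, ← Nat.cast_smul_eq_nsmul (ZMod ℓ), smul_smul,
        inv_mul_cancel₀ hR0, one_smul]
  have hcardC : Nat.card (LinearMap.range NF) = Nat.card ↥(V ⊓ centralizer (R : Set X)) :=
    Nat.card_congr
      { toFun := fun v => ⟨((v : Additive V).toMul : X), (hrange v).1 v.2⟩
        invFun := fun c => ⟨Additive.ofMul ⟨c, (mem_inf.1 c.2).1⟩, (hrange _).2 c.2⟩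
        left_inv := fun v => rfl
        right_inv := fun c => rfl }
  have hcV : Nat.card V = ℓ ^ Module.finrank (ZMod ℓ) (Additive V) := by
    rw [Nat.card_congr (Additive.ofMul : V ≃ Additive V),
      Module.natCard_eq_pow_finrank (K := ZMod ℓ), Nat.card_zmod]
  have hcC : Nat.card ↥(V ⊓ centralizer (R : Set X)) =
      ℓ ^ Module.finrank (ZMod ℓ) (LinearMap.range NF) := by
    rw [← hcardC, Module.natCard_eq_pow_finrank (K := ZMod ℓ), Nat.card_zmod]
  refine ⟨by rw [hcV, hcC, ← pow_mul, hdim, Nat.card_eq_fintype_card, mul_comm], ?_⟩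
  intro hcyc g hg h hh hgA hhA
  have hle : Module.finrank (ZMod ℓ) (LinearMap.range NF) ≤ 1 := by
    obtain ⟨c, hc⟩ := hcyc.exists_generator
    have : Nat.card ↥(V ⊓ centralizer (R : Set X)) ≤ ℓ ^ 1 := by
      rw [← orderOf_eq_card_of_forall_mem_zpowers hc, pow_one]
      exact Nat.le_of_dvd hl.out.pos (orderOf_dvd_of_pow_eq_one
        (Subtype.ext (hV.2 _ (mem_inf.1 c.2).1)))
    rw [hcC] at this
    exact (Nat.pow_le_pow_iff_right hl.out.one_lt).1 this
  have hc : ∀ (g : X) (hg : g ∈ N), (∀ a ∈ A, ⁅g, a⁆ ∈ centralizer (V : Set X)) →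
      ∀ a : A', Commute (B (α ⟨g, hg⟩)) (σ a) := by
    rintro g hg h ⟨_, a, ha, rfl⟩
    rw [hσ, commute_iff_eq, ← map_mul, ← map_mul]
    congr 1
    exact congrArg Units.val ((hαuc ⟨g, hg⟩ a).2 (h a ha))
  have := hcomm hle _ _ (hc g hg hgA) (hc h hh hhA)
  simp only [← map_mul] at this
  have hinj : Function.Injective B := baseChangeHom_injective k
  refine (hαuc ⟨g, hg⟩ ⟨h, hh⟩).1 (Units.ext ?_)
  rw [Units.val_mul, Units.val_mul, hαu, hαu, ← map_mul, ← map_mul]
  exact hinj this

/-- Fixed points of a coprime action on a quotient. -/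
theorem inf_centralizer_map' {N S A : Subgroup X} [N.Normal] (hNS : N ≤ S)
    (hcop : (Nat.card A).Coprime (Nat.card N)) (hsolv : Group.IsSolvable A ∨ Group.IsSolvable N) :
    S.map (QuotientGroup.mk' N) ⊓ centralizer ((A.map (QuotientGroup.mk' N) : Subgroup _) : Set _) =
      (S ⊓ centralizer (A : Set X)).map (QuotientGroup.mk' N) := by
  set φ := QuotientGroup.mk' N
  refine le_antisymm ?_ ?_
  · rintro _ ⟨⟨k, hk, rfl⟩, hc⟩
    obtain ⟨c, hcA, hkc⟩ := CfsgLib.Coprime.exists_centralizing_in_coset (A := A) (N := N) (k := k)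
      (fun a _ => le_normalizer_of_normal (K := ⊤) (mem_top a)) hcop hsolv fun a ha => by
        have h1 : φ a * φ k = φ k * φ a :=
          mem_centralizer_iff.1 hc (φ a) (mem_map_of_mem φ ha)
        rw [← QuotientGroup.eq_one_iff, ← QuotientGroup.mk'_apply, map_mul, map_inv, map_mul,
          map_mul, map_inv]
        show (φ k)⁻¹ * (φ a * φ k * (φ a)⁻¹) = 1
        rw [h1, mul_inv_cancel_right, inv_mul_cancel]
    refine ⟨c, mem_inf.2 ⟨?_, hcA⟩, ?_⟩
    · have := mul_mem hk (hNS hkc)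
      rwa [mul_inv_cancel_left] at this
    · rw [eq_comm, QuotientGroup.mk'_eq_mk']
      exact ⟨k⁻¹ * c, hkc, by group⟩
  · rintro _ ⟨k, hk, rfl⟩
    refine mem_inf.2 ⟨mem_map_of_mem φ (mem_inf.1 hk).1, mem_centralizer_iff.2 ?_⟩
    rintro _ ⟨a, ha, rfl⟩
    rw [← map_mul, ← map_mul, mem_centralizer_iff.1 (mem_inf.1 hk).2 a ha]

/-- The hypotheses of BG 3.8 other than prime action. -/
structure Setting (K R M : Subgroup X) : Prop where
  rne : R ≠ ⊥
  fpf : CfsgLib.Base.IsFPF R K
  nilp : Group.IsNilpotent M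
  hKM : K ≤ normalizer (M : Set X)
  hRM : R ≤ normalizer (M : Set X)
  copK : (Nat.card K).Coprime (Nat.card M)
  copR : (Nat.card R).Coprime (Nat.card M)
  fix : M ⊓ centralizer (K : Set X) = ⊥

/-- The conclusion of BG 3.8. -/
def Formula (K R M : Subgroup X) : Prop :=
  Nat.card M = Nat.card ↥(M ⊓ centralizer (R : Set X)) ^ Nat.card R ∧
    (IsCyclic ↥(M ⊓ centralizer (R : Set X)) → ⁅K, K⁆ ≤ centralizer (M : Set X))

omit [Finite X] in
theorem formula_of_subgroupOf {K R M H : Subgroup X} (hK : K ≤ H) (hR : R ≤ H) (hM : M ≤ H)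
    (h : Formula (K.subgroupOf H) (R.subgroupOf H) (M.subgroupOf H)) : Formula K R M := by
  have hc : ∀ {A : Subgroup X}, A ≤ H → Nat.card (A.subgroupOf H) = Nat.card A := fun hA =>
    Nat.card_congr (subgroupOfEquivOfLe hA).toEquiv
  have hC : (M.subgroupOf H) ⊓ centralizer ((R.subgroupOf H : Subgroup H) : Set H) =
      (M ⊓ centralizer (R : Set X)).subgroupOf H := by
    ext x
    simp only [mem_inf, mem_subgroupOf, mem_centralizer_iff, SetLike.mem_coe]
    refine and_congr_right fun _ => ⟨fun h a ha => congrArg Subtype.val (h ⟨a, hR ha⟩ ha),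
      fun h a ha => Subtype.ext (h a ha)⟩
  obtain ⟨h1, h2⟩ := h
  rw [hC] at h1 h2
  have hle : M ⊓ centralizer (R : Set X) ≤ H := inf_le_left.trans hM
  rw [hc hM, hc hle, hc hR] at h1
  refine ⟨h1, fun hcyc => ?_⟩
  have h3 := h2 ((MulEquiv.isCyclic (subgroupOfEquivOfLe hle)).2 hcyc)
  intro g hg
  refine mem_centralizer_iff.2 fun m hm => ?_
  have hgm : (⟨g, (commutator_le_self H) (commutator_mono hK hK hg)⟩ : H) ∈
      ⁅K.subgroupOf H, K.subgroupOf H⁆ := by
    rw [← map_subgroupOf_eq_of_le hK, ← map_commutator] at hg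
    obtain ⟨g', hg', hgg'⟩ := hg
    rwa [show (⟨g, _⟩ : H) = g' from Subtype.ext hgg'.symm]
  exact congrArg Subtype.val (mem_centralizer_iff.1 (h3 hgm) ⟨m, hM hm⟩ hm)

/-- BG 3.8 without the prime action. -/
theorem formula : ∀ (n : ℕ) {X : Type u} [Group X] [Finite X] {K R M : Subgroup X},
    Nat.card M = n → Setting K R M → Formula K R M := by
  intro n
  induction n using Nat.strong_induction_on with
  | _ n ih =>
  intro X _ _ K R M hn hs
  classical
  by_cases hM1 : M = ⊥
  · subst hM1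
    refine ⟨?_, fun _ => fun g _ => mem_centralizer_iff.2 fun m hm => by rw [mem_bot.1 hm]; simp⟩
    rw [bot_inf_eq, card_bot, one_pow]
  have hKn : Group.IsNilpotent K := hs.fpf.isNilpotent hs.rne
  haveI := hs.nilp
  by_cases hred : ∃ N : Subgroup X, N ≠ ⊥ ∧ N < M ∧ M ≤ normalizer (N : Set X) ∧
      K ≤ normalizer (N : Set X) ∧ R ≤ normalizer (N : Set X)
  · obtain ⟨N, hN1, hNM, hMN, hKN, hRN⟩ := hred
    -- inside the normaliser of `N`
    set H := normalizer (N : Set X) with hH
    refine formula_of_subgroupOf hKN hRN hMN ?_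
    have hc : ∀ {A : Subgroup X}, A ≤ H → Nat.card (A.subgroupOf H) = Nat.card A := fun hA =>
      Nat.card_congr (subgroupOfEquivOfLe hA).toEquiv
    set K₁ := K.subgroupOf H with hK₁
    set R₁ := R.subgroupOf H with hR₁
    set M₁ := M.subgroupOf H with hM₁
    set N₁ := N.subgroupOf H with hN₁
    haveI : N₁.Normal := normal_subgroupOf_of_le_normalizer le_rfl
    have hN₁M₁ : N₁ ≤ M₁ := fun x hx => hNM.le hx
    haveI hM₁n : Group.IsNilpotent M₁ :=
      Group.nilpotent_of_mulEquiv (subgroupOfEquivOfLe hMN).symm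
    have hfpf : CfsgLib.Base.IsFPF R₁ K₁ := by
      refine ⟨fun x hx => mem_normalizer_iff.2 fun y => ?_, fun a ha ha1 => le_bot_iff.1 fun y hy => ?_⟩
      · exact mem_normalizer_iff.1 (hs.fpf.1 hx) y
      · exact mem_bot.2 (Subtype.ext (mem_bot.1 ((hs.fpf.2 a ha fun e => ha1 (Subtype.ext e)).le
          (mem_inf.2 ⟨(mem_inf.1 hy).1, mem_centralizer_singleton_iff.2
            (congrArg Subtype.val (mem_centralizer_singleton_iff.1 (mem_inf.1 hy).2))⟩))))
    have hcopK : (Nat.card K₁).Coprime (Nat.card M₁) := by rw [hc hKN, hc hMN]; exact hs.copK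
    have hcopR : (Nat.card R₁).Coprime (Nat.card M₁) := by rw [hc hRN, hc hMN]; exact hs.copR
    have hKM₁ : K₁ ≤ normalizer (M₁ : Set H) := fun x hx => mem_normalizer_iff.2 fun y =>
      mem_normalizer_iff.1 (hs.hKM hx) y
    have hRM₁ : R₁ ≤ normalizer (M₁ : Set H) := fun x hx => mem_normalizer_iff.2 fun y =>
      mem_normalizer_iff.1 (hs.hRM hx) y
    have hfix : M₁ ⊓ centralizer (K₁ : Set H) = ⊥ := le_bot_iff.1 fun y hy =>
      mem_bot.2 (Subtype.ext (mem_bot.1 (hs.fix.le (mem_inf.2 ⟨(mem_inf.1 hy).1,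
        mem_centralizer_iff.2 fun a ha => congrArg Subtype.val
          (mem_centralizer_iff.1 (mem_inf.1 hy).2 ⟨a, hKN ha⟩ ha)⟩))))
    haveI hN₁n : Group.IsNilpotent N₁ := CfsgLib.Base.isNilpotent_of_le hN₁M₁ hM₁n
    have hall : ∀ A : Subgroup H, A ≤ normalizer (N₁ : Set H) := fun A x _ =>
      le_normalizer_of_normal (K := ⊤) (mem_top x)
    -- on `N`
    obtain ⟨hNc, hNk⟩ := ih (Nat.card N₁) (by
      rw [← hn, hc (hNM.le.trans hMN)]; exact CfsgLib.Techniques.card_lt_of_lt hNM) rfl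
      (⟨fun e => hs.rne (le_bot_iff.1 fun x hx =>
          mem_bot.2 (congrArg Subtype.val (mem_bot.1 (e.le (show (⟨x, hRN hx⟩ : H) ∈ R₁ from hx))))),
        hfpf, hN₁n, hall _, hall _, hcopK.coprime_dvd_right (card_dvd_of_le hN₁M₁),
        hcopR.coprime_dvd_right (card_dvd_of_le hN₁M₁),
        le_bot_iff.1 ((inf_le_inf_right _ hN₁M₁).trans hfix.le)⟩ : Setting K₁ R₁ N₁)
    -- on `M/N`
    set ψ := QuotientGroup.mk' N₁ with hψ
    have hinj : ∀ A : Subgroup H, (Nat.card A).Coprime (Nat.card M₁) →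
        ∀ a ∈ A, ψ a = 1 → a = 1 := fun A hA a ha h => by
      rw [hψ, QuotientGroup.mk'_apply, QuotientGroup.eq_one_iff] at h
      exact mem_bot.1 ((CfsgLib.Coprime.inf_eq_bot_of_coprime hA).le (mem_inf.2 ⟨ha, hN₁M₁ h⟩))
    have hfpf' : CfsgLib.Base.IsFPF (R₁.map ψ) (K₁.map ψ) := by
      refine ⟨?_, ?_⟩
      · rintro _ ⟨r, hr, rfl⟩
        exact (le_normalizer_map ψ) (mem_map_of_mem ψ (hfpf.1 hr))
      · rintro _ ⟨r, hr, rfl⟩ hr1
        rw [eq_bot_iff]
        rintro _ ⟨⟨b, hb, rfl⟩, hbr⟩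
        have h1 : ψ ⁅r, b⁆ = 1 := by
          rw [map_commutatorElement, commutatorElement_eq_one_iff_commute]
          exact (mem_centralizer_singleton_iff.1 hbr).symm
        have h2 : ⁅r, b⁆ ∈ K₁ := by
          rw [commutatorElement_def]
          exact mul_mem ((mem_normalizer_iff.1 (hfpf.1 hr) b).1 hb) (inv_mem hb)
        have h3 := hfpf.eq_one_of_commute hr (fun e => hr1 (by rw [e, map_one])) hb
          (commutatorElement_eq_one_iff_commute.1 (hinj K₁ hcopK _ h2 h1))
        rw [h3, map_one]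
        exact one_mem _
    have hKimg := hcopK.coprime_dvd_right (card_dvd_of_le hN₁M₁)
    have hRimg := hcopR.coprime_dvd_right (card_dvd_of_le hN₁M₁)
    have hq : ∀ {A : Subgroup H}, A ≤ normalizer (M₁ : Set H) →
        A.map ψ ≤ normalizer ((M₁.map ψ : Subgroup _) : Set (H ⧸ N₁)) := fun hA => by
      rintro _ ⟨a, ha, rfl⟩
      exact (le_normalizer_map ψ) (mem_map_of_mem ψ (hA ha))
    have hNsolv : Group.IsSolvable N₁ := inferInstance
    have hcard : Nat.card M₁ = Nat.card N₁ * Nat.card (M₁.map ψ) := by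
      rw [hψ, CfsgLib.Coprime.card_map_mk', ← relIndex_bot_left N₁, ← relIndex_bot_left M₁,
        relIndex_mul_relIndex _ _ _ bot_le hN₁M₁]
    have hlt : Nat.card (M₁.map ψ) < n := by
      rw [← hn, ← hc hMN, hcard]
      have h1 : 1 < Nat.card N₁ := by
        rw [hc (hNM.le.trans hMN)]
        exact (one_lt_card_iff_ne_bot N).2 hN1
      exact (lt_mul_iff_one_lt_left Nat.card_pos).2 h1
    obtain ⟨hQc, hQk⟩ := ih _ hlt rfl
      (⟨fun e => hs.rne (le_bot_iff.1 fun x hx => mem_bot.2 (congrArg Subtype.val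
          (hinj R₁ hcopR ⟨x, hRN hx⟩ hx (mem_bot.1 (e.le (mem_map_of_mem ψ hx)))))),
        hfpf', CfsgLib.Base.isNilpotent_map ψ hM₁n, hq hKM₁, hq hRM₁,
        (hcopK.coprime_dvd_left (card_map_dvd _ ψ)).coprime_dvd_right (card_map_dvd _ ψ),
        (hcopR.coprime_dvd_left (card_map_dvd _ ψ)).coprime_dvd_right (card_map_dvd _ ψ), by
          rw [inf_centralizer_map' hN₁M₁ hKimg (Or.inr hNsolv), hfix, Subgroup.map_bot]⟩ :
        Setting (K₁.map ψ) (R₁.map ψ) (M₁.map ψ))
    have hRc : Nat.card (R₁.map ψ) = Nat.card R₁ := by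
      rw [hψ, CfsgLib.Coprime.card_map_mk', ← inf_relIndex_right,
        inf_comm, CfsgLib.Coprime.inf_eq_bot_of_coprime hRimg, relIndex_bot_left]
    rw [inf_centralizer_map' hN₁M₁ hRimg (Or.inr hNsolv)] at hQc hQk
    set C := M₁ ⊓ centralizer (R₁ : Set H) with hC
    have hCc : Nat.card C = Nat.card ↥(N₁ ⊓ centralizer (R₁ : Set H)) * Nat.card (C.map ψ) := by
      have h : N₁ ⊓ centralizer (R₁ : Set H) = N₁ ⊓ C := by
        rw [hC, ← inf_assoc, inf_eq_left.2 hN₁M₁]
      rw [h, hψ, CfsgLib.Coprime.card_map_mk', ← inf_relIndex_right N₁ C,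
        ← relIndex_bot_left (N₁ ⊓ C), ← relIndex_bot_left C,
        relIndex_mul_relIndex _ _ _ bot_le inf_le_right]
    refine ⟨by rw [hcard, hNc, hQc, hRc, hCc, mul_pow], fun hcyc => ?_⟩
    have h1 : IsCyclic ↥(N₁ ⊓ centralizer (R₁ : Set H)) :=
      isCyclic_of_injective (inclusion (inf_le_inf_right _ hN₁M₁)) (inclusion_injective _)
    have h2 : IsCyclic (C.map ψ) :=
      haveI := hcyc; isCyclic_of_surjective (ψ.subgroupMap C) (ψ.subgroupMap_surjective C)
    intro g hg
    refine mem_centralizer_iff.2 fun m hm => ?_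
    have hgK : g ∈ K₁ := commutator_le_self K₁ hg
    obtain ⟨c, hcg, hmc⟩ := CfsgLib.Coprime.exists_centralizing_in_coset (A := zpowers g) (N := N₁)
      (k := m) (hall _) (hKimg.coprime_dvd_left (card_dvd_of_le (zpowers_le.2 hgK))) (Or.inr hNsolv)
      (fun a ha => by
        refine conj_mem_of_mem_zpowers (hall ⊤ (mem_top g)) ?_ ha
        rw [← QuotientGroup.eq_one_iff, ← QuotientGroup.mk'_apply, ← hψ, map_mul, map_inv, map_mul,
          map_mul, map_inv]
        have := mem_centralizer_iff.1 (hQk h2 (by rw [← map_commutator]; exact mem_map_of_mem ψ hg))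
          (ψ m) (mem_map_of_mem ψ hm)
        rw [← this, mul_inv_cancel_right, inv_mul_cancel])
    have hgc : g * c = c * g := mem_centralizer_iff.1 hcg g (mem_zpowers g)
    have hgn := mem_centralizer_iff.1 (hNk h1 hg) _ hmc
    calc m * g = c * ((m⁻¹ * c)⁻¹ * g) := by group
      _ = c * (g * (m⁻¹ * c)⁻¹) := by
        rw [show (m⁻¹ * c)⁻¹ * g = g * (m⁻¹ * c)⁻¹ by
          rw [inv_mul_eq_iff_eq_mul, ← mul_assoc, hgn, mul_inv_cancel_right]]
      _ = g * m := by rw [← mul_assoc, ← hgc]; group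
  · push Not at hred
    have hinv : ∀ N : Subgroup X, N ≠ ⊥ → N ≤ M → M ≤ normalizer (N : Set X) →
        K ≤ normalizer (N : Set X) → R ≤ normalizer (N : Set X) → N = M := by
      intro N h1 h2 h3 h4 h5
      by_contra h
      exact hred N h1 (lt_of_le_of_ne h2 h) h3 h4 h5
    haveI : Nontrivial M := (M.nontrivial_iff_ne_bot).2 hM1
    -- `M` is elementary abelian
    set Z := (center M).map M.subtype with hZ
    have hZM : Z = M := by
      refine hinv Z (fun e => Group.IsNilpotent.center_ne_bot (G := M)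
        ((map_eq_bot_iff_of_injective _ M.subtype_injective).1 e)) (map_subtype_le _) ?_ ?_ ?_
      · exact le_normalizer.trans (CfsgLib.Base.normalizer_le_normalizer_map_subtype M _)
      · exact hs.hKM.trans (CfsgLib.Base.normalizer_le_normalizer_map_subtype M _)
      · exact hs.hRM.trans (CfsgLib.Base.normalizer_le_normalizer_map_subtype M _)
    have hcomm : ∀ a ∈ M, ∀ b ∈ M, a * b = b * a := by
      intro a ha b hb
      rw [← hZM] at ha
      obtain ⟨a', ha', rfl⟩ := ha
      exact (congrArg Subtype.val (mem_center_iff.1 ha' ⟨b, hb⟩)).symm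
    obtain ⟨ℓ, hℓ, hℓd⟩ := Nat.exists_prime_and_dvd (fun e => hM1 (M.eq_bot_of_card_eq e))
    haveI := Fact.mk hℓ
    let T : Subgroup X :=
      { carrier := {x | x ∈ M ∧ x ^ ℓ = 1}
        one_mem' := ⟨one_mem M, one_pow _⟩
        mul_mem' := fun {a b} ha hb => ⟨mul_mem ha.1 hb.1, by
          rw [(show Commute a b from hcomm a ha.1 b hb.1).mul_pow, ha.2, hb.2, one_mul]⟩
        inv_mem' := fun {a} ha => ⟨inv_mem ha.1, by rw [inv_pow, ha.2, inv_one]⟩ }
    have hTn : ∀ A : Subgroup X, A ≤ normalizer (M : Set X) → A ≤ normalizer (T : Set X) := by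
      intro A hA a ha
      refine mem_normalizer_iff.2 fun x => ?_
      show x ∈ M ∧ x ^ ℓ = 1 ↔ a * x * a⁻¹ ∈ M ∧ (a * x * a⁻¹) ^ ℓ = 1
      rw [conj_pow, conj_eq_one_iff, ← mem_normalizer_iff.1 (hA ha) x]
    have hTM : T = M := by
      refine hinv T ?_ (fun x hx => hx.1) (hTn M le_normalizer) (hTn K hs.hKM) (hTn R hs.hRM)
      obtain ⟨x, hx⟩ := exists_prime_orderOf_dvd_card' ℓ hℓd
      intro e
      have h : (x : X) ∈ T := ⟨x.2, by rw [← SubgroupClass.coe_pow, ← hx, pow_orderOf_eq_one]; rfl⟩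
      rw [e, mem_bot] at h
      exact hℓ.one_lt.ne (by rw [← hx, show x = 1 from Subtype.ext h, orderOf_one])
    have hel : IsElementaryAbelian ℓ M :=
      CfsgLib.Base.isElementaryAbelian_iff.2 ⟨hcomm, fun x hx => (hTM.ge hx).2⟩
    -- a subgroup `A` of `K` abelian on `M`
    set C₀ := K ⊓ centralizer (M : Set X) with hC₀
    have hC₀K : C₀ ≤ K := inf_le_left
    have hC₀n : ∀ A : Subgroup X, A ≤ normalizer (K : Set X) → A ≤ normalizer (M : Set X) →
        A ≤ normalizer (C₀ : Set X) := fun A h1 h2 =>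
      CfsgLib.Coprime.le_normalizer_inf_inf h1 (CfsgLib.Coprime.le_normalizer_centralizer h2)
    haveI : (C₀.subgroupOf K).Normal :=
      normal_subgroupOf_of_le_normalizer (hC₀n K le_normalizer hs.hKM)
    set A := ((center (K ⧸ C₀.subgroupOf K)).comap (QuotientGroup.mk' (C₀.subgroupOf K))).map
      K.subtype with hA
    have hAK : A ≤ K := map_subtype_le _
    have hmemA : ∀ a : X, a ∈ A ↔ a ∈ K ∧ ∀ b ∈ K, ⁅b, a⁆ ∈ C₀ := by
      intro a
      constructor
      · rintro ⟨a', ha', rfl⟩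
        refine ⟨a'.2, fun b hb => ?_⟩
        have h := mem_center_iff.1 (mem_comap.1 ha') (QuotientGroup.mk' _ ⟨b, hb⟩)
        rw [← commute_iff_eq, ← commutatorElement_eq_one_iff_commute, ← map_commutatorElement,
          QuotientGroup.mk'_apply, QuotientGroup.eq_one_iff] at h
        exact h
      · rintro ⟨ha, h⟩
        refine ⟨⟨a, ha⟩, mem_comap.2 (mem_center_iff.2 fun y => ?_), rfl⟩
        obtain ⟨y, rfl⟩ := QuotientGroup.mk'_surjective _ y
        rw [← commute_iff_eq, ← commutatorElement_eq_one_iff_commute, ← map_commutatorElement,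
          QuotientGroup.mk'_apply, QuotientGroup.eq_one_iff]
        exact h y y.2
    have hAn : ∀ B : Subgroup X, B ≤ normalizer (K : Set X) → B ≤ normalizer (M : Set X) →
        B ≤ normalizer (A : Set X) := by
      intro B h1 h2
      have key : ∀ g ∈ B, ∀ a ∈ A, g * a * g⁻¹ ∈ A := by
        intro g hg a ha
        obtain ⟨haK, hac⟩ := (hmemA a).1 ha
        refine (hmemA _).2 ⟨(mem_normalizer_iff.1 (h1 hg) a).1 haK, fun b hb => ?_⟩
        have hb' : g⁻¹ * b * g ∈ K := by
          have := (mem_normalizer_iff.1 (h1 (inv_mem hg)) b).1 hb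
          rwa [inv_inv] at this
        have := (mem_normalizer_iff.1 (hC₀n B h1 h2 hg) _).1 (hac _ hb')
        rwa [conjugate_commutatorElement, show g * (g⁻¹ * b * g) * g⁻¹ = b by group] at this
      intro g hg
      refine mem_normalizer_iff.2 fun a => ⟨key g hg a, fun h => ?_⟩
      have := key g⁻¹ (inv_mem hg) _ h
      rwa [inv_inv, show g⁻¹ * (g * a * g⁻¹) * g = a by group] at this
    have hAC : ¬ A ≤ C₀ := by
      intro h
      have hne : C₀.subgroupOf K ≠ ⊤ := fun e => hM1 (by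
        rw [← inf_idem M]
        refine le_bot_iff.1 (le_trans (inf_le_inf_left M ?_) hs.fix.le)
        intro m hm
        exact mem_centralizer_iff.2 fun a ha =>
          (mem_centralizer_iff.1 (mem_inf.1 (subgroupOf_eq_top.1 e ha)).2 m hm).symm)
      haveI : Nontrivial (K ⧸ C₀.subgroupOf K) := QuotientGroup.nontrivial_iff.2 hne
      haveI := hKn
      apply Group.IsNilpotent.center_ne_bot (G := K ⧸ C₀.subgroupOf K)
      rw [eq_bot_iff]
      intro y hy
      obtain ⟨y, rfl⟩ := QuotientGroup.mk'_surjective _ y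
      rw [mem_bot, QuotientGroup.mk'_apply, QuotientGroup.eq_one_iff]
      exact h (mem_map_of_mem K.subtype (mem_comap.2 hy))
    have hab : ∀ b ∈ K, ∀ a ∈ A, ⁅b, a⁆ ∈ centralizer (M : Set X) := fun b hb a ha =>
      (mem_inf.1 (((hmemA a).1 ha).2 b hb)).2
    have hfix : M ⊓ centralizer (A : Set X) = ⊥ := by
      by_contra hne
      have hn' : ∀ B : Subgroup X, B ≤ normalizer (M : Set X) → B ≤ normalizer (K : Set X) →
          B ≤ normalizer ((M ⊓ centralizer (A : Set X) : Subgroup X) : Set X) := fun B h1 h2 =>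
        CfsgLib.Coprime.le_normalizer_inf_inf h1
          (CfsgLib.Coprime.le_normalizer_centralizer (hAn B h2 h1))
      have he := hinv _ hne inf_le_left
        (fun m hm => mem_normalizer_iff.2 fun x => by
          simp only [mem_inf]
          refine ⟨fun hx => ?_, fun hx => ?_⟩
          · rw [hcomm m hm x hx.1, mul_inv_cancel_right]; exact hx
          · have hxM : x ∈ M := by
              have := mul_mem (mul_mem (inv_mem hm) hx.1) hm
              rwa [show m⁻¹ * (m * x * m⁻¹) * m = x by group] at this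
            rw [hcomm m hm x hxM, mul_inv_cancel_right] at hx
            exact hx)
        (hn' K hs.hKM le_normalizer) (hn' R hs.hRM hs.fpf.1)
      exact hAC (le_inf hAK fun a ha => mem_centralizer_iff.2 fun m hm =>
        (mem_centralizer_iff.1 (mem_inf.1 (he.ge hm)).2 a ha).symm)
    have hcopℓ : ∀ {B : Subgroup X}, (Nat.card B).Coprime (Nat.card M) → ¬ ℓ ∣ Nat.card B :=
      fun h hd => hℓ.not_dvd_one (h.gcd_eq_one ▸ Nat.dvd_gcd hd hℓd)
    have hKR := hs.fpf.coprime
    obtain ⟨h1, h2⟩ := elementary_case hel (hAK.trans hs.hKM) hs.hRM (hAn R hs.fpf.1 hs.hRM)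
      (commutator_le.2 fun a ha b hb => hab a (hAK ha) b hb) hfix
      (fun r hr hr1 a ha hra => by
        have haK := hAK ha
        have h1 : ⁅r, a⁆ ∈ K := by
          rw [commutatorElement_def]
          exact mul_mem ((mem_normalizer_iff.1 (hs.fpf.1 hr) a).1 haK) (inv_mem haK)
        have hrC : r ∈ normalizer (C₀ : Set X) := hC₀n R hs.fpf.1 hs.hRM hr
        have h2 : a⁻¹ * (r * a * r⁻¹) ∈ C₀ := by
          have := (mem_normalizer_iff.1 (hC₀n K le_normalizer hs.hKM (inv_mem haK)) _).1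
            (mem_inf.2 ⟨h1, hra⟩)
          rwa [commutatorElement_def, inv_inv,
            show a⁻¹ * (r * a * r⁻¹ * a⁻¹) * a = a⁻¹ * (r * a * r⁻¹) by group] at this
        obtain ⟨c, hc, hac⟩ := CfsgLib.Coprime.exists_centralizing_in_coset (A := zpowers r)
          (N := C₀) (k := a) (zpowers_le.2 hrC)
          ((hKR.coprime_dvd_left (card_dvd_of_le (zpowers_le.2 hr))).coprime_dvd_right
            (card_dvd_of_le hC₀K)) (Or.inr (CfsgLib.Coprime.isSolvable_of_le hC₀K inferInstance))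
          fun s hs' => conj_mem_of_mem_zpowers hrC h2 hs'
        have hcK : c ∈ K := by
          have := mul_mem haK (hC₀K hac)
          rwa [mul_inv_cancel_left] at this
        rw [hs.fpf.eq_one_of_commute hr hr1 hcK (mem_centralizer_iff.1 hc r (mem_zpowers r)),
          mul_one] at hac
        exact inv_mem_iff.1 (mem_inf.1 hac).2)
      (hcopℓ (hs.copK.coprime_dvd_left (card_dvd_of_le hAK))) (hcopℓ hs.copR)
    refine ⟨h1, fun hcyc => commutator_le.2 fun a ha b hb => ?_⟩
    exact h2 hcyc a (hs.hKM ha) b (hs.hKM hb) (fun c hc => hab a ha c hc) fun c hc => hab b hb c hc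

/-- BG 3.8. -/
theorem main {K R M : Subgroup X} (hR1 : R ≠ ⊥) (hRK : R ≤ normalizer (K : Set X))
    (hfrob : ∀ r ∈ R, r ≠ 1 → K ⊓ centralizer ({r} : Set X) = ⊥) (hM1 : M ≠ ⊥)
    (hMn : Group.IsNilpotent M) (hKM : K ≤ normalizer (M : Set X))
    (hRM : R ≤ normalizer (M : Set X)) (hcop : (Nat.card ↥(K ⊔ R)).Coprime (Nat.card M))
    (hCK : M ⊓ centralizer (K : Set X) = ⊥)
    (hpr : ∀ x ∈ R, x ≠ 1 →
      M ⊓ centralizer ({x} : Set X) = M ⊓ centralizer (R : Set X)) :
    (Nat.card R).Prime ∧ Nat.card M = Nat.card ↥(M ⊓ centralizer (R : Set X)) ^ Nat.card R ∧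
      (IsCyclic ↥(M ⊓ centralizer (R : Set X)) → ⁅K, K⁆ ≤ centralizer (M : Set X)) := by
  have hsK := hcop.coprime_dvd_left (card_dvd_of_le (le_sup_left : K ≤ K ⊔ R))
  have hsR := hcop.coprime_dvd_left (card_dvd_of_le (le_sup_right : R ≤ K ⊔ R))
  obtain ⟨h1, h2⟩ := formula _ rfl (⟨hR1, ⟨hRK, hfrob⟩, hMn, hKM, hRM, hsK, hsR, hCK⟩ :
    Setting K R M)
  refine ⟨?_, h1, h2⟩
  obtain ⟨r, hr, hd⟩ := Nat.exists_prime_and_dvd (fun e => hR1 (R.eq_bot_of_card_eq e))
  have := Fact.mk hr
  obtain ⟨x, hx⟩ := exists_prime_orderOf_dvd_card' r hd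
  have hx1 : (x : X) ≠ 1 := fun e => hr.one_lt.ne (by
    rw [← hx, show x = 1 from Subtype.ext e, orderOf_one])
  set R₀ := zpowers (x : X) with hR₀
  have hle : R₀ ≤ R := zpowers_le.2 x.2
  have hR₀c : Nat.card R₀ = r := by rw [Nat.card_zpowers, orderOf_coe, hx]
  obtain ⟨h3, -⟩ := formula _ rfl (⟨fun e => hx1 (mem_bot.1 (e.le (mem_zpowers _))),
    ⟨hle.trans hRK, fun a ha => hfrob a (hle ha)⟩, hMn, hKM, hle.trans hRM, hsK,
    hsR.coprime_dvd_left (card_dvd_of_le hle), hCK⟩ : Setting K R₀ M)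
  have hC : M ⊓ centralizer (R₀ : Set X) = M ⊓ centralizer (R : Set X) := by
    rw [hR₀, ← hpr x x.2 hx1]
    refine le_antisymm (inf_le_inf_left _ (Subgroup.centralizer_le
      (Set.singleton_subset_iff.2 (mem_zpowers _)))) (inf_le_inf_left _ fun y hy => ?_)
    refine mem_centralizer_iff.2 fun a ha => ?_
    obtain ⟨i, rfl⟩ := ha
    exact (Commute.zpow_left (mem_centralizer_singleton_iff.1 hy).symm i).eq
  rw [hC, hR₀c, h1] at h3
  have hC1 : 1 < Nat.card ↥(M ⊓ centralizer (R : Set X)) := by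
    refine lt_of_le_of_ne Nat.card_pos fun e => hM1 (M.eq_bot_of_card_eq ?_)
    rw [h1, ← e, one_pow]
  exact (Nat.pow_right_injective hC1 h3).symm ▸ hr

end CfsgLib.OddOrder.FrobeniusAction
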