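import Cfsg.Agent.Lib.OddOrder.FixedPoints
import Cfsg.Agent.Lib.OddOrder.FittingHall
import Cfsg.Agent.Lib.Base.MinimalNormal
import Cfsg.Agent.Lib.PGroups.Basic
import Cfsg.Agent.Lib.Coprime.Action

/-!
The primary parts `O_p(H)` of the Fitting subgroup of a subgroup `H`, their centres, and
self-centralizing subgroups of nilpotent groups.
-/

set_option autoImplicit false
set_option linter.unusedSectionVars false

open scoped commutatorElement

namespace CfsgLib.OddOrder

open Cfsg
open Subgroup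

variable {G : Type*} [Group G] [Finite G]

/-- A proper subgroup of a nilpotent subgroup is smaller than its normalizer there. -/
theorem lt_inf_normalizer_of_isNilpotent {F M : Subgroup G} (hF : Group.IsNilpotent F)
    (hMF : M < F) : M < F ⊓ normalizer (M : Set G) := by
  have hlt : M.subgroupOf F < ⊤ := lt_top_iff_ne_top.2 fun h => hMF.not_ge (subgroupOf_eq_top.1 h)
  have h := normalizerCondition_of_isNilpotent (h := hF) _ hlt
  obtain ⟨x, hx, hxM⟩ := Set.exists_of_ssubset h
  refine lt_of_le_of_ne (le_inf hMF.le le_normalizer) fun he => hxM ?_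
  show (x : G) ∈ M
  rw [he]
  refine ⟨x.2, ?_⟩
  show (x : G) ∈ normalizer (M : Set G)
  rw [mem_normalizer_iff]
  intro g
  by_cases hg : g ∈ F
  · exact mem_normalizer_iff.1 hx ⟨g, hg⟩
  · refine ⟨fun h1 => absurd (hMF.le h1) hg, fun h1 => absurd ?_ hg⟩
    have h2 := F.mul_mem (F.mul_mem (F.inv_mem x.2) (hMF.le h1)) x.2
    simpa [mul_assoc] using h2

/-- `P × Q` for nilpotent groups: a coprime group of operators centralizing a self-centralizing
subgroup centralizes everything. -/
theorem le_centralizer_of_self_centralizing {F M Y : Subgroup G} (hF : Group.IsNilpotent F)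
    (hYF : Y ≤ normalizer (F : Set G)) (hcop : (Nat.card Y).Coprime (Nat.card F)) (hMF : M ≤ F)
    (hCM : F ⊓ centralizer (M : Set G) ≤ M) (hYM : Y ≤ centralizer (M : Set G)) :
    Y ≤ centralizer (F : Set G) := by
  induction M using WellFoundedGT.induction with
  | _ M ih =>
  rcases eq_or_lt_of_le hMF with rfl | hlt
  · exact hYM
  set N := F ⊓ normalizer (M : Set G) with hN
  have hMN := lt_inf_normalizer_of_isNilpotent hF hlt
  refine ih N hMN inf_le_left ((inf_le_inf_left _ (centralizer_le (hMN.le))).trans (hCM.trans hMN.le))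
    (le_centralizer_of_commutator_le (hcop.coprime_dvd_right (card_dvd_of_le hMF)) ?_ hYM)
  refine commutator_le.2 fun n hn y hy => hCM ⟨?_, ?_⟩
  · rw [commutatorElement_def, mul_assoc, mul_assoc]
    refine F.mul_mem hn.1 ?_
    simpa [mul_assoc] using (mem_normalizer_iff.1 (hYF hy) _).1 (F.inv_mem hn.1)
  · show ⁅n, y⁆ ∈ centralizer (M : Set G)
    rw [mem_centralizer_iff]
    intro m hm
    have hyc : ∀ a ∈ M, y * a * y⁻¹ = a := fun a ha => by
      rw [← mem_centralizer_iff.1 (hYM hy) a ha, mul_inv_cancel_right]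
    have h1 : n⁻¹ * m * n ∈ M := (mem_normalizer_iff''.1 hn.2 _).1 hm
    have h2 : ⁅n, y⁆ * m * ⁅n, y⁆⁻¹ = m := by
      calc ⁅n, y⁆ * m * ⁅n, y⁆⁻¹ = n * (y * (n⁻¹ * (y⁻¹ * m * y⁻¹⁻¹) * n) * y⁻¹) * n⁻¹ := by
            simp only [commutatorElement_def]; group
        _ = m := by
          have h3 : y⁻¹ * m * y⁻¹⁻¹ = m := by
            rw [inv_inv, mul_assoc, mem_centralizer_iff.1 (hYM hy) m hm, inv_mul_cancel_left]
          rw [h3, hyc _ h1]
          group
    calc m * ⁅n, y⁆ = ⁅n, y⁆ * m * ⁅n, y⁆⁻¹ * ⁅n, y⁆ := by rw [h2]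
      _ = ⁅n, y⁆ * m := inv_mul_cancel_right _ _

/-- `O_p(H)` for a subgroup `H`, as a subgroup of `G`. -/
def opOf (p : ℕ) (H : Subgroup G) : Subgroup G := (pCore p H).map H.subtype

/-- The centre of `O_p(H)`. -/
def centerOp (p : ℕ) (H : Subgroup G) : Subgroup G := opOf p H ⊓ centralizer (opOf p H : Set G)

theorem opOf_le (p : ℕ) (H : Subgroup G) : opOf p H ≤ H := map_subtype_le _

theorem isPGroup_opOf (p : ℕ) (H : Subgroup G) : IsPGroup p (opOf p H) :=
  CfsgLib.Base.isPGroup_map_pCore p H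

theorem le_normalizer_opOf (p : ℕ) (H : Subgroup G) : H ≤ normalizer (opOf p H : Set G) :=
  CfsgLib.Base.le_normalizer_map_pCore H

theorem le_opOf {p : ℕ} {A H : Subgroup G} (hAH : A ≤ H) (hn : H ≤ normalizer (A : Set G))
    (hA : IsPGroup p A) : A ≤ opOf p H :=
  CfsgLib.Base.le_map_pCore hAH hn hA

theorem le_normalizer_centerOp (p : ℕ) (H : Subgroup G) :
    H ≤ normalizer (centerOp p H : Set G) :=
  CfsgLib.Coprime.le_normalizer_inf_inf (le_normalizer_opOf p H)
    (CfsgLib.Coprime.le_normalizer_centralizer (le_normalizer_opOf p H))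

theorem opOf_le_fittingOf (p : ℕ) [Fact p.Prime] (H : Subgroup G) : opOf p H ≤ fittingOf H :=
  map_mono (CfsgLib.Base.pCore_le_fittingSubgroup p H)

theorem fittingOf_le' (H : Subgroup G) : fittingOf H ≤ H := map_subtype_le _

theorem fittingOf_eq_iSup (H : Subgroup G) : fittingOf H = ⨆ p : Nat.Primes, opOf (p : ℕ) H := by
  rw [fittingOf, CfsgLib.Base.fittingSubgroup_eq_iSup_pCore, Subgroup.map_iSup]
  rfl

theorem le_opOf_of_le_fittingOf {p : ℕ} [Fact p.Prime] {A H : Subgroup G} (hA : IsPGroup p A)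
    (hAF : A ≤ fittingOf H) : A ≤ opOf p H := by
  have hnil := isNilpotent_fittingOf H
  set A' := A.subgroupOf (fittingOf H) with hA'
  obtain ⟨P, hP⟩ := (hA.of_equiv (subgroupOfEquivOfLe hAF).symm : IsPGroup p A').exists_le_sylow
  have hPn : (P : Subgroup (fittingOf H)).Normal := inferInstance
  have h1 : A ≤ ((P : Subgroup (fittingOf H))).map (fittingOf H).subtype := by
    rw [← map_subgroupOf_eq_of_le hAF]
    exact map_mono hP
  refine h1.trans (le_opOf ((map_subtype_le _).trans (fittingOf_le' H)) ?_ (P.isPGroup'.map _))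
  have hch : (P : Subgroup (fittingOf H)).Characteristic := P.characteristic_of_normal hPn
  exact (le_normalizer_fittingOf H).trans (CfsgLib.Base.normalizer_le_normalizer_map_subtype _ _)

theorem opOf_le_centralizer {s t : ℕ} [Fact s.Prime] [Fact t.Prime] (h : s ≠ t) (H : Subgroup G) :
    opOf t H ≤ centralizer (opOf s H : Set G) := by
  rw [← commutator_eq_bot_iff_le_centralizer, eq_bot_iff]
  refine le_trans (commutator_le.2 fun a ha b hb => ⟨?_, ?_⟩ :
      ⁅opOf t H, opOf s H⁆ ≤ opOf t H ⊓ opOf s H) ?_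
  · show ⁅a, b⁆ ∈ opOf t H
    rw [commutatorElement_def, mul_assoc, mul_assoc]
    refine Subgroup.mul_mem _ ha ?_
    simpa [mul_assoc] using
      (mem_normalizer_iff.1 (le_normalizer_opOf t H (opOf_le s H hb)) _).1 (Subgroup.inv_mem _ ha)
  · show ⁅a, b⁆ ∈ opOf s H
    rw [commutatorElement_def]
    exact Subgroup.mul_mem _ ((mem_normalizer_iff.1 (le_normalizer_opOf s H (opOf_le t H ha)) _).1 hb)
      (Subgroup.inv_mem _ hb)
  · exact (disjoint_iff.1 ((isPGroup_opOf t H).disjoint_of_ne t s h.symm _ _ (isPGroup_opOf s H))).le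

theorem opOf_ne_bot {t : ℕ} [Fact t.Prime] {H : Subgroup G} (h : t ∣ Nat.card (fittingOf H)) :
    opOf t H ≠ ⊥ := by
  obtain ⟨x, hx⟩ := exists_prime_orderOf_dvd_card' t h
  intro hbot
  have hp : IsPGroup t (zpowers (x : G)) := by
    refine IsPGroup.of_card (n := 1) ?_
    rw [Nat.card_zpowers, orderOf_coe, hx, pow_one]
  have h1 := le_opOf_of_le_fittingOf hp (zpowers_le.2 x.2)
  rw [hbot, le_bot_iff, zpowers_eq_bot, ← orderOf_eq_one_iff, orderOf_coe, hx] at h1
  exact (Fact.out : t.Prime).ne_one h1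

theorem dvd_card_fittingOf {t : ℕ} [Fact t.Prime] {H : Subgroup G} (h : opOf t H ≠ ⊥) :
    t ∣ Nat.card (fittingOf H) := by
  obtain ⟨n, hn⟩ := IsPGroup.iff_card.mp (isPGroup_opOf t H)
  rcases n with _ | n
  · exact absurd (card_eq_one.1 (by simpa using hn)) h
  · exact ((dvd_pow_self t n.succ_ne_zero).trans (hn ▸ dvd_rfl)).trans
      (card_dvd_of_le (opOf_le_fittingOf t H))

theorem centerOp_le_centralizer_fittingOf (t : ℕ) [Fact t.Prime] (H : Subgroup G) :
    centerOp t H ≤ fittingOf H ⊓ centralizer (fittingOf H : Set G) := by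
  refine le_inf (inf_le_left.trans (opOf_le_fittingOf t H)) (le_centralizer_iff.1 ?_)
  rw [fittingOf_eq_iSup, iSup_le_iff]
  intro s
  have : Fact (s : ℕ).Prime := ⟨s.2⟩
  rw [le_centralizer_iff]
  by_cases hs : (s : ℕ) = t
  · rw [hs]; exact inf_le_right
  · exact inf_le_left.trans (opOf_le_centralizer hs H)

theorem centerOp_ne_bot {t : ℕ} [Fact t.Prime] {H : Subgroup G}
    (h : t ∣ Nat.card (fittingOf H)) : centerOp t H ≠ ⊥ := by
  have hne := opOf_ne_bot h
  have : Nontrivial (opOf t H) := (nontrivial_iff_ne_bot _).2 hne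
  have := (isPGroup_opOf t H).center_nontrivial
  obtain ⟨z, hz⟩ := exists_ne (1 : center (opOf t H))
  intro hbot
  refine hz (Subtype.ext (Subtype.ext (mem_bot.1 (hbot ▸ ⟨z.1.2, mem_centralizer_iff.2 fun w hw => ?_⟩))))
  exact congrArg Subtype.val (mem_center_iff.1 z.2 ⟨w, hw⟩)

/-- In a solvable subgroup the Fitting subgroup contains its centralizer. -/
theorem inf_centralizer_fittingOf_le {H : Subgroup G} [Group.IsSolvable H] :
    H ⊓ centralizer (fittingOf H : Set G) ≤ fittingOf H := by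
  rintro x ⟨hxH, hxC⟩
  refine ⟨⟨x, hxH⟩, CfsgLib.Base.centralizer_fittingSubgroup_le
    (mem_centralizer_iff.2 fun f hf => Subtype.ext ?_), rfl⟩
  exact mem_centralizer_iff.1 hxC f ⟨f, hf, rfl⟩

end CfsgLib.OddOrder
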