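import Cfsg.Agent.Lib.FT.BG13.FixedPointPrime
import Cfsg.Agent.Lib.OddOrder.RankTwoFitting
import Cfsg.Agent.Lib.OddOrder.FittingHall
import Cfsg.Agent.Lib.OddOrder.FittingLocal
import Cfsg.Agent.Lib.Techniques.SylIn
import Cfsg.Agent.Lib.FT.BG15.General

/-!
BG Theorem 3.7: in a solvable group `K R` of odd order with a prime action of `R` on `K`, without
fixed points on `F(K)`, the commutator `[K, R]` lies in `F(K)`.
-/

set_option autoImplicit false
set_option linter.style.haveILetI false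

open Cfsg CfsgLib.Techniques Subgroup
open scoped commutatorElement

namespace CfsgLib.OddOrder.PrimeActionFitting

variable {G : Type*} [Group G] [Finite G]

omit [Finite G] in
theorem normal_map_subtype (K : Subgroup G) [hK : K.Normal] (H : Subgroup K) [H.Characteristic] :
    (H.map K.subtype).Normal := by
  rw [← normalizer_eq_top_iff, eq_top_iff]
  refine le_trans ?_ (CfsgLib.Base.normalizer_le_normalizer_map_subtype K _)
  rw [normalizer_eq_top_iff.2 hK]

/-- If `R` centralises a Hall `p'`-subgroup of `K` and `O_p(K) = 1` then `R` centralises `K`. -/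
theorem le_centralizer_of_hall [Group.IsSolvable G] {p : ℕ} [hp : Fact p.Prime] {K R Q : Subgroup G}
    [hKn : K.Normal] (hcop : (Nat.card R).Coprime (Nat.card K))
    (hQ : IsPiHallOf {q | q.Prime ∧ q ≠ p} Q K) (hQR : Q ≤ centralizer (R : Set G))
    (hcore : ∀ T : Subgroup G, T.Normal → T ≤ K → IsPGroup p T → T = ⊥) :
    K ≤ centralizer (R : Set G) := by
  haveI : (fittingOf K).Normal := normal_map_subtype K _
  set F := fittingOf K with hF
  have hFK : F ≤ K := CfsgLib.OddOrder.fittingOf_le K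
  haveI := CfsgLib.OddOrder.isNilpotent_fittingOf K
  have hFp : ¬ p ∣ Nat.card F := by
    intro hd
    obtain ⟨P⟩ : Nonempty (Sylow p F) := inferInstance
    haveI hPn : (P : Subgroup F).Normal :=
      ((Group.isNilpotent_of_finite_tfae (G := F)).out 0 3 rfl rfl).1 inferInstance p inferInstance P
    haveI := P.characteristic_of_normal hPn
    exact P.ne_bot_of_dvd_card hd ((map_eq_bot_iff_of_injective _ F.subtype_injective).1
      (hcore _ (normal_map_subtype F _) ((map_subtype_le _).trans hFK) (P.isPGroup'.map _)))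
  have hFQ : F ≤ Q := by
    refine (le_sup_left : F ≤ F ⊔ Q).trans (relIndex_eq_one.1 (by_contra fun hne => ?_))
    obtain ⟨q, hq, hd⟩ := Nat.exists_prime_and_dvd hne
    have h1 : q ≠ p := by
      have hd2 : q ∣ Nat.card ↥(F ⊔ Q) :=
        hd.trans (by rw [← relIndex_bot_left]; exact relIndex_dvd_of_le_left _ bot_le)
      rw [sup_comm] at hd2
      rcases hq.dvd_mul.1 (hd2.trans (CfsgLib.Coprime.card_sup_dvd
        (fun a _ => le_normalizer_of_normal (K := ⊤) (mem_top a)))) with h | h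
      · exact (hQ.2.1 q hq h).2
      · exact fun e => hFp (e ▸ h)
    exact hQ.2.2 q hq ⟨hq, h1⟩
      (hd.trans (Dvd.intro _ (relIndex_mul_relIndex _ _ _ le_sup_right (sup_le hFK hQ.1))))
  have h1 : ⁅R, F⁆ = ⊥ := by
    rw [commutator_eq_bot_iff_le_centralizer]
    exact fun a ha => mem_centralizer_iff.2 fun b hb =>
      (mem_centralizer_iff.1 (hQR (hFQ hb)) a ha).symm
  have h2 : ⁅⁅K, R⁆, F⁆ = ⊥ := by
    refine commutator_commutator_eq_bot_of_rotate (by rw [h1, commutator_bot_left]) ?_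
    rw [eq_bot_iff, ← h1, commutator_comm R F]
    exact commutator_mono (commutator_le_left F K) le_rfl
  have hRK : R ≤ normalizer (K : Set G) := fun a _ => le_normalizer_of_normal (K := ⊤) (mem_top a)
  have h3 : ⁅K, R⁆ ≤ F := fun x hx => CfsgLib.OddOrder.inf_centralizer_fittingOf_le
    (mem_inf.2 ⟨CfsgLib.Coprime.commutator_le_of_le_normalizer hRK hx,
      commutator_eq_bot_iff_le_centralizer.1 h2 hx⟩)
  have h4 : ⁅K, R⁆ = ⊥ := by
    rw [← CfsgLib.Coprime.commutator_commutator_eq hRK hcop (Or.inr inferInstance), eq_bot_iff,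
      ← h1, commutator_comm R F]
    exact commutator_mono h3 le_rfl
  exact commutator_eq_bot_iff_le_centralizer.1 h4

/-- The commutator with a fixed-point-free prime order group acts on a normal `p`-subgroup as a
`p`-group. -/
theorem exists_pow_mem_centralizer_of_fpf [Group.IsSolvable G] {p : ℕ} [hp : Fact p.Prime]
    {K R V : Subgroup G} [hK : K.Normal] [hVn : V.Normal] (hVK : V ≤ K) (hV : IsPGroup p V)
    (hodd : Odd (Nat.card K)) (hR : (Nat.card R).Prime)
    (hcop : (Nat.card R).Coprime (Nat.card K))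
    (hfix : V ⊓ centralizer (R : Set G) = ⊥) {x : G} (hx : x ∈ ⁅K, R⁆) :
    ∃ k : ℕ, x ^ p ^ k ∈ centralizer (V : Set G) := by
  by_cases hV1 : V = ⊥
  · exact ⟨0, mem_centralizer_iff.2 fun v hv => by subst hV1; rw [mem_bot.1 hv]; simp⟩
  have hrp : Nat.card R ≠ p := fun e => by
    obtain ⟨i, hi⟩ := IsPGroup.iff_card.1 hV
    have hpV : p ∣ Nat.card V := hi ▸ dvd_pow_self p (by
      rintro rfl
      exact hV1 (eq_bot_of_card_eq V (by simpa using hi)))
    exact hp.out.not_dvd_one (hcop.gcd_eq_one ▸ Nat.dvd_gcd e.symm.dvd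
      (hpV.trans (card_dvd_of_le hVK)))
  haveI : (centralizer (V : Set G)).Normal := normal_centralizer
  set C := K ⊓ centralizer (V : Set G) with hC
  haveI hCn : C.Normal := normal_inf_normal _ _
  obtain ⟨N, ⟨hNn, hCN, hNK, k, hk⟩, hmax⟩ :=
    Set.Finite.exists_maximal (s := {N : Subgroup G | N.Normal ∧ C ≤ N ∧ N ≤ K ∧
      ∃ k : ℕ, C.relIndex N = p ^ k}) (Set.toFinite _)
      ⟨C, hCn, le_rfl, inf_le_left, 0, by rw [relIndex_self, pow_zero]⟩
  haveI := hNn
  obtain ⟨Q, hQ, hRQ⟩ := CfsgLib.Coprime.exists_invariant_piHall (π := {q | q.Prime ∧ q ≠ p})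
    (fun a _ => le_normalizer_of_normal (K := ⊤) (mem_top a) : R ≤ normalizer (K : Set G))
    hcop (Or.inr inferInstance) (CfsgLib.Coprime.hallD_of_solvable _)
  have hQC : ⁅Q, R⁆ ≤ C := le_inf
    ((commutator_mono hQ.1 le_rfl).trans (commutator_le_left K R))
    (CfsgLib.FT.BG13.FixedPointPrime.commutator_le_centralizer_of_fpf hp.out hR rfl hV hrp
      (fun a _ => le_normalizer_of_normal (K := ⊤) (mem_top a))
      (fun a _ => le_normalizer_of_normal (K := ⊤) (mem_top a)) hRQ inferInstance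
      (hodd.of_dvd_nat (card_dvd_of_le hQ.1))
      (fun h => hR.not_dvd_one
        (hcop.gcd_eq_one ▸ Nat.dvd_gcd dvd_rfl (h.trans (card_dvd_of_le hQ.1))))
      (fun h => (hQ.2.1 p hp.out h).2 rfl) hfix)
  set φ := QuotientGroup.mk' N with hφ
  have hsurj := QuotientGroup.mk'_surjective N
  haveI : Group.IsSolvable (G ⧸ N) := Group.isSolvable_of_surjective hsurj
  haveI : (K.map φ).Normal := hK.map φ hsurj
  have hKR : K.map φ ≤ centralizer ((R.map φ : Subgroup _) : Set (G ⧸ N)) := by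
    refine le_centralizer_of_hall (p := p) (Q := Q.map φ)
      ((hcop.coprime_dvd_left (card_map_dvd R φ)).coprime_dvd_right (card_map_dvd K φ))
      ⟨map_mono hQ.1, fun q hq hd => hQ.2.1 q hq (hd.trans (card_map_dvd Q φ)), fun q hq hπ hd =>
        hQ.2.2 q hq hπ (hd.trans (CfsgLib.Coprime.relIndex_map_dvd φ Q K))⟩ ?_ ?_
    · rw [← commutator_eq_bot_iff_le_centralizer, ← map_commutator, Subgroup.map_eq_bot_iff, hφ,
        QuotientGroup.ker_mk']
      exact hQC.trans hCN
    · intro T hT hTK hTp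
      set N' := T.comap φ with hN'
      have hNN' : N ≤ N' := by
        intro n hn
        rw [hN', mem_comap, show φ n = 1 from (QuotientGroup.eq_one_iff n).2 hn]
        exact one_mem T
      have hN'K : N' ≤ K := by
        refine (comap_mono hTK).trans ?_
        rw [hφ, QuotientGroup.comap_map_mk', sup_eq_right.2 hNK]
      have hTN' : N'.map φ = T := map_comap_eq_self_of_surjective hsurj T
      obtain ⟨j, hj⟩ := IsPGroup.iff_card.1 hTp
      have hmem : N' ∈ {N : Subgroup G | N.Normal ∧ C ≤ N ∧ N ≤ K ∧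
          ∃ k : ℕ, C.relIndex N = p ^ k} := by
        refine ⟨hT.comap φ, hCN.trans hNN', hN'K, k + j, ?_⟩
        rw [← relIndex_mul_relIndex C N N' hCN hNN', hk,
          ← CfsgLib.Coprime.card_map_mk' N N', ← hφ, hTN', hj, pow_add]
      have h1 : N' ≤ N := hmax hmem hNN'
      rw [← hTN', Subgroup.map_eq_bot_iff, hφ, QuotientGroup.ker_mk']
      exact h1
  have hxN : x ∈ N := by
    have h1 : ⁅K, R⁆.map φ = ⊥ := by
      rw [map_commutator, commutator_eq_bot_iff_le_centralizer]
      exact hKR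
    rw [Subgroup.map_eq_bot_iff, hφ, QuotientGroup.ker_mk'] at h1
    exact h1 hx
  refine ⟨k, (mem_inf.1 (?_ : x ^ p ^ k ∈ C)).2⟩
  have h2 := (C.subgroupOf N).pow_index_mem ⟨x, hxN⟩
  rw [show (C.subgroupOf N).index = p ^ k from hk, mem_subgroupOf, SubgroupClass.coe_pow] at h2
  exact h2

/-- BG 3.7 for a group of prime order. -/
theorem commutator_le_fittingOf_of_prime [Group.IsSolvable G] {K R : Subgroup G} [hK : K.Normal]
    (hodd : Odd (Nat.card K)) (hR : (Nat.card R).Prime)
    (hcop : (Nat.card R).Coprime (Nat.card K))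
    (hF : fittingOf K ⊓ centralizer (R : Set G) = ⊥) : ⁅K, R⁆ ≤ fittingOf K := by
  classical
  set F := fittingOf K with hFdef
  set W := ⁅K, R⁆ with hW
  have hWK : W ≤ K := commutator_le_left K R
  let O : ℕ → Subgroup G := fun q => (pCore q K).map K.subtype
  have hOn : ∀ q, (O q).Normal := fun q => normal_map_subtype K _
  have hpow : ∀ {q : ℕ}, q.Prime → ∀ x ∈ W, ∃ k : ℕ, x ^ q ^ k ∈ centralizer (O q : Set G) := by
    intro q hq x hx
    have := Fact.mk hq
    haveI := hOn q
    refine exists_pow_mem_centralizer_of_fpf (map_subtype_le _)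
      ((CfsgLib.Base.isPGroup_pCore q K).map _) hodd hR hcop ?_ hx
    exact le_bot_iff.1 ((inf_le_inf_right _
      (map_mono (CfsgLib.Base.pCore_le_fittingSubgroup q K))).trans hF.le)
  have hprimary : ∀ {q : ℕ}, q.Prime → ∀ z ∈ F, (∃ j : ℕ, z ^ q ^ j = 1) → z ∈ O q := by
    rintro q hq z ⟨z', hz', rfl⟩ ⟨j, hj⟩
    have := Fact.mk hq
    exact mem_map_of_mem _ (CfsgLib.OddOrder.pPower_mem_pCore_of_mem_fitting hz' (k := j)
      (K.subtype_injective (by rw [map_pow, map_one]; exact hj)))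
  refine fun x hx => CfsgLib.OddOrder.mem_of_primary_parts F x fun p hp _ z hz hzk => ?_
  have := Fact.mk hp
  have hzW : z ∈ W := zpowers_le.2 hx hz
  -- the elements of `W` acting trivially on the other `O_q`
  let Cp : Subgroup G :=
    W ⊓ ⨅ q ∈ {q : ℕ | q.Prime ∧ q ≠ p}, centralizer (O q : Set G)
  have hCpW : Cp ≤ W := inf_le_left
  have hCpO : ∀ c ∈ Cp, ∀ q, q.Prime → q ≠ p → c ∈ centralizer (O q : Set G) := by
    intro c hc q hq hqp
    have h := (mem_inf.1 hc).2
    simp only [mem_iInf] at h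
    exact h q ⟨hq, hqp⟩
  have hzCp : z ∈ Cp := by
    refine mem_inf.2 ⟨hzW, ?_⟩
    simp only [mem_iInf]
    rintro q ⟨hq, hqp⟩
    obtain ⟨j, hj⟩ := hzk
    obtain ⟨k, hk⟩ := hpow hq z hzW
    obtain ⟨i, -, hi⟩ := (Nat.dvd_prime_pow hp).1 (orderOf_dvd_of_pow_eq_one hj)
    exact CfsgLib.OddOrder.mem_of_pow_mem_of_orderOf hp hq hqp hi hk
  -- `Cp` is nilpotent
  have hnil : Group.IsNilpotent Cp := by
    refine Group.of_quotient_center_nilpotent
      (IsPGroup.isNilpotent (p := p) (G := Cp ⧸ center Cp) fun y => ?_)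
    induction y using QuotientGroup.induction_on with
    | H y =>
      obtain ⟨k, hk⟩ := hpow hp y (hCpW y.2)
      set z₀ := (y : G) ^ p ^ k with hz₀
      have hz₀Cp : z₀ ∈ Cp := pow_mem y.2 _
      have hz₀K : z₀ ∈ K := hWK (hCpW hz₀Cp)
      have hz₀F : z₀ ∈ F := by
        refine CfsgLib.OddOrder.inf_centralizer_fittingOf_le
          (mem_inf.2 ⟨hz₀K, mem_centralizer_iff.2 fun f hf => ?_⟩)
        refine (mem_centralizer_singleton_iff.1 (CfsgLib.OddOrder.mem_of_primary_parts
          (centralizer ({z₀} : Set G)) f fun q hq _ w hw hwk => ?_))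
        have hwO := hprimary hq w (zpowers_le.2 hf hw) hwk
        rw [mem_centralizer_singleton_iff]
        by_cases hqp : q = p
        · subst hqp
          exact mem_centralizer_iff.1 hk w hwO
        · exact mem_centralizer_iff.1 (hCpO z₀ hz₀Cp q hq hqp) w hwO
      obtain ⟨a, b, ha, hb, hab, hap, hbp⟩ := CfsgLib.FT.BG15.exists_pi_split {p} z₀
      obtain ⟨m, hm⟩ : ∃ m : ℕ, orderOf a = p ^ m :=
        ⟨_, Nat.eq_prime_pow_of_unique_prime_dvd (orderOf_pos a).ne' fun {q} hq hd => hap q hq hd⟩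
      have hbCp : b ∈ Cp := zpowers_le.2 hz₀Cp hb
      have hbc : (⟨b, hbCp⟩ : Cp) ∈ center Cp := by
        refine mem_center_iff.2 fun g => Subtype.ext ?_
        refine mem_centralizer_singleton_iff.1 (CfsgLib.OddOrder.mem_of_primary_parts
          (centralizer ({(g : G)} : Set G)) b fun q hq hqd w hw hwk => ?_) |>.symm
        rw [mem_centralizer_singleton_iff]
        exact mem_centralizer_iff.1 (hCpO g g.2 q hq fun e => hbp q hq hqd e) w
          (hprimary hq w (zpowers_le.2 hz₀F (zpowers_le.2 hb hw)) hwk)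
      refine ⟨k + m, ?_⟩
      rw [← QuotientGroup.mk_pow, QuotientGroup.eq_one_iff]
      have hcomm : Commute a b := by
        obtain ⟨i, rfl⟩ := ha
        obtain ⟨j, rfl⟩ := hb
        exact (Commute.refl z₀).zpow_zpow i j
      have h1 : y ^ p ^ (k + m) = (⟨b, hbCp⟩ : Cp) ^ p ^ m := by
        refine Subtype.ext ?_
        rw [SubgroupClass.coe_pow, SubgroupClass.coe_pow, pow_add, pow_mul, ← hz₀, ← hab,
          hcomm.mul_pow, ← hm, pow_orderOf_eq_one, one_mul]
      rw [h1]
      exact pow_mem hbc _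
  -- `Cp` is normal in `K`
  have hn : K ≤ normalizer (Cp : Set G) := by
    refine CfsgLib.Coprime.le_normalizer_inf_inf (normalizer_commutator_ge_left K R) fun a _ => ?_
    haveI : (⨅ q ∈ {q : ℕ | q.Prime ∧ q ≠ p}, centralizer (O q : Set G)).Normal :=
      normal_iInf_normal fun q => normal_iInf_normal fun _ => haveI := hOn q; normal_centralizer
    exact le_normalizer_of_normal (K := ⊤) (mem_top a)
  exact CfsgLib.Base.le_map_fittingSubgroup (hCpW.trans hWK) hn hnil hzCp

/-- BG 3.7. -/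
theorem commutator_le_fittingOf [Group.IsSolvable G] (hodd : Odd (Nat.card G)) {K R : Subgroup G}
    [hK : K.Normal] (hcop : (Nat.card K).Coprime (Nat.card R))
    (hprime : ∀ x ∈ R, x ≠ 1 →
      K ⊓ centralizer ({x} : Set G) = K ⊓ centralizer (R : Set G))
    (hF : fittingOf K ⊓ centralizer (R : Set G) = ⊥) : ⁅K, R⁆ ≤ fittingOf K := by
  by_cases hR1 : R = ⊥
  · rw [hR1, commutator_bot_right]
    exact bot_le
  obtain ⟨r, hr, hd⟩ := Nat.exists_prime_and_dvd (fun e => hR1 (R.eq_bot_of_card_eq e))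
  have := Fact.mk hr
  obtain ⟨x, hx⟩ := exists_prime_orderOf_dvd_card' r hd
  have hx1 : (x : G) ≠ 1 := fun e => hr.one_lt.ne (by
    rw [← hx, show x = 1 from Subtype.ext e, orderOf_one])
  set R₀ := zpowers (x : G) with hR₀
  have hR₀R : R₀ ≤ R := zpowers_le.2 x.2
  have hcard : Nat.card R₀ = r := by rw [Nat.card_zpowers, orderOf_coe, hx]
  have hC : K ⊓ centralizer (R₀ : Set G) = K ⊓ centralizer (R : Set G) := by
    rw [hR₀, CfsgLib.FT.BG13.centralizer_zpowers', hprime x x.2 hx1]
  have hcop₀ : (Nat.card R₀).Coprime (Nat.card K) :=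
    (hcop.coprime_dvd_right (card_dvd_of_le hR₀R)).symm
  have hFK : fittingOf K ≤ K := CfsgLib.OddOrder.fittingOf_le K
  have h0 := commutator_le_fittingOf_of_prime (hodd.of_dvd_nat (card_subgroup_dvd_card K))
    (hcard ▸ hr) hcop₀ (le_bot_iff.1 ((le_inf inf_le_left ((le_inf (inf_le_left.trans hFK)
      inf_le_right).trans (hC.le.trans inf_le_right))).trans hF.le))
  haveI : (fittingOf K).Normal := normal_map_subtype K _
  rw [commutator_le]
  intro y hy a ha
  obtain ⟨c, hc, hyc⟩ := CfsgLib.Coprime.exists_commutator_mul_centralizer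
    (fun b _ => le_normalizer_of_normal (K := ⊤) (mem_top b) : R₀ ≤ normalizer (K : Set G))
    hcop₀ (Or.inr inferInstance) hy
  have hcR : c ∈ centralizer (R : Set G) := (hC.le hc).2
  set f := y * c⁻¹ with hf
  have hfF : f ∈ fittingOf K := h0 hyc
  have hca : c * a * c⁻¹ = a := by
    rw [← mem_centralizer_iff.1 hcR a ha, mul_inv_cancel_right]
  have he : ⁅y, a⁆ = f * (a * f⁻¹ * a⁻¹) := by
    rw [commutatorElement_def, hf]
    calc y * a * y⁻¹ * a⁻¹ = y * c⁻¹ * (c * a * c⁻¹) * c * y⁻¹ * a⁻¹ := by group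
      _ = y * c⁻¹ * (a * (y * c⁻¹)⁻¹ * a⁻¹) := by rw [hca]; group
  rw [he]
  exact mul_mem hfF (Normal.conj_mem inferInstance _ (inv_mem hfF) a)

end CfsgLib.OddOrder.PrimeActionFitting
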