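import Cfsg.Agent.Lib.OddOrder.QuadraticSection
import Cfsg.Agent.Lib.Coprime.Action2
import Cfsg.Agent.Lib.PGroups.Basic
import Cfsg.Prelude.Def_PLocal
import Cfsg.Prelude.Def_Local

/-!
p-stability of every quadratic action in a group not involving `SL₂(p)`.
-/

set_option autoImplicit false

namespace CfsgLib.OddOrder

open scoped commutatorElement

universe u

variable {G : Type u} [Group G] [Finite G] {p : ℕ} [Fact p.Prime]

omit [Finite G] [Fact p.Prime] in
theorem InvolvesSL2.of_surjective {Q : Type*} [Group Q] (π : G →* Q)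
    (hπ : Function.Surjective π) (h : InvolvesSL2 p Q) : InvolvesSL2 p G := by
  obtain ⟨K₀, f, hf⟩ := h
  refine ⟨K₀.comap π, f.comp ((π.comp (K₀.comap π).subtype).codRestrict K₀ fun x => x.2),
    fun y => ?_⟩
  obtain ⟨k, hk⟩ := hf y
  obtain ⟨g, hg⟩ := hπ k.1
  refine ⟨⟨g, by show π g ∈ K₀; rw [hg]; exact k.2⟩, ?_⟩
  rw [← hk, MonoidHom.comp_apply]
  exact congrArg f (Subtype.ext hg)

theorem InvolvesSL2.not_of_odd (hp : p ≠ 2) (hodd : Odd (Nat.card G)) : ¬ InvolvesSL2 p G := by
  intro h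
  obtain ⟨k, hk⟩ := hodd
  have := h.two_dvd_card hp
  omega

theorem InvolvesSL2.not_of_pSolvable (hp : 5 ≤ p) (hsep : Cfsg.IsPSolvable p G) :
    ¬ InvolvesSL2 p G := by
  intro h
  have := h.eq_three (by omega) hsep
  omega

theorem InvolvesSL2.not_of_abelian_sylow_two (hp : p ≠ 2)
    (hab : ∀ T : Sylow 2 G, IsMulCommutative T) : ¬ InvolvesSL2 p G := fun h =>
  h.sylow_two_nonabelian hp (Classical.arbitrary _) (hab _)

/-- Quadratic action on a normal elementary abelian subgroup. -/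
theorem mem_pCore_centralizer_or_involves (hp : p ≠ 2) (V : Subgroup G) [V.Normal]
    (hV : Cfsg.IsElementaryAbelian p V) (a : G)
    (hq : ⁅⁅V, Subgroup.zpowers a⁆, Subgroup.zpowers a⁆ = ⊥) :
    (QuotientGroup.mk a : G ⧸ Subgroup.centralizer (V : Set G)) ∈
      Cfsg.pCore p (G ⧸ Subgroup.centralizer (V : Set G)) ∨ InvolvesSL2 p G := by
  by_cases hinv : InvolvesSL2 p G
  · exact Or.inr hinv
  refine Or.inl (mem_pCore_of_pairs _ fun g => ?_)
  obtain ⟨g, rfl⟩ := QuotientGroup.mk'_surjective _ g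
  have hnorm : ∀ x : G, x ∈ Subgroup.normalizer (V : Set G) := fun x =>
    Subgroup.le_normalizer_of_normal (K := ⊤) (Subgroup.mem_top x)
  rcases pair_dichotomy hp V hV (Subgroup.closure ({a, g * a * g⁻¹} : Set G))
    (fun x _ => hnorm x) a (g * a * g⁻¹) rfl hq (quad_conj (hnorm g) hq) with h | h
  · have hmap : (Subgroup.closure ({a, g * a * g⁻¹} : Set G)).map
        (QuotientGroup.mk' (Subgroup.centralizer (V : Set G))) =
        Subgroup.closure {QuotientGroup.mk' (Subgroup.centralizer (V : Set G)) a,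
          QuotientGroup.mk' _ g * QuotientGroup.mk' _ a * (QuotientGroup.mk' _ g)⁻¹} := by
      rw [MonoidHom.map_closure, Set.image_pair, map_mul, map_mul, map_inv]
    show IsPGroup p ↥(Subgroup.closure {QuotientGroup.mk' (Subgroup.centralizer (V : Set G)) a,
      QuotientGroup.mk' _ g * QuotientGroup.mk' _ a * (QuotientGroup.mk' _ g)⁻¹})
    rw [← hmap]
    rintro ⟨_, x, hx, rfl⟩
    obtain ⟨k, hk⟩ := h x hx
    refine ⟨k, Subtype.ext ?_⟩
    show (QuotientGroup.mk' _ x) ^ p ^ k = 1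
    rw [← map_pow]
    exact (QuotientGroup.eq_one_iff _).2 hk
  · exact absurd h.of_subgroup hinv

theorem relIndex_comap_pCore (M : Subgroup G) [M.Normal] :
    ∃ k : ℕ, M.relIndex ((Cfsg.pCore p (G ⧸ M)).comap (QuotientGroup.mk' M)) = p ^ k := by
  obtain ⟨k, hk⟩ := IsPGroup.iff_card.1 (CfsgLib.Base.isPGroup_pCore p (G ⧸ M))
  refine ⟨k, ?_⟩
  have h1 : M = (⊥ : Subgroup (G ⧸ M)).comap (QuotientGroup.mk' M) := by
    rw [MonoidHom.comap_bot, QuotientGroup.ker_mk']
  rw [← hk]
  conv_lhs => arg 1; rw [h1]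
  rw [Subgroup.relIndex_comap, Subgroup.map_comap_eq_self_of_surjective
    (QuotientGroup.mk'_surjective M), Subgroup.relIndex_bot_left]

/-- Quadratic action on a normal section of exponent `p`. -/
theorem mem_pCore_sectionKernel_or_involves (hp : p ≠ 2) (K N : Subgroup G) [K.Normal] [N.Normal]
    (hKN : ⁅K, K⁆ ≤ N) (hpow : ∀ k ∈ K, k ^ p ∈ N) (a : G)
    (hq : ⁅⁅K, Subgroup.zpowers a⁆, Subgroup.zpowers a⁆ ≤ N) :
    (∃ D : Subgroup G, D.Normal ∧ Cfsg.sectionKernel K N ≤ D ∧
      (∃ k : ℕ, (Cfsg.sectionKernel K N).relIndex D = p ^ k) ∧ a ∈ D) ∨ InvolvesSL2 p G := by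
  set π := QuotientGroup.mk' N with hπ
  set V := K.map π with hVdef
  have : V.Normal := Subgroup.Normal.map inferInstance π (QuotientGroup.mk'_surjective N)
  have hV : Cfsg.IsElementaryAbelian p V := by
    refine ⟨⟨⟨?_⟩⟩, ?_⟩
    · rintro ⟨_, x, hx, rfl⟩ ⟨_, y, hy, rfl⟩
      apply Subtype.ext
      show π x * π y = π y * π x
      rw [← commutatorElement_eq_one_iff_mul_comm, ← map_commutatorElement]
      exact (QuotientGroup.eq_one_iff _).2 (hKN (Subgroup.commutator_mem_commutator hx hy))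
    · rintro _ ⟨x, hx, rfl⟩
      rw [← map_pow]
      exact (QuotientGroup.eq_one_iff _).2 (hpow x hx)
  have hq' : ⁅⁅V, Subgroup.zpowers (π a)⁆, Subgroup.zpowers (π a)⁆ = ⊥ := by
    rw [← MonoidHom.map_zpowers, hVdef, ← Subgroup.map_commutator, ← Subgroup.map_commutator,
      Subgroup.map_eq_bot_iff, hπ, QuotientGroup.ker_mk']
    exact hq
  rcases mem_pCore_centralizer_or_involves hp V hV (π a) hq' with h | h
  · left
    set C := Subgroup.centralizer (V : Set (G ⧸ N))
    have : C.Normal := inferInstance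
    refine ⟨((Cfsg.pCore p ((G ⧸ N) ⧸ C)).comap (QuotientGroup.mk' C)).comap π,
      inferInstance, ?_, ?_, h⟩
    · refine Subgroup.comap_mono ?_
      conv_lhs => rw [show Subgroup.centralizer ((K.map (QuotientGroup.mk' N) :
        Subgroup (G ⧸ N)) : Set (G ⧸ N)) = C from rfl]
      exact CfsgLib.PLocal.le_comap_mk' C _
    · obtain ⟨k, hk⟩ := relIndex_comap_pCore (p := p) C
      refine ⟨k, ?_⟩
      rw [show Cfsg.sectionKernel K N = C.comap π from rfl, Subgroup.relIndex_comap,
        Subgroup.map_comap_eq_self_of_surjective (QuotientGroup.mk'_surjective N)]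
      exact hk
  · exact Or.inr (h.of_surjective π (QuotientGroup.mk'_surjective N))

/-- Quadratic action on a normal `p`-subgroup, possibly non-abelian. -/
theorem mem_pCore_centralizer_pGroup_or_involves (hp : p ≠ 2) (P : Subgroup G) [P.Normal]
    (hP : IsPGroup p P) (a : G) (hq : ⁅⁅P, Subgroup.zpowers a⁆, Subgroup.zpowers a⁆ = ⊥) :
    (QuotientGroup.mk a : G ⧸ Subgroup.centralizer (P : Set G)) ∈
      Cfsg.pCore p (G ⧸ Subgroup.centralizer (P : Set G)) ∨ InvolvesSL2 p G := by
  set F := (frattini P).map P.subtype with hF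
  have hFn : F.Normal := inferInstance
  have hcomm : ⁅P, P⁆ ≤ F := by
    rw [← Subgroup.map_subtype_commutator]
    exact Subgroup.map_mono (CfsgLib.PGroups.commutator_le_frattini hP)
  have hpow : ∀ k ∈ P, k ^ p ∈ F := fun k hk =>
    ⟨_, CfsgLib.PGroups.pow_mem_frattini hP ⟨k, hk⟩, rfl⟩
  rcases mem_pCore_sectionKernel_or_involves hp P F hcomm hpow a (by rw [hq]; exact bot_le) with
    ⟨D, hD, hle, ⟨k, hk⟩, haD⟩ | h
  · left
    set C := Subgroup.centralizer (P : Set G) with hC
    have hsk : ∀ d ∈ Cfsg.sectionKernel P F, ∃ j : ℕ, d ^ p ^ j ∈ C := by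
      intro d hd
      obtain ⟨v, m, hm, hdm⟩ := Nat.exists_eq_pow_mul_and_not_dvd (orderOf_pos d).ne' p
        (Fact.out : p.Prime).ne_one
      refine ⟨v, ?_⟩
      refine (CfsgLib.Coprime.le_centralizer_of_trivial_mod_frattini
        (A := Subgroup.zpowers (d ^ p ^ v)) (K := P) ?_ ?_ ?_) (Subgroup.mem_zpowers _)
      · exact fun x _ => Subgroup.le_normalizer_of_normal (K := ⊤) (Subgroup.mem_top x)
      · rw [Nat.card_zpowers, orderOf_pow' d (pow_ne_zero _ (Fact.out : p.Prime).ne_zero), hdm,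
          Nat.gcd_mul_right_left, Nat.mul_div_cancel_left _ (pow_pos (Fact.out : p.Prime).pos _)]
        obtain ⟨n, hn⟩ := IsPGroup.iff_card.1 (hP.to_subgroup (frattini P))
        rw [hn]
        exact ((Nat.Prime.coprime_iff_not_dvd Fact.out).2 hm).symm.pow_right _
      · intro x hx y hy
        have hx' : x ∈ Cfsg.sectionKernel P F :=
          (Subgroup.zpowers_le.2 (pow_mem hd _)) hx
        have h1 := Subgroup.mem_centralizer_iff.1 hx' (QuotientGroup.mk' F y) ⟨y, hy, rfl⟩
        refine (QuotientGroup.eq_one_iff (N := F) _).1 ?_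
        show QuotientGroup.mk' F (x * y * x⁻¹ * y⁻¹) = 1
        rw [map_mul, map_mul, map_mul, map_inv, map_inv, ← h1, mul_inv_cancel_right, mul_inv_cancel]
    have hDC : IsPGroup p (D.map (QuotientGroup.mk' C)) := by
      rintro ⟨_, d, hd, rfl⟩
      have : (P.map (QuotientGroup.mk' F)).Normal :=
        Subgroup.Normal.map inferInstance _ (QuotientGroup.mk'_surjective F)
      have hskn : (Cfsg.sectionKernel P F).Normal := by unfold Cfsg.sectionKernel; infer_instance
      have h1 : d ^ p ^ k ∈ Cfsg.sectionKernel P F := by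
        rw [← hk]
        exact Subgroup.pow_index_mem ((Cfsg.sectionKernel P F).subgroupOf D) ⟨d, hd⟩
      obtain ⟨j, hj⟩ := hsk _ h1
      refine ⟨k + j, Subtype.ext ?_⟩
      show (QuotientGroup.mk' C d) ^ p ^ (k + j) = 1
      rw [← map_pow, pow_add, pow_mul]
      exact (QuotientGroup.eq_one_iff _).2 hj
    have : (D.map (QuotientGroup.mk' C)).Normal :=
      Subgroup.Normal.map hD _ (QuotientGroup.mk'_surjective C)
    exact CfsgLib.Base.le_pCore hDC ⟨a, haD, rfl⟩
  · exact Or.inr h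

/-- The form with the normaliser of a `p`-subgroup. -/
theorem map_le_pCore_normalizer_quotient (hp : p ≠ 2) (hno : ¬ InvolvesSL2 p G)
    {P A : Subgroup G} (hP : IsPGroup p P) (hquad : ⁅⁅P, A⁆, A⁆ = ⊥) :
    (A.subgroupOf (Subgroup.normalizer (P : Set G))).map
        (QuotientGroup.mk' ((Subgroup.centralizer (P : Set G)).subgroupOf
          (Subgroup.normalizer (P : Set G)))) ≤ Cfsg.pCore p _ := by
  set N := Subgroup.normalizer (P : Set G) with hN
  set P' := P.subgroupOf N with hP'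
  have : P'.Normal := Subgroup.normal_subgroupOf_iff_le_normalizer Subgroup.le_normalizer |>.2 le_rfl
  have hC : Subgroup.centralizer (P' : Set N) = (Subgroup.centralizer (P : Set G)).subgroupOf N := by
    ext x
    simp only [Subgroup.mem_centralizer_iff, Subgroup.mem_subgroupOf, SetLike.mem_coe, hP']
    exact ⟨fun h v hv => congrArg Subtype.val (h ⟨v, Subgroup.le_normalizer hv⟩ hv),
      fun h v hv => Subtype.ext (h v.1 hv)⟩
  rintro _ ⟨⟨a, haN⟩, ha, rfl⟩
  have hq : ⁅⁅P', Subgroup.zpowers (⟨a, haN⟩ : N)⁆, Subgroup.zpowers (⟨a, haN⟩ : N)⁆ = ⊥ := by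
    apply Subgroup.map_injective N.subtype_injective
    rw [Subgroup.map_commutator, Subgroup.map_commutator, Subgroup.map_bot, eq_bot_iff, ← hquad,
      MonoidHom.map_zpowers, hP', Subgroup.map_subgroupOf_eq_of_le Subgroup.le_normalizer]
    exact Subgroup.commutator_mono (Subgroup.commutator_mono le_rfl (Subgroup.zpowers_le.2 ha))
      (Subgroup.zpowers_le.2 ha)
  have h := (mem_pCore_centralizer_pGroup_or_involves hp P'
    (hP.of_equiv (Subgroup.subgroupOfEquivOfLe Subgroup.le_normalizer).symm) _ hq).resolve_right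
    (fun h => hno h.of_subgroup)
  let e := QuotientGroup.quotientMulEquivOfEq hC
  have h2 : e (QuotientGroup.mk (⟨a, haN⟩ : N)) ∈ Cfsg.pCore p _ := by
    rw [← CfsgLib.Base.map_pCore_mulEquiv (p := p) e]
    exact ⟨_, h, rfl⟩

  exact h2

end CfsgLib.OddOrder
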