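import Cfsg.Agent.Lib.OddOrder.AbelianGenerated
import Cfsg.Agent.Lib.PLocal.ZJ
import Cfsg.Agent.Lib.PLocal.Stable

/-!
`Z(J(S))`, `J` generated by the elementary abelian subgroups of largest order, is normal when
`O_{p'}(G) = 1`, for p-solvable groups not involving `SL₂(p)`.
-/

set_option autoImplicit false

namespace CfsgLib.OddOrder

open Subgroup Cfsg CfsgLib.PLocal CfsgLib.Base
open scoped commutatorElement

universe u

theorem map_centerThompsonOf {G H : Type u} [Group G] [Group H] {p : ℕ} {f : G →* H}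
    (hf : Function.Injective f) (P : Subgroup G) :
    (centerThompsonOf p P).map f = centerThompsonOf p (P.map f) := by
  rw [centerThompsonOf, centerThompsonOf, ← map_thompsonSubgroupOf hf]
  exact map_inf_centralizer hf (thompsonSubgroupOf p P)

theorem normalizer_le_normalizer_centerThompsonOf {G : Type u} [Group G] (p : ℕ) (P : Subgroup G) :
    normalizer (P : Set G) ≤ normalizer (centerThompsonOf p P : Set G) := by
  intro g hg
  rw [mem_normalizer_iff_map_conj_eq] at hg ⊢
  show (centerThompsonOf p P).map (MulAut.conj g).toMonoidHom = _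
  rw [map_centerThompsonOf (MulAut.conj g).injective]
  exact congrArg (centerThompsonOf p) hg

theorem normalizer_le_normalizer_thompsonOf {G : Type u} [Group G] (p : ℕ) (P : Subgroup G) :
    normalizer (P : Set G) ≤ normalizer (thompsonSubgroupOf p P : Set G) := by
  intro g hg
  rw [mem_normalizer_iff_map_conj_eq] at hg ⊢
  show (thompsonSubgroupOf p P).map (MulAut.conj g).toMonoidHom = _
  rw [map_thompsonSubgroupOf (MulAut.conj g).injective]
  exact congrArg (thompsonSubgroupOf p) hg

/-- The step: `W ⊓ B` is normal, when every normal subgroup inside `W` is central. -/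
theorem centerThompson_inf_normal {G : Type u} [Group G] [Finite G] {p : ℕ} [Fact p.Prime]
    (hp : p ≠ 2) (hst : QuadStable p G) (S : Sylow p G)
    (hcent : ∀ N : Subgroup G, N.Normal → N ≤ centerThompsonOf p (S : Subgroup G) → N ≤ center G) :
    ∀ n : ℕ, ∀ (B : Subgroup G) [B.Normal], Nat.card B = n → IsPGroup p B →
      (centerThompsonOf p (S : Subgroup G) ⊓ B).Normal := by
  intro n
  induction n using Nat.strong_induction_on with
  | _ n ih =>
  intro B _ hn hB
  set W := centerThompsonOf p (S : Subgroup G) with hWdef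
  set T := W ⊓ B with hTdef
  have hBS : B ≤ (S : Subgroup G) := hB.le_sylow_of_normal S
  have hSW : (S : Subgroup G) ≤ normalizer (W : Set G) :=
    le_normalizer.trans (normalizer_le_normalizer_centerThompsonOf p _)
  by_cases hB0 : B = ⊥
  · rw [hTdef, hB0, inf_bot_eq]; infer_instance
  by_cases hcl : normalClosure (T : Set G) < B
  · have h := ih _ (hn ▸ card_lt_of_lt hcl) (normalClosure (T : Set G)) rfl (hB.to_le hcl.le)
    have e1 : W ⊓ normalClosure (T : Set G) = T :=
      le_antisymm (le_inf inf_le_left (inf_le_right.trans hcl.le))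
        (le_inf inf_le_left le_normalClosure)
    rwa [e1] at h
  have hcl' : normalClosure (T : Set G) = B :=
    eq_of_le_of_not_lt (normalClosure_le_normal inf_le_right) hcl
  -- `W ⊓ Φ(B)` is central and contains `B'`
  set F := (frattini B).map B.subtype with hF
  have : Nontrivial B := (nontrivial_iff_ne_bot B).2 hB0
  have hFB : F < B := by
    refine lt_of_le_of_ne (map_subtype_le _) fun h => ?_
    apply CfsgLib.PGroups.frattini_ne_top (G := B)
    apply map_injective B.subtype_injective
    rw [← hF, h, ← MonoidHom.range_eq_map, range_subtype]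
  have hWF := hcent _ (ih _ (hn ▸ card_lt_of_lt hFB) F rfl (hB.to_le hFB.le)) inf_le_left
  have hcomm : ⁅B, B⁆ ≤ F := by
    rw [← map_subtype_commutator]
    exact map_mono (CfsgLib.PGroups.commutator_le_frattini hB)
  have hWBn : (W ⊓ ⁅B, B⁆).Normal :=
    ih _ (hn ▸ card_lt_of_lt (hcomm.trans_lt hFB)) _ rfl (hB.to_le (hcomm.trans hFB.le))
  have hB'W : ⁅B, B⁆ ≤ W := by
    set V := W ⊓ ⁅B, B⁆
    haveI : V.Normal := hWBn
    have hK : T ≤ (centralizer ((B.map (QuotientGroup.mk' V) : Subgroup (G ⧸ V)) : Set (G ⧸ V))).comap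
        (QuotientGroup.mk' V) := by
      intro t ht
      refine mem_centralizer_iff.2 ?_
      rintro _ ⟨b, hb, rfl⟩
      rw [← commutatorElement_eq_one_iff_mul_comm, ← map_commutatorElement,
        QuotientGroup.mk'_apply, QuotientGroup.eq_one_iff]
      refine mem_inf.2 ⟨?_, commutator_mem_commutator hb (mem_inf.1 ht).2⟩
      have e1 : ⁅b, t⁆ = (b * t * b⁻¹) * t⁻¹ := by group
      rw [e1]
      exact mul_mem ((mem_normalizer_iff.1 (hSW (hBS hb)) t).1 (mem_inf.1 ht).1)
        (inv_mem (mem_inf.1 ht).1)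
    haveI : (B.map (QuotientGroup.mk' V)).Normal :=
      Normal.map ‹B.Normal› _ (QuotientGroup.mk'_surjective _)
    have hK' := normalClosure_le_normal (N := (centralizer ((B.map (QuotientGroup.mk' V)
      : Subgroup (G ⧸ V)) : Set (G ⧸ V))).comap (QuotientGroup.mk' V)) hK
    rw [hcl'] at hK'
    refine le_trans (?_ : ⁅B, B⁆ ≤ V) inf_le_left
    rw [← map_mk'_eq_bot_iff, map_commutator, commutator_eq_bot_iff_le_centralizer]
    exact map_le_iff_le_comap.2 hK'
  have hzc : ∀ x ∈ B, ∀ y ∈ B, ⁅x, y⁆ ∈ center G := fun x hx y hy =>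
    hWF ⟨hB'W (commutator_mem_commutator hx hy), hcomm (commutator_mem_commutator hx hy)⟩
  have hTp : ∀ t ∈ T, t ^ p ∈ center G := fun t ht =>
    hWF ⟨pow_mem (mem_inf.1 ht).1 p,
      ⟨_, CfsgLib.PGroups.pow_mem_frattini hB ⟨t, (mem_inf.1 ht).2⟩, rfl⟩⟩
  -- `p`-th powers of `B` are central
  have hpodd : Odd p := (Fact.out : p.Prime).odd_of_ne_two hp
  have hcp : ∀ x ∈ B, ∀ y ∈ B, y ^ p ∈ center G → ⁅x, y⁆ ^ p = 1 := by
    intro x hx y hy hyp
    have hc : Commute y ⁅x, y⁆ := mem_center_iff.1 (hzc x hx y hy) y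
    rw [← comm_pow_of_commute hc.eq, commutatorElement_eq_one_iff_mul_comm]
    exact mem_center_iff.1 hyp x
  let P₀ : Subgroup G :=
    { carrier := {y | y ∈ B ∧ y ^ p ∈ center G}
      one_mem' := ⟨one_mem _, by rw [one_pow]; exact one_mem _⟩
      inv_mem' := fun hy => ⟨inv_mem hy.1, by rw [inv_pow]; exact inv_mem hy.2⟩
      mul_mem' := by
        rintro x y ⟨hx, hx'⟩ ⟨hy, hy'⟩
        refine ⟨mul_mem hx hy, ?_⟩
        have hz := hzc y hy x hx
        rw [mul_pow_of_class_two (mem_center_iff.1 hz x).symm (mem_center_iff.1 hz y).symm]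
        obtain ⟨j, hj⟩ := odd_dvd_choose_two hpodd
        rw [hj, pow_mul, hcp y hy x hx hx', one_pow, mul_one]
        exact mul_mem hx' hy' }
  have hBp : ∀ y ∈ B, y ^ p ∈ center G := by
    intro y hy
    rw [← hcl', normalClosure] at hy
    refine ((closure_le P₀).2 ?_ hy).2
    intro z hz
    obtain ⟨t, ht, htz⟩ := Group.mem_conjugatesOfSet_iff.1 hz
    obtain ⟨c, rfl⟩ := isConj_iff.1 htz
    refine ⟨Normal.conj_mem inferInstance t (mem_inf.1 ht).2 c, ?_⟩
    rw [conj_pow, mem_center_iff.1 (hTp t ht) c, mul_inv_cancel_right]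
    exact hTp t ht
  have hB'1 : ∀ z ∈ ⁅B, B⁆, z ^ p = 1 := by
    let P₁ : Subgroup G :=
      { carrier := {z | z ∈ center G ∧ z ^ p = 1}
        one_mem' := ⟨one_mem _, one_pow _⟩
        inv_mem' := fun hz => ⟨inv_mem hz.1, by rw [inv_pow, hz.2, inv_one]⟩
        mul_mem' := fun {x y} hx hy => ⟨mul_mem hx.1 hy.1, by
          rw [(show Commute x y from mem_center_iff.1 hy.1 x).mul_pow, hx.2, hy.2, one_mul]⟩ }
    intro z hz
    exact ((commutator_le (H₃ := P₁)).2 (fun x hx y hy =>
      ⟨hzc x hx y hy, hcp x hx y hy (hBp y hy)⟩) hz).2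
  set N := normalizer (T : Set G) with hNdef
  set L := N.normalCore with hLdef
  haveI : L.Normal := normalCore_normal N
  have hSN : (S : Subgroup G) ≤ N := by
    refine le_trans ?_ (normalizer_inf_le _ _)
    exact le_inf hSW (by rw [normalizer_eq_top]; exact le_top)
  have hCL : centralizer (B : Set G) ≤ L :=
    normal_le_normalCore.2 ((centralizer_le inf_le_right).trans (centralizer_le_normalizer _))
  set SL := (S : Subgroup G) ⊓ L with hSL
  by_cases hall : ∀ A ∈ maxEAOf p (S : Subgroup G), A ≤ L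
  · have hJ : thompsonSubgroupOf p SL = thompsonSubgroupOf p (S : Subgroup G) := by
      refine thompsonSubgroupOf_eq_of_le (le_inf (thompsonSubgroupOf_le p _) ?_) inf_le_left
      rw [thompsonSubgroupOf_eq_sSup]
      exact sSup_le hall
    have hWeq : W = centerThompsonOf p SL := by
      rw [hWdef, centerThompsonOf, centerThompsonOf, hJ]
    refine normalizer_eq_top_iff.1 (top_le_iff.1 fun g _ => ?_)
    obtain ⟨l, hl, m, hm, rfl⟩ := exists_mul_normalizer S L g
    refine mul_mem (N.normalCore_le hl) (normalizer_inf_le _ _ (mem_inf.2 ⟨?_, ?_⟩))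
    · exact hWeq ▸ normalizer_le_normalizer_centerThompsonOf p SL hm
    · rw [normalizer_eq_top]; exact mem_top m
  exfalso
  push Not at hall
  obtain ⟨U, hU, hUL⟩ := hall
  obtain ⟨A, ⟨hA, hAL⟩, hmax⟩ := Set.exists_max_image
    {A : Subgroup G | A ∈ maxEAOf p (S : Subgroup G) ∧ ¬ A ≤ L}
    (fun A => Nat.card ↥(A ⊓ B)) (Set.toFinite _) ⟨U, hU, hUL⟩
  by_cases hBN : B ≤ normalizer (A : Set G)
  · refine hAL ((quadratic_le hst hB (S.2.to_le hA.1) hA.2.1.1 hBN).trans ?_)
    set C := centralizer (B : Set G) with hCdef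
    obtain ⟨k, hk⟩ := relIndex_comap_pCore (p := p) C
    refine normal_le_normalCore.2 ?_
    rw [← eq_sup_sylow_inf S (C := C) (le_comap_mk' C _) hk]
    exact sup_le (hCL.trans (normalCore_le N)) (inf_le_left.trans hSN)
  -- replacement inside `S`
  set AS := A.subgroupOf (S : Subgroup G) with hASdef
  set BS := B.subgroupOf (S : Subgroup G) with hBSdef
  have hAmap : AS.map (S : Subgroup G).subtype = A := map_subgroupOf_eq_of_le hA.1
  have hBmap : BS.map (S : Subgroup G).subtype = B := map_subgroupOf_eq_of_le hBS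
  have hAS : AbExp p AS :=
    (abExp_map_iff (S : Subgroup G).subtype_injective).1 (hAmap.symm ▸ hA.2.1)
  haveI : BS.Normal := inferInstance
  have hWA : ∀ w ∈ W, ∀ a ∈ A, a * w = w * a := fun w hw a ha =>
    mem_centralizer_iff.1 (mem_inf.1 hw).2 a (le_thompsonSubgroupOf hA ha)
  have hB'A : ⁅BS, BS⁆ ≤ AS := by
    rw [← map_le_map_iff_of_injective (f := (S : Subgroup G).subtype) (S : Subgroup G).subtype_injective,
      map_commutator, hBmap, hAmap]
    exact fun z hz => mem_of_max_of_commute hA (hBS (commutator_le_self B hz)) (hB'1 z hz)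
      (hWA z (hB'W hz))
  have hnot : ¬ BS ≤ normalizer (AS : Set (S : Subgroup G)) := by
    intro h
    refine hBN ?_
    rw [← hBmap, ← hAmap]
    exact (map_mono h).trans (le_normalizer_map _)
  obtain ⟨b, hb, hbN, hbA⟩ := exists_mem_normalizer_normalizer S.2 BS AS hnot
  have F' := replaceFacts S.2 (fun h => absurd h hp) hAS.1 hB'A hb hbN hbA
  set R := (replaced AS b).map (S : Subgroup G).subtype with hRdef
  have hR : R ∈ maxEAOf p (S : Subgroup G) := by
    refine ⟨map_subtype_le _, (abExp_map_iff (S : Subgroup G).subtype_injective).2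
      ⟨F'.comm, F'.exponent p (Or.inl hpodd) hAS.2⟩, fun C hC hCe => ?_⟩
    rw [hRdef, card_map_subtype', F'.card_eq, ← card_map_subtype', hAmap]
    exact hA.2.2 C hC hCe
  have hlt1 : A ⊓ B < R ⊓ B := by
    rw [← hBmap, ← hAmap, hRdef, ← map_inf _ _ _ (S : Subgroup G).subtype_injective,
      ← map_inf _ _ _ (S : Subgroup G).subtype_injective]
    exact (map_lt_map_iff_of_injective (S : Subgroup G).subtype_injective).2 F'.inf_lt
  have hRL : R ≤ L := by
    by_contra hRL
    exact absurd (hmax R ⟨hR, hRL⟩) (Nat.not_le.2 (card_lt_of_lt hlt1))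
  -- `B` centralises `R`
  set JL := thompsonSubgroupOf p SL with hJL
  have hJLle : JL ≤ thompsonSubgroupOf p (S : Subgroup G) := by
    rw [hJL, thompsonSubgroupOf_eq_sSup, maxEAOf_mono inf_le_left hR (le_inf hR.1 hRL)]
    exact sSup_le fun C hC => le_thompsonSubgroupOf hC.1
  have hRJ : R ≤ JL := by
    rw [hJL]
    refine le_thompsonSubgroupOf ?_
    rw [maxEAOf_mono inf_le_left hR (le_inf hR.1 hRL)]
    exact ⟨hR, le_inf hR.1 hRL⟩
  have hT : T ≤ (centralizer (JL : Set G)).normalCore := by
    intro t ht g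
    show g * t * g⁻¹ ∈ centralizer (JL : Set G)
    obtain ⟨l, hl, m, hm, he'⟩ := exists_mul_normalizer S L g⁻¹
    have e1 : g * t * g⁻¹ = m⁻¹ * (l⁻¹ * t * l) * m⁻¹⁻¹ := by
      rw [← inv_inv g, he']; group
    rw [e1]
    refine (mem_normalizer_iff.1 (normalizer_le_centralizer_normalizer JL
      (normalizer_le_normalizer_thompsonOf p SL (inv_mem hm))) _).1 ?_
    have h1 := (mem_normalizer_iff.1 (N.normalCore_le (inv_mem hl)) t).1 ht
    have h2 : l⁻¹ * t * l ∈ T := by simpa using h1
    exact centralizer_le hJLle h2.1.2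
  have hBR : B ≤ centralizer (R : Set G) := by
    rw [← hcl']
    exact (normalClosure_le_normal hT).trans
      ((normalCore_le _).trans (centralizer_le hRJ))
  -- hence `B ≤ N(A)`
  have hRN : R ≤ normalizer (A : Set G) := by
    rw [hRdef, ← hAmap]
    exact (map_mono F'.repl_le_normalizer).trans (le_normalizer_map _)
  have hgen : ∀ t ∈ T, ∀ g : G, g * t * g⁻¹ ∈ normalizer (A : Set G) := by
    intro t ht g
    have htB : t ∈ B := (mem_inf.1 ht).2
    have hgB : g * t * g⁻¹ ∈ B := Normal.conj_mem inferInstance t htB g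
    set u := t⁻¹ * (g * t * g⁻¹) with hu
    have huB : u ∈ B := mul_mem (inv_mem htB) hgB
    have hup : u ^ p = 1 := by
      have hz := hzc (g * t * g⁻¹) hgB t⁻¹ (inv_mem htB)
      rw [hu, mul_pow_of_class_two (mem_center_iff.1 hz t⁻¹).symm (mem_center_iff.1 hz _).symm,
        inv_pow, conj_pow, mem_center_iff.1 (hTp t ht) g, mul_inv_cancel_right, inv_mul_cancel,
        one_mul]
      obtain ⟨j, hj⟩ := odd_dvd_choose_two hpodd
      rw [hj, pow_mul, hcp _ hgB _ (inv_mem htB) (by rw [inv_pow]; exact inv_mem (hTp t ht)),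
        one_pow]
    have huR : u ∈ R := mem_of_max_of_commute hR (hBS huB) hup fun r hr =>
      mem_centralizer_iff.1 (hBR huB) r hr
    rw [show g * t * g⁻¹ = t * u by rw [hu]; group]
    exact mul_mem (centralizer_le_normalizer _
      (mem_centralizer_iff.2 fun a ha => hWA t (mem_inf.1 ht).1 a ha)) (hRN huR)
  refine hBN (hcl'.symm.le.trans ?_)
  rw [normalClosure, closure_le]
  intro z hz
  obtain ⟨t, ht, htz⟩ := Group.mem_conjugatesOfSet_iff.1 hz
  obtain ⟨c, rfl⟩ := isConj_iff.1 htz
  exact hgen t ht c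

/-- `Z(J(S))` is normal. -/
theorem centerThompsonOf_normal {p : ℕ} [Fact p.Prime] (hp : p ≠ 2) : ∀ (n : ℕ) (G : Type u)
    [Group G] [Finite G], Nat.card G ≤ n → ¬ InvolvesSL2 p G → IsPSolvable p G →
      pPrimeCore p G = ⊥ → ∀ S : Sylow p G, (centerThompsonOf p (S : Subgroup G)).Normal := by
  intro n
  induction n with
  | zero => intro G _ _ hc; exact absurd hc (by have := Nat.card_pos (α := G); omega)
  | succ n ih =>
  intro G _ _ hc hno hsolv hO S
  set W := centerThompsonOf p (S : Subgroup G) with hW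
  have hWS : W ≤ (S : Subgroup G) := inf_le_left.trans (thompsonSubgroupOf_le p _)
  by_cases hcent : ∀ N : Subgroup G, N.Normal → N ≤ W → N ≤ center G
  · have hWT : W ≤ pCore p G := by
      have h := sSup_le_pCore hp hno hsolv hO (pCore p G) (CfsgLib.Base.isPGroup_pCore p G)
        inf_le_left {W} (fun B hB => by
          rw [Set.mem_singleton_iff] at hB
          subst hB
          refine ⟨⟨⟨fun a b => Subtype.ext (mem_centralizer_iff.1 b.2.2 a.1 a.2.1)⟩⟩, ?_⟩
          exact (CfsgLib.Base.pCore_le_sylow S).trans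
            (le_normalizer.trans (normalizer_le_normalizer_centerThompsonOf p _)))
      rwa [sSup_singleton] at h
    have h := centerThompson_inf_normal hp (fun B _ hB a _ hq =>
      (mem_pCore_centralizer_pGroup_or_involves hp B hB a hq).resolve_right hno) S hcent _
      (pCore p G) rfl (CfsgLib.Base.isPGroup_pCore p G)
    rwa [← hW, inf_eq_left.2 hWT] at h
  push Not at hcent
  obtain ⟨N, hN, hNW, hNc⟩ := hcent
  haveI := hN
  set C := centralizer (N : Set G) with hC
  have hCtop : C ≠ ⊤ := fun h => hNc fun x hx => mem_center_iff.2 fun g =>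
    (mem_centralizer_iff.1 (show g ∈ C by rw [h]; exact mem_top g) x hx).symm
  have hJC : thompsonSubgroupOf p (S : Subgroup G) ≤ C := by
    rw [hC, le_centralizer_iff]
    exact hNW.trans inf_le_right
  have hlt : Nat.card C ≤ n := by
    have h := card_lt_of_lt (lt_top_iff_ne_top.2 hCtop)
    rw [card_top] at h
    omega
  have hO' : pPrimeCore p C = ⊥ := by
    have h := CfsgLib.Base.map_pPrimeCore_le_of_isSubnormal (p := p) (K := C)
      (Subgroup.Normal.isSubnormal inferInstance)
    rw [hO, le_bot_iff, map_eq_bot_iff_of_injective _ C.subtype_injective] at h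
    exact h
  let SC : Sylow p C := ((S.2.to_le inf_le_left).of_equiv (subgroupOfEquivOfLe
    (inf_le_right : (S : Subgroup G) ⊓ C ≤ C)).symm).toSylow (not_dvd_relIndex_sylow_inf S C)
  have hn := ih C hlt (fun h => hno h.of_subgroup) (isPSolvable_subgroup hsolv C) hO' SC
  have hWC : (centerThompsonOf p (SC : Subgroup C)).map C.subtype = W := by
    rw [map_centerThompsonOf C.subtype_injective]
    show centerThompsonOf p ((((S : Subgroup G) ⊓ C).subgroupOf C).map C.subtype) = _
    rw [map_subgroupOf_eq_of_le inf_le_right, hW, centerThompsonOf, centerThompsonOf,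
      thompsonSubgroupOf_eq_of_le (le_inf (thompsonSubgroupOf_le p _) hJC) inf_le_left]
  have hCW : C ≤ normalizer (W : Set G) := by
    rw [← hWC]
    intro c hc
    have h := (le_normalizer_map C.subtype) ⟨⟨c, hc⟩,
      (le_normalizer_of_normal (K := ⊤) (H := centerThompsonOf p (SC : Subgroup C))
        (mem_top _)), rfl⟩
    exact h
  have hSC : normalizer (((S : Subgroup G) ⊓ C : Subgroup G) : Set G) ≤ normalizer (W : Set G) := by
    refine (normalizer_le_normalizer_centerThompsonOf p _).trans (le_of_eq ?_)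
    rw [hW, centerThompsonOf, centerThompsonOf,
      thompsonSubgroupOf_eq_of_le (le_inf (thompsonSubgroupOf_le p _) hJC) inf_le_left]
  rw [← normalizer_eq_top_iff, eq_top_iff]
  intro g _
  obtain ⟨d, hd, m, hm, rfl⟩ := exists_mul_normalizer S C g
  exact mul_mem (hCW hd) (hSC hm)

end CfsgLib.OddOrder
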