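import Cfsg.Agent.Lib.PLocal.CyclicMaxApps
import Cfsg.Agent.Lib.Base.Rank
import Cfsg.Agent.Lib.PLocal.ZJ
import Cfsg.Agent.Lib.PGroups.Basic
import Cfsg.Agent.Lib.PGroups.Omega
import Cfsg.Agent.Lib.PGroups.Commutator

/-!
A metacyclic `p`-group (`p` odd) with derived group of order `p`: there is a characteristic maximal
subgroup such that all automorphisms are trivial either on its factor group or on its image modulo
`p`-th powers.
-/

set_option autoImplicit false
set_option linter.unusedSectionVars false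

open scoped commutatorElement

namespace CfsgLib.OddOrder

open Cfsg
open Subgroup

variable {R : Type*} [Group R] [Finite R] {p : ℕ} [Fact p.Prime]

/-- Hypotheses: `p` odd, `R` a `p`-group with derived group of order `p`. -/
structure CentralDerived (p : ℕ) (R : Type*) [Group R] : Prop where
  odd : p ≠ 2
  isPGroup : IsPGroup p R
  card_derived : Nat.card (commutator R) = p

/-- Moreover the derived group consists of `p`-th powers, which have index at most `p ^ 2`. -/
structure SmallDerived (p : ℕ) (R : Type*) [Group R] : Prop extends CentralDerived p R where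
  derived_le : commutator R ≤ closure {x : R | ∃ y, y ^ p = x}
  index_le : (closure {x : R | ∃ y, y ^ p = x}).index ≤ p ^ 2

theorem normal_of_mem_center {H : Subgroup R} (hH : H ≤ center R) : H.Normal :=
  ⟨fun x hx g => by rwa [mem_center_iff.1 (hH hx) g, mul_inv_cancel_right]⟩

namespace CentralDerived

variable (h : CentralDerived p R)

include h

theorem commutator_mem_center (a b : R) : ⁅a, b⁆ ∈ center R := by
  have hmem : ⁅a, b⁆ ∈ commutator R := commutator_mem_commutator (mem_top a) (mem_top b)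
  have hne : commutator R ≠ ⊥ := fun h0 => by
    have := h.card_derived
    rw [h0, card_bot] at this
    exact (Fact.out : p.Prime).ne_one this.symm
  have h1 := CfsgLib.PGroups.inf_center_ne_bot h.isPGroup (N := commutator R) hne
  obtain ⟨i, hi⟩ := IsPGroup.iff_card.mp (h.isPGroup.to_subgroup (commutator R ⊓ center R))
  have hi0 : i ≠ 0 := fun h0 => h1 (card_eq_one.1 (by rw [hi, h0, pow_zero]))
  have heq : commutator R ⊓ center R = commutator R := eq_of_le_of_card_ge inf_le_left (by
    rw [h.card_derived, hi]; exact Nat.le_self_pow hi0 p)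
  exact (heq.ge hmem).2

theorem commutator_pow (a b : R) : ⁅a, b⁆ ^ p = 1 := by
  have := pow_card_eq_one' (G := commutator R)
    (x := ⟨⁅a, b⁆, commutator_mem_commutator (mem_top a) (mem_top b)⟩)
  rw [h.card_derived] at this
  exact congrArg Subtype.val this

theorem mul_pow (a b : R) : (a * b) ^ p = a ^ p * b ^ p := by
  obtain ⟨k, hk⟩ := (Fact.out : p.Prime).dvd_choose_self (k := 2) (by norm_num)
    (lt_of_le_of_ne (Fact.out : p.Prime).two_le (Ne.symm h.odd))
  rw [CfsgLib.PGroups.mul_pow_of_commute (mem_center_iff.1 (h.commutator_mem_center b a) a).symm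
    (mem_center_iff.1 (h.commutator_mem_center b a) b).symm, hk, pow_mul, h.commutator_pow, one_pow,
    mul_one]

theorem mul_pow_pow (a b : R) : ∀ m : ℕ, (a * b) ^ p ^ m = a ^ p ^ m * b ^ p ^ m
  | 0 => by simp
  | m + 1 => by simp only [pow_succ, pow_mul, mul_pow_pow a b m, h.mul_pow]

theorem commutator_mul_left (a b c : R) : ⁅a * b, c⁆ = ⁅a, c⁆ * ⁅b, c⁆ := by
  calc ⁅a * b, c⁆ = a * ⁅b, c⁆ * (c * a⁻¹ * c⁻¹) := by simp only [commutatorElement_def]; group
    _ = ⁅b, c⁆ * ⁅a, c⁆ := by
      rw [mem_center_iff.1 (h.commutator_mem_center b c) a]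
      simp only [commutatorElement_def]; group
    _ = _ := (mem_center_iff.1 (h.commutator_mem_center b c) _).symm

theorem commutator_mul_right (a b c : R) : ⁅a, b * c⁆ = ⁅a, b⁆ * ⁅a, c⁆ := by
  calc ⁅a, b * c⁆ = (a * b * a⁻¹ * b⁻¹) * (b * ⁅a, c⁆ * b⁻¹) := by
        simp only [commutatorElement_def]; group
    _ = ⁅a, b⁆ * ⁅a, c⁆ := by
      rw [mem_center_iff.1 (h.commutator_mem_center a c) b, mul_inv_cancel_right,
        commutatorElement_def a b]

theorem commutator_zpow_left (a c : R) (i : ℤ) : ⁅a ^ i, c⁆ = ⁅a, c⁆ ^ i := by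
  let f : R →* R := MonoidHom.mk' (fun x => ⁅x, c⁆) fun x y => h.commutator_mul_left x y c
  exact map_zpow f a i

/-- The `p`-th powers. -/
def powers : Subgroup R :=
  (MonoidHom.mk' (fun x : R => x ^ p) h.mul_pow).range

theorem mem_powers {x : R} : x ∈ h.powers ↔ ∃ y, y ^ p = x := Iff.rfl

theorem powers_le_center : h.powers ≤ center R := by
  rintro _ ⟨y, rfl⟩
  refine mem_center_iff.2 fun g => ?_
  have h1 : ⁅y ^ (p : ℤ), g⁆ = 1 := by
    rw [h.commutator_zpow_left, zpow_natCast, h.commutator_pow]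
  rw [zpow_natCast] at h1
  exact (commutatorElement_eq_one_iff_mul_comm.1 h1).symm

/-- The elements of order dividing `p`. -/
def omega : Subgroup R :=
  (MonoidHom.mk' (fun x : R => x ^ p) h.mul_pow).ker

theorem mem_omega {x : R} : x ∈ h.omega ↔ x ^ p = 1 := Iff.rfl

theorem not_isCyclic : ¬ IsCyclic R := fun hc => by
  let := hc.commGroup
  have h1 : commutator R = ⊥ := by
    rw [eq_bot_iff, _root_.commutator_def, commutator_le]
    intro a _ b _
    rw [commutatorElement_eq_one_iff_mul_comm.2 (mul_comm a b)]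
    exact one_mem _
  have := h.card_derived
  rw [h1, card_bot] at this
  exact (Fact.out : p.Prime).ne_one this.symm

theorem powers_eq_closure : h.powers = closure {x : R | ∃ y, y ^ p = x} :=
  (closure_eq h.powers).symm

theorem powers_le_frattini : h.powers ≤ frattini R := by
  rintro _ ⟨y, rfl⟩
  exact CfsgLib.PGroups.pow_mem_frattini h.isPGroup y

theorem commutator_le_powers_of_metacyclic (hm : IsMetacyclic R) : commutator R ≤ h.powers := by
  have hp : p.Prime := Fact.out
  obtain ⟨N, hN, hNc, hQc⟩ := hm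
  have hle : commutator R ≤ N := by
    let := hQc.commGroup
    rw [_root_.commutator_def, commutator_le]
    intro a _ b _
    rw [← QuotientGroup.eq_one_iff]
    show QuotientGroup.mk' N ⁅a, b⁆ = 1
    rw [map_commutatorElement, commutatorElement_eq_one_iff_mul_comm]
    exact mul_comm _ _
  obtain ⟨⟨n, hn⟩, hgen⟩ := hNc.exists_generator
  have hNeq : N = zpowers n := le_antisymm (fun x hx => by
    obtain ⟨i, hi⟩ := mem_zpowers_iff.1 (hgen ⟨x, hx⟩)
    exact mem_zpowers_iff.2 ⟨i, by simpa using congrArg Subtype.val hi⟩) (zpowers_le.2 hn)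
  obtain ⟨a, ha⟩ := IsPGroup.iff_orderOf.mp h.isPGroup n
  intro c hc
  obtain ⟨i, hi⟩ := mem_zpowers_iff.1 (hNeq ▸ hle hc)
  have hcp : c ^ p = 1 := by
    have := pow_card_eq_one' (G := commutator R) (x := ⟨c, hc⟩)
    rw [h.card_derived] at this
    exact congrArg Subtype.val this
  by_cases hdvd : (p : ℤ) ∣ i
  · obtain ⟨j, rfl⟩ := hdvd
    exact h.mem_powers.2 ⟨n ^ j, by rw [← hi, mul_comm, zpow_mul, zpow_natCast]⟩
  exfalso
  -- otherwise `N` has order `p`, so is central and `R` is abelian
  have hdp : orderOf n ∣ p := by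
    have h1 : n ^ (i * (p : ℤ)) = 1 := by rw [zpow_mul, hi, zpow_natCast, hcp]
    rw [← orderOf_dvd_iff_zpow_eq_one, ha] at h1
    rcases a with _ | a
    · rw [ha, pow_zero]; exact one_dvd p
    · rcases a with _ | a
      · rw [ha, pow_one]
      · exfalso
        refine hdvd ?_
        have h2 : (p : ℤ) * p ∣ i * p := (Dvd.intro ((p : ℤ) ^ a) (by push_cast; ring)).trans h1
        exact Int.dvd_of_mul_dvd_mul_right (by exact_mod_cast hp.ne_zero) h2
  have hNcen : N ≤ center R := by
    rcases eq_or_ne N ⊥ with h0 | h0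
    · rw [h0]; exact bot_le
    have h1 := CfsgLib.PGroups.inf_center_ne_bot h.isPGroup (N := N) h0
    obtain ⟨j, hj⟩ := IsPGroup.iff_card.mp (h.isPGroup.to_subgroup (N ⊓ center R))
    have hj0 : j ≠ 0 := fun h0 => h1 (card_eq_one.1 (by rw [hj, h0, pow_zero]))
    have : N ⊓ center R = N := eq_of_le_of_card_ge inf_le_left (by
      rw [hj, hNeq, Nat.card_zpowers]
      exact (Nat.le_of_dvd hp.pos hdp).trans (Nat.le_self_pow hj0 p))
    exact this.ge.trans inf_le_right
  have hab := h.card_derived
  have hbot : commutator R = ⊥ := by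
    have hcomm' := MonoidHom.isMulCommutative_of_isCyclic_of_ker_le_center (QuotientGroup.mk' N)
      (by rw [QuotientGroup.ker_mk']; exact hNcen)
    have hcomm : ∀ a b : R, a * b = b * a := mul_comm'
    rw [eq_bot_iff, _root_.commutator_def, commutator_le]
    intro a _ b _
    rw [commutatorElement_eq_one_iff_mul_comm.2 (hcomm a b)]
    exact one_mem _
  rw [hbot, card_bot] at hab
  exact hp.ne_one hab.symm

theorem smallDerived_of_metacyclic (hm : IsMetacyclic R) : SmallDerived p R := by
  refine ⟨h, h.powers_eq_closure ▸ h.commutator_le_powers_of_metacyclic hm, ?_⟩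
  have h1 := CfsgLib.PLocal.omegaOne_metacyclic h.odd h.isPGroup hm h.not_isCyclic
  have heq : omegaOne p (⊤ : Subgroup R) = h.omega := by
    refine le_antisymm (fun x hx => h.mem_omega.2 ?_) fun x hx => ?_
    · exact (CfsgLib.Base.isElementaryAbelian_iff.1 h1.1).2 x hx
    · exact subset_closure ⟨mem_top _, h.mem_omega.1 hx⟩
  have h2 := h.omega.card_mul_index
  rw [show h.omega.index = Nat.card h.powers from index_ker _, ← heq, h1.2] at h2
  rw [← h.powers_eq_closure]
  refine le_of_eq (Nat.eq_of_mul_eq_mul_left (Nat.card_pos (α := h.powers)) ?_)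
  rw [h.powers.card_mul_index, ← h2, mul_comm]

end CentralDerived

namespace SmallDerived

variable (h : SmallDerived p R)

include h

theorem commutator_le_powers : commutator R ≤ h.powers := h.powers_eq_closure ▸ h.derived_le

theorem index_powers : h.powers.index = p ^ 2 := by
  have hp : p.Prime := Fact.out
  have hle : h.powers.index ≤ p ^ 2 := h.powers_eq_closure ▸ h.index_le
  obtain ⟨k, hk⟩ : ∃ k, h.powers.index = p ^ k := by
    have : h.powers.Normal := normal_of_mem_center h.powers_le_center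
    exact IsPGroup.iff_card.mp (h.isPGroup.to_quotient h.powers)
  have hk2 : k ≤ 2 := (Nat.pow_le_pow_iff_right hp.one_lt).1 (hk ▸ hle)
  have htop : ∀ g : R, zpowers g ⊔ h.powers ≠ ⊤ := fun g h0 => h.not_isCyclic
    (isCyclic_iff_exists_zpowers_eq_top.2 ⟨g, frattini_nongenerating (top_le_iff.1
      (h0.ge.trans (sup_le_sup_left h.powers_le_frattini _)))⟩)
  have hne : h.powers ≠ ⊤ := fun h0 => htop 1 (top_le_iff.1 (h0.ge.trans le_sup_right))
  have hk0 : k ≠ 0 := fun h0 => hne (index_eq_one.1 (by rw [hk, h0, pow_zero]))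
  have hk1 : k ≠ 1 := fun h0 => by
    obtain ⟨g, -, hg⟩ := SetLike.exists_of_lt (lt_top_iff_ne_top.2 hne)
    have hlt : h.powers < zpowers g ⊔ h.powers :=
      right_lt_sup.2 fun h1 => hg (h1 (mem_zpowers g))
    refine htop g (index_eq_one.1 ?_)
    have hd := index_dvd_of_le hlt.le
    rw [hk, h0, pow_one] at hd
    refine ((Nat.dvd_prime hp).1 hd).resolve_right fun h1 => ?_
    have e1 := h.powers.card_mul_index
    have e2 := (zpowers g ⊔ h.powers).card_mul_index
    rw [hk, h0, pow_one] at e1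
    rw [h1] at e2
    exact (CfsgLib.PLocal.card_lt_of_lt hlt).ne (Nat.eq_of_mul_eq_mul_right hp.pos (e1.trans e2.symm))
  rw [hk, show k = 2 by omega]

theorem card_omega : Nat.card h.omega = p ^ 2 := by
  have h1 := h.powers.card_mul_index
  have h2 := h.omega.card_mul_index
  rw [show h.omega.index = Nat.card h.powers from index_ker _] at h2
  rw [h.index_powers, ← h2, mul_comm] at h1
  exact (Nat.eq_of_mul_eq_mul_right Nat.card_pos h1).symm

/-- A subgroup strictly between the `p`-th powers and `R` has index `p`. -/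
theorem index_eq {M : Subgroup R} (h1 : h.powers < M) (h2 : M ≠ ⊤) : M.index = p := by
  have hp : p.Prime := Fact.out
  obtain ⟨k, hk, hk'⟩ := (Nat.dvd_prime_pow hp).1 (h.index_powers ▸ index_dvd_of_le h1.le)
  have hk0 : k ≠ 0 := fun h0 => h2 (index_eq_one.1 (by rw [hk', h0, pow_zero]))
  have hk2 : k ≠ 2 := fun h0 => h1.ne (eq_of_le_of_card_ge h1.le (by
    have e1 := h.powers.card_mul_index
    have e2 := M.card_mul_index
    rw [hk', h0, ← h.index_powers, ← e1] at e2
    exact (Nat.eq_of_mul_eq_mul_right (Nat.pos_of_ne_zero index_ne_zero_of_finite) e2).le))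
  rw [hk', show k = 1 by omega, pow_one]

theorem eq_of_lt {M M' : Subgroup R} (h1 : h.powers < M) (h2 : M ≤ M') (h3 : M' ≠ ⊤) :
    M = M' := by
  refine eq_of_le_of_card_ge h2 ?_
  have e1 := M.card_mul_index
  have e2 := M'.card_mul_index
  rw [h.index_eq h1 (fun h0 => h3 (top_le_iff.1 (h0 ▸ h2)))] at e1
  rw [h.index_eq (h1.trans_le h2) h3] at e2
  exact (Nat.eq_of_mul_eq_mul_right (Fact.out : p.Prime).pos (e2.trans e1.symm)).le

theorem lt_line {g : R} (hg : g ∉ h.powers) : h.powers < zpowers g ⊔ h.powers :=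
  right_lt_sup.2 fun h0 => hg (h0 (mem_zpowers g))

theorem line_ne_top (g : R) : zpowers g ⊔ h.powers ≠ ⊤ := fun h0 => by
  have h1 : zpowers g = ⊤ := frattini_nongenerating (top_le_iff.1
    (h0.ge.trans (sup_le_sup_left h.powers_le_frattini _)))
  exact h.not_isCyclic (isCyclic_iff_exists_zpowers_eq_top.2 ⟨g, h1⟩)

theorem line_eq {g : R} (hg : g ∉ h.powers) {M : Subgroup R} (hle : h.powers ≤ M) (hgM : g ∈ M)
    (hM : M ≠ ⊤) : zpowers g ⊔ h.powers = M :=
  h.eq_of_lt (h.lt_line hg) (sup_le (zpowers_le.2 hgM) hle) hM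

theorem line_commute {g x y : R} (hx : x ∈ zpowers g ⊔ h.powers)
    (hy : y ∈ zpowers g ⊔ h.powers) : x * y = y * x := by
  have hab : IsMulCommutative ↥(zpowers g ⊔ h.powers) := by
    have h1 : zpowers g ⊔ h.powers ≤ centralizer ((zpowers g ⊔ h.powers : Subgroup R) : Set R) := by
      refine sup_le (le_centralizer_iff.1 (sup_le (le_centralizer_iff_isMulCommutative.2
        inferInstance) fun u hu => mem_centralizer_iff.2 fun v _ =>
          mem_center_iff.1 (h.powers_le_center hu) v)) fun u hu => mem_centralizer_iff.2 fun v _ =>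
          mem_center_iff.1 (h.powers_le_center hu) v
    exact le_centralizer_iff_isMulCommutative.1 h1
  exact congrArg Subtype.val (mul_comm' (⟨x, hx⟩ : ↥(zpowers g ⊔ h.powers)) ⟨y, hy⟩)

/-- The centralizer of an element outside the `p`-th powers. -/
theorem mem_line_of_commute {g x : R} (hg : g ∉ h.powers) (hx : g * x = x * g) :
    x ∈ zpowers g ⊔ h.powers := by
  have hC : zpowers g ⊔ h.powers ≤ centralizer ({g} : Set R) := fun u hu =>
    mem_centralizer_singleton_iff.2 (h.line_commute hu (mem_sup_left (mem_zpowers g)))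
  have hne : centralizer ({g} : Set R) ≠ ⊤ := fun h0 => by
    have hgc : g ∈ center R := mem_center_iff.2 fun u =>
      mem_centralizer_singleton_iff.1 (h0.ge (mem_top u))
    obtain ⟨y, hy⟩ : ∃ y, y ∉ zpowers g ⊔ h.powers := by
      by_contra! hall
      exact h.line_ne_top g (eq_top_iff.2 fun u _ => hall u)
    have hall : centralizer ({y} : Set R) = ⊤ := by
      by_contra hne
      have hyp : y ∉ h.powers := fun hy' => hy (mem_sup_right hy')
      have e := h.line_eq hyp (M := centralizer ({y} : Set R))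
        (fun u hu => mem_centralizer_singleton_iff.2 (mem_center_iff.1 (h.powers_le_center hu) y).symm)
        (mem_centralizer_singleton_iff.2 rfl) hne
      have hgy : g ∈ zpowers y ⊔ h.powers :=
        e.ge (mem_centralizer_singleton_iff.2 (mem_center_iff.1 hgc y).symm)
      have e2 := h.line_eq hg (M := zpowers y ⊔ h.powers) le_sup_right hgy (h.line_ne_top y)
      exact hy (e2.ge (mem_sup_left (mem_zpowers y)))
    have hyc : y ∈ center R := mem_center_iff.2 fun u =>
      mem_centralizer_singleton_iff.1 (hall.ge (mem_top u))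
    have hle : zpowers g ⊔ h.powers < zpowers g ⊔ h.powers ⊔ zpowers y :=
      left_lt_sup.2 fun h1 => hy (h1 (mem_zpowers y))
    have htop : zpowers g ⊔ h.powers ⊔ zpowers y = ⊤ := by
      by_contra hne'
      exact hle.ne (h.eq_of_lt (h.lt_line hg) hle.le hne')
    have hcen : ⊤ ≤ center R := htop ▸ sup_le (sup_le (zpowers_le.2 hgc) h.powers_le_center)
      (zpowers_le.2 hyc)
    have := h.card_derived
    rw [show commutator R = ⊥ from by
      rw [eq_bot_iff, _root_.commutator_def, commutator_le]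
      intro u _ v _
      rw [commutatorElement_eq_one_iff_mul_comm.2 (mem_center_iff.1 (hcen (mem_top v)) u)]
      exact one_mem _, card_bot] at this
    exact (Fact.out : p.Prime).ne_one this.symm
  exact (h.eq_of_lt (h.lt_line hg) hC hne).ge (mem_centralizer_singleton_iff.2 hx.symm)

/-- A characteristic maximal subgroup over the `p`-th powers with one trivial factor. -/
theorem exists_trivial_factor :
    ∃ M : Subgroup R, h.powers < M ∧ M.index = p ∧ M.Characteristic ∧
      ((∀ (α : MulAut R) (x : R), x⁻¹ * α x ∈ M) ∨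
        ∀ (α : MulAut R), ∀ x ∈ M, x⁻¹ * α x ∈ h.powers) := by
  classical
  have hp : p.Prime := Fact.out
  obtain ⟨⟨z, hz⟩, hz1⟩ : ∃ z : commutator R, z ≠ 1 := by
    by_contra! hall
    have := h.card_derived
    rw [(Subgroup.eq_bot_iff_forall _).2 fun x hx => congrArg Subtype.val (hall ⟨x, hx⟩),
      card_bot] at this
    exact hp.ne_one this.symm
  have hzne : z ≠ 1 := fun h0 => hz1 (Subtype.ext h0)
  have hzgen : ∀ c ∈ commutator R, ∀ w ∈ commutator R, w ≠ 1 → ∃ i : ℤ, w ^ i = c := by
    intro c hc w hw hw1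
    have hweq : zpowers w = commutator R := by
      refine eq_of_le_of_card_ge (zpowers_le.2 hw) ?_
      rw [h.card_derived, Nat.card_zpowers]
      have hd : orderOf w ∣ p := h.card_derived ▸ orderOf_dvd_natCard (commutator R) hw
      rw [((Nat.dvd_prime hp).1 hd).resolve_left fun h0 => hw1 (orderOf_eq_one_iff.1 h0)]
    exact mem_zpowers_iff.1 (hweq.ge hc)
  have hex : ∃ m : ℕ, ¬ ∃ g : R, g ^ p ^ (m + 1) = z := by
    obtain ⟨N, hN⟩ := IsPGroup.iff_card.mp h.isPGroup
    refine ⟨N, fun ⟨g, hg⟩ => hzne ?_⟩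
    rw [← hg, pow_succ, pow_mul, ← hN, pow_card_eq_one', one_pow]
  set m := Nat.find hex with hm
  have hmax : ¬ ∃ g : R, g ^ p ^ (m + 1) = z := Nat.find_spec hex
  obtain ⟨g, hgz⟩ : ∃ g : R, g ^ p ^ m = z := by
    rcases Nat.eq_zero_or_pos m with h0 | h0
    · exact ⟨z, by rw [h0]; simp⟩
    · have := Nat.find_min hex (show m - 1 < Nat.find hex by omega)
      push Not at this
      obtain ⟨g, hg⟩ := this
      exact ⟨g, by rw [← hg, Nat.sub_add_cancel h0]⟩
  let π : R →* R := MonoidHom.mk' (fun x => x ^ p ^ m) (fun a b => h.mul_pow_pow a b m)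
  have hπ : ∀ x, π x = x ^ p ^ m := fun x => rfl
  have hπα : ∀ (α : MulAut R) x, π (α x) = α (π x) := fun α x => (map_pow α x _).symm
  set S := (commutator R).comap π with hS
  have hSU : ∀ φ ∈ S, φ ∈ h.powers → π φ = 1 := by
    intro φ hφ hφU
    by_contra hne
    obtain ⟨w, hw⟩ := h.mem_powers.1 hφU
    obtain ⟨i, hi⟩ := hzgen z hz (π φ) hφ hne
    refine hmax ⟨w ^ i, ?_⟩
    rw [← hi, hπ, ← hw, pow_succ', ← pow_mul, ← zpow_natCast (w ^ i), ← zpow_mul, mul_comm i,
      zpow_mul, zpow_natCast]
  have hgU : g ∉ h.powers := fun h0 => by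
    obtain ⟨w, hw⟩ := h.mem_powers.1 h0
    exact hmax ⟨w, by rw [pow_succ', pow_mul, hw, hgz]⟩
  have hgS : g ∈ S := by rw [hS, mem_comap, hπ, hgz]; exact hz
  have hαS : ∀ (α : MulAut R), ∀ x ∈ S, α x ∈ S := fun α x hx => by
    rw [hS, mem_comap, hπα]
    exact (commutator_characteristic (⊤ : Subgroup R) ⊤).fixed α |>.ge hx
  have hαU : ∀ (α : MulAut R), ∀ x ∈ h.powers, α x ∈ h.powers := fun α x hx => by
    obtain ⟨w, rfl⟩ := h.mem_powers.1 hx
    exact h.mem_powers.2 ⟨α w, (map_pow α w p).symm⟩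
  have hact : ∀ (α : MulAut R) (i : ℤ), π (α g) = z ^ i → ∀ c ∈ commutator R, α c = c ^ i := by
    intro α i hi c hc
    obtain ⟨j, rfl⟩ := hzgen c hc z hz hzne
    rw [map_zpow, ← hgz, ← hπ, ← hπα, hi, ← zpow_mul, hπ, hgz, ← zpow_mul, mul_comm]
  have hcm : ∀ a b : R, ⁅a, b⁆ ∈ commutator R := fun a b =>
    commutator_mem_commutator (mem_top a) (mem_top b)
  have hchar : ∀ M : Subgroup R, (∀ (α : MulAut R), ∀ x ∈ M, α x ∈ M) → M.Characteristic :=
    fun M hM => characteristic_iff_le_comap.2 fun φ x hx => hM φ x hx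
  by_cases htop : S ⊔ h.powers = ⊤
  · -- `R / M` is isomorphic to the derived group
    set M := (S ⊓ π.ker) ⊔ h.powers with hM
    have hMker : ∀ x ∈ M, x ∈ S → π x = 1 := by
      intro x hx hxS
      rw [hM, mem_sup_of_normal_right (ht := normal_of_mem_center h.powers_le_center)] at hx
      obtain ⟨a, ha, b, hb, rfl⟩ := hx
      have hbS : b ∈ S := by simpa using S.mul_mem (S.inv_mem ha.1) hxS
      rw [map_mul, MonoidHom.mem_ker.1 ha.2, hSU b hbS hb, one_mul]
    have hgM : g ∉ M := fun h0 => hzne (by rw [← hgz, ← hπ]; exact hMker g h0 hgS)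
    have hdecomp : ∀ x : R, ∃ i : ℤ, (g ^ i)⁻¹ * x ∈ M := by
      intro x
      have hx : x ∈ S ⊔ h.powers := htop.ge (mem_top x)
      rw [mem_sup_of_normal_right (ht := normal_of_mem_center h.powers_le_center)] at hx
      obtain ⟨a, ha, b, hb, rfl⟩ := hx
      obtain ⟨i, hi⟩ := hzgen (π a) ha z hz hzne
      refine ⟨i, ?_⟩
      rw [← mul_assoc]
      refine M.mul_mem (mem_sup_left ⟨S.mul_mem (S.inv_mem (S.zpow_mem hgS i)) ha, ?_⟩)
        (mem_sup_right hb)
      show π ((g ^ i)⁻¹ * a) = 1
      rw [map_mul, map_inv, map_zpow, hπ g, hgz, hi, inv_mul_cancel]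
    have hlt : h.powers < M := lt_of_le_of_ne le_sup_right fun h0 => h.line_ne_top g
      (eq_top_iff.2 fun x _ => by
        obtain ⟨i, hi⟩ := hdecomp x
        rw [← h0] at hi
        simpa using mul_mem (mem_sup_left (T := h.powers) (zpow_mem (mem_zpowers g) i))
          (mem_sup_right (S := zpowers g) hi))
    have hMtop : M ≠ ⊤ := fun h0 => hgM (h0 ▸ mem_top g)
    have hαM : ∀ (α : MulAut R), ∀ x ∈ M, α x ∈ M := by
      intro α x hx
      have hle : M ≤ M.comap α.toMonoidHom := by
        refine sup_le (fun u hu => mem_sup_left ⟨hαS α u hu.1, ?_⟩)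
          (fun u hu => mem_sup_right (hαU α u hu))
        show π (α u) = 1
        rw [hπα, MonoidHom.mem_ker.1 hu.2, map_one]
      exact hle hx
    refine ⟨M, hlt, h.index_eq hlt hMtop, hchar M hαM, Or.inr fun α l hl => ?_⟩
    obtain ⟨i, hi⟩ := hdecomp (α g)
    set κ := (g ^ i)⁻¹ * α g with hκ
    have hag : α g = g ^ i * κ := by rw [hκ, mul_inv_cancel_left]
    have hκS : κ ∈ S := S.mul_mem (S.inv_mem (S.zpow_mem hgS i)) (hαS α g hgS)
    have hπg : π (α g) = z ^ i := by
      rw [hag, map_mul, map_zpow, hMker κ hi hκS, mul_one, hπ g, hgz]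
    have hab : ∀ x ∈ M, ∀ y ∈ M, x * y = y * x := by
      obtain ⟨w, hw, hwU⟩ := SetLike.exists_of_lt hlt
      have e := h.line_eq hwU hlt.le hw hMtop
      exact fun x hx y hy => h.line_commute (e.ge hx) (e.ge hy)
    have h1 : ⁅α g, l⁆ = ⁅α g, α l⁆ := by
      rw [← map_commutatorElement α, hact α i hπg _ (hcm g l), ← h.commutator_zpow_left, hag,
        h.commutator_mul_left, commutatorElement_eq_one_iff_mul_comm.2 (hab κ hi l hl), mul_one]
    set δ := l⁻¹ * α l with hδ
    have h2 : ⁅α g, δ⁆ = 1 := by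
      have h3 := h.commutator_mul_right (α g) l δ
      rw [show l * δ = α l by rw [hδ, mul_inv_cancel_left], ← h1] at h3
      exact mul_eq_left.1 h3.symm
    have hagU : α g ∉ h.powers := fun h0 => hgU (by
      have := hαU α.symm _ h0
      simpa using this)
    have hagM : α g ∉ M := fun h0 => hgM (by
      have := hαM α.symm _ h0
      simpa using this)
    by_contra hδU
    have hline := h.mem_line_of_commute hagU (commutatorElement_eq_one_iff_mul_comm.1 h2)
    have hδM : δ ∈ M := M.mul_mem (M.inv_mem hl) (hαM α l hl)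
    have e1 := h.line_eq hδU hlt.le hδM hMtop
    have e2 := h.line_eq hδU (M := zpowers (α g) ⊔ h.powers) le_sup_right hline (h.line_ne_top _)
    exact hagM (e1.le (e2.ge (mem_sup_left (mem_zpowers _))))
  · -- `M / powers` is isomorphic to the derived group
    have hlt : h.powers < S ⊔ h.powers := right_lt_sup.2 fun h0 => hgU (h0 hgS)
    have hαM : ∀ (α : MulAut R), ∀ x ∈ S ⊔ h.powers, α x ∈ S ⊔ h.powers := fun α x hx =>
      (sup_le (fun u hu => mem_sup_left (hαS α u hu)) (fun u hu => mem_sup_right (hαU α u hu)) :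
        S ⊔ h.powers ≤ (S ⊔ h.powers).comap α.toMonoidHom) hx
    refine ⟨S ⊔ h.powers, hlt, h.index_eq hlt htop, hchar _ hαM, Or.inl fun α x => ?_⟩
    have hline := h.line_eq hgU le_sup_right (mem_sup_left hgS) htop
    have hag : α g ∈ zpowers g ⊔ h.powers := hline.ge (mem_sup_left (hαS α g hgS))
    rw [mem_sup_of_normal_right (ht := normal_of_mem_center h.powers_le_center)] at hag
    obtain ⟨_, ⟨i, rfl⟩, φ, hφ, hgφ⟩ := hag
    dsimp only at hgφ
    have hφS : φ ∈ S := by
      have := S.mul_mem (S.inv_mem (S.zpow_mem hgS i)) (hαS α g hgS)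
      rwa [← hgφ, inv_mul_cancel_left] at this
    have hπg : π (α g) = z ^ i := by
      rw [← hgφ, map_mul, map_zpow, hSU φ hφS hφ, mul_one, hπ g, hgz]
    have h1 : ⁅α g, x⁆ = ⁅α g, α x⁆ := by
      rw [← map_commutatorElement α, hact α i hπg _ (hcm g x), ← h.commutator_zpow_left, ← hgφ,
        h.commutator_mul_left, commutatorElement_eq_one_iff_mul_comm.2
          (mem_center_iff.1 (h.powers_le_center hφ) x).symm, mul_one]
    have h2 : ⁅α g, x⁻¹ * α x⁆ = 1 := by
      have h3 := h.commutator_mul_right (α g) x (x⁻¹ * α x)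
      rw [mul_inv_cancel_left, ← h1] at h3
      exact mul_eq_left.1 h3.symm
    have hagU : α g ∉ h.powers := fun h0 => hgU (by
      have := hαU α.symm _ h0
      simpa using this)
    exact (sup_le (zpowers_le.2 (mem_sup_left (hαS α g hgS))) le_sup_right)
      (h.mem_line_of_commute hagU (commutatorElement_eq_one_iff_mul_comm.1 h2))

end SmallDerived

end CfsgLib.OddOrder
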