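import Cfsg.Agent.Lib.OddOrder.PStableCriterion
import Cfsg.Agent.Lib.PLocal.PSolvable

/-!
Abelian subgroups normalised by a normal `p`-subgroup lie in `O_p` (p-stable groups).
-/

set_option autoImplicit false

namespace CfsgLib.OddOrder

open scoped commutatorElement

variable {G : Type*} [Group G] [Finite G] {p : ℕ} [Fact p.Prime]

/-- A subgroup normalising an abelian subgroup acts on it quadratically through that subgroup. -/
theorem commutator_commutator_eq_bot {P B : Subgroup G} (hB : IsMulCommutative B)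
    (hPB : P ≤ Subgroup.normalizer (B : Set G)) {b : G} (hb : b ∈ B) :
    ⁅⁅P, Subgroup.zpowers b⁆, Subgroup.zpowers b⁆ = ⊥ := by
  rw [Subgroup.commutator_eq_bot_iff_le_centralizer]
  have h1 : ⁅P, Subgroup.zpowers b⁆ ≤ B := by
    rw [Subgroup.commutator_le]
    intro x hx y hy
    have hyB := (Subgroup.zpowers_le.2 hb) hy
    rw [commutatorElement_def]
    exact mul_mem ((Subgroup.mem_normalizer_iff.1 (hPB hx) y).1 hyB) (inv_mem hyB)
  exact (h1.trans (Subgroup.le_centralizer (h := hB))).trans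
    (Subgroup.centralizer_le (Subgroup.zpowers_le.2 hb))

/-- The image in `O_p(G / C_G(P))`. -/
theorem map_sSup_le_pCore (hp : p ≠ 2) (hno : ¬ InvolvesSL2 p G) (P : Subgroup G) [P.Normal]
    (hP : IsPGroup p P) (S : Set (Subgroup G))
    (hS : ∀ B ∈ S, IsMulCommutative B ∧ P ≤ Subgroup.normalizer (B : Set G)) :
    (sSup S).map (QuotientGroup.mk' (Subgroup.centralizer (P : Set G))) ≤
      Cfsg.pCore p (G ⧸ Subgroup.centralizer (P : Set G)) := by
  rw [Subgroup.map_le_iff_le_comap]
  refine sSup_le fun B hB b hb => ?_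
  exact (mem_pCore_centralizer_pGroup_or_involves hp P hP b
    (commutator_commutator_eq_bot (hS B hB).1 (hS B hB).2 hb)).resolve_right hno

theorem sSup_le_pCore (hp : p ≠ 2) (hno : ¬ InvolvesSL2 p G) (hsolv : Cfsg.IsPSolvable p G)
    (hO : Cfsg.pPrimeCore p G = ⊥) (P : Subgroup G) [P.Normal] (hP : IsPGroup p P)
    (hcen : Cfsg.pCore p G ⊓ Subgroup.centralizer (P : Set G) ≤ P) (S : Set (Subgroup G))
    (hS : ∀ B ∈ S, IsMulCommutative B ∧ P ≤ Subgroup.normalizer (B : Set G)) :
    sSup S ≤ Cfsg.pCore p G := by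
  set C := Subgroup.centralizer (P : Set G) with hC
  have h1 := map_sSup_le_pCore hp hno P hP S hS
  rw [Subgroup.map_le_iff_le_comap] at h1
  refine h1.trans ?_
  -- the centraliser is a `p`-group
  have hC1 : C ≤ Cfsg.pCore p G := by
    have hT : (Cfsg.pCore p C).map C.subtype ≤ Cfsg.pCore p G :=
      CfsgLib.Base.map_pCore_le_of_isSubnormal (Subgroup.Normal.isSubnormal inferInstance)
    have hcentral : ∀ x ∈ (Cfsg.pCore p C).map C.subtype, x ∈ P := fun x hx =>
      hcen ⟨hT hx, Subgroup.map_subtype_le _ hx⟩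
    have hO' : Cfsg.pPrimeCore p C = ⊥ := by
      have h := CfsgLib.Base.map_pPrimeCore_le_of_isSubnormal (p := p) (K := C)
        (Subgroup.Normal.isSubnormal inferInstance)
      rw [hO, le_bot_iff, Subgroup.map_eq_bot_iff_of_injective _ C.subtype_injective] at h
      exact h
    have hall : (⊤ : Subgroup C) ≤ Cfsg.pCore p C := by
      refine le_trans ?_ (CfsgLib.PLocal.centralizer_pCore_le
        (CfsgLib.PLocal.isPSolvable_subgroup hsolv C) hO')
      intro x _
      rw [Subgroup.mem_centralizer_iff]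
      intro y hy
      exact Subtype.ext (Subgroup.mem_centralizer_iff.1 x.2 y.1 (hcentral _ ⟨y, hy, rfl⟩))
    intro x hx
    exact hT ⟨⟨x, hx⟩, hall trivial, rfl⟩
  set D := (Cfsg.pCore p (G ⧸ C)).comap (QuotientGroup.mk' C)
  have hCp : IsPGroup p C := (CfsgLib.Base.isPGroup_pCore p G).to_le hC1
  exact CfsgLib.Base.le_pCore ((CfsgLib.Base.isPGroup_pCore p (G ⧸ C)).comap_of_ker_isPGroup _
    (by rw [QuotientGroup.ker_mk']; exact hCp))

end CfsgLib.OddOrder
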