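import Cfsg.Agent.Lib.OddOrder.UniqueFitting

/-!
Maximal subgroups whose Fitting subgroup has `q`-rank at least three.
-/

set_option autoImplicit false
set_option linter.unusedSectionVars false

namespace CfsgLib.OddOrder

open Cfsg
open Subgroup

variable {G : Type*} [Group G] [Finite G] {q : ℕ} [Fact q.Prime]

theorem exists_elementary_opOf {M : Subgroup G} (hF : ¬ PRankLE q 2 (fittingOf M)) :
    ∃ E : Subgroup G, E ≤ opOf q M ∧ IsElementaryAbelian q E ∧ q ^ 3 ≤ Nat.card E := by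
  obtain ⟨E, hEF, hE, hE3⟩ := exists_elementary_pow_le hF
  exact ⟨E, le_opOf_of_le_fittingOf (CfsgLib.Base.isPGroup_of_isElementaryAbelian hE) hEF, hE, hE3⟩

theorem not_pRankLE_of_le {H K : Subgroup G} {k : ℕ} (h : H ≤ K) (hH : ¬ PRankLE q k H) :
    ¬ PRankLE q k K := fun hK =>
  hH (CfsgLib.Base.pRankLE_of_injective (inclusion h) (inclusion_injective h) hK)

/-- A proper subgroup meeting such a maximal subgroup in `q`-rank three lies in it. -/
theorem big_le (hG : IsMinSimpleOddOrder G) {M : Subgroup G} (hM : IsCoatom M)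
    (hF : ¬ PRankLE q 2 (fittingOf M)) {H : Subgroup G} (hH : H ≠ ⊤)
    (hr : ¬ PRankLE q 2 ↥(H ⊓ M)) : H ≤ M := by
  obtain ⟨E, hle, hE, hE3⟩ := exists_elementary_pow_le hr
  obtain ⟨N, -, -, huniq⟩ :=
    inUniqueMaximal_iff.1 (inUniqueMaximal_of_fitting_rank hG hM hF hE hE3)
  obtain rfl := huniq M hM (hle.trans inf_le_right)
  exact le_of_unique huniq hH (hle.trans inf_le_left)

theorem big_sylow_le (hG : IsMinSimpleOddOrder G) {M : Subgroup G} (hM : IsCoatom M)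
    (hF : ¬ PRankLE q 2 (fittingOf M)) : ∃ Q : Sylow q G, (Q : Subgroup G) ≤ M := by
  obtain ⟨E, hE, hEe, hE3⟩ := exists_elementary_opOf hF
  obtain ⟨Q, hQ⟩ := (isPGroup_opOf q M).exists_le_sylow
  exact ⟨Q, big_le hG hM hF (isPGroup_ne_top hG Q.isPGroup')
    (not_pRankLE_of_le_card (le_inf (hE.trans hQ) (hE.trans (opOf_le q M))) hEe hE3)⟩

theorem big_map_conj {M : Subgroup G} (hF : ¬ PRankLE q 2 (fittingOf M)) (g : G) :
    ¬ PRankLE q 2 (fittingOf (M.map (MulAut.conj g).toMonoidHom)) := by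
  obtain ⟨E, hE, hEe, hE3⟩ := exists_elementary_opOf hF
  refine not_pRankLE_of_le_card (E := E.map (MulAut.conj g).toMonoidHom) ?_
    (CfsgLib.Base.isElementaryAbelian_map _ hEe)
    (by rwa [card_map_of_injective (MulAut.conj g).injective])
  refine (map_mono hE).trans (le_trans ?_ (opOf_le_fittingOf q _))
  exact le_opOf (map_mono (opOf_le q M))
    ((map_mono (le_normalizer_opOf q M)).trans (le_normalizer_map _))
    ((isPGroup_opOf q M).map _)

/-- Every proper subgroup of `q`-rank three lies in such a maximal subgroup. -/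
theorem exists_big_ge (hG : IsMinSimpleOddOrder G) {M : Subgroup G} (hM : IsCoatom M)
    (hF : ¬ PRankLE q 2 (fittingOf M)) {H : Subgroup G} (hH : H ≠ ⊤) (hr : ¬ PRankLE q 2 H) :
    ∃ Y : Subgroup G, IsCoatom Y ∧ ¬ PRankLE q 2 (fittingOf Y) ∧ H ≤ Y := by
  obtain ⟨E, hEH, hE, hE3⟩ := exists_elementary_pow_le hr
  obtain ⟨Q, hQM⟩ := big_sylow_le hG hM hF
  obtain ⟨R, hER⟩ := (CfsgLib.Base.isPGroup_of_isElementaryAbelian hE).exists_le_sylow
  obtain ⟨g, hg⟩ := MulAction.exists_smul_eq G Q R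
  have hY := isCoatom_map_conj hM g
  refine ⟨_, hY, big_map_conj hF g, big_le hG hY (big_map_conj hF g) hH
    (not_pRankLE_of_le_card (le_inf hEH ?_) hE hE3)⟩
  refine hER.trans ?_
  rw [← hg]
  rintro _ ⟨x, hx, rfl⟩
  exact ⟨x, hQM hx, rfl⟩

theorem eq_of_big_of_opOf_le (hG : IsMinSimpleOddOrder G) {M X : Subgroup G} (hM : IsCoatom M)
    (hF : ¬ PRankLE q 2 (fittingOf M)) (hX : IsCoatom X) (hFX : ¬ PRankLE q 2 (fittingOf X))
    (h : opOf q X ≤ M) : X = M := by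
  obtain ⟨E, hE, hEe, hE3⟩ := exists_elementary_opOf hFX
  exact (((hX.le_iff).1 (big_le hG hM hF hX.1 (not_pRankLE_of_le_card
    (le_inf (hE.trans (opOf_le q X)) (hE.trans h)) hEe hE3))).resolve_left hM.1).symm

theorem normalizer_le_big (hG : IsMinSimpleOddOrder G) {M : Subgroup G} (hM : IsCoatom M)
    (hF : ¬ PRankLE q 2 (fittingOf M)) {W : Subgroup G} (hW : W ≠ ⊥) (hW' : W ≠ ⊤)
    (hr : ¬ PRankLE q 2 (centralizer (W : Set G))) :
    ∃ Y : Subgroup G, IsCoatom Y ∧ ¬ PRankLE q 2 (fittingOf Y) ∧ normalizer (W : Set G) ≤ Y :=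
  exists_big_ge hG hM hF (minSimple_normalizer_ne_top hG hW hW')
    (not_pRankLE_of_le (centralizer_le_normalizer _) hr)

/-- A largest invariant `q`-subgroup in such a maximal subgroup over `A`. -/
theorem exists_big_invariant (hG : IsMinSimpleOddOrder G) {A : Subgroup G}
    (hTH : TransitivityHypothesis A) (hZ : ¬ RankLE 2 ↥(A ⊓ centralizer (A : Set G)))
    (hqA : ¬ q ∣ Nat.card A) {M : Subgroup G} (hM : IsCoatom M)
    (hF : ¬ PRankLE q 2 (fittingOf M)) (hAM : A ≤ M) :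
    ∃ Q : Subgroup G, IsPGroup q Q ∧ A ≤ normalizer (Q : Set G) ∧ Q ≤ M ∧ opOf q M ≤ Q ∧
      ¬ PRankLE q 2 Q ∧
      ∀ Q' : Subgroup G, IsPGroup q Q' → A ≤ normalizer (Q' : Set G) →
        ∃ k ∈ piCoreOf (primesNotDvd (Nat.card A)) (centralizer (A : Set G)),
          Q' ≤ Q.map (MulAut.conj k).toMonoidHom := by
  obtain ⟨Q, hQ, hOQ⟩ := exists_maxInvSubgroups_ge (mem_invSubgroups_singleton_iff.mpr
    ⟨le_top, isPGroup_opOf q M, hAM.trans (le_normalizer_opOf q M)⟩ :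
      opOf q M ∈ invSubgroups ⊤ A {q})
  obtain ⟨-, hQq, hAQ⟩ := mem_invSubgroups_singleton_iff.mp hQ.1
  obtain ⟨E, hE, hEe, hE3⟩ := exists_elementary_opOf hF
  refine ⟨Q, hQq, hAQ, big_le hG hM hF (isPGroup_ne_top hG hQq)
    (not_pRankLE_of_le_card (le_inf (hE.trans hOQ) (hE.trans (opOf_le q M))) hEe hE3), hOQ,
    not_pRankLE_of_le_card (hE.trans hOQ) hEe hE3, fun Q' hQ' hAQ' => ?_⟩
  obtain ⟨Q₁, hQ₁, hle⟩ := exists_maxInvSubgroups_ge
    (mem_invSubgroups_singleton_iff.mpr ⟨le_top, hQ', hAQ'⟩ : Q' ∈ invSubgroups ⊤ A {q})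
  obtain ⟨k, hk, heq⟩ := th_transitive_rank_three hG hTH hZ hqA hQ hQ₁
  refine ⟨k, hk, hle.trans ?_⟩
  rw [← heq]
  exact le_of_eq rfl

end CfsgLib.OddOrder
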