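import Cfsg.Agent.Lib.Coprime.SchurZassenhaus

/-!
Fusion of a subgroup of coprime order through a normal subgroup.
-/

set_option autoImplicit false

open scoped Pointwise commutatorElement

namespace CfsgLib.OddOrder

variable {G : Type*} [Group G]

/-- In `G = K U` with `K` normal and `H ≤ U` of order coprime to `|K|`, every conjugation of `H`
into `U` is, up to an element of `U`, by an element of `C_K(H)`. -/
theorem exists_mul_of_conj_le [Finite G] [Group.IsSolvable G] {K U H : Subgroup G} [K.Normal]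
    (hKU : K ⊔ U = ⊤) (hH : H ≤ U) (hcop : (Nat.card H).Coprime (Nat.card K)) {g : G}
    (hg : H.map (MulAut.conj g).toMonoidHom ≤ U) :
    ∃ u ∈ U, ∃ c ∈ K ⊓ Subgroup.centralizer (H : Set G), g = u * c := by
  have hgm : g ∈ U ⊔ K := by rw [sup_comm, hKU]; trivial
  obtain ⟨u₁, hu₁, k, hk, rfl⟩ :=
    (CfsgLib.Coprime.mem_sup_iff_of_le_normalizer (H := U) (N := K)
      Subgroup.le_normalizer_of_normal).mp hgm
  have hk' : ∀ h ∈ H, k * h * k⁻¹ ∈ U := by
    intro h hh
    have h1 := U.mul_mem (U.mul_mem (U.inv_mem hu₁) (hg (Subgroup.mem_map_of_mem _ hh))) hu₁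
    simpa [mul_assoc] using h1
  set V := MulAut.conj k • H with hV
  set N := K ⊓ U with hN
  have hHN : H ≤ Subgroup.normalizer (N : Set G) :=
    (le_inf Subgroup.le_normalizer_of_normal (hH.trans Subgroup.le_normalizer)).trans
      Subgroup.inf_normalizer_le_normalizer_inf
  have hVle : V ≤ N ⊔ H := by
    intro x hx
    rw [hV, CfsgLib.Coprime.mem_conj_smul] at hx
    have hxU : x ∈ U := by simpa [mul_assoc] using hk' _ hx
    have hy : x * (k⁻¹ * x * k)⁻¹ ∈ N := by
      refine ⟨?_, U.mul_mem hxU (U.inv_mem (hH hx))⟩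
      have h1 := K.mul_mem (Subgroup.Normal.conj_mem (inferInstance : K.Normal) _ (K.inv_mem hk) x) hk
      simpa [mul_assoc] using h1
    have h2 := mul_mem (Subgroup.mem_sup_left hy : _ ∈ N ⊔ H) (Subgroup.mem_sup_right hx)
    rwa [mul_assoc, inv_mul_cancel, mul_one] at h2
  obtain ⟨v, hv, hveq⟩ := CfsgLib.Coprime.sz_conj_rel (N := N) (H := H) (K := V) hHN
    (hVle.trans (sup_le Subgroup.le_normalizer hHN))
    ((hcop.symm).coprime_dvd_left (Subgroup.card_dvd_of_le inf_le_left))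
    (CfsgLib.Coprime.card_conj_smul k H) hVle (Or.inl inferInstance)
  refine ⟨u₁ * v, U.mul_mem hu₁ hv.2, v⁻¹ * k, ⟨K.mul_mem (K.inv_mem hv.1) hk, ?_⟩, by group⟩
  refine Subgroup.mem_centralizer_iff.mpr fun h hh => ?_
  set c := v⁻¹ * k with hc
  have hcK : c ∈ K := K.mul_mem (K.inv_mem hv.1) hk
  have hcH : c * h * c⁻¹ ∈ H := by
    have h1 : k * h * k⁻¹ ∈ MulAut.conj v • H := by
      rw [hveq, hV, CfsgLib.Coprime.mem_conj_smul]; simpa [mul_assoc] using hh
    rw [CfsgLib.Coprime.mem_conj_smul] at h1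
    simpa [hc, mul_assoc] using h1
  have hmem : ⁅c, h⁆ ∈ H ⊓ K := by
    refine ⟨H.mul_mem hcH (H.inv_mem hh), ?_⟩
    have h1 := K.mul_mem hcK (Subgroup.Normal.conj_mem (inferInstance : K.Normal) _ (K.inv_mem hcK) h)
    simpa [commutatorElement_def, mul_assoc] using h1
  rw [CfsgLib.Coprime.inf_eq_bot_of_coprime hcop, Subgroup.mem_bot] at hmem
  exact (commutatorElement_eq_one_iff_mul_comm.mp hmem).symm

end CfsgLib.OddOrder
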