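import Mathlib

/-! The arithmetic behind the pole count in Dickson's theorem on `SL₂`. -/

set_option autoImplicit false

namespace CfsgLib.OddOrder

theorem dickson_arith {q k m ν d : ℕ} (hqo : Odd q) (hq : 3 ≤ q) (hk : 1 ≤ k)
    (hm : m + 2 * k = 1 + k * q) (hν : m * ν = (1 + k * q) * d) (hd1 : 1 ≤ d) (hd : d + 1 ≤ q) :
    k = 1 ∨ (q = 3 ∧ k = 3 ∧ d = 2 ∧ ν = 5) := by
  have hcop : Nat.Coprime m k := by
    have h1 : Nat.gcd m k ∣ 1 := by
      have ha : Nat.gcd m k ∣ m + 2 * k :=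
        Nat.dvd_add (Nat.gcd_dvd_left m k) ((Nat.gcd_dvd_right m k).mul_left 2)
      rw [hm] at ha
      exact (Nat.dvd_add_left ((Nat.gcd_dvd_right m k).mul_right q)).1 ha
    exact Nat.dvd_one.1 h1
  have hdvd : m ∣ k * (2 * d) := by
    have ha : m ∣ (m + 2 * k) * d := ⟨ν, by rw [hm, hν]⟩
    rw [add_mul] at ha
    have hb := (Nat.dvd_add_right (dvd_mul_right m d)).1 ha
    rwa [mul_comm 2 k, mul_assoc] at hb
  have hm2 : m ∣ 2 * d := hcop.dvd_of_dvd_mul_left hdvd
  have hle : m ≤ 2 * d := Nat.le_of_dvd (by omega) hm2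
  rcases Nat.lt_or_ge q 5 with h5 | h5
  · have hq3 : q = 3 := by obtain ⟨j, rfl⟩ := hqo; omega
    subst hq3
    have hm' : m = 1 + k := by omega
    subst hm'
    have hk3 : k ≤ 3 := by omega
    have hd2 : d ≤ 2 := by omega
    interval_cases k
    · exact Or.inl rfl
    · interval_cases d <;> omega
    · interval_cases d <;> simp_all <;> omega
  · left
    by_contra hk1
    have hk2 : 2 ≤ k := by omega
    have hk2' : k = 2 := by
      by_contra hne
      have h3 : 3 ≤ k := by omega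
      nlinarith [Nat.mul_le_mul_right q h3]
    subst hk2'
    have hodd : Odd m := ⟨q - 2, by omega⟩
    have hcop2 : Nat.Coprime m 2 := Nat.coprime_two_right.2 hodd
    have hle2 : m ≤ d := Nat.le_of_dvd (by omega) (hcop2.dvd_of_dvd_mul_left hm2)
    omega

end CfsgLib.OddOrder
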