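import Cfsg.Agent.Lib.OddOrder.Dickson

/-!
Dickson's theorem for two elements of order `p` with different fixed lines.
-/

set_option autoImplicit false

namespace CfsgLib.OddOrder.SL2

open Matrix
open CfsgLib.Classical (uSL lSL uSL_coe lSL_coe)

variable {K : Type*} [Field K]

theorem det_sub_one_eq_zero_of_pow (p : ℕ) [Fact p.Prime] [CharP K p]
    {M : Matrix (Fin 2) (Fin 2) K} {k : ℕ} (h : M ^ p ^ k = 1) : (M - 1).det = 0 := by
  have h1 : (M - 1) ^ p ^ k = 0 := by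
    rw [sub_pow_char_pow_of_commute (R := Matrix (Fin 2) (Fin 2) K) (p := p) _ (Commute.one_right M),
      one_pow, h, sub_self]
  have h2 := congrArg Matrix.det h1
  rw [Matrix.det_pow, Matrix.det_zero] at h2
  exact (pow_eq_zero_iff (pow_ne_zero _ (Fact.out : p.Prime).ne_zero)).1 h2

theorem tr_eq_two_of_pow (p : ℕ) [Fact p.Prime] [CharP K p]
    {g : Matrix.SpecialLinearGroup (Fin 2) K} {k : ℕ} (h : g ^ p ^ k = 1) : tr g = 2 := by
  have h1 := det_sub_one_eq_zero_of_pow p (M := g.1) (k := k)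
    (by rw [← Matrix.SpecialLinearGroup.coe_pow, h, Matrix.SpecialLinearGroup.coe_one])
  have hd := det_eq g
  rw [Matrix.det_fin_two] at h1
  simp at h1
  rw [tr]
  linear_combination hd - h1

theorem exists_fixed_vec {M : Matrix (Fin 2) (Fin 2) K} (h : (M - 1).det = 0) :
    ∃ v : Fin 2 → K, v ≠ 0 ∧ M.mulVec v = v := by
  obtain ⟨v, hv, hv'⟩ := Matrix.exists_mulVec_eq_zero_iff.2 h
  refine ⟨v, hv, ?_⟩
  rwa [Matrix.sub_mulVec, Matrix.one_mulVec, sub_eq_zero] at hv'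

theorem eq_uSL_of_fix {g : Matrix.SpecialLinearGroup (Fin 2) K}
    (h : g.1.mulVec ![1, 0] = ![1, 0]) : g = uSL (g.1 0 1) := by
  have h0 : g.1 0 0 = 1 := by simpa using congrFun h 0
  have h1 : g.1 1 0 = 0 := by simpa using congrFun h 1
  have hd := det_eq g
  rw [h0, h1, one_mul, mul_zero, sub_zero] at hd
  exact eq_uSL h0 h1 hd

theorem eq_lSL_of_fix {g : Matrix.SpecialLinearGroup (Fin 2) K}
    (h : g.1.mulVec ![0, 1] = ![0, 1]) : g = lSL (g.1 1 0) := by
  have h0 : g.1 0 1 = 0 := by simpa using congrFun h 0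
  have h1 : g.1 1 1 = 1 := by simpa using congrFun h 1
  have hd := det_eq g
  rw [h0, h1, mul_one, zero_mul, sub_zero] at hd
  apply Subtype.ext
  rw [lSL_coe]
  ext i j
  fin_cases i <;> fin_cases j <;> simp [h0, h1, hd]

/-- Elements of a finite subgroup fixing a common vector, conjugated into the translations. -/
theorem commute_of_common_fix {g h : Matrix.SpecialLinearGroup (Fin 2) K} {v : Fin 2 → K}
    (hv : v ≠ 0) (hg : g.1.mulVec v = v) (hh : h.1.mulVec v = v) : g * h = h * g := by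
  obtain ⟨B, hB⟩ : ∃ B : Matrix.SpecialLinearGroup (Fin 2) K, B.1.mulVec ![1, 0] = v := by
    by_cases h0 : v 0 = 0
    · have h1 : v 1 ≠ 0 := fun h1 => hv (funext fun i => by fin_cases i <;> assumption)
      refine ⟨⟨!![v 0, -(v 1)⁻¹; v 1, 0], by rw [Matrix.det_fin_two_of]; field_simp; ring⟩, ?_⟩
      funext i; fin_cases i <;> simp
    · refine ⟨⟨!![v 0, 0; v 1, (v 0)⁻¹], by rw [Matrix.det_fin_two_of]; field_simp; ring⟩, ?_⟩
      funext i; fin_cases i <;> simp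
  have key : ∀ k : Matrix.SpecialLinearGroup (Fin 2) K, k.1.mulVec v = v →
      ∃ b, B⁻¹ * k * B = uSL b := by
    intro k hk
    refine ⟨_, eq_uSL_of_fix ?_⟩
    rw [Matrix.SpecialLinearGroup.coe_mul, Matrix.SpecialLinearGroup.coe_mul,
      ← Matrix.mulVec_mulVec, hB, ← Matrix.mulVec_mulVec, hk, ← hB, Matrix.mulVec_mulVec,
      ← Matrix.SpecialLinearGroup.coe_mul, inv_mul_cancel, Matrix.SpecialLinearGroup.coe_one,
      Matrix.one_mulVec]
  obtain ⟨b, hb⟩ := key g hg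
  obtain ⟨c, hc⟩ := key h hh
  have h2 : (B⁻¹ * g * B) * (B⁻¹ * h * B) = (B⁻¹ * h * B) * (B⁻¹ * g * B) := by
    rw [hb, hc, ← uSL_add, ← uSL_add, add_comm]
  refine mul_left_cancel (a := B⁻¹) (mul_right_cancel (b := B) ?_)
  simpa [mul_assoc] using h2

/-- **Dickson**, two elements with independent fixed vectors. -/
theorem exists_sl2_of_vectors [IsAlgClosed K] (p : ℕ) [Fact p.Prime] [CharP K p] (hp : p ≠ 2)
    (L : Subgroup (Matrix.SpecialLinearGroup (Fin 2) K)) [Finite L]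
    {g h : Matrix.SpecialLinearGroup (Fin 2) K} (hg : g ∈ L) (hh : h ∈ L) (hg1 : g ≠ 1)
    (hh1 : h ≠ 1) {v w : Fin 2 → K} (hgv : g.1.mulVec v = v) (hhw : h.1.mulVec w = w)
    (hvw : v 0 * w 1 - v 1 * w 0 ≠ 0) :
    ∃ φ : Matrix.SpecialLinearGroup (Fin 2) (ZMod p) →* Matrix.SpecialLinearGroup (Fin 2) K,
      Function.Injective φ ∧ φ.range ≤ L := by
  classical
  set δ := v 0 * w 1 - v 1 * w 0 with hδ
  let B₁ : Matrix.SpecialLinearGroup (Fin 2) K :=
    ⟨!![v 0, w 0 / δ; v 1, w 1 / δ], by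
      rw [Matrix.det_fin_two_of, div_mul_eq_mul_div, mul_div_assoc', ← sub_div,
        mul_comm (w 0) (v 1), ← hδ, div_self hvw]⟩
  have hB0 : B₁.1.mulVec ![1, 0] = v := by funext i; fin_cases i <;> simp [B₁]
  have hB1 : B₁.1.mulVec ![0, 1] = δ⁻¹ • w := by
    funext i; fin_cases i <;> simp [B₁, div_eq_inv_mul]
  have hconj : ∀ (k : Matrix.SpecialLinearGroup (Fin 2) K) (e : Fin 2 → K),
      k.1.mulVec (B₁.1.mulVec e) = B₁.1.mulVec e → (B₁⁻¹ * k * B₁).1.mulVec e = e := by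
    intro k e hk
    rw [Matrix.SpecialLinearGroup.coe_mul, Matrix.SpecialLinearGroup.coe_mul,
      ← Matrix.mulVec_mulVec, ← Matrix.mulVec_mulVec, hk, Matrix.mulVec_mulVec,
      ← Matrix.SpecialLinearGroup.coe_mul, inv_mul_cancel, Matrix.SpecialLinearGroup.coe_one,
      Matrix.one_mulVec]
  have hu := eq_uSL_of_fix (hconj g _ (by rw [hB0, hgv]))
  have hl := eq_lSL_of_fix (hconj h _ (by rw [hB1, Matrix.mulVec_smul, hhw]))
  generalize (B₁⁻¹ * g * B₁).1 0 1 = s at hu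
  generalize (B₁⁻¹ * h * B₁).1 1 0 = t at hl
  have hs : s ≠ 0 := by
    rintro rfl
    rw [uSL_zero, mul_eq_one_iff_eq_inv, mul_eq_left] at hu
    exact hg1 hu
  have ht : t ≠ 0 := by
    rintro rfl
    rw [show lSL (0 : K) = 1 from Matrix.SpecialLinearGroup.transvection_coeff_zero _,
      mul_eq_one_iff_eq_inv, mul_eq_left] at hl
    exact hh1 hl
  obtain ⟨μ, hμ⟩ := IsAlgClosed.exists_eq_mul_self s
  have hμ0 : μ ≠ 0 := by rintro rfl; exact hs (by rw [hμ, mul_zero])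
  obtain ⟨D, hD⟩ : ∃ D : Matrix.SpecialLinearGroup (Fin 2) K, D.1 = !![μ, 0; 0, μ⁻¹] :=
    ⟨⟨!![μ, 0; 0, μ⁻¹], by simp [Matrix.det_fin_two_of, hμ0]⟩, rfl⟩
  have hu' : D * uSL 1 = uSL s * D := by
    apply Subtype.ext
    ext i j
    fin_cases i <;> fin_cases j <;>
      simp [hD, Matrix.mul_apply, Fin.sum_univ_two, uSL_coe]
    rw [hμ, mul_assoc, mul_inv_cancel₀ hμ0, mul_one]
  have hl' : D * lSL (t * s) = lSL t * D := by
    apply Subtype.ext
    ext i j
    fin_cases i <;> fin_cases j <;>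
      simp [hD, Matrix.mul_apply, Fin.sum_univ_two, lSL_coe]
    rw [hμ]
    field_simp
  set B := B₁ * D with hB
  set L' := L.comap (MulAut.conj B).toMonoidHom with hL'
  have : Finite L' := Finite.of_injective (fun x : L' => (⟨_, x.2⟩ : L))
    (fun a b hab => Subtype.ext ((MulAut.conj B).injective (congrArg Subtype.val hab)))
  have key : ∀ (k : Matrix.SpecialLinearGroup (Fin 2) K) (a b : Matrix.SpecialLinearGroup (Fin 2) K),
      B₁⁻¹ * k * B₁ = b → D * a = b * D → k ∈ L → a ∈ L' := by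
    intro k a b h1 h2 hk
    show B * a * B⁻¹ ∈ L
    have : B * a * B⁻¹ = k := by
      rw [hB, mul_assoc B₁ D a, h2, ← h1]
      group
    rwa [this]
  obtain ⟨φ, hφ, hle⟩ := exists_sl2 hp L' (key g _ _ hu hu' hg) (mul_ne_zero ht hs)
    (key h _ _ hl hl' hh)
  refine ⟨(MulAut.conj B).toMonoidHom.comp φ, (MulAut.conj B).injective.comp hφ, ?_⟩
  rintro _ ⟨x, rfl⟩
  exact hle ⟨x, rfl⟩

end CfsgLib.OddOrder.SL2
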