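import Mathlib

/-!
The pole count for a finite group acting on a set: the incidences between the elements outside
a subgroup `Z` fixing everything and the points they fix.
-/

set_option autoImplicit false

namespace CfsgLib.OddOrder

open MulAction

variable {L : Type*} [Group L] [Finite L] {Ω : Type*} [MulAction L Ω]

open Classical in
/-- In an orbit, the stabilisers have total order `|L|`. -/
theorem sum_card_stabilizer_orbit (ω : Ω) [Fintype (orbit L ω)] :
    ∑ x ∈ (orbit L ω).toFinset, Nat.card (stabilizer L x) = Nat.card L := by
  have h : ∀ x ∈ (orbit L ω).toFinset, Nat.card (stabilizer L x) = Nat.card (stabilizer L ω) := by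
    intro x hx
    rw [Set.mem_toFinset] at hx
    obtain ⟨g, rfl⟩ := hx
    exact (Nat.card_congr (stabilizerEquivStabilizer (G := L) (g := g) rfl).toEquiv).symm
  rw [Finset.sum_congr rfl h, Finset.sum_const, smul_eq_mul, Set.toFinset_card,
    ← Nat.card_eq_fintype_card, Nat.card_coe_set_eq, ← index_stabilizer, Subgroup.index_mul_card]

end CfsgLib.OddOrder
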