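import Cfsg.Agent.Lib.OddOrder.DicksonSetup

/-!
The pole count in Dickson's theorem: the orbit of `∞` has `q + 1` points, or `p = 3` and the
traces lie in a set of seven values.
-/

set_option autoImplicit false

namespace CfsgLib.OddOrder.SL2

open Matrix MulAction
open scoped OnePoint
open CfsgLib.Classical (uSL lSL uSL_coe lSL_coe)

variable {K : Type*} [Field K] [DecidableEq K]

/-- The scalar elements of `L`. -/
def scalarSub (L : Subgroup (Matrix.SpecialLinearGroup (Fin 2) K)) : Subgroup L where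
  carrier := {g | IsScalar g.1}
  one_mem' := by simp [IsScalar]
  mul_mem' := by
    intro a b ha hb
    simp only [Set.mem_ofPred_eq] at ha hb ⊢
    rw [isScalar_iff_smul]
    simp only [Subgroup.coe_mul, mul_smul, isScalar_smul_eq hb, isScalar_smul_eq ha, and_self]
  inv_mem' := by
    intro a ha
    simp only [Set.mem_ofPred_eq] at ha ⊢
    rw [isScalar_iff_smul]
    simp only [Subgroup.coe_inv, inv_smul_eq_iff, isScalar_smul_eq ha, and_self]

/-- The translations in `L`. -/
def upperGroup (L : Subgroup (Matrix.SpecialLinearGroup (Fin 2) K)) : AddSubgroup K where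
  carrier := {b | uSL b ∈ L}
  zero_mem' := by simp [uSL_zero]
  add_mem' := by
    intro a b ha hb
    simp only [Set.mem_ofPred_eq, uSL_add] at *
    exact mul_mem ha hb
  neg_mem' := by
    intro a ha
    simp only [Set.mem_ofPred_eq, uSL_neg] at *
    exact inv_mem ha

/-- The square of the upper left entry, on the stabiliser of `∞`. -/
def cornerHom (L : Subgroup (Matrix.SpecialLinearGroup (Fin 2) K)) :
    stabilizer L (∞ : OnePoint K) →* Kˣ :=
  MonoidHom.toHomUnits
    { toFun := fun g => g.1.1.1 0 0 ^ 2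
      map_one' := by simp
      map_mul' := by
        intro g h
        have hh : h.1.1.1 1 0 = 0 := (smul_infty_eq_self_iff h.1.1).1 h.2
        simp [Matrix.mul_apply, Fin.sum_univ_two, hh, mul_pow] }

theorem cornerHom_apply (L : Subgroup (Matrix.SpecialLinearGroup (Fin 2) K))
    (g : stabilizer L (∞ : OnePoint K)) : (cornerHom L g : K) = g.1.1.1 0 0 ^ 2 := rfl

theorem mem_ker_cornerHom (L : Subgroup (Matrix.SpecialLinearGroup (Fin 2) K))
    (g : stabilizer L (∞ : OnePoint K)) :
    g ∈ (cornerHom L).ker ↔ g.1.1.1 0 0 = g.1.1.1 1 1 := by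
  have h10 : g.1.1.1 1 0 = 0 := (smul_infty_eq_self_iff g.1.1).1 g.2
  have hd := det_eq g.1.1
  rw [h10, mul_zero, sub_zero] at hd
  rw [MonoidHom.mem_ker, ← Units.val_inj, cornerHom_apply, Units.val_one]
  constructor
  · intro h
    have ha : g.1.1.1 0 0 ≠ 0 := fun h0 => one_ne_zero (α := K) (by rw [← hd, h0, zero_mul])
    exact mul_left_cancel₀ ha (by linear_combination h - hd)
  · intro h; linear_combination hd + g.1.1.1 0 0 * h

/-- The set of finite points in the orbit of `∞`. -/
def poleSet (L : Subgroup (Matrix.SpecialLinearGroup (Fin 2) K)) : Set K :=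
  {x | (x : OnePoint K) ∈ orbit L (∞ : OnePoint K)}

variable [IsAlgClosed K] {p : ℕ} [Fact p.Prime] [CharP K p]

theorem exists_lambda {g : Matrix.SpecialLinearGroup (Fin 2) K} {x : OnePoint K}
    (hx : g • x = x) {N : ℕ} (hN : g ^ N = 1) :
    ∃ l : K, tr g * l = l ^ 2 + 1 ∧ l ^ N = 1 := by
  have hd := det_eq g
  -- the eigenvector attached to `x`
  obtain ⟨v, l, hv, hgv⟩ : ∃ (v : Fin 2 → K) (l : K), v ≠ 0 ∧ g.1.mulVec v = l • v := by
    cases x with
    | infty =>
      refine ⟨![1, 0], g.1 0 0, fun h => one_ne_zero (α := K) (by simpa using congrFun h 0), ?_⟩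
      have h10 : g.1 1 0 = 0 := (smul_infty_eq_self_iff g).1 hx
      ext i; fin_cases i <;> simp [h10]
    | coe z =>
      refine ⟨![z, 1], g.1 1 0 * z + g.1 1 1,
        fun h => one_ne_zero (α := K) (by simpa using congrFun h 1), ?_⟩
      have h := (smul_some_eq_self_iff g z).1 hx
      ext i; fin_cases i
      · simp; linear_combination -h
      · simp
  have hpow : ∀ n : ℕ, (g.1 ^ n).mulVec v = l ^ n • v := by
    intro n
    induction n with
    | zero => simp
    | succ n ih =>
      rw [pow_succ, ← Matrix.mulVec_mulVec, hgv, Matrix.mulVec_smul, ih, smul_smul, ← pow_succ']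
  refine ⟨l, ?_, ?_⟩
  · have h2 : (g.1 * g.1).mulVec v = (l * l) • v := by
      rw [← Matrix.mulVec_mulVec, hgv, Matrix.mulVec_smul, hgv, smul_smul]
    have h3 : g.1 * g.1 = tr g • g.1 - 1 := by
      obtain ⟨e00, e01, e10, e11⟩ := mul_self_entries g
      rw [Matrix.SpecialLinearGroup.coe_mul] at e00 e01 e10 e11
      ext i j
      fin_cases i <;> fin_cases j <;> simp [e00, e01, e10, e11]
    rw [h3, Matrix.sub_mulVec, Matrix.smul_mulVec, hgv, Matrix.one_mulVec, smul_smul] at h2
    have h4 : (tr g * l - 1 - l * l) • v = 0 := by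
      rw [sub_smul, sub_smul, one_smul, h2, sub_self]
    linear_combination (smul_eq_zero.1 h4).resolve_right hv
  · have h := hpow N
    rw [← Matrix.SpecialLinearGroup.coe_pow, hN, Matrix.SpecialLinearGroup.coe_one,
      Matrix.one_mulVec] at h
    have h4 : (l ^ N - 1) • v = 0 := by rw [sub_smul, one_smul, ← h, sub_self]
    exact sub_eq_zero.1 ((smul_eq_zero.1 h4).resolve_right hv)

set_option maxHeartbeats 2000000 in
/-- The pole count. -/
theorem dickson_count (hp : p ≠ 2) (L : Subgroup (Matrix.SpecialLinearGroup (Fin 2) K)) [Finite L]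
    (hu : uSL 1 ∈ L) {t : K} (ht : t ≠ 0) (hw : lSL t ∈ L) :
    Nat.card (upperGroup L) = (poleSet L).ncard ∨
      (p = 3 ∧ ∀ g ∈ L, tr g = 0 ∨ tr g ^ 4 = 1 ∨ tr g ^ 4 = -1) := by
  classical
  have h2 : (2 : K) ≠ 0 := two_ne_zero_of_char p hp
  have := Fintype.ofFinite L
  set E := upperGroup L with hE
  have hEfin : Finite E := Finite.of_injective
    (fun b : E => (⟨uSL b.1, b.2⟩ : L))
    (fun a b h => Subtype.ext (uSL_injective (congrArg Subtype.val h)))
  set q := Nat.card E with hqdef
  set Z := scalarSub L with hZ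
  set z := Nat.card Z with hzdef
  have hz0 : 0 < z := Nat.card_pos
  have hZx : ∀ g ∈ Z, ∀ x : OnePoint K, g • x = x := fun g hg x => isScalar_smul_eq hg x
  have hZst : ∀ x : OnePoint K, Z ≤ stabilizer L x := fun x g hg => hZx g hg x
  have hnegone : ∀ g : L, g.1.1 0 1 = 0 → g.1.1 1 0 = 0 → g.1.1 0 0 = g.1.1 1 1 → g ∈ Z :=
    fun g a b c => ⟨a, b, c⟩
  -- the kernel of the corner map
  have hker : Nat.card (cornerHom L).ker = z * q := by
    rw [hzdef, hqdef, ← Nat.card_prod]
    symm
    refine Nat.card_eq_of_bijective (fun sb => ⟨⟨sb.1.1 * ⟨uSL sb.2.1, sb.2.2⟩, ?_⟩, ?_⟩) ⟨?_, ?_⟩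
    · rw [mem_stabilizer_iff, mul_smul]
      have h : (⟨uSL sb.2.1, sb.2.2⟩ : L) • (∞ : OnePoint K) = ∞ :=
        (smul_infty_eq_self_iff _).2 (by simp [uSL_coe])
      rw [h, hZx _ sb.1.2]
    · rw [mem_ker_cornerHom]
      obtain ⟨s1, s2, s3⟩ := sb.1.2
      simp [Matrix.mul_apply, Fin.sum_univ_two, uSL_coe, s2, s3]
    · rintro ⟨s, b⟩ ⟨s', b'⟩ h
      have h' : s.1.1 * uSL b.1 = s'.1.1 * uSL b'.1 := by
        have := congrArg (fun v : (cornerHom L).ker => v.1.1.1) h
        simpa using this
      obtain ⟨s1, s2, s3⟩ := s.2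
      obtain ⟨t1, t2, t3⟩ := s'.2
      have e00 := congrArg (fun g : Matrix.SpecialLinearGroup (Fin 2) K => g.1 0 0) h'
      have e01 := congrArg (fun g : Matrix.SpecialLinearGroup (Fin 2) K => g.1 0 1) h'
      simp [Matrix.mul_apply, Fin.sum_univ_two, uSL_coe, s1, s2, t1, t2] at e00 e01
      have hd := det_eq s.1.1
      rw [s1, zero_mul, sub_zero] at hd
      have ha : s.1.1.1 0 0 ≠ 0 := fun h0 => one_ne_zero (α := K) (by rw [← hd, h0, zero_mul])
      have hb : b = b' := Subtype.ext (mul_left_cancel₀ ha (by rw [e01, e00]))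
      have hs : s = s' := by
        apply Subtype.ext
        apply Subtype.ext
        subst hb
        exact mul_right_cancel h'
      rw [hs, hb]
    · intro g
      have h10 : g.1.1.1.1 1 0 = 0 := (smul_infty_eq_self_iff g.1.1.1).1 g.1.2
      have had : g.1.1.1.1 0 0 = g.1.1.1.1 1 1 := (mem_ker_cornerHom L g.1).1 g.2
      have hd := det_eq g.1.1.1
      rw [h10, mul_zero, sub_zero, ← had] at hd
      rcases mul_self_eq_one_iff.1 hd with ha | ha
      · have he := eq_uSL ha h10 (had ▸ ha)
        refine ⟨⟨1, ⟨g.1.1.1.1 0 1, ?_⟩⟩, ?_⟩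
        · show uSL (g.1.1.1.1 0 1) ∈ L
          rw [← he]; exact g.1.1.2
        · apply Subtype.ext; apply Subtype.ext; apply Subtype.ext
          simpa using he.symm
      · have hgu : g.1.1.1.1 = (-1 : K) • (uSL (-(g.1.1.1.1 0 1)) : Matrix.SpecialLinearGroup (Fin 2) K).1 := by
          rw [uSL_coe]
          ext i j
          fin_cases i <;> fin_cases j <;> simp [ha, h10, ← had]
        have hgp : (g.1.1.1 ^ p).1 = (-1 : K) • (1 : Matrix (Fin 2) (Fin 2) K) := by
          rw [Matrix.SpecialLinearGroup.coe_pow, hgu, smul_pow,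
            ← Matrix.SpecialLinearGroup.coe_pow, uSL_pow_char, Matrix.SpecialLinearGroup.coe_one,
            ((Fact.out : p.Prime).odd_of_ne_two hp).neg_one_pow]
        set s : L := g.1.1 ^ p with hs
        have hsZ : s ∈ Z := by
          refine hnegone s ?_ ?_ ?_ <;> simp [hs, Subgroup.coe_pow, hgp]
        have hsg : (s.1 * g.1.1.1).1 = (uSL (-(g.1.1.1.1 0 1)) : Matrix.SpecialLinearGroup (Fin 2) K).1 := by
          rw [Matrix.SpecialLinearGroup.coe_mul, hs, Subgroup.coe_pow, hgp, Matrix.smul_mul,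
            one_mul]
          conv_lhs => rw [hgu, smul_smul]
          simp
        refine ⟨⟨⟨s⁻¹, inv_mem hsZ⟩, ⟨-(g.1.1.1.1 0 1), ?_⟩⟩, ?_⟩
        · show uSL (-(g.1.1.1.1 0 1)) ∈ L
          have hmem := mul_mem s.2 g.1.1.2
          rwa [Subtype.ext hsg] at hmem
        · apply Subtype.ext; apply Subtype.ext; apply Subtype.ext
          show s.1⁻¹ * uSL (-(g.1.1.1.1 0 1)) = g.1.1.1
          rw [← Subtype.ext hsg, inv_mul_cancel_left]
  -- the range of the corner map
  have : Finite (cornerHom L).range :=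
    Finite.of_surjective _ (cornerHom L).rangeRestrict_surjective
  set d := Nat.card (cornerHom L).range with hddef
  have hd1 : 1 ≤ d := Nat.card_pos
  have hstinf : Nat.card (stabilizer L (∞ : OnePoint K)) = z * q * d := by
    rw [← hker, hddef, ← Nat.card_congr (QuotientGroup.quotientKerEquivRange (cornerHom L)).toEquiv,
      mul_comm, ← Subgroup.card_eq_card_quotient_mul_card_subgroup]
  have hdq : d + 1 ≤ q := by
    have hmem : ∀ a : (cornerHom L).range, (a.1 : K) ∈ E := by
      rintro ⟨a, g, rfl⟩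
      show uSL (g.1.1.1 0 0 ^ 2) ∈ L
      have h10 : g.1.1.1 1 0 = 0 := (smul_infty_eq_self_iff g.1.1).1 g.2
      have hd := det_eq g.1.1
      rw [h10, mul_zero, sub_zero] at hd
      have he : uSL (g.1.1.1 0 0 ^ 2) * g.1.1 = g.1.1 * uSL 1 := by
        apply Subtype.ext
        ext i j
        fin_cases i <;> fin_cases j <;>
          simp [Matrix.mul_apply, Fin.sum_univ_two, uSL_coe, h10]
        linear_combination g.1.1.1 0 0 * hd
      rw [eq_mul_inv_iff_mul_eq.2 he]
      exact mul_mem (mul_mem g.1.2 hu) (inv_mem g.1.2)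
    have hle : Nat.card (Option (cornerHom L).range) ≤ q := by
      refine Nat.card_le_card_of_injective
        (fun o : Option (cornerHom L).range => o.elim (0 : E) (fun a => ⟨(a.1 : K), hmem a⟩)) ?_
      intro a b h
      cases a with
      | none =>
        cases b with
        | none => rfl
        | some b => exact absurd (congrArg Subtype.val h).symm (Units.ne_zero b.1)
      | some a =>
        cases b with
        | none => exact absurd (congrArg Subtype.val h) (Units.ne_zero a.1)
        | some b => exact congrArg some (Subtype.ext (Units.ext (congrArg Subtype.val h)))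
    rwa [Finite.card_option] at hle
  -- the translations form a `p`-group
  obtain ⟨e, hqe⟩ : ∃ e, q = p ^ e := by
    have hpg : IsPGroup p (Multiplicative E) := fun b => ⟨1, by
      rw [pow_one]
      apply Multiplicative.toAdd.injective
      apply Subtype.ext
      simp [CharP.cast_eq_zero]⟩
    obtain ⟨e, he⟩ := IsPGroup.iff_card.1 hpg
    exact ⟨e, by rw [hqdef, ← he, Nat.card_congr Multiplicative.toAdd]⟩
  have hqodd : Odd q := hqe ▸ ((Fact.out : p.Prime).odd_of_ne_two hp).pow
  have hq3 : 3 ≤ q := by obtain ⟨j, hj⟩ := hqodd; omega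
  -- the orbit of `∞`
  have : ∀ x : OnePoint K, Fintype (orbit L x) := fun x =>
    (Set.finite_range (fun g : L => g • x)).fintype
  set Ω : Finset (OnePoint K) := (orbit L (∞ : OnePoint K)).toFinset with hΩ
  have hinfΩ : (∞ : OnePoint K) ∈ Ω := by simp [hΩ]
  set f := Ω.card with hf
  have hL : Nat.card L = f * (z * q * d) := by
    rw [← hstinf, hf, hΩ, Set.toFinset_card, ← Nat.card_eq_fintype_card, Nat.card_coe_set_eq,
      ← index_stabilizer, Subgroup.index_mul_card]
  have hXfin : (poleSet L).Finite :=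
    Set.Finite.preimage (OnePoint.coe_injective.injOn) (Set.toFinite (orbit L (∞ : OnePoint K)))
  have hfX : f = (poleSet L).ncard + 1 := by
    have hΩeq : orbit L (∞ : OnePoint K) = insert ∞ ((fun x : K => (x : OnePoint K)) '' poleSet L) := by
      ext y
      constructor
      · intro hy
        cases y with
        | infty => exact Set.mem_insert _ _
        | coe y => exact Set.mem_insert_of_mem _ ⟨y, hy, rfl⟩
      · rintro (rfl | ⟨y, hy, rfl⟩)
        · exact mem_orbit_self _
        · exact hy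
    rw [hf, hΩ, Set.toFinset_card, ← Nat.card_eq_fintype_card, Nat.card_coe_set_eq, hΩeq,
      Set.ncard_insert_of_notMem (by simp) (hXfin.image _),
      Set.ncard_image_of_injective _ OnePoint.coe_injective]
  obtain ⟨k, hk⟩ : ∃ k, (poleSet L).ncard = k * q ∧ 1 ≤ k := by
    set X := hXfin.toFinset with hX
    set π : K → K ⧸ E := QuotientAddGroup.mk with hπ
    have hcl : ∀ x ∈ poleSet L, ∀ b ∈ E, b + x ∈ poleSet L := by
      intro x hx b hb
      have h : (⟨uSL b, hb⟩ : L) • (x : OnePoint K) = ((b + x : K) : OnePoint K) := by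
        show uSL b • (x : OnePoint K) = _
        simp [smul_some, uSL_coe, add_comm b]
      show ((b + x : K) : OnePoint K) ∈ orbit L (∞ : OnePoint K)
      rw [← h]
      exact (orbit_eq_iff.2 hx ▸ mem_orbit _ _)
    have hfib : ∀ c ∈ X.image π, (X.filter fun x => π x = c).card = q := by
      intro c hc
      obtain ⟨x0, hx0, rfl⟩ := Finset.mem_image.1 hc
      rw [hX, Set.Finite.mem_toFinset] at hx0
      rw [hqdef, ← Nat.card_eq_finsetCard]
      have hmf : ∀ b : E, b.1 + x0 ∈ X.filter fun x => π x = π x0 := by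
        intro b
        rw [Finset.mem_filter, hX, Set.Finite.mem_toFinset]
        refine ⟨hcl x0 hx0 b.1 b.2, ?_⟩
        rw [hπ, QuotientAddGroup.eq]
        simpa using neg_mem b.2
      refine (Nat.card_eq_of_bijective (fun b : E => ⟨b.1 + x0, hmf b⟩) ⟨?_, ?_⟩).symm
      · intro a b h
        exact Subtype.ext (add_right_cancel (congrArg Subtype.val h))
      · rintro ⟨x, hx⟩
        obtain ⟨hx1, hx2⟩ := Finset.mem_filter.1 hx
        rw [hπ, QuotientAddGroup.eq] at hx2
        exact ⟨⟨x - x0, by simpa [sub_eq_add_neg, add_comm] using neg_mem hx2⟩, by simp⟩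
    refine ⟨(X.image π).card, ?_, ?_⟩
    · rw [Set.ncard_eq_toFinset_card _ hXfin, ← hX,
        Finset.card_eq_sum_card_fiberwise (fun x hx => Finset.mem_image_of_mem π hx),
        Finset.sum_congr rfl hfib, Finset.sum_const, smul_eq_mul]
    · rw [Nat.one_le_iff_ne_zero, Finset.card_ne_zero]
      have hw' : (⟨lSL t, hw⟩ : L) • (∞ : OnePoint K) = ((1 / t : K) : OnePoint K) := by
        show lSL t • (∞ : OnePoint K) = _
        simp [smul_infty, lSL_coe, ht]
      refine Finset.Nonempty.image ⟨1 / t, ?_⟩ π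
      rw [hX, Set.Finite.mem_toFinset]
      exact ⟨_, hw'⟩
  -- the poles
  set F : Finset L := Finset.univ.filter fun g : L => g ∉ Z with hFdef
  have hFZ : F.card + z = Nat.card L := by
    rw [Nat.card_eq_fintype_card, ← Finset.card_univ,
      ← Finset.card_filter_add_card_filter_not (s := (Finset.univ : Finset L)) (fun g => g ∉ Z)]
    congr 1
    rw [hzdef, ← Nat.card_eq_finsetCard]
    exact Nat.card_congr (Equiv.subtypeEquivRight (by simp))
  have hfinfix : ∀ g ∈ F, {x : OnePoint K | g • x = x}.Finite := by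
    intro g hg
    rw [hFdef, Finset.mem_filter] at hg
    by_cases htr : tr g.1 ^ 2 = 4
    · obtain ⟨a, ha⟩ := (fixed_eq_pair h2 hg.2).1 htr
      exact (Set.finite_singleton a).subset fun x hx => (ha x).1 hx
    · obtain ⟨a, b, -, ha⟩ := (fixed_eq_pair h2 hg.2).2 htr
      exact (Set.toFinite ({a, b} : Set (OnePoint K))).subset fun x hx => (ha x).1 hx
  set P : Finset (OnePoint K) :=
    F.attach.biUnion (fun g => (hfinfix g.1 g.2).toFinset) with hPdef
  have hP : ∀ x, x ∈ P ↔ ∃ g ∈ F, g • x = x := by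
    intro x
    simp [hPdef]
  have hFconj : ∀ h g : L, g ∈ F → h * g * h⁻¹ ∈ F := by
    intro h g hg
    rw [hFdef, Finset.mem_filter] at hg ⊢
    refine ⟨Finset.mem_univ _, fun hs => hg.2 ?_⟩
    have h1 := isScalar_conj (h := (h⁻¹).1) (hs : IsScalar (h * g * h⁻¹).1)
    show IsScalar g.1
    simpa [mul_assoc] using h1
  have hPinv : ∀ (h : L), ∀ x ∈ P, h • x ∈ P := by
    intro h x hx
    obtain ⟨g, hg, hgx⟩ := (hP x).1 hx
    exact (hP _).2 ⟨h * g * h⁻¹, hFconj h g hg, by simp [mul_smul, hgx]⟩
  -- incidence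
  have hst : ∀ x : OnePoint K, (F.filter fun g => g • x = x).card + z = Nat.card (stabilizer L x) := by
    intro x
    have h1 : Nat.card (stabilizer L x) = (Finset.univ.filter fun g : L => g • x = x).card := by
      rw [← Nat.card_eq_finsetCard]
      exact Nat.card_congr (Equiv.subtypeEquivRight (by simp))
    rw [h1, ← Finset.card_filter_add_card_filter_not
      (s := Finset.univ.filter fun g : L => g • x = x) (fun g => g ∉ Z)]
    congr 1
    · rw [hFdef, Finset.filter_comm]
    · rw [hzdef, ← Nat.card_eq_finsetCard]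
      refine Nat.card_congr (Equiv.subtypeEquivRight fun g => ?_)
      simp only [Finset.mem_filter, Finset.mem_univ, true_and, not_not]
      exact ⟨fun hg => ⟨hZx g hg x, hg⟩, fun hg => hg.2⟩
  set T : Finset L := F.filter fun g => tr g.1 ^ 2 = 4 with hTdef
  set N := ∑ x ∈ P, (F.filter fun g => g • x = x).card with hN
  have hcount : N + T.card = 2 * F.card := by
    have hswap : N = ∑ g ∈ F, (P.filter fun x => g • x = x).card := by
      rw [hN]
      simp only [Finset.card_filter]
      exact Finset.sum_comm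
    have hT : T.card = ∑ g ∈ F, if tr g.1 ^ 2 = 4 then 1 else 0 := by
      rw [hTdef, Finset.card_filter]
    rw [hswap, hT, ← Finset.sum_add_distrib, mul_comm, ← smul_eq_mul, ← Finset.sum_const]
    refine Finset.sum_congr rfl fun g hg => ?_
    have hgns : ¬ IsScalar g.1 := by rw [hFdef, Finset.mem_filter] at hg; exact hg.2
    by_cases htr : tr g.1 ^ 2 = 4
    · obtain ⟨a, ha⟩ := (fixed_eq_pair h2 hgns).1 htr
      have he : (P.filter fun x => g • x = x) = {a} := by
        ext x
        rw [Finset.mem_filter, Finset.mem_singleton]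
        exact ⟨fun hx => (ha x).1 hx.2, fun hx => ⟨(hP x).2 ⟨g, hg, (ha x).2 hx⟩, (ha x).2 hx⟩⟩
      rw [he, Finset.card_singleton, if_pos htr]
    · obtain ⟨a, b, hab, ha⟩ := (fixed_eq_pair h2 hgns).2 htr
      have he : (P.filter fun x => g • x = x) = {a, b} := by
        ext x
        rw [Finset.mem_filter, Finset.mem_insert, Finset.mem_singleton]
        exact ⟨fun hx => (ha x).1 hx.2, fun hx => ⟨(hP x).2 ⟨g, hg, (ha x).2 hx⟩, (ha x).2 hx⟩⟩
      rw [he, Finset.card_pair hab, if_neg htr]
  have hΩP : Ω ⊆ P := by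
    intro x hx
    rw [hΩ, Set.mem_toFinset] at hx
    obtain ⟨h, rfl⟩ := hx
    refine hPinv h _ ((hP _).2 ⟨⟨uSL 1, hu⟩, ?_, ?_⟩)
    · rw [hFdef, Finset.mem_filter]
      exact ⟨Finset.mem_univ _, (uSL_parabolic (one_ne_zero (α := K))).1⟩
    · exact (smul_infty_eq_self_iff _).2 (by simp [uSL_coe])
  have hTcount : T.card + f * z = f * (z * q) := by
    have hTx : T.card = ∑ x ∈ Ω, (T.filter fun g => g • x = x).card := by
      simp only [Finset.card_filter]
      rw [Finset.sum_comm, Finset.card_eq_sum_ones]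
      refine Finset.sum_congr rfl fun g hg => ?_
      rw [← Finset.card_filter]
      rw [hTdef, Finset.mem_filter] at hg
      have hgns : ¬ IsScalar g.1 := by
        have hg1 := hg.1
        rw [hFdef, Finset.mem_filter] at hg1
        exact hg1.2
      obtain ⟨a, ha⟩ := (fixed_eq_pair h2 hgns).1 hg.2
      obtain ⟨h, hh⟩ := parabolic_fix_mem_orbit hp L hu ⟨hgns, hg.2⟩ ((ha a).2 rfl)
      have he : (Ω.filter fun x => g • x = x) = {a} := by
        ext x
        rw [Finset.mem_filter, Finset.mem_singleton]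
        refine ⟨fun hx => (ha x).1 hx.2, fun hx => ⟨?_, (ha x).2 hx⟩⟩
        rw [hΩ, Set.mem_toFinset, hx, hh]
        exact ⟨h, rfl⟩
      rw [he, Finset.card_singleton]
    have hinfc : (T.filter fun g => g • (∞ : OnePoint K) = ∞).card + z = z * q := by
      rw [← hker]
      have h1 : Nat.card (cornerHom L).ker = Nat.card
          (Finset.univ.filter fun g : L => g.1.1 1 0 = 0 ∧ g.1.1 0 0 = g.1.1 1 1) := by
        refine Nat.card_congr ⟨fun g => ⟨g.1.1, ?_⟩, fun g => ⟨⟨g.1, ?_⟩, ?_⟩, fun g => rfl,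
          fun g => rfl⟩
        · rw [Finset.mem_filter]
          exact ⟨Finset.mem_univ _, (smul_infty_eq_self_iff g.1.1.1).1 g.1.2,
            (mem_ker_cornerHom L g.1).1 g.2⟩
        · exact (smul_infty_eq_self_iff g.1.1).2 (Finset.mem_filter.1 g.2).2.1
        · exact (mem_ker_cornerHom L _).2 (Finset.mem_filter.1 g.2).2.2
      rw [h1, Nat.card_eq_finsetCard, ← Finset.card_filter_add_card_filter_not
        (s := Finset.univ.filter fun g : L => g.1.1 1 0 = 0 ∧ g.1.1 0 0 = g.1.1 1 1)
        (fun g => g ∉ Z)]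
      congr 1
      · congr 1
        ext g
        simp only [hTdef, hFdef, Finset.mem_filter, Finset.mem_univ, true_and]
        constructor
        · rintro ⟨⟨hgZ, htr⟩, hfix⟩
          have h10 := (smul_infty_eq_self_iff g.1).1 hfix
          have hd := det_eq g.1
          rw [h10, mul_zero, sub_zero] at hd
          refine ⟨⟨h10, sub_eq_zero.1 ((pow_eq_zero_iff two_ne_zero).1
            (?_ : (g.1.1 0 0 - g.1.1 1 1) ^ 2 = 0))⟩, hgZ⟩
          simp only [tr] at htr
          linear_combination htr - 4 * hd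
        · rintro ⟨⟨h10, had⟩, hgZ⟩
          have hd := det_eq g.1
          rw [h10, mul_zero, sub_zero] at hd
          refine ⟨⟨hgZ, ?_⟩, (smul_infty_eq_self_iff g.1).2 h10⟩
          simp only [tr]
          linear_combination (g.1.1 0 0 - g.1.1 1 1) * had + 4 * hd
      · rw [hzdef, ← Nat.card_eq_finsetCard]
        refine Nat.card_congr (Equiv.subtypeEquivRight fun g => ?_)
        simp only [Finset.mem_filter, Finset.mem_univ, true_and, not_not]
        exact ⟨fun hg => ⟨⟨hg.2.1, hg.2.2⟩, hg⟩, fun hg => hg.2⟩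
    have heach : ∀ x ∈ Ω, (T.filter fun g => g • x = x).card =
        (T.filter fun g => g • (∞ : OnePoint K) = ∞).card := by
      intro x hx
      rw [hΩ, Set.mem_toFinset] at hx
      obtain ⟨h, rfl⟩ := hx
      refine Finset.card_bij' (fun g _ => h⁻¹ * g * h) (fun g _ => h * g * h⁻¹) ?_ ?_ ?_ ?_
      · intro g hg
        simp only [hTdef, Finset.mem_filter] at hg ⊢
        have h1 := hFconj h⁻¹ g hg.1.1
        rw [inv_inv] at h1
        refine ⟨⟨h1, ?_⟩, ?_⟩
        · have h3 := tr_conj g.1 (h⁻¹).1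
          simp only [Subgroup.coe_inv, inv_inv] at h3
          simp only [Subgroup.coe_mul, Subgroup.coe_inv, h3]
          exact hg.1.2
        · rw [mul_smul, mul_smul, hg.2, inv_smul_smul]
      · intro g hg
        simp only [hTdef, Finset.mem_filter] at hg ⊢
        refine ⟨⟨hFconj h g hg.1.1, ?_⟩, by simp [mul_smul, hg.2]⟩
        simp only [Subgroup.coe_mul, Subgroup.coe_inv, tr_conj]
        exact hg.1.2
      · intro g _; group
      · intro g _; group
    rw [hTx, Finset.sum_congr rfl heach, Finset.sum_const, smul_eq_mul, ← hf, ← mul_add, hinfc]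
  -- orbit sums
  have horb : ∀ x ∈ P, ∃ O : Finset (OnePoint K), O ⊆ P ∧ x ∈ O ∧
      (∑ y ∈ O, Nat.card (stabilizer L y) = Nat.card L) ∧
      (∀ y, y ∈ O ↔ y ∈ orbit L x) ∧ O.card * Nat.card (stabilizer L x) = Nat.card L := by
    intro x hx
    refine ⟨(orbit L x).toFinset, ?_, by simp, sum_card_stabilizer_orbit x, by simp, ?_⟩
    · intro y hy
      rw [Set.mem_toFinset] at hy
      obtain ⟨h, rfl⟩ := hy
      exact hPinv h x hx
    · rw [Set.toFinset_card, ← Nat.card_eq_fintype_card, Nat.card_coe_set_eq,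
        ← index_stabilizer, Subgroup.index_mul_card]
  have hsum : ∀ A : Finset (OnePoint K),
      (∑ x ∈ A, (F.filter fun g => g • x = x).card) + A.card * z =
        ∑ x ∈ A, Nat.card (stabilizer L x) := by
    intro A
    rw [← smul_eq_mul, ← Finset.sum_const, ← Finset.sum_add_distrib]
    exact Finset.sum_congr rfl fun x _ => hst x
  have hSΩ : (∑ x ∈ Ω, (F.filter fun g => g • x = x).card) + f * z = Nat.card L := by
    rw [hf, hsum, hΩ]
    exact sum_card_stabilizer_orbit _
  have hfq : f = 1 + k * q := by rw [hfX, hk.1, add_comm]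
  have hf4 : 4 ≤ f := by have := Nat.mul_le_mul hk.2 hq3; omega
  by_cases hR : P = Ω
  · exfalso
    rw [hR] at hN
    rw [← hN] at hSΩ
    have h1 : f * (q * d) + 2 * f = 2 + f * q := by
      refine Nat.eq_of_mul_eq_mul_left hz0 ?_
      have e : z * (f * (q * d) + 2 * f) = f * (z * q * d) + 2 * (f * z) := by ring
      have e' : z * (2 + f * q) = 2 * z + f * (z * q) := by ring
      omega
    have : f * q ≤ f * (q * d) := Nat.mul_le_mul_left f (Nat.le_mul_of_pos_right q hd1)
    omega
  obtain ⟨x0, hx0P, hx0⟩ : ∃ x0 ∈ P, x0 ∉ Ω := by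
    by_contra! h
    exact hR (Finset.Subset.antisymm h hΩP)
  obtain ⟨O, hOP, hx0O, hOsum, hO, hOcard⟩ := horb x0 hx0P
  have hΩO : Disjoint Ω O := by
    rw [Finset.disjoint_left]
    intro y hy hy'
    rw [hΩ, Set.mem_toFinset] at hy
    rw [hO] at hy'
    refine hx0 ?_
    rw [hΩ, Set.mem_toFinset, ← orbit_eq_iff.2 hy, orbit_eq_iff.2 hy']
    exact mem_orbit_self x0
  have hsmall : ∀ x ∈ P, 2 * z ≤ Nat.card (stabilizer L x) := by
    intro x hx
    obtain ⟨g, hg, hgx⟩ := (hP x).1 hx
    have hlt : z < Nat.card (stabilizer L x) := by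
      rw [← hst x]
      exact Nat.lt_add_of_pos_left (Finset.card_pos.2 ⟨g, Finset.mem_filter.2 ⟨hg, hgx⟩⟩)
    obtain ⟨c, hc⟩ := Subgroup.card_dvd_of_le (hZst x)
    rw [← hzdef] at hc
    rw [hc] at hlt ⊢
    have hc2 : 2 ≤ c := by
      by_contra hcc
      interval_cases c <;> omega
    calc 2 * z = z * 2 := mul_comm 2 z
      _ ≤ z * c := Nat.mul_le_mul_left z hc2
  have hPeq : P = Ω ∪ O := by
    by_contra hne
    obtain ⟨x1, hx1P, hx1⟩ : ∃ x1 ∈ P, x1 ∉ Ω ∪ O := by
      by_contra! h
      exact hne (Finset.Subset.antisymm h (Finset.union_subset hΩP hOP))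
    obtain ⟨O', hO'P, hx1O, hO'sum, hO', hO'card⟩ := horb x1 hx1P
    have hd' : Disjoint (Ω ∪ O) O' := by
      rw [Finset.disjoint_left]
      intro y hy hy'
      rw [hO'] at hy'
      apply hx1
      rw [Finset.mem_union] at hy ⊢
      rcases hy with hy | hy
      · left
        rw [hΩ, Set.mem_toFinset] at hy ⊢
        rw [← orbit_eq_iff.2 hy, orbit_eq_iff.2 hy']
        exact mem_orbit_self x1
      · right
        rw [hO] at hy ⊢
        rw [← orbit_eq_iff.2 hy, orbit_eq_iff.2 hy']
        exact mem_orbit_self x1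
    have hsub : Ω ∪ O ∪ O' ⊆ P := Finset.union_subset (Finset.union_subset hΩP hOP) hO'P
    have hle : ∑ x ∈ Ω ∪ O ∪ O', (F.filter fun g => g • x = x).card ≤ N :=
      Finset.sum_le_sum_of_subset hsub
    rw [Finset.sum_union hd', Finset.sum_union hΩO] at hle
    have e1 := hsum O
    have e2 := hsum O'
    rw [hOsum] at e1
    rw [hO'sum] at e2
    have b1 : O.card * (2 * z) ≤ Nat.card L :=
      hOcard ▸ Nat.mul_le_mul_left _ (hsmall x0 hx0P)
    have b2 : O'.card * (2 * z) ≤ Nat.card L :=
      hO'card ▸ Nat.mul_le_mul_left _ (hsmall x1 hx1P)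
    have b3 : 3 * (f * z) ≤ f * (z * q) := by
      calc 3 * (f * z) = f * (z * 3) := by ring
        _ ≤ f * (z * q) := Nat.mul_le_mul_left _ (Nat.mul_le_mul_left _ hq3)
    have c1 : O.card * (2 * z) = 2 * (O.card * z) := by ring
    have c2 : O'.card * (2 * z) = 2 * (O'.card * z) := by ring
    omega
  have hNeq : N + (f + O.card) * z = 2 * Nat.card L := by
    rw [hN, hPeq, Finset.sum_union hΩO]
    have e1 := hsum O
    rw [hOsum] at e1
    rw [add_mul]
    omega
  have hn : O.card + 2 * f = 2 + f * q := by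
    refine Nat.eq_of_mul_eq_mul_left hz0 ?_
    have e : z * (O.card + 2 * f) = O.card * z + 2 * (f * z) := by ring
    have e' : z * (2 + f * q) = 2 * z + f * (z * q) := by ring
    rw [add_mul] at hNeq
    omega
  obtain ⟨ν, hνdef⟩ := Subgroup.card_dvd_of_le (hZst x0)
  rw [← hzdef] at hνdef
  have hnν : O.card * ν = f * (q * d) := by
    refine Nat.eq_of_mul_eq_mul_left hz0 ?_
    rw [hνdef, hL] at hOcard
    linarith [hOcard]
  obtain ⟨m, hm⟩ : ∃ m, m + 2 * k = 1 + k * q :=
    ⟨1 + k * q - 2 * k, Nat.sub_add_cancel (by have := Nat.mul_le_mul_left k hq3; omega)⟩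
  have hmν : m * ν = (1 + k * q) * d := by
    have hOm : O.card = q * m := by
      have h1 : q * m + q * (2 * k) = q * (1 + k * q) := by rw [← mul_add, hm]
      rw [hfq] at hn
      have e : (1 + k * q) * q = q * (1 + k * q) := by ring
      have e2 : q * (2 * k) = 2 * (k * q) := by ring
      omega
    rw [hOm, hfq] at hnν
    refine Nat.eq_of_mul_eq_mul_left (by omega : 0 < q) ?_
    linarith [hnν]
  rcases dickson_arith hqodd hq3 hk.2 hm hmν hd1 hdq with hk1 | ⟨hq, -, hd, hν⟩
  · exact Or.inl (by rw [hk.1, hk1, one_mul])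
  · refine Or.inr ⟨?_, ?_⟩
    · have h1 : p ∣ 3 := by
        rw [← hq, hqe]
        rcases e with _ | e
        · rw [pow_zero] at hqe; omega
        · exact dvd_pow_self p e.succ_ne_zero
      exact (Nat.prime_dvd_prime_iff_eq Fact.out Nat.prime_three).1 h1
    intro g hg
    have h3 : (3 : K) = 0 := by
      have h1 : p = 3 := by
        have h1 : p ∣ 3 := by
          rw [← hq, hqe]
          rcases e with _ | e
          · rw [pow_zero] at hqe; omega
          · exact dvd_pow_self p e.succ_ne_zero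
        exact (Nat.prime_dvd_prime_iff_eq Fact.out Nat.prime_three).1 h1
      subst h1
      exact_mod_cast CharP.cast_eq_zero K 3
    have hzexp : ∀ s ∈ Z, s ^ 2 = 1 := by
      rintro s ⟨s1, s2, s3⟩
      apply Subtype.ext
      apply Subtype.ext
      rw [Subgroup.coe_pow, pow_two]
      obtain ⟨e00, e01, e10, e11⟩ := mul_self_entries s.1
      have hd := det_eq s.1
      ext i j
      fin_cases i <;> fin_cases j <;>
        simp [e00, e01, e10, e11, s1, s2, tr]
      · linear_combination 2 * hd + 2 * s.1.1 0 1 * s2 + s.1.1 0 0 * s3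
      · linear_combination 2 * hd + 2 * s.1.1 0 1 * s2 - s.1.1 1 1 * s3
    by_cases hgs : IsScalar g
    · obtain ⟨s1, s2, s3⟩ := hgs
      have hd := det_eq g
      rw [s1, zero_mul, sub_zero, ← s3] at hd
      refine Or.inr (Or.inl ?_)
      simp only [tr, ← s3]
      linear_combination (16 * (g.1 0 0 * g.1 0 0) + 16) * hd + 5 * h3
    have hgF : (⟨g, hg⟩ : L) ∈ F := by
      rw [hFdef, Finset.mem_filter]
      exact ⟨Finset.mem_univ _, hgs⟩
    obtain ⟨x, hgx⟩ : ∃ x : OnePoint K, g • x = x := by
      by_cases htr : tr g ^ 2 = 4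
      · obtain ⟨a, ha⟩ := (fixed_eq_pair h2 hgs).1 htr
        exact ⟨a, (ha a).2 rfl⟩
      · obtain ⟨a, b, -, ha⟩ := (fixed_eq_pair h2 hgs).2 htr
        exact ⟨a, (ha a).2 (Or.inl rfl)⟩
    have hxP : x ∈ P := (hP x).2 ⟨_, hgF, hgx⟩
    -- the scalar part has exponent `2`, the stabiliser order is `6z` or `5z`
    have hzdvd : z ∣ 2 := by
      have : Fintype Z := Fintype.ofFinite _
      have hinj : Function.Injective (fun s : Z => s.1.1.1 0 0) := by
        intro a b h
        obtain ⟨a1, a2, a3⟩ := a.2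
        obtain ⟨b1, b2, b3⟩ := b.2
        apply Subtype.ext; apply Subtype.ext; apply Subtype.ext
        ext i j
        fin_cases i <;> fin_cases j <;>
          simp [a1, a2, b1, b2, ← a3, ← b3, show a.1.1.1 0 0 = b.1.1.1 0 0 from h]
      have hle : z ≤ 2 := by
        rw [hzdef, Nat.card_eq_fintype_card, ← Finset.card_univ,
          ← Finset.card_image_of_injective _ hinj]
        refine le_trans (Finset.card_le_card (t := {1, -1}) ?_) Finset.card_le_two
        intro a ha
        obtain ⟨s, -, rfl⟩ := Finset.mem_image.1 ha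
        obtain ⟨s1, s2, s3⟩ := s.2
        have hd := det_eq s.1.1
        rw [s1, zero_mul, sub_zero, ← s3, mul_self_eq_one_iff] at hd
        simp [hd]
      have h1 : z = 1 ∨ z = 2 := by omega
      rcases h1 with h | h <;> simp [h]
    have hcase : g ^ 12 = 1 ∨ g ^ 10 = 1 := by
      set gs : stabilizer L x := ⟨⟨g, hg⟩, hgx⟩ with hgsdef
      have hpow : ∀ M, Nat.card (stabilizer L x) ∣ M → g ^ M = 1 := by
        intro M hM
        obtain ⟨c, rfl⟩ := hM
        have h1 : gs ^ Nat.card (stabilizer L x) = 1 := pow_card_eq_one'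
        have h4 := congrArg (fun v : stabilizer L x => v.1.1) h1
        simp only [hgsdef, SubmonoidClass.coe_pow, OneMemClass.coe_one] at h4
        rw [pow_mul, h4, one_pow]
      have hxΩO := hxP
      rw [hPeq, Finset.mem_union] at hxΩO
      rcases hxΩO with hxx | hxx
      · left
        rw [hΩ, Set.mem_toFinset] at hxx
        obtain ⟨h, rfl⟩ := hxx
        refine hpow 12 ?_
        rw [← Nat.card_congr (stabilizerEquivStabilizer (G := L) (g := h)
          (a := (∞ : OnePoint K)) rfl).toEquiv, hstinf, hq, hd, mul_assoc]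
        exact mul_dvd_mul hzdvd (dvd_refl 6)
      · right
        rw [hO] at hxx
        obtain ⟨h, rfl⟩ := hxx
        refine hpow 10 ?_
        rw [← Nat.card_congr (stabilizerEquivStabilizer (G := L) (g := h) (a := x0) rfl).toEquiv,
          hνdef, hν]
        exact mul_dvd_mul hzdvd (dvd_refl 5)
    rcases hcase with hc | hc
    · obtain ⟨l, hl, hl12⟩ := exists_lambda hgx hc
      have hl4 : l ^ 4 = 1 := by
        have : (l ^ 4 - 1) ^ 3 = 0 := by
          linear_combination hl12 + (-l ^ 8 + l ^ 4) * h3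
        exact sub_eq_zero.1 ((pow_eq_zero_iff (three_ne_zero)).1 this)
      have hl0 : l ≠ 0 := fun h => by rw [h] at hl4; norm_num at hl4
      rcases mul_self_eq_one_iff.1 (by linear_combination hl4 : l ^ 2 * l ^ 2 = 1) with h | h
      · right; left
        have h5 : tr g ^ 2 * (l ^ 2) = (l ^ 2 + 1) ^ 2 := by rw [← hl]; ring
        rw [h] at h5
        linear_combination (tr g ^ 2 + 4) * h5 + 5 * h3
      · left
        rw [h, neg_add_cancel] at hl
        exact (mul_eq_zero.1 hl).resolve_right hl0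
    · obtain ⟨l, hl, hl10⟩ := exists_lambda hgx hc
      have hl0 : l ≠ 0 := fun h => by rw [h] at hl10; norm_num at hl10
      rcases mul_self_eq_one_iff.1 (by linear_combination hl10 : l ^ 5 * l ^ 5 = 1) with h | h
      · by_cases hl1 : l = 1
        · right; left
          rw [hl1] at hl
          linear_combination (tr g + 2) * (tr g ^ 2 + 4) * hl + 5 * h3
        · right; right
          have h4 : l ^ 4 + l ^ 3 + l ^ 2 + l + 1 = 0 :=
            (mul_eq_zero.1 (by linear_combination h :
              (l - 1) * (l ^ 4 + l ^ 3 + l ^ 2 + l + 1) = 0)).resolve_left (sub_ne_zero.2 hl1)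
          have h5 : tr g ^ 2 + tr g - 1 = 0 := by
            refine (mul_eq_zero.1 (?_ : l ^ 2 * (tr g ^ 2 + tr g - 1) = 0)).resolve_left
              (pow_ne_zero 2 hl0)
            linear_combination h4 + (tr g * l + l ^ 2 + 1 + l) * hl
          linear_combination (tr g ^ 2 - tr g - 1) * h5 + tr g ^ 2 * h3
      · by_cases hl1 : l = -1
        · right; left
          rw [hl1] at hl
          linear_combination -(tr g - 2) * (tr g ^ 2 + 4) * hl + 5 * h3
        · right; right
          have hl1' : l + 1 ≠ 0 := fun h0 => hl1 (eq_neg_of_add_eq_zero_left h0)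
          have h4 : l ^ 4 - l ^ 3 + l ^ 2 - l + 1 = 0 :=
            (mul_eq_zero.1 (by linear_combination h :
              (l + 1) * (l ^ 4 - l ^ 3 + l ^ 2 - l + 1) = 0)).resolve_left hl1'
          have h5 : tr g ^ 2 - tr g - 1 = 0 := by
            refine (mul_eq_zero.1 (?_ : l ^ 2 * (tr g ^ 2 - tr g - 1) = 0)).resolve_left
              (pow_ne_zero 2 hl0)
            linear_combination h4 + (tr g * l + l ^ 2 + 1 - l) * hl
          linear_combination (tr g ^ 2 + tr g - 1) * h5 + tr g ^ 2 * h3

end CfsgLib.OddOrder.SL2
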