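import Cfsg.Agent.Lib.Classical.GL2

/-!
Fixed points of elements of `SL₂(K)` on the projective line `OnePoint K`.
-/

set_option autoImplicit false

namespace CfsgLib.OddOrder.SL2

open Matrix
open scoped OnePoint
open CfsgLib.Classical (uSL lSL uSL_coe lSL_coe)

variable {K : Type*} [Field K] [DecidableEq K]

/-- The action of `SL₂(K)` on the projective line. -/
scoped instance slLineAction : MulAction (Matrix.SpecialLinearGroup (Fin 2) K) (OnePoint K) :=
  MulAction.compHom (OnePoint K) (Matrix.SpecialLinearGroup.toGL (n := Fin 2) (R := K))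

theorem smul_def' (g : Matrix.SpecialLinearGroup (Fin 2) K) (x : OnePoint K) :
    g • x = (Matrix.SpecialLinearGroup.toGL g) • x := rfl

theorem smul_infty (g : Matrix.SpecialLinearGroup (Fin 2) K) :
    g • (∞ : OnePoint K) = if g.1 1 0 = 0 then ∞ else ↑(g.1 0 0 / g.1 1 0) := by
  rw [smul_def', OnePoint.smul_infty_eq_ite]
  rfl

theorem smul_some (g : Matrix.SpecialLinearGroup (Fin 2) K) (z : K) :
    g • (z : OnePoint K) = if g.1 1 0 * z + g.1 1 1 = 0 then ∞
      else ↑((g.1 0 0 * z + g.1 0 1) / (g.1 1 0 * z + g.1 1 1)) := by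
  rw [smul_def', OnePoint.smul_some_eq_ite]
  rfl

omit [DecidableEq K] in
theorem det_eq (g : Matrix.SpecialLinearGroup (Fin 2) K) :
    g.1 0 0 * g.1 1 1 - g.1 0 1 * g.1 1 0 = 1 := by
  rw [← Matrix.det_fin_two]
  exact g.2

theorem smul_infty_eq_self_iff (g : Matrix.SpecialLinearGroup (Fin 2) K) :
    g • (∞ : OnePoint K) = ∞ ↔ g.1 1 0 = 0 := by
  rw [smul_infty]
  split_ifs with h <;> simp [h]

theorem smul_some_eq_self_iff (g : Matrix.SpecialLinearGroup (Fin 2) K) (z : K) :
    g • (z : OnePoint K) = z ↔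
      g.1 1 0 * z ^ 2 + (g.1 1 1 - g.1 0 0) * z - g.1 0 1 = 0 := by
  have hd := det_eq g
  rw [smul_some]
  split_ifs with h
  · refine ⟨fun hh => (OnePoint.infty_ne_coe _ hh).elim, fun hh => absurd (one_ne_zero (α := K)) ?_⟩
    push Not
    linear_combination -hd + (g.1 0 0 - g.1 1 0 * z) * h + g.1 1 0 * hh
  · rw [OnePoint.coe_eq_coe, div_eq_iff h]
    constructor
    · intro hh; linear_combination -hh
    · intro hh; linear_combination -hh

/-- A scalar element. -/
def IsScalar (g : Matrix.SpecialLinearGroup (Fin 2) K) : Prop :=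
  g.1 0 1 = 0 ∧ g.1 1 0 = 0 ∧ g.1 0 0 = g.1 1 1

/-- The trace. -/
def tr (g : Matrix.SpecialLinearGroup (Fin 2) K) : K := g.1 0 0 + g.1 1 1

theorem isScalar_smul_eq {g : Matrix.SpecialLinearGroup (Fin 2) K} (hg : IsScalar g)
    (x : OnePoint K) : g • x = x := by
  obtain ⟨h1, h2, h3⟩ := hg
  cases x with
  | infty => exact (smul_infty_eq_self_iff g).2 h2
  | coe z =>
    rw [smul_some_eq_self_iff, h1, h2, h3]
    ring

theorem isScalar_iff_smul {g : Matrix.SpecialLinearGroup (Fin 2) K} :
    IsScalar g ↔ g • (∞ : OnePoint K) = ∞ ∧ g • ((0 : K) : OnePoint K) = ((0 : K) : OnePoint K) ∧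
      g • ((1 : K) : OnePoint K) = ((1 : K) : OnePoint K) := by
  constructor
  · exact fun h => ⟨isScalar_smul_eq h _, isScalar_smul_eq h _, isScalar_smul_eq h _⟩
  · rw [smul_infty_eq_self_iff, smul_some_eq_self_iff, smul_some_eq_self_iff]
    rintro ⟨h1, h2, h3⟩
    have h01 : g.1 0 1 = 0 := by linear_combination -h2
    exact ⟨h01, h1, by linear_combination -h3 + h1 - h01⟩

theorem isScalar_conj {g h : Matrix.SpecialLinearGroup (Fin 2) K} (hg : IsScalar g) :
    IsScalar (h * g * h⁻¹) := by
  rw [isScalar_iff_smul]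
  simp [mul_smul, isScalar_smul_eq hg]

omit [DecidableEq K] in
theorem tr_conj (g h : Matrix.SpecialLinearGroup (Fin 2) K) : tr (h * g * h⁻¹) = tr g := by
  have hh : ∀ m : Matrix.SpecialLinearGroup (Fin 2) K, tr m = m.1.trace := fun m =>
    (Matrix.trace_fin_two _).symm
  rw [hh, hh, Matrix.SpecialLinearGroup.coe_mul, Matrix.SpecialLinearGroup.coe_mul,
    Matrix.trace_mul_comm, ← mul_assoc, ← Matrix.SpecialLinearGroup.coe_mul, inv_mul_cancel,
    Matrix.SpecialLinearGroup.coe_one, one_mul]

omit [DecidableEq K] in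
theorem mul_self_entries (g : Matrix.SpecialLinearGroup (Fin 2) K) :
    (g * g).1 0 0 = tr g * g.1 0 0 - 1 ∧ (g * g).1 0 1 = tr g * g.1 0 1 ∧
      (g * g).1 1 0 = tr g * g.1 1 0 ∧ (g * g).1 1 1 = tr g * g.1 1 1 - 1 := by
  have hd := det_eq g
  rw [Matrix.SpecialLinearGroup.coe_mul]
  simp only [Matrix.mul_apply, Fin.sum_univ_two, tr]
  refine ⟨?_, ?_, ?_, ?_⟩
  · linear_combination -hd
  · ring
  · ring
  · linear_combination -hd

/-- A non-scalar element fixing `∞` and with trace `±2` fixes nothing else; a non-scalar element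
with other trace fixes exactly two points. -/
theorem fixed_eq_pair [IsAlgClosed K] (h2 : (2 : K) ≠ 0)
    {g : Matrix.SpecialLinearGroup (Fin 2) K} (hg : ¬ IsScalar g) :
    (tr g ^ 2 = 4 → ∃ a : OnePoint K, ∀ x : OnePoint K, g • x = x ↔ x = a) ∧
      (tr g ^ 2 ≠ 4 → ∃ a b : OnePoint K, a ≠ b ∧ ∀ x : OnePoint K, g • x = x ↔ (x = a ∨ x = b)) := by
  have hd := det_eq g
  by_cases hc : g.1 1 0 = 0
  · have hinf : g • (∞ : OnePoint K) = ∞ := (smul_infty_eq_self_iff g).2 hc
    have hdd : g.1 0 0 * g.1 1 1 = 1 := by rw [hc] at hd; linear_combination hd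
    refine ⟨fun ht => ⟨∞, fun x => ⟨fun hx => ?_, fun hx => hx ▸ hinf⟩⟩, fun ht => ?_⟩
    · cases x with
      | infty => rfl
      | coe z =>
        exfalso
        have had : g.1 0 0 = g.1 1 1 := by
          have : (g.1 0 0 - g.1 1 1) ^ 2 = 0 := by
            simp only [tr] at ht
            linear_combination ht - 4 * hdd
          exact sub_eq_zero.1 ((pow_eq_zero_iff two_ne_zero).1 this)
        rw [smul_some_eq_self_iff, hc, had] at hx
        exact hg ⟨by linear_combination -hx, hc, had⟩
    · have had : g.1 1 1 - g.1 0 0 ≠ 0 := fun h => ht (by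
        simp only [tr]
        linear_combination 4 * hdd + (g.1 1 1 - g.1 0 0) * h)
      refine ⟨∞, ((g.1 0 1 / (g.1 1 1 - g.1 0 0) : K) : OnePoint K), OnePoint.infty_ne_coe _,
        fun x => ?_⟩
      cases x with
      | infty => simp [hinf]
      | coe z =>
        rw [smul_some_eq_self_iff, hc]
        simp only [OnePoint.coe_ne_infty, false_or, OnePoint.coe_eq_coe, eq_div_iff had]
        constructor
        · intro h; linear_combination h
        · intro h; linear_combination h
  · obtain ⟨s, hs⟩ := IsAlgClosed.exists_eq_mul_self (tr g ^ 2 - 4)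
    have hinf : ¬ g • (∞ : OnePoint K) = ∞ := fun h => hc ((smul_infty_eq_self_iff g).1 h)
    have key : ∀ x : OnePoint K, g • x = x ↔
        (x = (((g.1 0 0 - g.1 1 1 + s) / (2 * g.1 1 0) : K) : OnePoint K) ∨
          x = (((g.1 0 0 - g.1 1 1 - s) / (2 * g.1 1 0) : K) : OnePoint K)) := by
      intro x
      cases x with
      | infty =>
        exact ⟨fun h => absurd h hinf, fun h => h.elim (fun h => absurd h (OnePoint.infty_ne_coe _))
          (fun h => absurd h (OnePoint.infty_ne_coe _))⟩
      | coe z =>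
        have h2c : 2 * g.1 1 0 ≠ 0 := mul_ne_zero h2 hc
        have hsq : discrim (g.1 1 0) (g.1 1 1 - g.1 0 0) (-g.1 0 1) = s * s := by
          simp only [tr] at hs
          rw [discrim]
          linear_combination hs - 4 * hd
        rw [smul_some_eq_self_iff, OnePoint.coe_eq_coe, OnePoint.coe_eq_coe]
        haveI : NeZero (2 : K) := ⟨h2⟩
        have h := quadratic_eq_zero_iff hc hsq z
        constructor
        · intro hz
          rcases h.1 (by linear_combination hz) with h' | h'
          · left; rw [h']; ring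
          · right; rw [h']; ring
        · intro hz
          have h' : g.1 1 0 * (z * z) + (g.1 1 1 - g.1 0 0) * z + -g.1 0 1 = 0 := by
            refine h.2 ?_
            rcases hz with h' | h'
            · left; rw [h']; ring
            · right; rw [h']; ring
          linear_combination h'
    refine ⟨fun ht => ?_, fun ht => ⟨_, _, ?_, key⟩⟩
    · have hs0 : s = 0 := by
        rw [ht, sub_self] at hs
        exact mul_self_eq_zero.1 hs.symm
      subst hs0
      exact ⟨(((g.1 0 0 - g.1 1 1) / (2 * g.1 1 0) : K) : OnePoint K),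
        fun x => (key x).trans (by simp)⟩
    · intro h
      rw [OnePoint.coe_eq_coe, div_left_inj' (mul_ne_zero h2 hc)] at h
      have hs0 : s = 0 := (mul_eq_zero.1 (by linear_combination h : (2 : K) * s = 0)).resolve_left h2
      exact ht (by rw [hs0, zero_mul] at hs; linear_combination hs)

end CfsgLib.OddOrder.SL2
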