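import Cfsg.Agent.Lib.OddOrder.DicksonCount
import Cfsg.Agent.Lib.OddOrder.DicksonArith
import Cfsg.Agent.Lib.OddOrder.SL2Poles

/-!
Setup for Dickson's theorem: a finite subgroup `L` of `SL₂(K)` with upper unitriangular elements.
-/

set_option autoImplicit false

namespace CfsgLib.OddOrder.SL2

open Matrix MulAction
open scoped OnePoint
open CfsgLib.Classical (uSL lSL uSL_coe lSL_coe)

variable {K : Type*} [Field K]

theorem two_ne_zero_of_char (p : ℕ) [Fact p.Prime] [CharP K p] (hp : p ≠ 2) : (2 : K) ≠ 0 := by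
  intro h
  have h1 : p ∣ 2 := (CharP.cast_eq_zero_iff K p 2).1 (by exact_mod_cast h)
  exact hp ((Nat.prime_dvd_prime_iff_eq Fact.out Nat.prime_two).1 h1)

theorem uSL_zero : uSL (0 : K) = 1 := Matrix.SpecialLinearGroup.transvection_coeff_zero _

theorem uSL_add (a b : K) : uSL (a + b) = uSL a * uSL b :=
  Matrix.SpecialLinearGroup.transvection_add _ _ _

theorem uSL_neg (a : K) : uSL (-a) = (uSL a)⁻¹ := by
  rw [eq_inv_iff_mul_eq_one, ← uSL_add, neg_add_cancel, uSL_zero]

theorem uSL_injective : Function.Injective (uSL (F := K)) := fun a b h => by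
  have h1 := congrArg (fun g : Matrix.SpecialLinearGroup (Fin 2) K => g.1 0 1) h
  simpa [uSL_coe] using h1

theorem eq_uSL {g : Matrix.SpecialLinearGroup (Fin 2) K} (h00 : g.1 0 0 = 1) (h10 : g.1 1 0 = 0)
    (h11 : g.1 1 1 = 1) : g = uSL (g.1 0 1) := by
  apply Subtype.ext
  rw [uSL_coe]
  ext i j
  fin_cases i <;> fin_cases j <;> simp [h00, h10, h11]

/-- An element of trace `2` has order dividing `p`. -/
theorem pow_char_eq_one (p : ℕ) [Fact p.Prime] [CharP K p]
    {g : Matrix.SpecialLinearGroup (Fin 2) K} (hg : tr g = 2) : g ^ p = 1 := by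
  set M : Matrix (Fin 2) (Fin 2) K := g.1 - 1 with hM
  have hsq : M * M = 0 := by
    obtain ⟨h00, h01, h10, h11⟩ := mul_self_entries g
    rw [Matrix.SpecialLinearGroup.coe_mul, hg] at h00 h01 h10 h11
    simp only [Matrix.mul_apply, Fin.sum_univ_two] at h00 h01 h10 h11
    ext i j
    fin_cases i <;> fin_cases j <;>
      simp only [hM, Matrix.mul_apply, Fin.sum_univ_two, Matrix.sub_apply, Matrix.zero_apply,
        Fin.zero_eta, Fin.mk_one, Matrix.one_apply_eq, Matrix.one_apply_ne, ne_eq, zero_ne_one,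
        one_ne_zero, not_false_eq_true, sub_zero]
    · linear_combination h00
    · linear_combination h01
    · linear_combination h10
    · linear_combination h11
  have hMp : M ^ p = 0 := by
    obtain ⟨j, hj⟩ := Nat.exists_eq_add_of_le (Fact.out : p.Prime).two_le
    rw [hj, pow_add, pow_two, hsq, zero_mul]
  apply Subtype.ext
  rw [Matrix.SpecialLinearGroup.coe_pow, Matrix.SpecialLinearGroup.coe_one,
    show g.1 = 1 + M from by rw [hM]; abel, add_pow_char_of_commute (R := Matrix (Fin 2) (Fin 2) K) p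
      (Commute.one_left M), one_pow, hMp, add_zero]

theorem uSL_pow_char (p : ℕ) [Fact p.Prime] [CharP K p] (b : K) : uSL b ^ p = 1 :=
  pow_char_eq_one p (by simp [tr, uSL_coe]; norm_num)

/-- An element with trace `±2`. -/
def IsParabolic (g : Matrix.SpecialLinearGroup (Fin 2) K) : Prop :=
  ¬ IsScalar g ∧ tr g ^ 2 = 4

theorem uSL_parabolic {b : K} (hb : b ≠ 0) : IsParabolic (uSL b) :=
  ⟨fun h => hb (by simpa [uSL_coe] using h.1), by simp [tr, uSL_coe]; norm_num⟩

theorem lSL_parabolic {b : K} (hb : b ≠ 0) : IsParabolic (lSL b) :=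
  ⟨fun h => hb (by simpa [lSL_coe] using h.2.1), by simp [tr, lSL_coe]; norm_num⟩

/-- A scalar `p`-element is trivial. -/
theorem eq_one_of_isScalar_pow (p : ℕ) [Fact p.Prime] (hp : p ≠ 2)
    {g : Matrix.SpecialLinearGroup (Fin 2) K} (hg : IsScalar g) {k : ℕ} (hk : g ^ p ^ k = 1) :
    g = 1 := by
  have hd := det_eq g
  obtain ⟨h1, h2, h3⟩ := hg
  have hsq : g * g = 1 := by
    apply Subtype.ext
    obtain ⟨e00, e01, e10, e11⟩ := mul_self_entries g
    ext i j
    fin_cases i <;> fin_cases j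
    · simp only [Fin.zero_eta, e00, Matrix.SpecialLinearGroup.coe_one, Matrix.one_apply_eq, tr]
      linear_combination 2 * hd + 2 * g.1 0 1 * h2 + (g.1 0 0) * h3
    · simp [Fin.zero_eta, e01, h1]
    · simp [Fin.mk_one, e10, h2]
    · simp only [Fin.mk_one, e11, Matrix.SpecialLinearGroup.coe_one, Matrix.one_apply_eq, tr]
      linear_combination 2 * hd + 2 * g.1 0 1 * h2 - (g.1 1 1) * h3
  have h2' : orderOf g ∣ 2 := orderOf_dvd_of_pow_eq_one (by rw [pow_two, hsq])
  have hk' : orderOf g ∣ p ^ k := orderOf_dvd_of_pow_eq_one hk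
  have hco : Nat.Coprime (p ^ k) 2 :=
    Nat.Coprime.pow_left _ ((Nat.coprime_primes Fact.out Nat.prime_two).2 hp)
  exact orderOf_eq_one_iff.1 (Nat.dvd_one.1 (hco ▸ Nat.dvd_gcd hk' h2'))

section Sylow

variable [DecidableEq K] [IsAlgClosed K] {p : ℕ} [Fact p.Prime] [CharP K p]

/-- Every parabolic element of a finite group containing `uSL 1` has its fixed point in the
orbit of `∞`. -/
theorem parabolic_fix_mem_orbit (hp : p ≠ 2) (L : Subgroup (Matrix.SpecialLinearGroup (Fin 2) K))
    [Finite L] (hu : uSL 1 ∈ L) {g : L} (hg : IsParabolic g.1) {x : OnePoint K}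
    (hx : g.1 • x = x) : ∃ h : L, x = h.1 • (∞ : OnePoint K) := by
  have h2 : (2 : K) ≠ 0 := two_ne_zero_of_char p hp
  have hk : ∀ k : L, k.1 ^ p = 1 → IsPGroup p (Subgroup.zpowers k) := by
    intro k hk
    refine IsPGroup.of_card (n := ?_) ?_
    · exact Classical.choose ((Nat.dvd_prime_pow Fact.out).1
        (show orderOf k ∣ p ^ 1 from orderOf_dvd_of_pow_eq_one (by
          rw [pow_one]; exact Subtype.ext (by simpa using hk))))
    · rw [Nat.card_zpowers]
      exact (Classical.choose_spec ((Nat.dvd_prime_pow Fact.out).1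
        (show orderOf k ∣ p ^ 1 from orderOf_dvd_of_pow_eq_one (by
          rw [pow_one]; exact Subtype.ext (by simpa using hk))))).2
  set u : L := ⟨uSL 1, hu⟩ with hudef
  obtain ⟨P, hP⟩ := (hk u (uSL_pow_char p 1)).exists_le_sylow
  -- every element of `P` fixes `∞`
  have hPinf : ∀ k ∈ (P : Subgroup L), k.1.1 1 0 = 0 := by
    have hne : Nontrivial (P : Subgroup L) := by
      refine ⟨⟨⟨u, hP (Subgroup.mem_zpowers u)⟩, 1, fun h => ?_⟩⟩
      have h1 := congrArg (fun v : (P : Subgroup L) => v.1.1.1 0 1) h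
      simp [hudef, uSL_coe] at h1
    haveI := hne
    haveI := P.2.center_nontrivial
    obtain ⟨⟨c, hc⟩, hc1⟩ := exists_ne (1 : Subgroup.center (P : Subgroup L))
    have hcom : ∀ k ∈ (P : Subgroup L), k.1.1 * c.1.1.1 = c.1.1.1 * k.1.1 := by
      intro k hk'
      have h1 := Subgroup.mem_center_iff.1 hc ⟨k, hk'⟩
      have h3 := congrArg (fun v : (P : Subgroup L) => v.1.1.1) h1
      simpa using h3
    have hcu := hcom u (hP (Subgroup.mem_zpowers u))
    rw [hudef, show ((⟨uSL 1, hu⟩ : L) : Matrix.SpecialLinearGroup (Fin 2) K).1 = (uSL (1 : K)).1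
      from rfl, uSL_coe] at hcu
    have e00 := congrFun (congrFun hcu 0) 0
    have e01 := congrFun (congrFun hcu 0) 1
    simp [Matrix.mul_apply, Fin.sum_univ_two] at e00 e01
    have hc10 : c.1.1.1 1 0 = 0 := by linear_combination e00
    have hc00 : c.1.1.1 0 0 = c.1.1.1 1 1 := by linear_combination -e01
    have hc01 : c.1.1.1 0 1 ≠ 0 := by
      intro h
      obtain ⟨j, hj⟩ := P.2 c
      have hj' : c.1.1 ^ p ^ j = 1 := by
        have h3 := congrArg (fun v : (P : Subgroup L) => v.1.1) hj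
        simpa using h3
      have h4 := eq_one_of_isScalar_pow p hp ⟨h, hc10, hc00⟩ hj'
      exact hc1 (Subtype.ext (Subtype.ext (Subtype.ext h4)))
    intro k hk'
    have h5 := congrFun (congrFun (hcom k hk') 0) 0
    simp [Matrix.mul_apply, Fin.sum_univ_two, hc10] at h5
    exact (mul_eq_zero.1 (by linear_combination -h5 :
      c.1.1.1 0 1 * k.1.1 1 0 = 0)).resolve_left hc01
  -- the square of `g` has order `p`
  have htr : tr g.1 ≠ 0 := by
    intro h
    have h4 := hg.2
    rw [h] at h4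
    exact mul_ne_zero h2 h2 (by linear_combination -h4)
  set k : L := g * g with hkdef
  obtain ⟨e00, e01, e10, e11⟩ := mul_self_entries g.1
  have hktr : tr k.1 = 2 := by
    have h4 := hg.2
    simp only [tr] at h4
    simp only [hkdef, Subgroup.coe_mul, tr] at e00 e11 ⊢
    rw [e00, e11]
    linear_combination h4
  have hkns : ¬ IsScalar k.1 := by
    intro hs
    obtain ⟨s1, s2, s3⟩ := hs
    simp only [hkdef, Subgroup.coe_mul] at s1 s2 s3
    rw [e01] at s1
    rw [e10] at s2
    rw [e00, e11] at s3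
    exact hg.1 ⟨(mul_eq_zero.1 s1).resolve_left htr, (mul_eq_zero.1 s2).resolve_left htr,
      mul_left_cancel₀ htr (by linear_combination s3)⟩
  obtain ⟨Q, hQ⟩ := (hk k (pow_char_eq_one p hktr)).exists_le_sylow
  obtain ⟨h, hh⟩ := MulAction.exists_smul_eq L Q P
  have hmem : h * k * h⁻¹ ∈ (P : Subgroup L) := by
    rw [← hh, CfsgLib.Classical.mem_sylow_smul]
    exact ⟨k, hQ (Subgroup.mem_zpowers k), rfl⟩
  have hfix : (h * k * h⁻¹).1 • (∞ : OnePoint K) = ∞ :=
    (smul_infty_eq_self_iff _).2 (hPinf _ hmem)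
  obtain ⟨a, ha⟩ := (fixed_eq_pair h2 hkns).1 (by rw [hktr]; norm_num)
  refine ⟨h⁻¹, ?_⟩
  have hx' : k.1 • x = x := by rw [hkdef, Subgroup.coe_mul, mul_smul, hx, hx]
  have hy : k.1 • ((h⁻¹).1 • (∞ : OnePoint K)) = (h⁻¹).1 • (∞ : OnePoint K) := by
    have h6 := congrArg (fun y : OnePoint K => (h⁻¹).1 • y) hfix
    simp only [Subgroup.coe_mul, mul_smul] at h6
    simpa using h6
  rw [(ha x).1 hx', (ha _).1 hy]

end Sylow

end CfsgLib.OddOrder.SL2
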