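import Cfsg.Agent.Lib.OddOrder.FittingLocal
import Cfsg.Agent.Lib.OddOrder.MinSimple
import Cfsg.Agent.Lib.Coprime.Action2
import Cfsg.Agent.Lib.Components.FStar

/-!
Invariant subgroups for a self-centralizing subgroup of the Fitting subgroup of a maximal local
subgroup.
-/

set_option autoImplicit false
set_option linter.unusedSectionVars false

open scoped commutatorElement

namespace CfsgLib.OddOrder

open Cfsg
open Subgroup

variable {G : Type*} [Group G] [Finite G]

theorem local_normalizer_eq {H : Subgroup G}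
    (hmax : ∀ L : Subgroup G, IsLocalSubgroup L → H ≤ L → L = H) {t : ℕ} [Fact t.Prime]
    {Z : Subgroup G} (hZ : IsPGroup t Z) (hne : Z ≠ ⊥) (hn : H ≤ normalizer (Z : Set G)) :
    centralizer (Z : Set G) ≤ H :=
  (centralizer_le_normalizer _).trans (hmax _ ⟨t, Z, Fact.out, hZ, hne, rfl⟩ hn).le

/-- An `M`-invariant `π'`-subgroup of `R ∩ H` is trivial. -/
theorem inv_eq_bot_of_le {H M R Y : Subgroup G} (hM : M ≤ fittingOf H)
    (hCM : fittingOf H ⊓ centralizer (M : Set G) ≤ M) (hR : Group.IsSolvable R)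
    (hXR : H ⊓ centralizer (fittingOf H : Set G) ≤ normalizer (R : Set G))
    (hYR : Y ≤ R) (hYH : Y ≤ H) (hMY : M ≤ normalizer (Y : Set G))
    (hcop : (Nat.card Y).Coprime (Nat.card (fittingOf H))) : Y = ⊥ := by
  set F := fittingOf H with hF
  have hdisj : Y ⊓ F = ⊥ := by
    refine card_eq_one.1 (Nat.eq_one_of_dvd_coprimes hcop (card_dvd_of_le inf_le_left)
      (card_dvd_of_le inf_le_right))
  have hYM : Y ≤ centralizer (M : Set G) := by
    rw [← commutator_eq_bot_iff_le_centralizer, eq_bot_iff, ← hdisj]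
    refine commutator_le.2 fun y hy m hm => ⟨?_, ?_⟩
    · show ⁅y, m⁆ ∈ Y
      rw [commutatorElement_def, mul_assoc, mul_assoc]
      refine Subgroup.mul_mem _ hy ?_
      simpa [mul_assoc] using (mem_normalizer_iff.1 (hMY hm) _).1 (Subgroup.inv_mem _ hy)
    · show ⁅y, m⁆ ∈ F
      rw [commutatorElement_def]
      exact Subgroup.mul_mem _ ((mem_normalizer_iff.1 (le_normalizer_fittingOf H (hYH hy)) _).1 (hM hm))
        (Subgroup.inv_mem _ (hM hm))
  have hYF := le_centralizer_of_self_centralizing (isNilpotent_fittingOf H)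
    (hYH.trans (le_normalizer_fittingOf H)) hcop hM hCM hYM
  set X := H ⊓ centralizer (F : Set G) with hX
  set S := R ⊓ X with hS
  have hXH : H ≤ normalizer (X : Set G) := CfsgLib.Coprime.le_normalizer_inf_inf le_normalizer
    (CfsgLib.Coprime.le_normalizer_centralizer (le_normalizer_fittingOf H))
  have hSX : X ≤ normalizer (S : Set G) :=
    CfsgLib.Coprime.le_normalizer_inf_inf hXR le_normalizer
  have hXn : (X.subgroupOf H).Normal := (normal_subgroupOf_iff_le_normalizer inf_le_left).2 hXH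
  have hsub : (S.subgroupOf H).IsSubnormal := by
    refine IsSubnormal.step _ (X.subgroupOf H) (subgroupOf_mono H inf_le_right) hXn.isSubnormal ?_
    refine normal_subgroupOf_of_le_normalizer fun x hx => mem_normalizer_iff.2 fun g => ?_
    simpa [mem_subgroupOf] using mem_normalizer_iff.1 (hSX hx) (g : G)
  have hsolv : Group.IsSolvable (S.subgroupOf H) :=
    Group.isSolvable_of_isSolvable_injective
      (f := ((H.subtype.comp (S.subgroupOf H).subtype).codRestrict R fun x => x.2.1))
      fun a b h => Subtype.ext (Subtype.ext (congrArg (fun r : R => (r : G)) h :))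
  have hle := CfsgLib.Components.le_fitting_of_isSolvable_of_le_centralizer hsub hsolv
    (fun x hx => mem_centralizer_iff.2 fun f hf =>
      Subtype.ext (mem_centralizer_iff.1 hx.2.2 (f : G) ⟨f, hf, rfl⟩))
  refine le_bot_iff.1 (hdisj ▸ le_inf le_rfl ?_)
  intro y hy
  exact ⟨⟨y, hYH hy⟩, hle ⟨hYR hy, hYH hy, hYF hy⟩, rfl⟩

/-- Operators whose fixed points act trivially force invariant subgroups into the core. -/
theorem le_core_of_fixed_points {N : Type*} [Group N] [Finite N] (D R Q : Subgroup N) [D.Normal]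
    (hDR : D ≤ R) (hRs : Group.IsSolvable R) (π : Set ℕ)
    (hD : ∀ r : ℕ, r.Prime → r ∣ Nat.card D → r ∉ π)
    (hDmax : ∀ K : Subgroup N, K ≤ R → R ≤ normalizer (K : Set N) →
      (∀ r : ℕ, r.Prime → r ∣ Nat.card K → r ∉ π) → K ≤ D)
    {q : ℕ} [Fact q.Prime] (hQR : Q ≤ R) (hQ : IsPGroup q Q) (hq : q ∉ π)
    (Z : ℕ → Subgroup N) (hZp : ∀ t ∈ π, t.Prime → IsPGroup t (Z t))
    (hZR : ∀ t ∈ π, t.Prime → Z t ≤ normalizer (R : Set N))
    (hZc : ∀ s ∈ π, ∀ t ∈ π, s.Prime → t.Prime → s ≠ t → Z t ≤ centralizer (Z s : Set N))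
    (hZQ : ∀ t ∈ π, t.Prime → Z t ≤ normalizer (Q : Set N))
    (hfix : ∀ t ∈ π, t.Prime → Q ⊓ centralizer (Z t : Set N) = ⊥)
    (hkey : ∀ s ∈ π, ∀ t ∈ π, s.Prime → t.Prime → s ≠ t →
      ∀ c ∈ R, c ∈ centralizer (Z s : Set N) → ∀ z ∈ Z t, ⁅c, z⁆ ∈ Z t)
    (h2 : ∀ s : ℕ, ∃ t ∈ π, t.Prime ∧ t ≠ s) : Q ≤ D := by
  set f := QuotientGroup.mk' D with hf
  set Rb := R.map f with hRb
  have hRbs : Group.IsSolvable Rb :=
    Group.isSolvable_of_surjective (f := f.subgroupMap R) (f.subgroupMap_surjective R)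
  have hRRb : ∀ X : Subgroup N, X ≤ normalizer (R : Set N) → X.map f ≤ normalizer (Rb : Set (N ⧸ D)) :=
    fun X hX => (map_mono hX).trans (le_normalizer_map f)
  have hnorm : ∀ (s : ℕ) (X : Subgroup N), X ≤ normalizer (R : Set N) →
      X.map f ≤ normalizer (opOf s Rb : Set (N ⧸ D)) := fun s X hX =>
    (hRRb X hX).trans (CfsgLib.Base.normalizer_le_normalizer_map_subtype _ _)
  have hzero : ∀ s : ℕ, [Fact s.Prime] → s ∉ π → opOf s Rb = ⊥ := by
    intro s hsp hs
    set K := (opOf s Rb).comap f with hK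
    have hcomap : Rb.comap f = R := by
      rw [hRb, comap_map_eq, hf, QuotientGroup.ker_mk', sup_eq_left.2 hDR]
    have hKR : K ≤ R := (comap_mono (opOf_le s Rb)).trans hcomap.le
    have hle : K ≤ D := by
      refine hDmax K hKR ?_ fun r hr hd => ?_
      · exact hcomap.ge.trans ((comap_mono (le_normalizer_opOf s Rb)).trans
          (le_normalizer_comap f))
      · rw [hK, hf, CfsgLib.Base.card_comap_mk'] at hd
        rcases hr.dvd_mul.1 hd with h | h
        · exact hD r hr h
        · obtain ⟨n, hn⟩ := IsPGroup.iff_card.mp (isPGroup_opOf s Rb)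
          rw [hn] at h
          rwa [(Nat.prime_dvd_prime_iff_eq hr hsp.out).1 (hr.dvd_of_dvd_pow h)]
    rw [← map_comap_eq_self_of_surjective (QuotientGroup.mk'_surjective D) (opOf s Rb), eq_bot_iff,
      map_le_iff_le_comap]
    refine hle.trans ?_
    rw [MonoidHom.comap_bot, QuotientGroup.ker_mk']
  have hcop : ∀ t ∈ π, t.Prime → (Nat.card (Z t)).Coprime (Nat.card D) := by
    intro t ht htp
    have : Fact t.Prime := ⟨htp⟩
    obtain ⟨n, hn⟩ := IsPGroup.iff_card.mp (hZp t ht htp)
    rw [hn]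
    exact (htp.coprime_iff_not_dvd.2 fun h => hD t htp h ht).pow_left n
  have hQc : Q.map f ≤ centralizer (fittingOf Rb : Set (N ⧸ D)) := by
    rw [le_centralizer_iff, fittingOf_eq_iSup, iSup_le_iff]
    intro s
    have : Fact (s : ℕ).Prime := ⟨s.2⟩
    rw [le_centralizer_iff]
    by_cases hs : (s : ℕ) ∈ π
    swap
    · rw [hzero _ hs]; intro x _; simp [mem_centralizer_iff]
    obtain ⟨t, ht, htp, hts⟩ := h2 s
    have : Fact t.Prime := ⟨htp⟩
    set T := opOf (s : ℕ) Rb with hT
    obtain ⟨n, hn⟩ := IsPGroup.iff_card.mp ((hZp t ht htp).map f)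
    have hZT : (Z t).map f ≤ centralizer (T : Set (N ⧸ D)) := by
      refine CfsgLib.Coprime.pq_lemma ((hZp s hs s.2).map f)
        (hn ▸ ((Nat.coprime_primes htp s.2).2 hts).pow_left n) (isPGroup_opOf _ _) ?_
        (hnorm _ _ (hZR s hs s.2)) (hnorm _ _ (hZR t ht htp)) ?_
      · exact (map_mono (hZc t ht s hs htp s.2 hts)).trans (map_centralizer_le_centralizer_image _ f)
          |>.trans (by rw [coe_map])
      · rintro ub ⟨hub, hubC⟩
        obtain ⟨u, huR, rfl⟩ := opOf_le _ _ hub
        obtain ⟨c, hcC, hcu⟩ := CfsgLib.Coprime.exists_centralizing_in_coset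
          (A := Z s) (N := D) (k := u) (fun x _ => le_normalizer_of_normal (K := ⊤) (mem_top x))
          (hcop s hs s.2) (Or.inl (have := (hZp s hs s.2).isNilpotent; inferInstance))
          (fun a ha => by
            rw [← QuotientGroup.eq_one_iff]
            show f (u⁻¹ * (a * u * a⁻¹)) = 1
            have := mem_centralizer_iff.1 hubC (f a) ⟨a, ha, rfl⟩
            simp only [map_mul, map_inv, this, mul_inv_cancel_right, inv_mul_cancel])
        have hfc : f c = f u := by
          have h1 : f (u⁻¹ * c) = 1 := (QuotientGroup.eq_one_iff _).2 hcu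
          rw [map_mul, map_inv, inv_mul_eq_one] at h1
          exact h1.symm
        have hcR : c ∈ R := by
          simpa using R.mul_mem huR (hDR hcu)
        rw [← hfc]
        rw [mem_centralizer_iff]
        rintro _ ⟨z, hz, rfl⟩
        have h1 : ⁅f c, f z⁆ ∈ (Z t).map f := by
          rw [← map_commutatorElement]
          exact mem_map_of_mem f (hkey s hs t ht s.2 htp hts.symm c hcR hcC z hz)
        have h2 : ⁅f c, f z⁆ ∈ T := by
          rw [commutatorElement_def, mul_assoc, mul_assoc]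
          refine Subgroup.mul_mem _ (hfc ▸ hub) ?_
          simpa [mul_assoc] using (mem_normalizer_iff.1
            (hnorm _ _ (hZR t ht htp) (mem_map_of_mem f hz)) _).1
              (Subgroup.inv_mem _ (hfc ▸ hub))
        have h3 : ⁅f c, f z⁆ = 1 := by
          have hd := disjoint_iff.1 (((hZp t ht htp).map f).disjoint_of_ne t s hts _ _
            (isPGroup_opOf (s : ℕ) Rb))
          exact mem_bot.1 (hd ▸ (⟨h1, h2⟩ : ⁅f c, f z⁆ ∈ (Z t).map f ⊓ T))
        exact (commutatorElement_eq_one_iff_mul_comm.1 h3).symm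
    have hQeq : ⁅Q, Z t⁆ = Q := by
      have hcQ : (Nat.card (Z t)).Coprime (Nat.card Q) := by
        obtain ⟨a, ha⟩ := IsPGroup.iff_card.mp (hZp t ht htp)
        obtain ⟨b, hb⟩ := IsPGroup.iff_card.mp hQ
        rw [ha, hb]
        exact Nat.Coprime.pow a b ((Nat.coprime_primes htp Fact.out).2 fun h => hq (h ▸ ht))
      have h := CfsgLib.Coprime.commutator_sup_centralizer (hZQ t ht htp) hcQ
        (Or.inl (have := (hZp t ht htp).isNilpotent; inferInstance))
      rwa [hfix t ht htp, sup_bot_eq] at h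
    rw [← hQeq, Subgroup.map_commutator]
    refine commutator_le.2 fun a ha b hb => ?_
    have haT : a ∈ normalizer (T : Set (N ⧸ D)) :=
      hnorm _ _ (hQR.trans le_normalizer) ha
    rw [commutatorElement_def]
    refine Subgroup.mul_mem _ ?_ (Subgroup.inv_mem _ (hZT hb))
    exact (mem_normalizer_iff.1 (CfsgLib.Coprime.le_normalizer_centralizer le_rfl haT) _).1 (hZT hb)
  have hle : Q.map f ≤ opOf q Rb := le_opOf_of_le_fittingOf (hQ.map f)
    ((le_inf (map_mono hQR) hQc).trans inf_centralizer_fittingOf_le)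
  rw [hzero q hq, le_bot_iff, Subgroup.map_eq_bot_iff, QuotientGroup.ker_mk'] at hle
  exact hle

/-- The invariant `q`-subgroups for `q` outside `π(F(H))` lie in `O_{π'}(R)`. -/
theorem inv_le_piCoreOf {H : Subgroup G}
    (hmax : ∀ L : Subgroup G, IsLocalSubgroup L → H ≤ L → L = H)
    (hF2 : 2 ≤ (Nat.card (fittingOf H)).primeFactors.card) {M : Subgroup G}
    (hM : M ≤ fittingOf H) (hCM : fittingOf H ⊓ centralizer (M : Set G) ≤ M) {R : Subgroup G}
    (hR : Group.IsSolvable R) (hMR : M ≤ normalizer (R : Set G))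
    (hXR : H ⊓ centralizer (fittingOf H : Set G) ≤ normalizer (R : Set G))
    {q : ℕ} [Fact q.Prime] (hq : ¬ q ∣ Nat.card (fittingOf H)) {Q : Subgroup G} (hQR : Q ≤ R)
    (hQ : IsPGroup q Q) (hMQ : M ≤ normalizer (Q : Set G)) :
    Q ≤ piCoreOf (primesNotDvd (Nat.card (fittingOf H))) R := by
  set n := Nat.card (fittingOf H) with hn
  set D := piCoreOf (primesNotDvd n) R with hDdef
  set N := normalizer (D : Set G) with hN
  have hRN : R ≤ N := le_normalizer_piCoreOf _ R
  have hnRN : normalizer (R : Set G) ≤ N := CfsgLib.Base.normalizer_le_normalizer_map_subtype _ _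
  have hDR : D ≤ R := piCoreOf_le _ _
  have hZM : ∀ t : ℕ, t.Prime → centerOp t H ≤ M := fun t ht => by
    have : Fact t.Prime := ⟨ht⟩
    exact ((centerOp_le_centralizer_fittingOf t H).trans
      (inf_le_inf_left _ (centralizer_le hM))).trans hCM
  have hZN : ∀ t : ℕ, t.Prime → centerOp t H ≤ N := fun t ht => ((hZM t ht).trans hMR).trans hnRN
  have : (D.subgroupOf N).Normal := normal_subgroupOf_of_le_normalizer le_rfl
  have hQN : Q ≤ N := hQR.trans hRN
  have hsub : ∀ {X Y : Subgroup G}, X ≤ normalizer (Y : Set G) →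
      X.subgroupOf N ≤ normalizer (Y.subgroupOf N : Set N) := fun {X Y} h x hx =>
    mem_normalizer_iff.2 fun g => by
      simpa [mem_subgroupOf] using mem_normalizer_iff.1 (h hx) (g : G)
  have hcard : ∀ {X : Subgroup G}, X ≤ N → Nat.card (X.subgroupOf N) = Nat.card X :=
    fun {X} h => CfsgLib.Base.card_subgroupOf h
  have hcent : ∀ {X : Subgroup G} {x : N}, X ≤ N →
      x ∈ centralizer (X.subgroupOf N : Set N) → (x : G) ∈ centralizer (X : Set G) :=
    fun {X x} hX hx => mem_centralizer_iff.2 fun y hy =>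
      congrArg Subtype.val (mem_centralizer_iff.1 hx ⟨y, hX hy⟩ hy)
  have hmem := le_core_of_fixed_points (D.subgroupOf N) (R.subgroupOf N) (Q.subgroupOf N)
    (subgroupOf_mono N hDR)
    (Group.isSolvable_of_isSolvable_injective (f := (subgroupOfEquivOfLe hRN).toMonoidHom)
      (subgroupOfEquivOfLe hRN).injective)
    {t | t ∣ n}
    (fun r hr hd => (piCoreOf_primes (primesNotDvd n) R r hr
      (by rwa [hcard (hDR.trans hRN)] at hd)).2)
    (fun K hKR hRK hK => by
      have h1 : K.map N.subtype ≤ D := by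
        refine le_piCoreOf ?_ ?_ fun r hr hd => ⟨hr, hK r hr (by
          rwa [CfsgLib.Base.card_map_subtype] at hd)⟩
        · rw [← map_subgroupOf_eq_of_le hRN]
          exact map_mono hKR
        · rw [← map_subgroupOf_eq_of_le hRN]
          exact (map_mono hRK).trans (le_normalizer_map _)
      intro x hx
      exact h1 (mem_map_of_mem _ hx))
    (q := q) (subgroupOf_mono N hQR) (hQ.comap_of_injective _ N.subtype_injective) hq
    (fun t => (centerOp t H).subgroupOf N)
    (fun t _ ht => ((isPGroup_opOf t H).to_le inf_le_left).comap_of_injective _ N.subtype_injective)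
    (fun t _ ht => hsub ((hZM t ht).trans hMR))
    (fun s _ t _ hs ht hst x hx => mem_centralizer_iff.2 fun y hy => Subtype.ext (by
      have : Fact s.Prime := ⟨hs⟩
      have : Fact t.Prime := ⟨ht⟩
      exact mem_centralizer_iff.1 (opOf_le_centralizer hst H hx.1) (y : G) hy.1))
    (fun t _ ht => hsub ((hZM t ht).trans hMQ))
    (fun t htd ht => by
      have : Fact t.Prime := ⟨ht⟩
      have hY : Q ⊓ centralizer (centerOp t H : Set G) = ⊥ := by
        refine inv_eq_bot_of_le hM hCM hR hXR (inf_le_left.trans hQR)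
          (inf_le_right.trans (local_normalizer_eq hmax ((isPGroup_opOf t H).to_le inf_le_left)
            (centerOp_ne_bot htd) (le_normalizer_centerOp t H))) ?_ ?_
        · exact CfsgLib.Coprime.le_normalizer_inf_inf hMQ (CfsgLib.Coprime.le_normalizer_centralizer
            ((hM.trans (fittingOf_le' H)).trans (le_normalizer_centerOp t H)))
        · obtain ⟨k, hk⟩ := IsPGroup.iff_card.mp hQ
          exact Nat.Coprime.coprime_dvd_left (card_dvd_of_le inf_le_left)
            (hk ▸ ((Fact.out : q.Prime).coprime_iff_not_dvd.2 hq).pow_left k)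
      refine (eq_bot_iff_forall _).2 fun x hx => Subtype.ext ?_
      exact mem_bot.1 (hY ▸ (⟨hx.1, hcent (hZN t ht) hx.2⟩ :
        (x : G) ∈ Q ⊓ centralizer (centerOp t H : Set G))))
    (fun s hsd t htd hs ht hst c hcR hc z hz => by
      have : Fact s.Prime := ⟨hs⟩
      have hcH : (c : G) ∈ H := local_normalizer_eq hmax ((isPGroup_opOf s H).to_le inf_le_left)
        (centerOp_ne_bot hsd) (le_normalizer_centerOp s H) (hcent (hZN s hs) hc)
      show ⁅(c : G), (z : G)⁆ ∈ centerOp t H
      rw [commutatorElement_def]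
      exact Subgroup.mul_mem _ ((mem_normalizer_iff.1 (le_normalizer_centerOp t H hcH) _).1 hz)
        (Subgroup.inv_mem _ hz))
    (fun s => by
      obtain ⟨t, ht, hts⟩ := Finset.exists_mem_ne hF2 s
      exact ⟨t, Nat.dvd_of_mem_primeFactors ht, Nat.prime_of_mem_primeFactors ht, hts⟩)
  intro x hx
  exact hmem (show (⟨x, hQN hx⟩ : N) ∈ Q.subgroupOf N from hx)

end CfsgLib.OddOrder
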