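import Cfsg.Agent.Lib.OddOrder.PuigEquiv
import Cfsg.Agent.Lib.OddOrder.AbelianGenerated
import Cfsg.Agent.Lib.PLocal.Frattini

/-!
Puig's theorem on the centre of `L(S)`, for p-solvable groups not involving `SL₂(p)`.
-/

set_option autoImplicit false

namespace CfsgLib.OddOrder

open Subgroup

variable {G : Type*} [Group G] [Finite G] {p : ℕ} [Fact p.Prime]

theorem centralizer_seqIn_inf_le {H : Subgroup G} [Group.IsNilpotent H] {i : ℕ} (hi : 0 < i)
    {x : G} (hx : x ∈ H) (hc : x ∈ centralizer (seqIn H i : Set G)) : x ∈ seqIn H i := by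
  refine ⟨⟨x, hx⟩, centralizer_puigSeq_le hi (mem_centralizer_iff.2 fun y hy => ?_), rfl⟩
  exact Subtype.ext (mem_centralizer_iff.1 hc y.1 ⟨y, hy, rfl⟩)

theorem puig_sandwich (hp : p ≠ 2) (hno : ¬ InvolvesSL2 p G) (hsolv : Cfsg.IsPSolvable p G)
    (hO : Cfsg.pPrimeCore p G = ⊥) (S : Sylow p G) :
    (Cfsg.puigLower (S : Subgroup G)).map (S : Subgroup G).subtype ≤
        (Cfsg.puigLower (Cfsg.pCore p G)).map (Cfsg.pCore p G).subtype ∧
      (Cfsg.puigSubgroup (Cfsg.pCore p G)).map (Cfsg.pCore p G).subtype ≤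
        (Cfsg.puigSubgroup (S : Subgroup G)).map (S : Subgroup G).subtype := by
  set T := Cfsg.pCore p G with hT
  have hTS : T ≤ (S : Subgroup G) := CfsgLib.Base.pCore_le_sylow S
  have hTp : IsPGroup p T := CfsgLib.Base.isPGroup_pCore p G
  have : Group.IsNilpotent T := hTp.isNilpotent
  have key : ∀ i, seqIn (S : Subgroup G) (2 * i) ≤ seqIn T (2 * i) ∧
      seqIn T (2 * i + 1) ≤ seqIn (S : Subgroup G) (2 * i + 1) := by
    intro i
    induction i with
    | zero =>
      refine ⟨by simp [seqIn_zero], ?_⟩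
      rw [seqIn_succ, seqIn_succ, seqIn_zero, seqIn_zero]
      exact stepIn_mono hTS
    | succ i ih =>
      have he : seqIn (S : Subgroup G) (2 * (i + 1)) ≤ seqIn T (2 * (i + 1)) := by
        rw [show 2 * (i + 1) = 2 * i + 1 + 1 by ring, seqIn_succ (S : Subgroup G) (2 * i + 1),
          seqIn_succ T (2 * i + 1)]
        refine sSup_le fun A hA => ?_
        have hPn : (seqIn T (2 * i + 1)).Normal := seqIn_normal T _
        have hPA : seqIn T (2 * i + 1) ≤ normalizer (A : Set G) := ih.2.trans hA.2.2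
        have hAT : A ≤ T := by
          have h := sSup_le_pCore hp hno hsolv hO (seqIn T (2 * i + 1)) (hTp.to_le (seqIn_le T _))
            (fun x hx => centralizer_seqIn_inf_le (Nat.succ_pos _) hx.1 hx.2) {A}
            (fun B hB => by rw [Set.mem_singleton_iff] at hB; subst hB; exact ⟨hA.2.1, hPA⟩)
          rwa [sSup_singleton] at h
        exact le_stepIn hAT hA.2.1 hPA
      refine ⟨he, ?_⟩
      rw [seqIn_succ, seqIn_succ]
      exact (stepIn_antitone he).trans (stepIn_mono hTS)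
  constructor
  · rw [lowerIn_eq, lowerIn_eq]
    exact iSup_mono fun i => (key i).1
  · rw [upperIn_eq, upperIn_eq]
    exact iInf_mono fun i => (key i).2

/-- The centre of `L(S)` inside `G`. -/
def puigCenter (S : Subgroup G) : Subgroup G :=
  ((center (Cfsg.puigSubgroup S)).map (Cfsg.puigSubgroup S).subtype).map S.subtype

omit [Finite G] in
theorem puigCenter_eq (S : Subgroup G) :
    puigCenter S = (Cfsg.puigSubgroup S).map S.subtype ⊓
      centralizer ((Cfsg.puigSubgroup S).map S.subtype : Set G) := by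
  ext x
  constructor
  · rintro ⟨y, ⟨z, hz, rfl⟩, rfl⟩
    refine ⟨⟨z.1, z.2, rfl⟩, mem_centralizer_iff.2 ?_⟩
    rintro _ ⟨w, hw, rfl⟩
    exact congrArg (fun v : Cfsg.puigSubgroup S => (v.1.1 : G)) (mem_center_iff.1 hz ⟨w, hw⟩)
  · rintro ⟨⟨y, hy, rfl⟩, hc⟩
    refine ⟨y, ⟨⟨y, hy⟩, mem_center_iff.2 fun w => ?_, rfl⟩, rfl⟩
    exact Subtype.ext (Subtype.ext (mem_centralizer_iff.1 hc _ ⟨w.1, w.2, rfl⟩))

omit [Finite G] in
theorem map_puigCenter {G' : Type*} [Group G'] (f : G →* G') {S : Subgroup G}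
    (hinj : Function.Injective (f.comp S.subtype)) :
    (puigCenter S).map f = puigCenter (S.map f) := by
  rw [puigCenter_eq, puigCenter_eq, ← map_puigSubgroupIn f hinj]
  set L := (Cfsg.puigSubgroup S).map S.subtype with hL
  have hLS : L ≤ S := map_subtype_le _
  ext y
  constructor
  · rintro ⟨x, ⟨hxL, hxc⟩, rfl⟩
    refine ⟨⟨x, hxL, rfl⟩, mem_centralizer_iff.2 ?_⟩
    rintro _ ⟨w, hw, rfl⟩
    rw [← map_mul, ← map_mul, mem_centralizer_iff.1 hxc w hw]
  · rintro ⟨⟨x, hxL, rfl⟩, hc⟩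
    refine ⟨x, ⟨hxL, mem_centralizer_iff.2 fun w hw => ?_⟩, rfl⟩
    have h1 := mem_centralizer_iff.1 hc _ ⟨w, hw, rfl⟩
    rw [← map_mul, ← map_mul] at h1
    exact congrArg Subtype.val (hinj (a₁ := ⟨w * x, S.mul_mem (hLS hw) (hLS hxL)⟩)
      (a₂ := ⟨x * w, S.mul_mem (hLS hxL) (hLS hw)⟩) h1)

theorem puigCenter_normal (hp : p ≠ 2) (hno : ¬ InvolvesSL2 p G) (hsolv : Cfsg.IsPSolvable p G)
    (hO : Cfsg.pPrimeCore p G = ⊥) (S : Sylow p G) : (puigCenter (S : Subgroup G)).Normal := by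
  set T := Cfsg.pCore p G with hT
  have hTS : T ≤ (S : Subgroup G) := CfsgLib.Base.pCore_le_sylow S
  obtain ⟨h1, h3⟩ := puig_sandwich hp hno hsolv hO S
  have h2 : (Cfsg.puigLower T).map T.subtype ≤ (Cfsg.puigSubgroup T).map T.subtype :=
    map_mono puigLower_le_puigSubgroup
  set LT := (Cfsg.puigSubgroup T).map T.subtype with hLT
  set LS := (Cfsg.puigSubgroup (S : Subgroup G)).map (S : Subgroup G).subtype with hLS
  set LsS := (Cfsg.puigLower (S : Subgroup G)).map (S : Subgroup G).subtype with hLsS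
  have hLTn : LT.Normal := by
    rw [hLT, upperIn_eq]
    exact normal_iInf_normal fun i => seqIn_normal T _
  set Z := LT ⊓ centralizer (LT : Set G) with hZ
  have : Z.Normal := by rw [hZ]; infer_instance
  have hSn : Group.IsNilpotent (S : Subgroup G) := S.2.isNilpotent
  have hLsSc : ∀ x ∈ (S : Subgroup G), x ∈ centralizer (LsS : Set G) → x ∈ LsS := by
    intro x hx hxc
    refine ⟨⟨x, hx⟩, centralizer_puigLower_le (mem_centralizer_iff.2 fun y hy => ?_), rfl⟩
    exact Subtype.ext (mem_centralizer_iff.1 hxc y.1 ⟨y, hy, rfl⟩)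
  have hZLs : Z ≤ LsS := fun x hx => hLsSc x ((map_subtype_le _).trans hTS hx.1)
    (centralizer_le (h1.trans h2) hx.2)
  have hcS : puigCenter (S : Subgroup G) ≤ Z := by
    rw [puigCenter_eq]
    rintro x ⟨hx1, hx2⟩
    have hx3 : x ∈ LsS := hLsSc x (map_subtype_le _ hx1)
      (centralizer_le (map_mono puigLower_le_puigSubgroup) hx2)
    exact ⟨(h1.trans h2) hx3, centralizer_le h3 hx2⟩
  set C := centralizer (Z : Set G) with hC
  set D := (Cfsg.pCore p (G ⧸ C)).comap (QuotientGroup.mk' C) with hD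
  have hLSD : LS ≤ D := by
    rw [hLS, ← step_lowerIn, hD, ← map_le_iff_le_comap]
    exact map_sSup_le_pCore hp hno Z
      ((CfsgLib.Base.isPGroup_pCore p G).to_le (inf_le_left.trans (map_subtype_le _))) _
      fun B hB => ⟨hB.2.1, hZLs.trans hB.2.2⟩
  obtain ⟨k, hk⟩ := relIndex_comap_pCore (p := p) C
  have hD' := CfsgLib.PLocal.eq_sup_sylow_inf S (C := C) (D := D)
    (CfsgLib.PLocal.le_comap_mk' C _) hk
  have hLeq : (Cfsg.puigSubgroup ((S : Subgroup G) ⊓ D : Subgroup G)).map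
      ((S : Subgroup G) ⊓ D).subtype = LS :=
    puig_eq_of_le inf_le_left (le_inf (map_subtype_le _) hLSD)
  have hN : normalizer (((S : Subgroup G) ⊓ D : Subgroup G) : Set G) ≤
      normalizer (puigCenter (S : Subgroup G) : Set G) := by
    refine (normalizer_le_normalizer_puigSubgroupIn _).trans ?_
    rw [hLeq, puigCenter_eq, ← hLS]
    intro g hg
    exact CfsgLib.PLocal.normalizer_inf_le LS (centralizer (LS : Set G))
      ⟨hg, CfsgLib.PLocal.normalizer_le_centralizer_normalizer LS hg⟩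
  have hCN : C ≤ normalizer (puigCenter (S : Subgroup G) : Set G) :=
    (centralizer_le hcS).trans (centralizer_le_normalizer _)
  have hSD : (S : Subgroup G) ⊓ D ≤ normalizer (puigCenter (S : Subgroup G) : Set G) :=
    le_trans Subgroup.le_normalizer hN
  have hDN : D ≤ normalizer (puigCenter (S : Subgroup G) : Set G) := by
    rw [← hD']; exact sup_le hCN hSD
  rw [← normalizer_eq_top_iff, eq_top_iff]
  intro g _
  obtain ⟨d, hd, n, hn, rfl⟩ := CfsgLib.PLocal.exists_mul_normalizer S D g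
  exact mul_mem (hDN hd) (hN hn)

theorem puig_factorization (hp : p ≠ 2) (hno : ¬ InvolvesSL2 p G) (hsolv : Cfsg.IsPSolvable p G)
    (S : Sylow p G) :
    Cfsg.pPrimeCore p G ⊔ normalizer (puigCenter (S : Subgroup G) : Set G) = ⊤ := by
  set N := Cfsg.pPrimeCore p G with hN
  set π := QuotientGroup.mk' N with hπ
  have hsurj : Function.Surjective π := QuotientGroup.mk'_surjective N
  have hcop : (Nat.card N).Coprime p := CfsgLib.Base.pPrimeCore_coprime p G
  have hinj : Function.Injective (π.comp (S : Subgroup G).subtype) := by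
    rw [← MonoidHom.ker_eq_bot_iff, eq_bot_iff]
    intro x hx
    have h : x.1 ∈ (S : Subgroup G) ⊓ N := ⟨x.2, (QuotientGroup.eq_one_iff _).1 hx⟩
    rw [CfsgLib.Base.inf_eq_bot_of_isPGroup_of_coprime S.2 hcop] at h
    exact Subgroup.mem_bot.2 (Subtype.ext (Subgroup.mem_bot.1 h))
  have hn := puigCenter_normal hp (fun h => hno (h.of_surjective π hsurj))
    (CfsgLib.PLocal.isPSolvable_quotient hsolv N)
    (CfsgLib.Base.pPrimeCore_quotient_pPrimeCore p G) (S.mapSurjective hsurj)
  rw [Sylow.coe_mapSurjective, ← map_puigCenter π hinj] at hn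
  rw [eq_top_iff]
  intro x _
  have hZ : IsPGroup p (puigCenter (S : Subgroup G)) := S.2.to_le (map_subtype_le _)
  obtain ⟨n, hn', hnx⟩ := CfsgLib.PLocal.mem_map_normalizer N hcop hZ (x := x)
    (le_normalizer_of_normal (K := ⊤) (Subgroup.mem_top _))
  rw [show x = x * n⁻¹ * n by group]
  exact mul_mem (mem_sup_left ((QuotientGroup.eq_one_iff _).1 (by
    show π (x * n⁻¹) = 1
    rw [map_mul, map_inv, hnx, mul_inv_cancel]))) (mem_sup_right hn')

end CfsgLib.OddOrder
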