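import Cfsg.Agent.Lib.OddOrder.UniqueBasics
import Cfsg.Agent.Lib.OddOrder.SCN
import Cfsg.Agent.Lib.OddOrder.SmallRankSolvable
import Cfsg.Agent.Lib.OddOrder.TransitivityMinSimple
import Cfsg.Agent.Lib.OddOrder.AbelianGenerated
import Cfsg.Agent.Lib.OddOrder.PuigTheorem
import Cfsg.Agent.Lib.OddOrder.PStableCriterion
import Cfsg.Agent.Lib.OddOrder.Signalizer
import Cfsg.Agent.Lib.PLocal.Frattini
import Cfsg.Agent.Lib.Coprime.Action2
import Cfsg.Agent.Lib.Base.Fitting
import Cfsg.Agent.Lib.Transfer.Alperin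
import Cfsg.Agent.S1396

/-!
A maximal subgroup containing the `B`-invariant `p'`-subgroups is the only one over `B`.
-/

set_option autoImplicit false
set_option linter.unusedSectionVars false

open scoped Pointwise commutatorElement

namespace CfsgLib.OddOrder

open Cfsg
open Subgroup

variable {G : Type*} [Group G] [Finite G] {p : ℕ} [Fact p.Prime]

/-- A subgroup is covered by its invariant Sylow subgroups. -/
theorem le_of_invariant_sylows {A Y E : Subgroup G} (hA : A ≤ normalizer (Y : Set G))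
    (hcop : (Nat.card A).Coprime (Nat.card Y))
    (hsolv : Group.IsSolvable A ∨ Group.IsSolvable Y)
    (h : ∀ q : ℕ, q.Prime → q ∣ Nat.card Y → ∀ Q : Subgroup G, Q ≤ Y → IsPGroup q Q →
      A ≤ normalizer (Q : Set G) → Q ≤ E) : Y ≤ E := by
  have hex : ∀ r : Nat.Primes, ∃ S : Sylow (r : ℕ) Y,
      A ≤ normalizer ((S : Subgroup Y).map Y.subtype : Set G) := fun r => by
    have : Fact (r : ℕ).Prime := ⟨r.2⟩
    exact CfsgLib.Coprime.exists_invariant_sylow hA hcop hsolv
  choose S hS using hex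
  have hY := congrArg (Subgroup.map Y.subtype) (CfsgLib.Base.iSup_sylow_eq_top S)
  rw [Subgroup.map_iSup, ← MonoidHom.range_eq_map, range_subtype] at hY
  rw [← hY]
  refine iSup_le fun r => ?_
  have : Fact (r : ℕ).Prime := ⟨r.2⟩
  by_cases hr : (r : ℕ) ∣ Nat.card Y
  · exact h r r.2 hr _ (map_subtype_le _) ((S r).isPGroup'.map _) (hS r)
  · have h1 : (S r : Subgroup Y) = ⊥ := by
      obtain ⟨n, hn⟩ := IsPGroup.iff_card.mp (S r).isPGroup'
      rcases n with _ | n
      · exact card_eq_one.1 (by simpa using hn)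
      · exact absurd ((dvd_pow_self _ n.succ_ne_zero).trans (hn ▸ card_subgroup_dvd_card _)) hr
    rw [h1, Subgroup.map_bot]
    exact bot_le

/-- A transitive `p'`-group of operators leaves an invariant member. -/
theorem exists_fixed_maxInv {π : Set ℕ} {A K R : Subgroup G} (hRA : R ≤ normalizer (A : Set G))
    (hRK : R ≤ normalizer (K : Set G)) (hcop : (Nat.card R).Coprime (Nat.card K))
    (hsolv : Group.IsSolvable R ∨ Group.IsSolvable K)
    {Q₀ : Subgroup G} (hQ₀ : Q₀ ∈ maxInvSubgroups ⊤ A π) (hKC : K ≤ centralizer (A : Set G))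
    (htr : ∀ Q ∈ maxInvSubgroups ⊤ A π, ConjBy K Q₀ Q) :
    ∃ Q ∈ maxInvSubgroups ⊤ A π, R ≤ normalizer (Q : Set G) := by
  let _ : MulAction G (Subgroup G) := MulAction.compHom (Subgroup G) (MulAut.conj (G := G))
  have hmap : ∀ a ∈ R, MulAut.conj a • Q₀ ∈ maxInvSubgroups ⊤ A π := by
    intro a ha
    have hAa : MulAut.conj a • A = A := CfsgLib.Coprime.conj_smul_eq_self_of_mem_normalizer (hRA ha)
    have hAa' : MulAut.conj a⁻¹ • A = A :=
      CfsgLib.Coprime.conj_smul_eq_self_of_mem_normalizer (hRA (inv_mem ha))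
    have hinv : ∀ Q ∈ invSubgroups ⊤ A π, ∀ b : G, MulAut.conj b • A = A →
        MulAut.conj b • Q ∈ invSubgroups ⊤ A π := by
      intro Q hQ b hb
      refine ⟨le_top, fun r hr hd => hQ.2.1 r hr (by
        rwa [CfsgLib.Coprime.card_conj_smul] at hd), ?_⟩
      have h := CfsgLib.Coprime.le_normalizer_conj_smul (g := b) hQ.2.2
      rwa [hb] at h
    refine ⟨hinv _ hQ₀.1 a hAa, fun X hX hle => ?_⟩
    have h1 := hQ₀.2 _ (hinv X hX a⁻¹ hAa') (by
      rw [map_inv, Subgroup.subset_pointwise_smul_iff, inv_inv]; exact hle)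
    rw [← h1, map_inv, smul_inv_smul]
  obtain ⟨k, hk, hfix⟩ := CfsgLib.Coprime.exists_fixed_point hRK hcop hsolv Q₀
    fun a ha => htr _ (hmap a ha)
  refine ⟨MulAut.conj k • Q₀, conj_smul_mem_maxInvSubgroups (hKC hk) hQ₀, ?_⟩
  exact CfsgLib.Coprime.le_normalizer_iff_conj_smul.2 fun a ha => hfix a ha

/-- A `p'`-subgroup of a solvable group normalized by a Sylow `p`-subgroup lies in the `p'`-core. -/
theorem le_core_of_maximal_invariant (hp : p ≠ 2) {M R Y : Subgroup G} [Group.IsSolvable M]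
    (hRM : R ≤ M) (hR : IsPGroup p R)
    (hRmax : ∀ T : Subgroup G, IsPGroup p T → T ≤ M → R ≤ T → T = R) (hYM : Y ≤ M)
    (hY : (Nat.card Y).Coprime p) (hRY : R ≤ normalizer (Y : Set G)) :
    Y ≤ (pPrimeCore p M).map M.subtype := by
  have h := le_pPrimeCore_of_full (L := M) (E := R.subgroupOf M) (Y := Y.subgroupOf M)
    (hR.of_equiv (subgroupOfEquivOfLe hRM).symm)
    (by rwa [CfsgLib.Base.card_subgroupOf hYM])
    (fun e he => mem_normalizer_iff.mpr fun z => by
      simpa [mem_subgroupOf] using mem_normalizer_iff.mp (hRY he) (z : G))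
    (CfsgLib.PLocal.isPConstrained_iff.mp
      (CfsgLib.PLocal.isPConstrained_of_isPSolvable CfsgLib.PLocal.isPSolvable_of_isSolvable))
    (fun u hu hk => by
      obtain ⟨k, hk⟩ := hk
      rw [mem_subgroupOf]
      have hn : zpowers (u : G) ≤ normalizer (R : Set G) := by
        rw [zpowers_le]
        refine centralizer_le_normalizer _ (mem_centralizer_iff.2 fun e he => ?_)
        exact congrArg Subtype.val (hu ⟨e, hRM he⟩ he).eq
      have hpu : IsPGroup p (zpowers (u : G)) :=
        isPGroup_zpowers_of_pow_eq_one' (k := k) (by rw [← SubmonoidClass.coe_pow, hk, OneMemClass.coe_one])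
      have := hRmax _ (IsPGroup.to_sup_of_normal_right' hpu hR hn) (sup_le (zpowers_le.2 u.2) hRM)
        le_sup_right
      exact this ▸ mem_sup_left (mem_zpowers _))
    (fun h2 => absurd h2 hp)
  have h2 := map_mono (f := M.subtype) h
  rwa [map_subgroupOf_eq_of_le hYM] at h2
where
  isPGroup_zpowers_of_pow_eq_one' {G : Type _} [Group G] {p k : ℕ} {u : G} (hk : u ^ (p ^ k) = 1) :
      IsPGroup p (Subgroup.zpowers u) := by
    intro g
    refine ⟨k, Subtype.ext ?_⟩
    obtain ⟨i, hi⟩ := Subgroup.mem_zpowers_iff.mp g.2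
    rw [SubmonoidClass.coe_pow, OneMemClass.coe_one, ← hi, ← zpow_natCast, ← zpow_mul,
      mul_comm, zpow_mul, zpow_natCast, hk, one_zpow]

theorem puigCenter_ne_bot {S : Subgroup G} (hS : IsPGroup p S) (hne : S ≠ ⊥) :
    puigCenter S ≠ ⊥ := by
  have : Nontrivial S := (Subgroup.nontrivial_iff_ne_bot S).2 hne
  have := hS.center_nontrivial
  have hstep : ∀ X : Subgroup S, center S ≤ puigStep X := fun X =>
    le_sSup ⟨inferInstance, by rw [normalizer_eq_top (center S)]; exact le_top⟩
  have hle : center S ≤ puigSubgroup S := le_iInf fun n => hstep _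
  obtain ⟨z, hz⟩ := exists_ne (1 : center S)
  intro h
  refine hz (Subtype.ext (Subtype.ext (mem_bot.1 (h ▸ ?_))))
  rw [puigCenter_eq]
  refine ⟨⟨z.1, hle z.2, rfl⟩, mem_centralizer_iff.2 ?_⟩
  rintro _ ⟨w, -, rfl⟩
  exact congrArg Subtype.val (mem_center_iff.1 z.2 w)

theorem normalizer_le_normalizer_puigCenter (R : Subgroup G) :
    normalizer (R : Set G) ≤ normalizer (puigCenter R : Set G) := by
  intro g hg
  rw [mem_normalizer_iff_map_conj_eq] at hg ⊢
  rw [map_puigCenter (MulAut.conj g : G →* G) ((MulAut.conj g).injective.comp R.subtype_injective), hg]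

/-- Puig's factorization inside a solvable subgroup of odd order. -/
theorem local_puig_factorization (hp : p ≠ 2) {L R : Subgroup G} [Group.IsSolvable L]
    (hodd : Odd (Nat.card L)) (hRL : R ≤ L) (hR : IsPGroup p R)
    (hRmax : ∀ T : Subgroup G, IsPGroup p T → T ≤ L → R ≤ T → T = R) :
    L ≤ (pPrimeCore p L).map L.subtype ⊔ (L ⊓ normalizer (puigCenter R : Set G)) := by
  let S : Sylow p L :=
    { toSubgroup := R.subgroupOf L
      isPGroup' := hR.comap_of_injective _ L.subtype_injective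
      is_maximal' := fun {T} hT hle => by
        have h := hRmax (T.map L.subtype) (hT.map _) (map_subtype_le T)
          (by rw [← map_subgroupOf_eq_of_le hRL]; exact map_mono hle)
        rw [← h]
        exact (comap_map_eq_self_of_injective L.subtype_injective T).symm }
  have hmapS : (S : Subgroup L).map L.subtype = R := map_subgroupOf_eq_of_le hRL
  have h := puig_factorization hp (InvolvesSL2.not_of_odd hp hodd) CfsgLib.PLocal.isPSolvable_of_isSolvable S
  have h1 := congrArg (Subgroup.map L.subtype) h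
  rw [Subgroup.map_sup, ← MonoidHom.range_eq_map, range_subtype] at h1
  refine h1.ge.trans (sup_le le_sup_left ?_)
  refine le_trans (le_inf (map_subtype_le _) ?_) le_sup_right
  refine (le_normalizer_map L.subtype).trans ?_
  rw [map_puigCenter L.subtype (L.subtype_injective.comp (Subgroup.subtype_injective _)), hmapS]

/-- `L = O_{p'}(L) N_L(R ∩ O_{p',p}(L))` for a Sylow `p`-subgroup `R` of `L`. -/
theorem local_frattini {L R : Subgroup G} (hRL : R ≤ L) (hR : IsPGroup p R)
    (hRmax : ∀ T : Subgroup G, IsPGroup p T → T ≤ L → R ≤ T → T = R) :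
    L ≤ (pPrimeCore p L).map L.subtype ⊔
      (L ⊓ normalizer ((R ⊓ (pPrimePCore p L).map L.subtype : Subgroup G) : Set G)) := by
  let S : Sylow p L :=
    { toSubgroup := R.subgroupOf L
      isPGroup' := hR.comap_of_injective _ L.subtype_injective
      is_maximal' := fun {T} hT hle => by
        have h := hRmax (T.map L.subtype) (hT.map _) (map_subtype_le T)
          (by rw [← map_subgroupOf_eq_of_le hRL]; exact map_mono hle)
        rw [← h]
        exact (comap_map_eq_self_of_injective L.subtype_injective T).symm }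
  have : (pPrimePCore p L).Normal := CfsgLib.PLocal.pPrimePCore_normal p L
  have hT : ((S : Subgroup L) ⊓ pPrimePCore p L).map L.subtype =
      R ⊓ (pPrimePCore p L).map L.subtype := by
    rw [map_inf _ _ _ L.subtype_injective, map_subgroupOf_eq_of_le hRL]
  have hle : pPrimeCore p L ≤ pPrimePCore p L := CfsgLib.Base.pPrimeCore_le_pPrimePCore p L
  obtain ⟨k, hk⟩ : ∃ k, (pPrimeCore p L).relIndex (pPrimePCore p L) = p ^ k := by
    obtain ⟨k, hk⟩ := IsPGroup.iff_card.mp (CfsgLib.Base.isPGroup_pCore p (L ⧸ pPrimeCore p L))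
    refine ⟨k, ?_⟩
    rw [← hk, ← CfsgLib.PLocal.card_map_mk'_eq_relIndex, pPrimePCore,
      map_comap_eq_self_of_surjective (QuotientGroup.mk'_surjective _)]
  have hD := CfsgLib.PLocal.eq_sup_sylow_inf S hle hk
  intro g hg
  obtain ⟨d, hd, n, hn, hdn⟩ := CfsgLib.PLocal.exists_mul_normalizer S (pPrimePCore p L) ⟨g, hg⟩
  have hn' : (n : G) ∈ L ⊓ normalizer ((R ⊓ (pPrimePCore p L).map L.subtype : Subgroup G) : Set G) := by
    refine ⟨n.2, ?_⟩
    rw [← hT]
    exact le_normalizer_map L.subtype (mem_map_of_mem _ hn)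
  have hd' : (d : G) ∈ (pPrimeCore p L).map L.subtype ⊔
      (L ⊓ normalizer ((R ⊓ (pPrimePCore p L).map L.subtype : Subgroup G) : Set G)) := by
    rw [← hD] at hd
    have h1 := mem_map_of_mem L.subtype hd
    rw [Subgroup.map_sup, hT] at h1
    exact sup_le_sup_left (le_inf (inf_le_left.trans hRL) le_normalizer) _ h1
  have hgd : g = (d : G) * (n : G) := congrArg Subtype.val hdn
  rw [hgd]
  exact mul_mem hd' (mem_sup_right hn')

/-- An abelian normal subgroup of a Sylow `p`-subgroup lies in `O_{p',p}`. -/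
theorem le_pPrimePCore_of_abelian_normal (hp : p ≠ 2) {L R A : Subgroup G} [Group.IsSolvable L]
    (hodd : Odd (Nat.card L)) (hRL : R ≤ L) (hR : IsPGroup p R)
    (hRmax : ∀ T : Subgroup G, IsPGroup p T → T ≤ L → R ≤ T → T = R) (hAR : A ≤ R)
    (hA : IsMulCommutative A) (hRA : R ≤ normalizer (A : Set G)) :
    A ≤ (pPrimePCore p L).map L.subtype := by
  let S : Sylow p L :=
    { toSubgroup := R.subgroupOf L
      isPGroup' := hR.comap_of_injective _ L.subtype_injective
      is_maximal' := fun {T} hT hle => by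
        have h := hRmax (T.map L.subtype) (hT.map _) (map_subtype_le T)
          (by rw [← map_subgroupOf_eq_of_le hRL]; exact map_mono hle)
        rw [← h]
        exact (comap_map_eq_self_of_injective L.subtype_injective T).symm }
  set f := QuotientGroup.mk' (pPrimeCore p L) with hf
  set Q := L ⧸ pPrimeCore p L with hQ
  have hQodd : Odd (Nat.card Q) := hodd.of_dvd_nat (pPrimeCore p L).index_dvd_card
  set A' := (A.subgroupOf L).map f with hA'
  have hA'c : IsMulCommutative A' := CfsgLib.Base.isMulCommutative_subgroup_iff.2 (by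
    rintro _ ⟨a, ha, rfl⟩ _ ⟨b, hb, rfl⟩
    rw [← map_mul, ← map_mul]
    congr 1
    exact Subtype.ext (CfsgLib.Base.isMulCommutative_subgroup_iff.1 hA a ha b hb))
  have hPn : pCore p Q ≤ normalizer (A' : Set Q) := by
    refine (CfsgLib.Base.pCore_le_sylow (S.mapSurjective (QuotientGroup.mk'_surjective _))).trans ?_
    rintro _ ⟨x, hx, rfl⟩
    refine le_normalizer_map f (mem_map_of_mem f ?_)
    exact mem_normalizer_iff.2 fun z => by
      simpa [mem_subgroupOf] using mem_normalizer_iff.1 (hRA hx) (z : G)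
  have h := sSup_le_pCore hp (InvolvesSL2.not_of_odd hp hQodd) CfsgLib.PLocal.isPSolvable_of_isSolvable
    (CfsgLib.Base.pPrimeCore_quotient_pPrimeCore p L) (pCore p Q)
    (CfsgLib.Base.isPGroup_pCore p Q) inf_le_left {A'}
    (fun B hB => by rw [Set.mem_singleton_iff] at hB; exact hB ▸ ⟨hA'c, hPn⟩)
  intro a ha
  exact ⟨⟨a, hRL (hAR ha)⟩, mem_comap.2 (h (le_sSup (Set.mem_singleton A')
    (mem_map_of_mem f ha))), rfl⟩

theorem scn_comm {P A : Subgroup G} (hA : IsSCN P A) : IsMulCommutative A :=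
  le_centralizer_iff_isMulCommutative.1 (hA.2.2.ge.trans inf_le_right)

theorem not_rankLE_two_center {A : Subgroup G} (hAc : IsMulCommutative A)
    (h : ¬ PRankLE p 2 A) : ¬ RankLE 2 ↥(A ⊓ centralizer (A : Set G)) := by
  rw [inf_eq_left.2 (le_centralizer_iff_isMulCommutative.2 hAc)]
  exact fun h' => h (h' p Fact.out)

theorem isMulCommutative_card {A : Subgroup G} (hA : IsPGroup p A) (hne : A ≠ ⊥) :
    primesNotDvd (Nat.card A) = primesNotDvd p := by
  obtain ⟨i, hi⟩ := IsPGroup.iff_card.mp hA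
  have hi0 : i ≠ 0 := fun h => hne (card_eq_one.1 (by simp [hi, h]))
  ext r
  simp only [primesNotDvd, Set.mem_ofPred_eq, hi]
  refine and_congr_right fun hr => not_congr ⟨hr.dvd_of_dvd_pow, fun h => h.trans (dvd_pow_self p hi0)⟩

/-- In a Sylow `p`-subgroup of rank at least three: an invariant `p'`-subgroup of an `SCN₃`-subgroup
lies in `E` when every `R`-invariant one does. -/
theorem scn_invariant_le (hG : IsMinSimpleOddOrder G) (hpG : p ∣ Nat.card G) (P : Sylow p G)
    {A E : Subgroup G} (hA : IsSCN (P : Subgroup G) A) (hA3 : ¬ PRankLE p 2 A)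
    (hinv : ∀ Y : Subgroup G, (Nat.card Y).Coprime p → (P : Subgroup G) ≤ normalizer (Y : Set G) →
      Y ≤ E)
    {Y : Subgroup G} (hY : (Nat.card Y).Coprime p) (hAY : A ≤ normalizer (Y : Set G)) : Y ≤ E := by
  have hp : p.Prime := Fact.out
  have hAp : IsPGroup p A := P.isPGroup'.to_le hA.1
  have hAc := scn_comm hA
  have hAne : A ≠ ⊥ := fun h => hA3 (CfsgLib.Base.pRankLE_of_card_le (by
    rw [h, card_bot]; exact Nat.one_le_pow _ _ hp.pos))
  have hA2 : ¬ PRankLE p 1 A := fun h => hA3 (CfsgLib.Base.pRankLE_mono hp.pos one_le_two h)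
  have hTH : TransitivityHypothesis A :=
    Cfsg.Agent.S1396.result hG p hpG A hAp hAc (Or.inr ⟨P, hA, hA2⟩)
  set K := piCoreOf (primesNotDvd (Nat.card A)) (centralizer (A : Set G)) with hK
  have hPC : (P : Subgroup G) ≤ normalizer ((centralizer (A : Set G) : Subgroup G) : Set G) :=
    CfsgLib.Coprime.le_normalizer_centralizer hA.2.1
  have hPK : (P : Subgroup G) ≤ normalizer (K : Set G) :=
    hPC.trans (CfsgLib.Base.normalizer_le_normalizer_map_subtype _ _)
  have hKp : (Nat.card K).Coprime p := by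
    refine Nat.Coprime.symm (coprime_primesNotDvd fun r hr hd => ?_)
    rw [← isMulCommutative_card hAp hAne]
    exact piCoreOf_primes _ _ r hr hd
  have hKE : K ≤ E := hinv K hKp hPK
  obtain ⟨j, hj⟩ := IsPGroup.iff_card.mp hAp
  refine le_of_invariant_sylows hAY (hj ▸ (hY.symm.pow_left j))
    (Or.inl (have : Group.IsNilpotent A := hAp.isNilpotent; inferInstance)) fun q hq _ Q hQY hQq hAQ => ?_
  have : Fact q.Prime := ⟨hq⟩
  by_cases hqp : q = p
  · subst hqp
    obtain ⟨n, hn⟩ := IsPGroup.iff_card.mp hQq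
    have h1 : Nat.card Q = 1 :=
      Nat.eq_one_of_dvd_coprimes (hY.pow_right n) (card_dvd_of_le hQY) (hn ▸ dvd_rfl)
    rw [card_eq_one.1 h1]
    exact bot_le
  have hqA : ¬ q ∣ Nat.card A := fun h => hqp ((Nat.prime_dvd_prime_iff_eq hq hp).1
    (hq.dvd_of_dvd_pow (hj ▸ h)))
  obtain ⟨Q₁, hQ₁, hQQ₁⟩ := exists_maxInvSubgroups_ge
    (mem_invSubgroups_singleton_iff.mpr ⟨le_top, hQq, hAQ⟩ : Q ∈ invSubgroups ⊤ A {q})
  obtain ⟨k, hk⟩ := IsPGroup.iff_card.mp P.isPGroup'
  obtain ⟨Q₀, hQ₀, hPQ₀⟩ := exists_fixed_maxInv hA.2.1 hPK (hk ▸ hKp.symm.pow_left k)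
    (Or.inl (have : Group.IsNilpotent (P : Subgroup G) := P.isPGroup'.isNilpotent; inferInstance))
    hQ₁ (piCoreOf_le _ _)
    fun Q' hQ' => th_transitive_rank_three hG hTH (not_rankLE_two_center hAc hA3) hqA hQ₁ hQ'
  obtain ⟨c, hc, hcQ⟩ :=
    th_transitive_rank_three hG hTH (not_rankLE_two_center hAc hA3) hqA hQ₀ hQ₁
  obtain ⟨-, hQ₀q, -⟩ := mem_invSubgroups_singleton_iff.mp hQ₀.1
  obtain ⟨m, hm⟩ := IsPGroup.iff_card.mp hQ₀q
  have hQ₀E : Q₀ ≤ E :=
    hinv Q₀ (hm ▸ (((Nat.coprime_primes hq hp).2 hqp).pow_left m)) hPQ₀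
  refine hQQ₁.trans ?_
  rw [← hcQ, CfsgLib.Coprime.conj_smul_le_iff]
  intro x hx
  exact mul_mem (mul_mem (hKE hc) (hQ₀E hx)) (inv_mem (hKE hc))

/-- If every `B`-invariant `p'`-subgroup lies in the maximal subgroup `M` containing the `p`-group
`B`, then `M` is the only maximal subgroup over `B`. -/
theorem unique_of_invariant_le (hG : IsMinSimpleOddOrder G) (hpG : p ∣ Nat.card G) {M B : Subgroup G}
    (hM : IsCoatom M) (hBM : B ≤ M) (hBp : IsPGroup p B) (hBne : B ≠ ⊥)
    (hI : ∀ Y : Subgroup G, (Nat.card Y).Coprime p → B ≤ normalizer (Y : Set G) → Y ≤ M) :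
    ∀ L : Subgroup G, IsCoatom L → B ≤ L → L = M := by
  have hp : p ≠ 2 := minSimple_ne_two hG hpG
  have hodd : ∀ H : Subgroup G, Odd (Nat.card H) := fun H =>
    (minSimple_odd hG).of_dvd_nat H.card_subgroup_dvd_card
  have hMs : Group.IsSolvable M := minSimple_solvable hG hM.1
  by_contra hne
  push Not at hne
  -- choose a counterexample with the largest common `p`-subgroup
  obtain ⟨⟨L, R⟩, ⟨hL, hLM, hR, hBR, hRL, hRM⟩, hmax⟩ := Set.Finite.exists_maximalFor
    (fun x : Subgroup G × Subgroup G => Nat.card x.2)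
    {x | IsCoatom x.1 ∧ x.1 ≠ M ∧ IsPGroup p x.2 ∧ B ≤ x.2 ∧ x.2 ≤ x.1 ∧ x.2 ≤ M}
    (Set.toFinite _) (by
      obtain ⟨L, hL, hBL, hLM⟩ := hne
      exact ⟨(L, B), hL, hLM, hBp, le_rfl, hBL, hBM⟩)
  dsimp only at hL hLM hR hBR hRL hRM
  have hmax' : ∀ L' R' : Subgroup G, IsCoatom L' → L' ≠ M → IsPGroup p R' → B ≤ R' → R' ≤ L' →
      R' ≤ M → Nat.card R ≤ Nat.card R' → Nat.card R' ≤ Nat.card R := fun L' R' h1 h2 h3 h4 h5 h6 h7 =>
    hmax (j := (L', R')) ⟨h1, h2, h3, h4, h5, h6⟩ h7
  have hnle : ¬ L ≤ M := fun h => hLM (((hL.le_iff).1 h).resolve_left hM.1).symm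
  have hLs : Group.IsSolvable L := minSimple_solvable hG hL.1
  have hRne : R ≠ ⊥ := fun h => hBne (le_bot_iff.1 (h ▸ hBR))
  have hgrow : ∀ X T : Subgroup G, IsPGroup p T → R < T → IsCoatom X → X ≠ M →
      T ≤ X → T ≤ M → False := fun X T hT hlt hX hXM h1 h2 => by
    have hlt' : Nat.card R < Nat.card T := by
      rcases (card_le_of_le hlt.le).lt_or_eq with h | h
      · exact h
      · exact absurd (eq_of_le_of_card_ge hlt.le h.ge) hlt.ne
    exact absurd (hmax' X T hX hXM hT (hBR.trans hlt.le) h1 h2 hlt'.le) (not_le.2 hlt')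
  set D := (pPrimeCore p L).map L.subtype with hD
  have hDp : (Nat.card D).Coprime p := CfsgLib.Base.coprime_card_map_pPrimeCore L
  have hLD : L ≤ normalizer (D : Set G) := CfsgLib.Base.le_normalizer_map_pPrimeCore L
  have hDM : D ≤ M := hI D hDp ((hBR.trans hRL).trans hLD)
  have hLsplit : ∀ N : Subgroup G, L ≤ D ⊔ (L ⊓ N) → ¬ N ≤ M := fun N h hN =>
    hnle (h.trans (sup_le hDM (inf_le_right.trans hN)))
  have hNR : normalizer (R : Set G) ≠ ⊤ :=
    minSimple_normalizer_ne_top hG hRne (isPGroup_ne_top hG hR)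
  have hZne := puigCenter_ne_bot hR hRne
  have hZle : puigCenter R ≤ R := map_subtype_le _
  have hNZ : normalizer (puigCenter R : Set G) ≠ ⊤ :=
    minSimple_normalizer_ne_top hG hZne (isPGroup_ne_top hG (hR.to_le hZle))
  -- `R` is a Sylow subgroup of `M`
  have hRMmax : ∀ T : Subgroup G, IsPGroup p T → T ≤ M → R ≤ T → T = R := by
    intro T hT hTM hRT
    by_contra hTR
    have hlt : R < T := lt_of_le_of_ne hRT (Ne.symm hTR)
    have hlt2 : R < T ⊓ normalizer (R : Set G) := CfsgLib.Transfer.lt_inf_normalizer hT hlt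
    have hT2 : IsPGroup p ↥(T ⊓ normalizer (R : Set G)) := hT.to_le inf_le_left
    have hNM : normalizer (R : Set G) ≤ M := by
      obtain ⟨X, hX, hNX⟩ := exists_coatom_ge hNR
      by_contra hcon
      exact hgrow X _ hT2 hlt2 hX (fun h => hcon (h ▸ hNX)) (inf_le_right.trans hNX)
        (inf_le_left.trans hTM)
    have hRLmax : ∀ T' : Subgroup G, IsPGroup p T' → T' ≤ L → R ≤ T' → T' = R := by
      intro T' hT' hT'L hRT'
      by_contra hne'
      exact hgrow L _ (hT'.to_le inf_le_left)
        (CfsgLib.Transfer.lt_inf_normalizer hT' (lt_of_le_of_ne hRT' (Ne.symm hne'))) hL hLM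
        (inf_le_left.trans hT'L) (inf_le_right.trans hNM)
    have hnz := hLsplit _ (local_puig_factorization hp (hodd L) hRL hR hRLmax)
    obtain ⟨X, hX, hNX⟩ := exists_coatom_ge hNZ
    exact hgrow X _ hT2 hlt2 hX (fun h => hnz (h ▸ hNX))
      ((inf_le_right.trans (normalizer_le_normalizer_puigCenter R)).trans hNX)
      (inf_le_left.trans hTM)
  set E := (pPrimeCore p M).map M.subtype with hE
  have hinv : ∀ Y : Subgroup G, (Nat.card Y).Coprime p → R ≤ normalizer (Y : Set G) → Y ≤ E :=
    fun Y hY hRY => le_core_of_maximal_invariant hp hRM hR hRMmax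
      (hI Y hY (hBR.trans hRY)) hY hRY
  have hEne : E ≠ ⊥ → normalizer (E : Set G) ≤ M := by
    intro hEne
    have hEtop : E ≠ ⊤ := fun h => hM.1 (top_unique (h ▸ map_subtype_le (pPrimeCore p M)))
    exact (((hM.le_iff).1 (CfsgLib.Base.le_normalizer_map_pPrimeCore M)).resolve_left
      (minSimple_normalizer_ne_top hG hEne hEtop)).le
  have hNRM : normalizer (R : Set G) ≤ M := by
    by_cases hE0 : E = ⊥
    · have hsplit := local_puig_factorization hp (hodd M) hRM hR hRMmax
      rw [← hE, hE0, bot_sup_eq] at hsplit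
      exact (normalizer_le_normalizer_puigCenter R).trans
        (((hM.le_iff).1 (hsplit.trans inf_le_right)).resolve_left hNZ).le
    · refine le_trans ?_ (hEne hE0)
      intro g hg
      rw [mem_normalizer_iff_map_conj_eq]
      have hle : E.map (MulAut.conj g : G →* G) ≤ E := by
        refine hinv _ ?_ ?_
        · rw [card_map_of_injective (MulAut.conj g).injective]
          exact CfsgLib.Base.coprime_card_map_pPrimeCore M
        · have h := map_mono (f := (MulAut.conj g : G →* G))
            (hRM.trans (CfsgLib.Base.le_normalizer_map_pPrimeCore (p := p) M))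
          rw [mem_normalizer_iff_map_conj_eq.1 hg] at h
          exact h.trans (le_normalizer_map _)
      exact eq_of_le_of_card_ge hle (card_map_of_injective (MulAut.conj g).injective).ge
  -- hence of `G` and of `L`
  have hRGmax : ∀ T : Subgroup G, IsPGroup p T → R ≤ T → T = R := by
    intro T hT hRT
    by_contra hne'
    have hlt := CfsgLib.Transfer.lt_inf_normalizer hT (lt_of_le_of_ne hRT (Ne.symm hne'))
    exact hlt.ne (hRMmax _ (hT.to_le inf_le_left) (inf_le_right.trans hNRM) hlt.le).symm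
  have hRLmax : ∀ T : Subgroup G, IsPGroup p T → T ≤ L → R ≤ T → T = R :=
    fun T hT _ hRT => hRGmax T hT hRT
  by_cases hE0 : E = ⊥
  · have hsplit := local_puig_factorization hp (hodd M) hRM hR hRMmax
    rw [← hE, hE0, bot_sup_eq] at hsplit
    exact hLsplit _ (local_puig_factorization hp (hodd L) hRL hR hRLmax)
      (((hM.le_iff).1 (hsplit.trans inf_le_right)).resolve_left hNZ).le
  set T := R ⊓ (pPrimePCore p L).map L.subtype with hT
  refine hnle ((local_frattini hRL hR hRLmax).trans (sup_le hDM ?_))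
  by_cases hr : PRankLE p 2 R
  · -- then `R ≤ O_{p',p}(L)`
    have hrL : PRankLE p 2 L := by
      let S : Sylow p L :=
        { toSubgroup := R.subgroupOf L
          isPGroup' := hR.comap_of_injective _ L.subtype_injective
          is_maximal' := fun {T} hT hle => by
            have h := hRLmax (T.map L.subtype) (hT.map _) (map_subtype_le T)
              (by rw [← map_subgroupOf_eq_of_le hRL]; exact map_mono hle)
            rw [← h]
            exact (comap_map_eq_self_of_injective L.subtype_injective T).symm }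
      exact (CfsgLib.Base.pRankLE_iff_sylow S).2 ((CfsgLib.Base.pRankLE_iff_of_le hRL).2 hr)
    have hidx := pPrimePCore_index (smallRank_core (hodd L) hp hrL).1
    have : (pPrimePCore p L).Normal := CfsgLib.PLocal.pPrimePCore_normal p L
    have hRle : R ≤ (pPrimePCore p L).map L.subtype := by
      intro x hx
      refine ⟨⟨x, hRL hx⟩, ?_, rfl⟩
      obtain ⟨i, hi⟩ := IsPGroup.iff_orderOf.mp hR ⟨x, hx⟩
      rw [orderOf_mk] at hi
      rw [SetLike.mem_coe, ← QuotientGroup.eq_one_iff, ← orderOf_eq_one_iff]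
      refine Nat.eq_one_of_dvd_coprimes (hidx.pow_right i) (orderOf_dvd_natCard _) ?_
      rw [← hi, ← orderOf_mk (a := x) (ha := hRL hx)]
      exact orderOf_map_dvd (QuotientGroup.mk' (pPrimePCore p L)) _
    rw [inf_eq_left.2 hRle]
    exact inf_le_right.trans hNRM
  · refine le_trans ?_ (hEne hE0)
    let P : Sylow p G := ⟨R, hR, fun {T} hT' hle => hRGmax T hT' hle⟩
    obtain ⟨A, hA, hA3⟩ := exists_isSCN_three hp hR hr
    have hAT : A ≤ T := le_inf hA.1 (le_pPrimePCore_of_abelian_normal hp (hodd L) hRL hR hRLmax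
      hA.1 (scn_comm hA) hA.2.1)
    intro g hg
    rw [mem_normalizer_iff_map_conj_eq]
    have hle : E.map (MulAut.conj g : G →* G) ≤ E := by
      refine scn_invariant_le hG hpG P hA hA3 hinv ?_ ?_
      · rw [card_map_of_injective (MulAut.conj g).injective]
        exact CfsgLib.Base.coprime_card_map_pPrimeCore M
      · have h := map_mono (f := (MulAut.conj g : G →* G))
          ((inf_le_left : T ≤ R).trans (hRM.trans (CfsgLib.Base.le_normalizer_map_pPrimeCore (p := p) M)))
        rw [mem_normalizer_iff_map_conj_eq.1 hg.2] at h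
        exact hAT.trans (h.trans (le_normalizer_map _))
    exact eq_of_le_of_card_ge hle (card_map_of_injective (MulAut.conj g).injective).ge

/-- The form with centralizers. -/
theorem unique_of_centralizer_le (hG : IsMinSimpleOddOrder G) (hpG : p ∣ Nat.card G)
    {M B : Subgroup G} (hM : IsCoatom M) (hBM : B ≤ M) (hBp : IsPGroup p B)
    (hBc : IsMulCommutative B) (hBnc : ¬ IsCyclic B)
    (h : ∀ b ∈ B, b ≠ 1 → centralizer ({b} : Set G) ≤ M) :
    ∀ L : Subgroup G, IsCoatom L → B ≤ L → L = M := by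
  refine unique_of_invariant_le hG hpG hM hBM hBp (fun h0 => hBnc (h0 ▸ inferInstance)) fun Y hY hBY => ?_
  obtain ⟨k, hk⟩ := IsPGroup.iff_card.mp hBp
  exact CfsgLib.Coprime.le_of_centralizer_le_of_not_isCyclic hBnc hBY (hk ▸ hY.symm.pow_left k)
    fun b hb hb1 => inf_le_right.trans (h b hb hb1)

end CfsgLib.OddOrder
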