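import Cfsg.Agent.Lib.OddOrder.FittingUnique
import Cfsg.Agent.Lib.OddOrder.FittingTransitivity
import Cfsg.Agent.Lib.OddOrder.UniqueCriterion

/-!
Uniqueness subgroups inside the Fitting subgroup of a maximal subgroup (rank at least three).
-/

set_option autoImplicit false
set_option linter.unusedSectionVars false

open scoped commutatorElement

namespace CfsgLib.OddOrder

open Cfsg
open Subgroup

variable {G : Type*} [Group G] [Finite G]

theorem eq_bot_of_normalized (hG : IsMinSimpleOddOrder G) {M Q : Subgroup G} (hM : IsCoatom M)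
    {q : ℕ} [Fact q.Prime] (hQ : IsPGroup q Q) (hq : ¬ q ∣ Nat.card (fittingOf M))
    (hMQ : M ≤ normalizer (Q : Set G)) : Q = ⊥ := by
  by_contra hne
  have h := ((hM.le_iff).1 hMQ).resolve_left
    (minSimple_normalizer_ne_top hG hne (isPGroup_ne_top hG hQ))
  have hQM : Q ≤ M := le_normalizer.trans h.le
  have h0 : opOf q M = ⊥ := by
    by_contra h1
    exact hq (dvd_card_fittingOf h1)
  exact hne (le_bot_iff.1 (h0 ▸ le_opOf hQM hMQ hQ))

/-- Conjugates of the largest invariant subgroup. -/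
theorem map_conj_eq_of_largest {A Q : Subgroup G} {q : ℕ} [Fact q.Prime]
    (hQ : IsPGroup q Q)
    (huniq : ∀ Q' : Subgroup G, IsPGroup q Q' → A ≤ normalizer (Q' : Set G) → Q' ≤ Q) {g : G}
    (hg : A ≤ normalizer (Q.map (MulAut.conj g).toMonoidHom : Set G)) :
    g ∈ normalizer (Q : Set G) := by
  rw [mem_normalizer_iff_map_conj_eq]
  exact eq_of_le_of_card_ge (huniq _ (hQ.map _) hg)
    (card_map_of_injective (MulAut.conj g).injective).ge

/-- With trivial `O_{π'}(C(A))`, transitivity gives one largest invariant `q`-subgroup. -/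
theorem exists_largest_invariant (hG : IsMinSimpleOddOrder G) {A : Subgroup G}
    (hTH : TransitivityHypothesis A) (hZ : ¬ RankLE 2 ↥(A ⊓ centralizer (A : Set G)))
    (hK : piCoreOf (primesNotDvd (Nat.card A)) (centralizer (A : Set G)) = ⊥) {q : ℕ}
    [Fact q.Prime] (hqA : ¬ q ∣ Nat.card A) :
    ∃ Q : Subgroup G, IsPGroup q Q ∧ A ≤ normalizer (Q : Set G) ∧
      ∀ Q' : Subgroup G, IsPGroup q Q' → A ≤ normalizer (Q' : Set G) → Q' ≤ Q := by
  obtain ⟨Q, hQ, -⟩ := exists_maxInvSubgroups_ge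
    (mem_invSubgroups_singleton_iff.mpr ⟨le_top, IsPGroup.of_bot, le_normalizer_of_normal⟩ :
      (⊥ : Subgroup G) ∈ invSubgroups ⊤ A {q})
  obtain ⟨-, h1, h2⟩ := mem_invSubgroups_singleton_iff.mp hQ.1
  refine ⟨Q, h1, h2, fun Q' hQ' hAQ' => ?_⟩
  obtain ⟨Q'', hQ'', hle⟩ := exists_maxInvSubgroups_ge
    (mem_invSubgroups_singleton_iff.mpr ⟨le_top, hQ', hAQ'⟩ : Q' ∈ invSubgroups ⊤ A {q})
  obtain ⟨k, hk, heq⟩ := th_transitive_rank_three hG hTH hZ hqA hQ'' hQ
  rw [hK, mem_bot] at hk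
  subst hk
  rw [map_one, one_smul] at heq
  exact heq ▸ hle

theorem isLocalSubgroup_maximal (hG : IsMinSimpleOddOrder G) {M : Subgroup G} (hM : IsCoatom M) :
    ∀ L : Subgroup G, IsLocalSubgroup L → M ≤ L → L = M := by
  rintro L ⟨p, T, hp, hT, hne, rfl⟩ hle
  have : Fact p.Prime := ⟨hp⟩
  exact ((hM.le_iff).1 hle).resolve_left (minSimple_normalizer_ne_top hG hne (isPGroup_ne_top hG hT))

/-- The case of a Fitting subgroup that is not a `p`-group. -/
theorem inUniqueMaximal_fitting_centralizer (hG : IsMinSimpleOddOrder G) {M : Subgroup G}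
    (hM : IsCoatom M) {p : ℕ} [Fact p.Prime] {A₀ : Subgroup G} (hA₀ : A₀ ≤ fittingOf M)
    (hA₀e : IsElementaryAbelian p A₀) (hA₀3 : p ^ 3 ≤ Nat.card A₀)
    (hnp : ¬ IsPGroup p (fittingOf M)) :
    InUniqueMaximal (fittingOf M ⊓ centralizer (A₀ : Set G)) := by
  set F := fittingOf M with hF
  set X := F ⊓ centralizer (A₀ : Set G) with hX
  have hp : p.Prime := Fact.out
  have hA₀X : A₀ ≤ X := le_inf hA₀ (le_centralizer_iff_isMulCommutative.2 hA₀e.1)
  have hA₀Z : A₀ ≤ X ⊓ centralizer (X : Set G) :=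
    le_inf hA₀X (le_centralizer_iff.1 inf_le_right)
  have hCX : F ⊓ centralizer (X : Set G) ≤ X := inf_le_inf_left _ (centralizer_le hA₀X)
  have hXF : X ≤ F := inf_le_left
  have hZX : F ⊓ centralizer (F : Set G) ≤ X := (inf_le_inf_left _ (centralizer_le hXF)).trans hCX
  have hMs : Group.IsSolvable M := minSimple_solvable hG hM.1
  have hXM : X ≤ M := hXF.trans (fittingOf_le' M)
  have hcard1 : p < Nat.card A₀ := lt_of_lt_of_le
    (by simpa using Nat.pow_lt_pow_right hp.one_lt (show 1 < 3 by omega)) hA₀3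
  have hpF : p ∣ Nat.card F := by
    obtain ⟨n, hn⟩ := CfsgLib.Base.exists_card_eq_pow_of_isElementaryAbelian hA₀e
    rcases n with _ | n
    · rw [hn, pow_zero] at hcard1
      exact absurd hcard1 (not_lt.2 hp.one_lt.le)
    · exact (dvd_pow_self p n.succ_ne_zero).trans (hn ▸ card_dvd_of_le hA₀)
  have hF2 : 2 ≤ (Nat.card F).primeFactors.card := by
    by_contra hlt
    refine hnp (IsPGroup.of_card (n := (Nat.card F).factorization p) ?_)
    have hmem : p ∈ (Nat.card F).primeFactors :=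
      Nat.mem_primeFactors.2 ⟨hp, hpF, Nat.card_pos.ne'⟩
    have heq : (Nat.card F).primeFactors = {p} :=
      Finset.eq_singleton_iff_unique_mem.2 ⟨hmem, fun r hr =>
        Finset.card_le_one.1 (by omega) r hr p hmem⟩
    conv_lhs => rw [← Nat.prod_factorization_pow_eq_self (Nat.card_pos (α := F)).ne']
    rw [Finsupp.prod, Nat.support_factorization, heq, Finset.prod_singleton]
  have hdvd : ∀ r : ℕ, r.Prime → (r ∣ Nat.card X ↔ r ∣ Nat.card F) := by
    intro r hr
    have : Fact r.Prime := ⟨hr⟩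
    refine ⟨fun h => h.trans (card_dvd_of_le hXF), fun h => ?_⟩
    obtain ⟨n, hn⟩ := IsPGroup.iff_card.mp ((isPGroup_opOf r M).to_le (inf_le_left : centerOp r M ≤ _))
    rcases n with _ | n
    · exact absurd (card_eq_one.1 (hn.trans (pow_zero r))) (centerOp_ne_bot h)
    · exact (dvd_pow_self r n.succ_ne_zero).trans
        (hn ▸ card_dvd_of_le ((centerOp_le_centralizer_fittingOf r M).trans hZX))
  have hπ : primesNotDvd (Nat.card X) = primesNotDvd (Nat.card F) := by
    ext r
    simp only [primesNotDvd, Set.mem_ofPred_eq]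
    exact and_congr_right fun hr => not_congr (hdvd r hr)
  have hloc := isLocalSubgroup_maximal hG hM
  have hCF : M ⊓ centralizer (F : Set G) ≤ X :=
    (le_inf inf_centralizer_fittingOf_le inf_le_right).trans hZX
  have hXne : X ≠ ⊥ := fun h => by
    have hle := card_le_of_le hA₀X
    rw [h, card_bot] at hle
    exact absurd (hcard1.trans_le hle) (not_lt.2 hp.one_lt.le)
  have hXtop : X ≠ ⊤ := fun h => hM.1 (top_unique (h ▸ hXM))
  have hcov : ∀ {R Y : Subgroup G}, Group.IsSolvable R → Y ≤ R → (Nat.card X).Coprime (Nat.card Y) →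
      X ≤ normalizer (Y : Set G) → X ≤ normalizer (R : Set G) →
      Y ≤ piCoreOf (primesNotDvd (Nat.card F)) R := by
    intro R Y hR hYR hcop hXY hXR
    refine le_of_invariant_sylows hXY hcop
      (Or.inr (Group.isSolvable_of_isSolvable_injective (inclusion_injective hYR)))
      fun r hr hrY Q hQY hQ hXQ => ?_
    have : Fact r.Prime := ⟨hr⟩
    refine inv_le_piCoreOf hloc hF2 hXF hCX hR hXR (hCF.trans hXR) ?_ (hQY.trans hYR) hQ hXQ
    exact fun h => hr.ne_one (Nat.eq_one_of_dvd_coprimes hcop ((hdvd r hr).2 h) hrY)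
  have hTH : TransitivityHypothesis X := by
    refine ⟨hXne, hXtop, fun R hR hXR => le_antisymm (sSup_le ?_) (le_sSup ?_)⟩
    · rintro Y ⟨hYR, hYπ, hXY⟩
      rw [hπ]
      exact hcov (minSimple_solvable hG hR) hYR (coprime_primesNotDvd hYπ) hXY
        (hXR.trans le_normalizer)
    · exact ⟨piCoreOf_le _ R, piCoreOf_primes _ R, hXR.trans (le_normalizer_piCoreOf _ R)⟩
  have hK : piCoreOf (primesNotDvd (Nat.card X)) (centralizer (X : Set G)) = ⊥ := by
    set K := piCoreOf (primesNotDvd (Nat.card X)) (centralizer (X : Set G)) with hKdef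
    have hKC : K ≤ centralizer (X : Set G) := piCoreOf_le _ _
    have hXK : X ≤ normalizer (K : Set G) :=
      (le_centralizer_iff.1 hKC).trans (centralizer_le_normalizer _)
    have hKM : K ≤ M := by
      obtain ⟨r, hr⟩ := Finset.card_pos.mp (show 0 < (Nat.card F).primeFactors.card by omega)
      have : Fact r.Prime := ⟨Nat.prime_of_mem_primeFactors hr⟩
      exact hKC.trans ((centralizer_le ((centerOp_le_centralizer_fittingOf r M).trans hZX)).trans
        (centralizer_centerOp_le hG hM (Nat.dvd_of_mem_primeFactors hr)))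
    refine inv_eq_bot_of_le hXF hCX (minSimple_solvable hG fun h => hM.1 (top_unique (h ▸ hKM)))
      (hCF.trans hXK) le_rfl hKM hXK ?_
    refine Nat.Coprime.symm (coprime_primesNotDvd fun r hr hd => ?_)
    rw [← hπ]
    exact piCoreOf_primes _ _ r hr hd
  have hZr : ¬ RankLE 2 ↥(X ⊓ centralizer (X : Set G)) := fun h =>
    absurd (CfsgLib.Base.pRankLE_subgroup_iff.1 (h p hp) A₀ hA₀Z hA₀e)
      (not_le.2 ((Nat.pow_lt_pow_right hp.one_lt (show 2 < 3 by omega)).trans_le hA₀3))
  -- every invariant `π'`-subgroup is trivial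
  have hinv : ∀ Y ∈ invSubgroups ⊤ X (primesNotDvd (Nat.card F)), Y = ⊥ := by
    rintro Y ⟨-, hY, hXY⟩
    refine le_bot_iff.1 (le_of_invariant_sylows hXY
      ((coprime_primesNotDvd hY).coprime_dvd_left (card_dvd_of_le hXF))
      (Or.inl (minSimple_solvable hG hXtop)) fun r hr hrY Q _ hQ hXQ => ?_)
    have : Fact r.Prime := ⟨hr⟩
    have hrF : ¬ r ∣ Nat.card F := (hY r hr hrY).2
    obtain ⟨Q₀, hQ₀, hXQ₀, hlarge⟩ :=
      exists_largest_invariant hG hTH hZr hK (fun h => hrF ((hdvd r hr).1 h))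
    have hstep : ∀ g : G, (∀ x ∈ X, g⁻¹ * x * g ∈ normalizer (Q₀ : Set G)) →
        g ∈ normalizer (Q₀ : Set G) := fun g hg =>
      map_conj_eq_of_largest hQ₀ hlarge fun x hx => by
        refine le_normalizer_map (MulAut.conj g).toMonoidHom ⟨g⁻¹ * x * g, hg x hx, ?_⟩
        simp [mul_assoc]
    obtain ⟨T, hle, hT⟩ := Set.Finite.exists_le_maximal
      (s := {T : Subgroup G | X ≤ T ∧ T ≤ F ∧ T ≤ normalizer (Q₀ : Set G)}) (Set.toFinite _)
      (a := X) ⟨le_rfl, hXF, hXQ₀⟩
    have hFQ : F ≤ normalizer (Q₀ : Set G) := by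
      by_contra hcon
      have hlt : T < F := lt_of_le_of_ne hT.1.2.1 fun h => hcon (h ▸ hT.1.2.2)
      have hlt' := lt_inf_normalizer_of_isNilpotent (isNilpotent_fittingOf M) hlt
      exact hlt'.not_ge (hT.2 ⟨hT.1.1.trans hlt'.le, inf_le_left, fun g hg =>
        hstep g fun x hx => hT.1.2.2 ((mem_normalizer_iff''.1 hg.2 x).1 (hT.1.1 hx))⟩ hlt'.le)
    have hMQ : M ≤ normalizer (Q₀ : Set G) := fun g hg =>
      hstep g fun x hx => hFQ ((mem_normalizer_iff''.1 (le_normalizer_fittingOf M hg) x).1 (hXF hx))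
    exact (eq_bot_of_normalized hG hM hQ₀ hrF hMQ) ▸ hlarge Q hQ hXQ
  exact inUniqueMaximal_iff.2 ⟨M, hM, hXM, fun L hL hXL =>
    eq_of_center_fittingOf_le hG hM hF2 hXF hZX hinv hL hXL⟩

/-- The case of a Fitting subgroup that is a `p`-group. -/
theorem scn_of_fitting_pGroup (hG : IsMinSimpleOddOrder G) {M : Subgroup G} (hM : IsCoatom M)
    {p : ℕ} [Fact p.Prime] (hp : p ∣ Nat.card (fittingOf M)) (hFp : IsPGroup p (fittingOf M))
    (P : Sylow p M) :
    ¬ p ∣ ((P : Subgroup M).map M.subtype).index ∧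
      ∀ A : Subgroup G, IsSCN ((P : Subgroup M).map M.subtype) A → ¬ PRankLE p 2 A →
        A ≤ fittingOf M ∧ InUniqueMaximal A := by
  have hpp : p.Prime := Fact.out
  have hpG : p ∣ Nat.card G := hp.trans (card_subgroup_dvd_card _)
  have hp2 : p ≠ 2 := minSimple_ne_two hG hpG
  have hMs : Group.IsSolvable M := minSimple_solvable hG hM.1
  have hodd : Odd (Nat.card M) := (minSimple_odd hG).of_dvd_nat M.card_subgroup_dvd_card
  set F := fittingOf M with hF
  set R := (P : Subgroup M).map M.subtype with hR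
  have hRM : R ≤ M := map_subtype_le _
  have hRp : IsPGroup p R := P.isPGroup'.map _
  have hRmax : ∀ T : Subgroup G, IsPGroup p T → T ≤ M → R ≤ T → T = R := by
    intro T hT hTM hRT
    have h1 := P.is_maximal' (hT.comap_of_injective _ M.subtype_injective)
      (fun x hx => hRT (mem_map_of_mem _ hx))
    rw [← map_subgroupOf_eq_of_le hTM]
    exact congrArg (Subgroup.map M.subtype) h1
  have hFR : F ≤ R := by
    refine le_trans ?_ (map_mono (f := M.subtype) (CfsgLib.Base.pCore_le_sylow P))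
    exact le_opOf_of_le_fittingOf hFp le_rfl
  set O := (pPrimeCore p M).map M.subtype with hO
  have hOn : M ≤ normalizer (O : Set G) := CfsgLib.Base.le_normalizer_map_pPrimeCore M
  have hOcop : (Nat.card O).Coprime p := CfsgLib.Base.coprime_card_map_pPrimeCore M
  obtain ⟨k, hk⟩ := IsPGroup.iff_card.mp hFp
  have hOF : O ⊓ F = ⊥ := CfsgLib.Coprime.inf_eq_bot_of_coprime (hk ▸ hOcop.pow_right k)
  have hO0 : O = ⊥ := by
    have hOC : O ≤ centralizer (F : Set G) := by
      rw [← commutator_eq_bot_iff_le_centralizer, eq_bot_iff, ← hOF]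
      refine commutator_le.2 fun a ha b hb => ⟨?_, ?_⟩
      · show ⁅a, b⁆ ∈ O
        rw [commutatorElement_def, mul_assoc, mul_assoc]
        refine Subgroup.mul_mem _ ha ?_
        simpa [mul_assoc] using (mem_normalizer_iff.1 (hOn (fittingOf_le' M hb)) _).1
          (Subgroup.inv_mem _ ha)
      · show ⁅a, b⁆ ∈ F
        rw [commutatorElement_def]
        exact Subgroup.mul_mem _ ((mem_normalizer_iff.1
          (le_normalizer_fittingOf M (map_subtype_le _ ha)) _).1 hb) (Subgroup.inv_mem _ hb)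
    exact le_bot_iff.1 (hOF ▸ le_inf le_rfl
      ((le_inf (map_subtype_le _) hOC).trans inf_centralizer_fittingOf_le))
  have hRne : R ≠ ⊥ := fun h => by
    have h1 := hp.trans (card_dvd_of_le hFR)
    rw [h, card_bot] at h1
    exact hpp.one_lt.ne' (Nat.dvd_one.1 h1)
  have hsplit := local_puig_factorization hp2 hodd hRM hRp hRmax
  rw [← hO, hO0, bot_sup_eq] at hsplit
  have hNZ : normalizer (puigCenter R : Set G) ≠ ⊤ :=
    minSimple_normalizer_ne_top hG (puigCenter_ne_bot hRp hRne)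
      (isPGroup_ne_top hG (hRp.to_le (map_subtype_le _)))
  have hNRM : normalizer (R : Set G) ≤ M := (normalizer_le_normalizer_puigCenter R).trans
    (((hM.le_iff).1 (hsplit.trans inf_le_right)).resolve_left hNZ).le
  have hRG : ∀ T : Subgroup G, IsPGroup p T → R ≤ T → T = R := by
    intro T hT hRT
    by_contra hne
    have hlt := CfsgLib.Transfer.lt_inf_normalizer hT (lt_of_le_of_ne hRT (Ne.symm hne))
    exact hlt.ne (hRMmax_symm hRmax hT hNRM hlt)
  let S : Sylow p G := ⟨R, hRp, fun {T} hT hle => hRG T hT hle⟩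
  refine ⟨S.not_dvd_index, fun A hA hA3 => ?_⟩
  have hAp : IsPGroup p A := hRp.to_le hA.1
  have hAc := scn_comm hA
  have hAF : A ≤ F := by
    have h1 := le_pPrimePCore_of_abelian_normal hp2 hodd hRM hRp hRmax hA.1 hAc hA.2.1
    refine h1.trans (le_trans (map_mono ?_) (opOf_le_fittingOf p M))
    have : (pPrimePCore p M).Normal := CfsgLib.PLocal.pPrimePCore_normal p M
    refine CfsgLib.Base.le_pCore (IsPGroup.iff_card.mpr ?_)
    obtain ⟨j, hj⟩ := IsPGroup.iff_card.mp (CfsgLib.Base.isPGroup_pCore p (M ⧸ pPrimeCore p M))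
    refine ⟨j, ?_⟩
    have h0 : pPrimeCore p M = ⊥ :=
      ((Subgroup.map_eq_bot_iff_of_injective _ M.subtype_injective).1 hO0)
    rw [pPrimePCore, CfsgLib.Base.card_comap_mk', hj, h0, card_bot, one_mul]
  refine ⟨hAF, ?_⟩
  have hCA : F ⊓ centralizer (A : Set G) ≤ A := (inf_le_inf_right _ hFR).trans hA.2.2.le
  have hCM : centralizer (A : Set G) ≤ M :=
    (centralizer_le ((centerOp_le_centralizer_fittingOf p M).trans
      ((inf_le_inf_left _ (centralizer_le hAF)).trans hCA))).trans (centralizer_centerOp_le hG hM hp)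
  have hA1 : ¬ PRankLE p 1 A := fun h => hA3 (CfsgLib.Base.pRankLE_mono hpp.pos one_le_two h)
  have hTH : TransitivityHypothesis A :=
    Cfsg.Agent.S1396.result hG p hpG A hAp hAc (Or.inr ⟨S, hA, hA1⟩)
  have hAne : A ≠ ⊥ := hTH.1
  have hπ := isMulCommutative_card hAp hAne
  have hK : piCoreOf (primesNotDvd (Nat.card A)) (centralizer (A : Set G)) = ⊥ := by
    set K := piCoreOf (primesNotDvd (Nat.card A)) (centralizer (A : Set G)) with hKdef
    have hKC : K ≤ centralizer (A : Set G) := piCoreOf_le _ _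
    have hKp : (Nat.card K).Coprime p := by
      refine Nat.Coprime.symm (coprime_primesNotDvd fun r hr hd => ?_)
      rw [← hπ]
      exact piCoreOf_primes _ _ r hr hd
    have hKF := le_centralizer_of_self_centralizing (isNilpotent_fittingOf M)
      ((hKC.trans hCM).trans (le_normalizer_fittingOf M)) (hk ▸ hKp.pow_right k) hAF hCA hKC
    refine le_bot_iff.1 ((CfsgLib.Coprime.inf_eq_bot_of_coprime (H := K) (K := F)
      (hk ▸ hKp.pow_right k)) ▸ le_inf le_rfl
        ((le_inf (hKC.trans hCM) hKF).trans inf_centralizer_fittingOf_le))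
  refine inUniqueMaximal_iff.2 ⟨M, hM, hAF.trans (fittingOf_le' M),
    unique_of_invariant_le hG hpG hM (hAF.trans (fittingOf_le' M)) hAp hAne fun Y hY hAY => ?_⟩
  obtain ⟨j, hj⟩ := IsPGroup.iff_card.mp hAp
  refine le_of_invariant_sylows hAY (hj ▸ hY.symm.pow_left j)
    (Or.inl (minSimple_solvable hG hTH.2.1)) fun r hr hrY Q _ hQ hAQ => ?_
  have : Fact r.Prime := ⟨hr⟩
  have hrp : r ≠ p := fun h => hr.ne_one (Nat.eq_one_of_dvd_coprimes hY hrY (h ▸ dvd_rfl))
  have hrA : ¬ r ∣ Nat.card A := fun h => hrp ((Nat.prime_dvd_prime_iff_eq hr hpp).1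
    (hr.dvd_of_dvd_pow (hj ▸ h)))
  have hrF : ¬ r ∣ Nat.card F := fun h => hrp ((Nat.prime_dvd_prime_iff_eq hr hpp).1
    (hr.dvd_of_dvd_pow (hk ▸ h)))
  obtain ⟨Q₀, hQ₀, hAQ₀, hlarge⟩ :=
    exists_largest_invariant hG hTH (not_rankLE_two_center hAc hA3) hK hrA
  have hstep : ∀ g : G, (∀ x ∈ A, g⁻¹ * x * g ∈ normalizer (Q₀ : Set G)) →
      g ∈ normalizer (Q₀ : Set G) := fun g hg =>
    map_conj_eq_of_largest hQ₀ hlarge fun x hx => by
      refine le_normalizer_map (MulAut.conj g).toMonoidHom ⟨g⁻¹ * x * g, hg x hx, ?_⟩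
      simp [mul_assoc]
  have hRQ : R ≤ normalizer (Q₀ : Set G) := fun g hg =>
    hstep g fun x hx => hAQ₀ ((mem_normalizer_iff''.1 (hA.2.1 hg) x).1 hx)
  have hMQ : M ≤ normalizer (Q₀ : Set G) := fun g hg =>
    hstep g fun x hx => hRQ (hFR ((mem_normalizer_iff''.1 (le_normalizer_fittingOf M hg) x).1 (hAF hx)))
  exact (hlarge Q hQ hAQ).trans ((eq_bot_of_normalized hG hM hQ₀ hrF hMQ).le.trans bot_le)
where
  hRMmax_symm {R M T : Subgroup G} {p : ℕ}
      (h : ∀ U : Subgroup G, IsPGroup p U → U ≤ M → R ≤ U → U = R) (hT : IsPGroup p T)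
      (hN : normalizer (R : Set G) ≤ M) (hlt : R < T ⊓ normalizer (R : Set G)) :
      R = T ⊓ normalizer (R : Set G) :=
    (h _ (hT.to_le inf_le_left) (inf_le_right.trans hN) hlt.le).symm

end CfsgLib.OddOrder
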