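import Cfsg.Agent.Lib.OddOrder.FittingLocal
import Cfsg.Agent.Lib.OddOrder.UniqueBasics
import Cfsg.Agent.Lib.OddOrder.PStableCriterion
import Cfsg.Agent.Lib.OddOrder.RankTwoFitting

/-!
Two maximal subgroups sharing the centre of the Fitting subgroup of one of them (Bender's method).
-/

set_option autoImplicit false
set_option linter.unusedSectionVars false

open scoped commutatorElement

namespace CfsgLib.OddOrder

open Cfsg
open Subgroup

variable {G : Type*} [Group G] [Finite G]

/-- A group in which each element of order prime to `s` is central is nilpotent. -/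
theorem isNilpotent_of_prime_part_central {E : Type*} [Group E] [Finite E] {s : ℕ} [Fact s.Prime]
    (h : ∀ e : E, (orderOf e).Coprime s → e ∈ center E) : Group.IsNilpotent E := by
  have hall : ∀ (r : ℕ) [Fact r.Prime], r ≠ s → ∀ P : Sylow r E, (P : Subgroup E) ≤ center E := by
    intro r _ hr P x hx
    refine h x ?_
    obtain ⟨k, hk⟩ := IsPGroup.iff_orderOf.mp P.isPGroup' ⟨x, hx⟩
    rw [orderOf_mk] at hk
    rw [hk]
    exact ((Nat.coprime_primes Fact.out Fact.out).2 hr).pow_left k
  refine (Group.isNilpotent_of_finite_tfae.out 0 3).2 fun r hr P => ?_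
  by_cases hrs : r = s
  · subst hrs
    refine normalizer_eq_top_iff.1 (top_unique ?_)
    rw [← CfsgLib.Base.iSup_sylow_eq_top (G := E) fun q => if hq : (q : ℕ) = r then
      (hq ▸ P) else Classical.arbitrary _]
    refine iSup_le fun q => ?_
    have : Fact (q : ℕ).Prime := ⟨q.2⟩
    by_cases hq : (q : ℕ) = r
    · obtain ⟨q, hq'⟩ := q
      simp only at hq
      subst hq
      rw [dif_pos rfl]
      exact le_normalizer
    · exact (hall (q : ℕ) hq _).trans
        (fun x hx => mem_normalizer_iff.2 fun y => by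
          rw [← mem_center_iff.1 hx y, mul_inv_cancel_right])
  · exact ⟨fun x hx g => by rwa [mem_center_iff.1 (@hall r hr hrs P x hx) g, mul_inv_cancel_right]⟩

/-- The centralizer of a nontrivial normal subgroup of a maximal subgroup lies in it. -/
theorem centralizer_le_of_normal_coatom (hG : IsMinSimpleOddOrder G) {H Z : Subgroup G}
    (hH : IsCoatom H) (hZH : Z ≤ H) (hn : H ≤ normalizer (Z : Set G)) (hZ : Z ≠ ⊥) :
    normalizer (Z : Set G) = H ∧ centralizer (Z : Set G) ≤ H := by
  have hne : normalizer (Z : Set G) ≠ ⊤ :=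
    minSimple_normalizer_ne_top hG hZ fun h => hH.1 (top_unique (h ▸ hZH))
  have heq := ((hH.le_iff).1 hn).resolve_left hne
  exact ⟨heq, heq ▸ centralizer_le_normalizer _⟩

theorem centralizer_centerOp_le (hG : IsMinSimpleOddOrder G) {H : Subgroup G} (hH : IsCoatom H)
    {t : ℕ} [Fact t.Prime] (ht : t ∣ Nat.card (fittingOf H)) :
    centralizer (centerOp t H : Set G) ≤ H :=
  (centralizer_le_of_normal_coatom hG hH (inf_le_left.trans (opOf_le t H))
    (le_normalizer_centerOp t H) (centerOp_ne_bot ht)).2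

/-- The centre of `O_s(H)` centralizes `O_t(L)`. -/
theorem centerOp_le_centralizer_opOf (hG : IsMinSimpleOddOrder G) {H : Subgroup G} (hH : IsCoatom H)
    {s t : ℕ} [Fact s.Prime] [Fact t.Prime] (hst : s ≠ t) (ht : t ∣ Nat.card (fittingOf H))
    {L : Subgroup G} (hsL : centerOp s H ≤ L) (htL : centerOp t H ≤ L) :
    centerOp s H ≤ centralizer (opOf t L : Set G) := by
  obtain ⟨n, hn⟩ := IsPGroup.iff_card.mp ((isPGroup_opOf s H).to_le (inf_le_left : centerOp s H ≤ _))
  refine CfsgLib.Coprime.pq_lemma ((isPGroup_opOf t H).to_le inf_le_left)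
    (hn ▸ ((Nat.coprime_primes Fact.out Fact.out).2 hst).pow_left n) (isPGroup_opOf t L)
    (inf_le_left.trans ((opOf_le_centralizer hst H).trans (centralizer_le inf_le_left)))
    (htL.trans (le_normalizer_opOf t L)) (hsL.trans (le_normalizer_opOf t L)) ?_
  rintro u ⟨hu, huC⟩
  have huH : u ∈ H := centralizer_centerOp_le hG hH ht huC
  rw [mem_centralizer_iff]
  intro z hz
  have h1 : ⁅u, z⁆ ∈ centerOp s H := by
    rw [commutatorElement_def]
    exact Subgroup.mul_mem _
      ((mem_normalizer_iff.1 (le_normalizer_centerOp s H huH) _).1 hz) (Subgroup.inv_mem _ hz)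
  have h2 : ⁅u, z⁆ ∈ opOf t L := by
    rw [commutatorElement_def, mul_assoc, mul_assoc]
    refine Subgroup.mul_mem _ hu ?_
    simpa [mul_assoc] using
      (mem_normalizer_iff.1 (le_normalizer_opOf t L (hsL hz)) _).1 (Subgroup.inv_mem _ hu)
  have h3 : ⁅u, z⁆ = 1 := by
    have hd := disjoint_iff.1 ((isPGroup_opOf s H).disjoint_of_ne s t hst _ _ (isPGroup_opOf t L))
    exact mem_bot.1 (hd ▸ (⟨h1.1, h2⟩ : ⁅u, z⁆ ∈ opOf s H ⊓ opOf t L))
  exact (commutatorElement_eq_one_iff_mul_comm.1 h3).symm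

/-- `O_t(L)` and `O_s(H)` commute if each lies in the other subgroup. -/
theorem opOf_cross_commute {H L : Subgroup G} {s t : ℕ} [Fact s.Prime] [Fact t.Prime] (hst : s ≠ t)
    (hsL : opOf s H ≤ L) (htH : opOf t L ≤ H) : opOf s H ≤ centralizer (opOf t L : Set G) := by
  rw [← commutator_eq_bot_iff_le_centralizer, eq_bot_iff]
  refine le_trans (commutator_le.2 fun a ha b hb => ⟨?_, ?_⟩ :
      ⁅opOf s H, opOf t L⁆ ≤ opOf s H ⊓ opOf t L) ?_
  · show ⁅a, b⁆ ∈ opOf s H
    rw [commutatorElement_def, mul_assoc, mul_assoc]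
    refine Subgroup.mul_mem _ ha ?_
    simpa [mul_assoc] using
      (mem_normalizer_iff.1 (le_normalizer_opOf s H (htH hb)) _).1 (Subgroup.inv_mem _ ha)
  · show ⁅a, b⁆ ∈ opOf t L
    rw [commutatorElement_def]
    exact Subgroup.mul_mem _ ((mem_normalizer_iff.1 (le_normalizer_opOf t L (hsL ha)) _).1 hb)
      (Subgroup.inv_mem _ hb)
  · exact (disjoint_iff.1 ((isPGroup_opOf s H).disjoint_of_ne s t hst _ _ (isPGroup_opOf t L))).le

/-- The centre of `O_s(H)` lies in `O_s(L)` when `F(H) ≤ L` and `F(L) ≤ H`. -/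
theorem centerOp_le_opOf (hG : IsMinSimpleOddOrder G) {H L : Subgroup G} (hL : IsCoatom L)
    (hHL : fittingOf H ≤ L) (hLH : fittingOf L ≤ H) {s : ℕ} [Fact s.Prime]
    (hs : s ∣ Nat.card (fittingOf H)) : centerOp s H ≤ opOf s L := by
  have hs2 : s ≠ 2 := minSimple_ne_two hG (hs.trans (card_subgroup_dvd_card _))
  have hLs : Group.IsSolvable L := minSimple_solvable hG hL.1
  have hodd : Odd (Nat.card L) := (minSimple_odd hG).of_dvd_nat L.card_subgroup_dvd_card
  intro z hz
  have hzL : z ∈ L := hHL (opOf_le_fittingOf s H hz.1)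
  set z' : L := ⟨z, hzL⟩ with hz'
  set P := pCore s L with hP
  have hTH : opOf s L ≤ H := (opOf_le_fittingOf s L).trans hLH
  have hq : ⁅⁅P, zpowers z'⁆, zpowers z'⁆ = ⊥ := by
    apply map_injective L.subtype_injective
    rw [Subgroup.map_commutator, Subgroup.map_commutator, Subgroup.map_bot, eq_bot_iff,
      MonoidHom.map_zpowers]
    have hzle : zpowers (z : G) ≤ centerOp s H := zpowers_le.2 hz
    have h1 : ⁅opOf s L, zpowers z⁆ ≤ centerOp s H := by
      refine commutator_le.2 fun a ha b hb => ?_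
      rw [commutatorElement_def]
      exact Subgroup.mul_mem _ ((mem_normalizer_iff.1
        (le_normalizer_centerOp s H (hTH ha)) _).1 (hzle hb)) (Subgroup.inv_mem _ (hzle hb))
    have h2 : ⁅centerOp s H, centerOp s H⁆ = ⊥ :=
      commutator_eq_bot_iff_le_centralizer.2 (inf_le_right.trans (centralizer_le inf_le_left))
    exact (commutator_mono h1 hzle).trans h2.le
  have hno : ¬ InvolvesSL2 s L := InvolvesSL2.not_of_odd hs2 hodd
  have hD := (mem_pCore_centralizer_pGroup_or_involves hs2 P (CfsgLib.Base.isPGroup_pCore s L) z'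
    hq).resolve_right hno
  set C := centralizer (P : Set L) with hC
  set D := (pCore s (L ⧸ C)).comap (QuotientGroup.mk' C) with hDdef
  have hinst : ∀ t : Nat.Primes, (centralizer (pCore (t : ℕ) L : Set L)).Normal := fun t =>
    inferInstance
  set E := D ⊓ ⨅ t : {t : Nat.Primes // (t : ℕ) ≠ s}, centralizer (pCore (t.1 : ℕ) L : Set L)
    with hE
  have hDn : D.Normal := inferInstance
  have hIn : (⨅ t : {t : Nat.Primes // (t : ℕ) ≠ s},
      centralizer (pCore (t.1 : ℕ) L : Set L)).Normal :=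
    normal_iInf_normal fun t => hinst t.1
  have hEn : E.Normal := inferInstance
  have hzE : z' ∈ E := by
    refine ⟨hD, mem_iInf.2 fun t => ?_⟩
    have : Fact (t.1 : ℕ).Prime := ⟨t.1.2⟩
    rw [mem_centralizer_iff]
    intro a ha
    exact Subtype.ext (mem_centralizer_iff.1 (opOf_cross_commute t.2.symm
      ((opOf_le_fittingOf s H).trans hHL) ((opOf_le_fittingOf _ L).trans hLH) hz.1) a.1 ⟨a, ha, rfl⟩)
  -- elements of `E` of order prime to `s` are central in `E`
  have hEnil : Group.IsNilpotent E := by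
    refine isNilpotent_of_prime_part_central (s := s) fun e he => ?_
    have heo : (orderOf (e : L)).Coprime s := by rwa [orderOf_coe]
    have heC : (e : L) ∈ C := by
      rw [← QuotientGroup.eq_one_iff, ← orderOf_eq_one_iff]
      obtain ⟨k, hk⟩ := IsPGroup.iff_orderOf.mp (CfsgLib.Base.isPGroup_pCore s (L ⧸ C)) ⟨_, e.2.1⟩
      replace hk : orderOf (QuotientGroup.mk' C (e : L)) = s ^ k := (Subgroup.orderOf_coe _).trans hk
      exact Nat.eq_one_of_dvd_coprimes (heo.pow_right k)
        (orderOf_map_dvd (QuotientGroup.mk' C) (e : L)) (hk ▸ dvd_rfl)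
    have heCF : (e : L) ∈ centralizer (fittingSubgroup L : Set L) := by
      have hle : fittingSubgroup L ≤ centralizer ({(e : L)} : Set L) := by
        rw [CfsgLib.Base.fittingSubgroup_eq_iSup_pCore, iSup_le_iff]
        intro t a ha
        rw [mem_centralizer_singleton_iff]
        by_cases hts : (t : ℕ) = s
        · rw [hts] at ha
          exact mem_centralizer_iff.1 heC a ha
        · exact mem_centralizer_iff.1 ((mem_iInf.1 e.2.2) ⟨t, hts⟩) a ha
      exact mem_centralizer_iff.2 fun a ha => mem_centralizer_singleton_iff.1 (hle ha)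
    have heF : (e : L) ∈ fittingSubgroup L := CfsgLib.Base.centralizer_fittingSubgroup_le heCF
    rw [mem_center_iff]
    intro x
    have hxe : (e : L) ∈ centralizer ({(x : L)} : Set L) := by
      refine mem_of_primary_parts _ _ fun r hr hrd w hw ⟨k, hk⟩ => ?_
      have : Fact r.Prime := ⟨hr⟩
      have hwF : w ∈ fittingSubgroup L := (zpowers_le.2 heF) hw
      have hrs : r ≠ s := by
        rintro rfl
        exact hr.ne_one (Nat.eq_one_of_dvd_coprimes heo hrd dvd_rfl)
      exact mem_centralizer_singleton_iff.2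
        (mem_centralizer_iff.1 ((mem_iInf.1 x.2.2) ⟨⟨r, hr⟩, hrs⟩) w
          (pPower_mem_pCore_of_mem_fitting hwF hk))
    exact Subtype.ext (mem_centralizer_singleton_iff.1 hxe).symm
  have hzF : z' ∈ fittingSubgroup L := CfsgLib.Base.le_fittingSubgroup hEnil hzE
  obtain ⟨k, hk⟩ := isPGroup_opOf s H ⟨z, hz.1⟩
  exact ⟨z', pPower_mem_pCore_of_mem_fitting hzF (k := k)
    (Subtype.ext (by simpa [hz'] using congrArg Subtype.val hk)), rfl⟩

/-- `O_s(H) ≤ O_s(L)` when `F(H) ≤ L`, `F(L) ≤ H` and `F(H)` is not an `s`-group. -/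
theorem opOf_le_opOf (hG : IsMinSimpleOddOrder G) {H L : Subgroup G} (hH : IsCoatom H)
    (hL : IsCoatom L) (hHL : fittingOf H ≤ L) (hLH : fittingOf L ≤ H) {s t : ℕ} [Fact s.Prime]
    [Fact t.Prime] (hst : s ≠ t) (ht : t ∣ Nat.card (fittingOf H)) : opOf s H ≤ opOf s L := by
  set C' := L ⊓ centralizer (opOf t L : Set G) with hC'
  have hsL : opOf s H ≤ L := (opOf_le_fittingOf s H).trans hHL
  have hSC : opOf s H ≤ C' :=
    le_inf hsL (opOf_cross_commute hst hsL ((opOf_le_fittingOf t L).trans hLH))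
  have hC'H : C' ≤ H := inf_le_right.trans
    ((centralizer_le (centerOp_le_opOf hG hL hHL hLH ht)).trans (centralizer_centerOp_le hG hH ht))
  have hC'n : L ≤ normalizer (C' : Set G) := CfsgLib.Coprime.le_normalizer_inf_inf le_normalizer
    (CfsgLib.Coprime.le_normalizer_centralizer (le_normalizer_opOf t L))
  have : (C'.subgroupOf L).Normal := (normal_subgroupOf_iff_le_normalizer inf_le_left).2 hC'n
  have hsub : ((opOf s H).subgroupOf L).IsSubnormal := by
    refine IsSubnormal.step _ (C'.subgroupOf L) (subgroupOf_mono L hSC) this.isSubnormal ?_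
    refine normal_subgroupOf_of_le_normalizer fun x hx => mem_normalizer_iff.2 fun g => ?_
    simpa [mem_subgroupOf] using mem_normalizer_iff.1 (le_normalizer_opOf s H (hC'H hx)) (g : G)
  have h := CfsgLib.Base.le_pCore_of_isSubnormal hsub
    ((isPGroup_opOf s H).of_equiv (subgroupOfEquivOfLe hsL).symm)
  rw [← map_subgroupOf_eq_of_le hsL]
  exact map_mono h

/-- The uniqueness criterion with the centre of the Fitting subgroup. -/
theorem eq_of_center_fittingOf_le (hG : IsMinSimpleOddOrder G) {H : Subgroup G} (hH : IsCoatom H)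
    (hF2 : 2 ≤ (Nat.card (fittingOf H)).primeFactors.card) {M : Subgroup G} (hM : M ≤ fittingOf H)
    (hZM : fittingOf H ⊓ centralizer (fittingOf H : Set G) ≤ M)
    (hinv : ∀ Y ∈ invSubgroups ⊤ M (primesNotDvd (Nat.card (fittingOf H))), Y = ⊥)
    {L : Subgroup G} (hL : IsCoatom L) (hML : M ≤ L) : L = H := by
  have hLs : Group.IsSolvable L := minSimple_solvable hG hL.1
  have hother : ∀ s : ℕ, ∃ t : ℕ, t.Prime ∧ s ≠ t ∧ t ∣ Nat.card (fittingOf H) := by
    intro s
    obtain ⟨t, ht, hts⟩ := Finset.exists_mem_ne hF2 s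
    exact ⟨t, Nat.prime_of_mem_primeFactors ht, hts.symm, Nat.dvd_of_mem_primeFactors ht⟩
  have hZL : ∀ t : ℕ, t.Prime → centerOp t H ≤ L := fun t ht => by
    have : Fact t.Prime := ⟨ht⟩
    exact ((centerOp_le_centralizer_fittingOf t H).trans hZM).trans hML
  have hzero : ∀ t : ℕ, [Fact t.Prime] → ¬ t ∣ Nat.card (fittingOf H) → opOf t L = ⊥ := by
    intro t htp ht
    refine hinv _ ⟨le_top, fun r hr hd => ⟨hr, ?_⟩, hML.trans (le_normalizer_opOf t L)⟩
    obtain ⟨n, hn⟩ := IsPGroup.iff_card.mp (isPGroup_opOf t L)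
    rw [hn] at hd
    rwa [(Nat.prime_dvd_prime_iff_eq hr htp.out).1 (hr.dvd_of_dvd_pow hd)]
  have hcen : ∀ (s t : ℕ) [Fact s.Prime] [Fact t.Prime], s ≠ t →
      t ∣ Nat.card (fittingOf H) → centerOp s H ≤ centralizer (opOf t L : Set G) :=
    fun s t _ _ hst ht => centerOp_le_centralizer_opOf hG hH hst ht (hZL s Fact.out) (hZL t Fact.out)
  have hLH : fittingOf L ≤ H := by
    rw [fittingOf_eq_iSup, iSup_le_iff]
    intro t
    have : Fact (t : ℕ).Prime := ⟨t.2⟩
    by_cases ht : (t : ℕ) ∣ Nat.card (fittingOf H)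
    · obtain ⟨s, hs, hts, hsd⟩ := hother t
      have : Fact s.Prime := ⟨hs⟩
      exact (le_centralizer_iff.1 (hcen s t hts.symm ht)).trans (centralizer_centerOp_le hG hH hsd)
    · rw [hzero _ ht]; exact bot_le
  have hπ : ∀ s : ℕ, [Fact s.Prime] → s ∣ Nat.card (fittingOf H) → s ∣ Nat.card (fittingOf L) := by
    intro s _ hs
    refine dvd_card_fittingOf fun h0 => centerOp_ne_bot hs ?_
    have hle : centerOp s H ≤ L ⊓ centralizer (fittingOf L : Set G) := by
      refine le_inf (hZL s Fact.out) (le_centralizer_iff.1 ?_)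
      rw [fittingOf_eq_iSup, iSup_le_iff]
      intro t
      have : Fact (t : ℕ).Prime := ⟨t.2⟩
      rw [le_centralizer_iff]
      by_cases ht : (t : ℕ) ∣ Nat.card (fittingOf H)
      · by_cases hst : s = t
        · rw [← hst, h0]; intro x _; simp [mem_centralizer_iff]
        · exact hcen s t hst ht
      · rw [hzero _ ht]; intro x _; simp [mem_centralizer_iff]
    exact le_bot_iff.1 (h0 ▸ le_opOf_of_le_fittingOf ((isPGroup_opOf s H).to_le inf_le_left)
      (hle.trans inf_centralizer_fittingOf_le))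
  have hHL : fittingOf H ≤ L := by
    rw [fittingOf_eq_iSup, iSup_le_iff]
    intro t
    have : Fact (t : ℕ).Prime := ⟨t.2⟩
    by_cases ht : (t : ℕ) ∣ Nat.card (fittingOf H)
    · obtain ⟨s, hs, hts, hsd⟩ := hother t
      have : Fact s.Prime := ⟨hs⟩
      have hin : ∀ r : ℕ, [Fact r.Prime] → centerOp r L ≤ H := fun r _ =>
        (inf_le_left.trans (opOf_le_fittingOf r L)).trans hLH
      exact (le_centralizer_iff.1
        (centerOp_le_centralizer_opOf hG hL hts.symm (hπ t ht) (hin s) (hin t))).trans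
          (centralizer_centerOp_le hG hL (hπ s hsd))
    · exact le_trans (fun x hx => by
        by_contra
        exact ht (dvd_card_fittingOf fun h0 => this (by rw [h0, mem_bot] at hx; simp [hx]))) le_rfl
  have hπ' : ∀ s : ℕ, [Fact s.Prime] → s ∣ Nat.card (fittingOf L) → s ∣ Nat.card (fittingOf H) := by
    intro s _ hs
    by_contra hn
    exact opOf_ne_bot hs (hzero s hn)
  have heq : fittingOf H = fittingOf L := by
    rw [fittingOf_eq_iSup, fittingOf_eq_iSup]
    refine iSup_congr fun s => ?_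
    have : Fact (s : ℕ).Prime := ⟨s.2⟩
    obtain ⟨t, htp, hst, ht⟩ := hother s
    have : Fact t.Prime := ⟨htp⟩
    exact le_antisymm (opOf_le_opOf hG hH hL hHL hLH hst ht)
      (opOf_le_opOf hG hL hH hLH hHL hst (hπ t ht))
  obtain ⟨t, htp, -, ht⟩ := hother 0
  have : Fact t.Prime := ⟨htp⟩
  have hFne : fittingOf H ≠ ⊥ := fun h0 => opOf_ne_bot ht (le_bot_iff.1 (h0 ▸ opOf_le_fittingOf t H))
  have h1 := (centralizer_le_of_normal_coatom hG hH (fittingOf_le' H) (le_normalizer_fittingOf H)
    hFne).1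
  have h2 := (centralizer_le_of_normal_coatom hG hL (fittingOf_le' L) (le_normalizer_fittingOf L)
    (heq ▸ hFne)).1
  rw [← h1, ← h2, heq]

end CfsgLib.OddOrder
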