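import Cfsg.Agent.Lib.OddOrder.Weights

/-!
An abelian group `A` without trivial weight and a group `R` of automorphisms of `A` without fixed
points: the representation is free over `R`.
-/

set_option autoImplicit false

namespace CfsgLib.OddOrder.FrobeniusWeights

open Finset CfsgLib.OddOrder.Weights

variable {K : Type*} [Field K] [IsAlgClosed K] {W : Type*} [AddCommGroup W] [Module K W]
  [FiniteDimensional K W] {A : Type*} [CommGroup A] [Finite A]
  {R : Type*} [Group R] [Fintype R] {σ : A →* Module.End K W} {ν : R →* Module.End K W}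
  {φ : R →* MulAut A}

omit [IsAlgClosed K] [Finite A] [Fintype R] in
theorem twist_mul (x y : R) (χ : A →* Kˣ) :
    twist (φ (x * y)) χ = twist (φ x) (twist (φ y) χ) := by
  refine MonoidHom.ext fun a => ?_
  simp only [twist_apply, map_mul]
  rfl

omit [IsAlgClosed K] [Finite A] [Fintype R] in
theorem twist_one (χ : A →* Kˣ) : twist (φ 1) χ = χ := by
  refine MonoidHom.ext fun a => ?_
  simp only [twist_apply, map_one]
  rfl

omit [IsAlgClosed K] [Fintype R] in
theorem eq_one_of_twist_eq (hfpf : ∀ x : R, x ≠ 1 → ∀ a, φ x a = a → a = 1) {x : R} (hx : x ≠ 1)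
    {χ : A →* Kˣ} (h : twist (φ x) χ = χ) : χ = 1 := by
  let f : A →* A :=
    { toFun := fun a => φ x a * a⁻¹
      map_one' := by rw [map_one, inv_one, mul_one]
      map_mul' := fun a b => by rw [map_mul, mul_inv, mul_mul_mul_comm] }
  have hf : Function.Injective f := (injective_iff_map_eq_one f).2 fun a ha =>
    hfpf x hx a (mul_inv_eq_one.1 ha)
  refine MonoidHom.ext fun a => ?_
  obtain ⟨b, rfl⟩ := Finite.surjective_of_injective hf a
  show χ (φ x b * b⁻¹) = 1
  have h1 : χ (φ x b) = χ b := by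
    conv_lhs => rw [← h, twist_apply, MulEquiv.symm_apply_apply]
  rw [map_mul, map_inv, h1, mul_inv_cancel]

/-- The representation is free over `R`: `dim W = |R| dim W^R`; if the fixed space is at most a
line, the operators commuting with `A` commute with each other. -/
theorem free_of_fixedPointFree (hν : ∀ x a, ν x * σ a = σ (φ x a) * ν x)
    (hfpf : ∀ x : R, x ≠ 1 → ∀ a, φ x a = a → a = 1) (hA : (Nat.card A : K) ≠ 0)
    (h1 : wproj σ 1 = 0) :
    Module.finrank K W = Fintype.card R * Module.finrank K (LinearMap.range (∑ x, ν x)) ∧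
      (Module.finrank K (LinearMap.range (∑ x, ν x)) ≤ 1 → ∀ g h : Module.End K W,
        (∀ a, Commute g (σ a)) → (∀ a, Commute h (σ a)) → g * h = h * g) := by
  classical
  have := Fintype.ofFinite (A →* Kˣ)
  let s : Setoid (A →* Kˣ) :=
    { r := fun χ ψ => ∃ x : R, twist (φ x) χ = ψ
      iseqv := ⟨fun χ => ⟨1, twist_one χ⟩, fun {χ ψ} ⟨x, hx⟩ =>
        ⟨x⁻¹, by rw [← hx, ← twist_mul, inv_mul_cancel, twist_one]⟩,
        fun {χ ψ θ} ⟨x, hx⟩ ⟨y, hy⟩ => ⟨y * x, by rw [twist_mul, hx, hy]⟩⟩ }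
  let T : Finset (A →* Kˣ) := univ.filter fun χ => χ ≠ 1 ∧ (Quotient.mk s χ).out = χ
  have hTne : ∀ χ ∈ T, χ ≠ 1 := fun χ hχ => (mem_filter.1 hχ).2.1
  have htwist1 : ∀ x : R, twist (φ x) (1 : A →* Kˣ) = 1 := fun x => MonoidHom.ext fun a => rfl
  have huniq : ∀ χ ∈ T, ∀ ψ ∈ T, ∀ x : R, twist (φ x) χ = ψ → x = 1 ∧ χ = ψ := by
    intro χ hχ ψ hψ x hx
    have he : Quotient.mk s χ = Quotient.mk s ψ := Quotient.sound ⟨x, hx⟩
    have hχψ : χ = ψ := by rw [← (mem_filter.1 hχ).2.2, he, (mem_filter.1 hψ).2.2]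
    refine ⟨by_contra fun h => hTne χ hχ (eq_one_of_twist_eq hfpf h ?_), hχψ⟩
    rw [hx, hχψ]
  have hrep : ∀ ψ : A →* Kˣ, ψ ≠ 1 → ∃ χ ∈ T, ∃ x : R, twist (φ x) χ = ψ := by
    intro ψ hψ
    obtain ⟨x, hx⟩ := Quotient.mk_out (s := s) ψ
    refine ⟨(Quotient.mk s ψ).out, mem_filter.2 ⟨mem_univ _, fun e => hψ ?_, ?_⟩, x, hx⟩
    · rw [← hx, e, htwist1]
    · rw [Quotient.out_eq]
  set e : Module.End K W := ∑ χ ∈ T, wproj σ χ with he
  have hmove : ∀ (x : R) χ, ν x * wproj σ χ = wproj σ (twist (φ x) χ) * ν x :=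
    fun x χ => mul_wproj (hν x) χ
  have hee : e * e = e := by
    rw [he, sum_mul]
    refine sum_congr rfl fun χ hχ => ?_
    rw [mul_sum, sum_eq_single_of_mem χ hχ fun ψ _ hne => wproj_mul_of_ne σ hne.symm,
      wproj_mul_self σ hA]
  have hP1 : ∀ x : R, x ≠ 1 → e * ν x * e = 0 := by
    intro x hx
    rw [he, mul_assoc, mul_sum, sum_mul]
    refine sum_eq_zero fun χ hχ => ?_
    rw [mul_sum]
    refine sum_eq_zero fun ψ hψ => ?_
    rw [hmove, ← mul_assoc, wproj_mul_of_ne σ fun e' => hx (huniq ψ hψ χ hχ x e'.symm).1, zero_mul]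
  have hinv : ∀ x : R, ν x * ν x⁻¹ = 1 := fun x => by rw [← map_mul, mul_inv_cancel, map_one]
  have hterm : ∀ (x : R) χ, ν x * wproj σ χ * ν x⁻¹ = wproj σ (twist (φ x) χ) := fun x χ => by
    rw [hmove, mul_assoc, hinv, mul_one]
  have hP2 : ∑ x, ν x * e * ν x⁻¹ = 1 := by
    simp only [he, mul_sum, sum_mul, hterm]
    rw [← sum_product' (univ : Finset R) T (fun x χ => wproj σ (twist (φ x) χ))]
    rw [← sum_wproj σ hA, ← sum_filter_add_sum_filter_not univ (fun ψ : A →* Kˣ => ψ ≠ 1),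
      sum_eq_zero (s := univ.filter fun ψ : A →* Kˣ => ¬ ψ ≠ 1) fun ψ hψ => by
        rw [not_not.1 (mem_filter.1 hψ).2, h1], add_zero]
    refine sum_bij (fun p _ => twist (φ p.1) p.2) ?_ ?_ ?_ fun p _ => rfl
    · intro p hp
      refine mem_filter.2 ⟨mem_univ _, fun h => hTne _ (mem_product.1 hp).2 ?_⟩
      rw [← twist_one (φ := φ) p.2, ← inv_mul_cancel p.1, twist_mul, h, htwist1]
    · intro p hp q hq h
      have h' : twist (φ (q.1⁻¹ * p.1)) p.2 = q.2 := by
        rw [twist_mul, h, ← twist_mul, inv_mul_cancel, twist_one]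
      obtain ⟨h1', h2⟩ := huniq _ (mem_product.1 hp).2 _ (mem_product.1 hq).2 _ h'
      exact Prod.ext (inv_mul_eq_one.1 h1').symm h2
    · intro ψ hψ
      obtain ⟨χ, hχ, x, hx⟩ := hrep ψ (mem_filter.1 hψ).2
      exact ⟨(x, χ), mem_product.2 ⟨mem_univ _, hχ⟩, hx⟩
  set S := LinearMap.range e with hS
  have hmemS : ∀ v ∈ S, e v = v := by
    rintro _ ⟨w, rfl⟩
    rw [← Module.End.mul_apply, hee]
  have heval : ∀ (x y : R) (v : W), v ∈ S → e (ν x⁻¹ (ν y v)) = if y = x then v else 0 := by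
    intro x y v hv
    split_ifs with h
    · rw [← Module.End.mul_apply (ν x⁻¹), ← map_mul, h, inv_mul_cancel, map_one]
      exact hmemS v hv
    · rw [← hmemS v hv, ← Module.End.mul_apply (ν x⁻¹), ← map_mul, ← Module.End.mul_apply e,
        ← Module.End.mul_apply (e * _), hP1 _ fun e' => h (inv_mul_eq_one.1 e').symm,
        LinearMap.zero_apply]
  let Φ : W →ₗ[K] (R → S) := LinearMap.pi fun x => e.rangeRestrict ∘ₗ ν x⁻¹
  have hΦ : ∀ w x, (Φ w x : W) = e (ν x⁻¹ w) := fun w x => rfl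
  have hΦinj : Function.Injective Φ := by
    refine LinearMap.ker_eq_bot.1 (LinearMap.ker_eq_bot'.2 fun w hw => ?_)
    rw [← Module.End.one_apply (R := K) w, ← hP2, LinearMap.sum_apply]
    refine sum_eq_zero fun x _ => ?_
    have h : e (ν x⁻¹ w) = 0 := by rw [← hΦ, hw]; rfl
    rw [Module.End.mul_apply, Module.End.mul_apply, h, map_zero]
  have hΦsurj : Function.Surjective Φ := fun f =>
    ⟨∑ y, ν y (f y), funext fun x => Subtype.ext (by
      rw [hΦ, map_sum, map_sum]
      simp only [heval x _ _ (f _).2]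
      rw [sum_ite_eq' univ x, if_pos (mem_univ _)])⟩
  have hdim : Module.finrank K W = Fintype.card R * Module.finrank K S := by
    rw [(LinearEquiv.ofBijective Φ ⟨hΦinj, hΦsurj⟩).finrank_eq, Module.finrank_pi_fintype, sum_const,
      card_univ, smul_eq_mul]
  set N : Module.End K W := ∑ x, ν x with hN
  have hNS : Module.finrank K (LinearMap.range N) = Module.finrank K S := by
    let f : S →ₗ[K] LinearMap.range N := N.rangeRestrict ∘ₗ S.subtype
    have hf : Function.Bijective f := by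
      refine ⟨LinearMap.ker_eq_bot.1 (LinearMap.ker_eq_bot'.2 fun v hv => Subtype.ext ?_), fun v => ?_⟩
      · have h : N v = 0 := congrArg Subtype.val hv
        have h' : e (N v) = v := by
          have e1 : ∀ x : R, e (ν x (v : W)) = if x = 1 then (v : W) else 0 := fun x => by
            simpa using heval 1 x v v.2
          rw [show N (v : W) = ∑ x, ν x (v : W) from LinearMap.sum_apply _ _ _, map_sum,
            sum_congr rfl fun x _ => e1 x,
            sum_ite_eq' univ (1 : R), if_pos (mem_univ _)]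
        rw [h, map_zero] at h'
        exact h'.symm
      · obtain ⟨w, hw⟩ := v.2
        refine ⟨⟨e v, LinearMap.mem_range_self e _⟩, Subtype.ext ?_⟩
        show N (e v) = v
        have hfix : ∀ x : R, ν x (v : W) = v := fun x => by
          rw [← hw, hN, LinearMap.sum_apply, map_sum]
          simp only [← Module.End.mul_apply, ← map_mul]
          exact Fintype.sum_equiv (Equiv.mulLeft x) _ _ fun y => rfl
        conv_rhs => rw [← Module.End.one_apply (R := K) (v : W), ← hP2, LinearMap.sum_apply]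
        rw [show N (e v) = ∑ x, ν x (e v) from LinearMap.sum_apply _ _ _]
        refine sum_congr rfl fun x _ => ?_
        rw [Module.End.mul_apply, Module.End.mul_apply, hfix x⁻¹]
    exact (LinearEquiv.ofBijective f hf).finrank_eq.symm
  refine ⟨by rw [hdim, hNS], fun hle g h hg hh => ?_⟩
  rw [hNS] at hle
  obtain ⟨s₀, hs₀⟩ := finrank_le_one_iff.1 hle
  have hcomm : ∀ f : Module.End K W, (∀ a, Commute f (σ a)) → ∀ χ, Commute f (wproj σ χ) := by
    intro f hf χ
    let _ := Fintype.ofFinite A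
    exact ((Commute.sum_right _ _ _ fun a _ => (hf a).smul_right _).smul_right _)
  refine commute_of_lines hA (hcomm g hg) (hcomm h hh) fun χ => ?_
  by_cases hχ : χ = 1
  · exact ⟨0, fun w => by rw [hχ, h1]; exact zero_mem _⟩
  obtain ⟨ψ, hψ, x, rfl⟩ := hrep χ hχ
  refine ⟨ν x s₀, fun w => ?_⟩
  rw [← hterm, Module.End.mul_apply, Module.End.mul_apply]
  have hψS : wproj σ ψ (ν x⁻¹ w) ∈ S := by
    refine ⟨wproj σ ψ (ν x⁻¹ w), ?_⟩
    rw [← Module.End.mul_apply, he, sum_mul,
      sum_eq_single_of_mem ψ hψ fun θ _ hne => wproj_mul_of_ne σ hne, wproj_mul_self σ hA]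
  obtain ⟨c, hc⟩ := hs₀ ⟨_, hψS⟩
  refine Submodule.mem_span_singleton.2 ⟨c, ?_⟩
  have h' : c • (s₀ : W) = wproj σ ψ (ν x⁻¹ w) := congrArg Subtype.val hc
  rw [← h', map_smul]

end CfsgLib.OddOrder.FrobeniusWeights
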