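import Mathlib
import Cfsg.Agent.Lib.GLTwo.Basic

/-!
Solvable groups of odd order in `GL₂` of a field of odd characteristic `p`:
the derived group has exponent dividing `p`.
-/

set_option autoImplicit false

namespace CfsgLib.OddOrder

open scoped commutatorElement
open CfsgLib.GLTwo

variable {F : Type*} [Field F] {p : ℕ} [Fact p.Prime] [CharP F p]
variable {X : Type*} [Group X] [Finite X]

local notation "M₂" => Matrix (Fin 2) (Fin 2) F

omit [Fact p.Prime] [CharP F p] [Finite X] in
theorem det_ne_zero_of_hom (f : X →* M₂) (x : X) : (f x).det ≠ 0 := by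
  intro h
  have := congrArg Matrix.det (f.map_one)
  rw [← mul_inv_cancel x, map_mul, Matrix.det_mul, h, zero_mul, Matrix.det_one] at this
  exact zero_ne_one this

omit [Fact p.Prime] [CharP F p] in
theorem eq_one_of_pow_odd {c : F} (h2 : c ^ 2 = 1) {n : ℕ} (hn : Odd n) (h : c ^ n = 1) : c = 1 := by
  obtain ⟨m, rfl⟩ := hn
  rwa [pow_succ, pow_mul, h2, one_pow, one_mul] at h

omit [Finite X] in
/-- A non-scalar `p'`-element whose conjugates commute with it is central. -/
theorem commute_of_conj_commute (hp : p ≠ 2) (hodd : Odd (Nat.card X)) (f : X →* M₂)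
    (hf : Function.Injective f) {g : X} (hg : ¬ IsScalar2 (f g)) (hgp : ¬ p ∣ orderOf g) (x : X)
    (hc : Commute (x * g * x⁻¹) g) : Commute x g := by
  set M := f g with hM
  set Y := f x with hY
  set Y' := f x⁻¹ with hY'
  have hYY : Y' * Y = 1 := by rw [hY, hY', ← map_mul, inv_mul_cancel, map_one]
  have hYY' : Y * Y' = 1 := by rw [hY, hY', ← map_mul, mul_inv_cancel, map_one]
  obtain ⟨a, b, hab⟩ := eq_add_smul_of_comm hg (X := f (x * g * x⁻¹))
    (by rw [hM, ← map_mul, ← map_mul, hc.eq])
  rw [map_mul, map_mul, ← hY, ← hY', ← hM] at hab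
  -- trace and determinant are preserved
  have htr : M.trace = 2 * a + b * M.trace := by
    have h1 := congrArg Matrix.trace hab
    rw [Matrix.trace_mul_comm, ← mul_assoc, hYY, one_mul] at h1
    refine h1.trans ?_
    simp [Matrix.trace_add, Matrix.trace_smul]
    ring
  have hdet : M.det = a ^ 2 + a * b * M.trace + b ^ 2 * M.det := by
    rw [← det_add_smul, ← hab, Matrix.det_mul, Matrix.det_mul, mul_right_comm, ← Matrix.det_mul,
      hYY', Matrix.det_one, one_mul]
  have h2 : (2 : F) ≠ 0 := by
    intro h
    have h' : ((2 : ℕ) : F) = 0 := by exact_mod_cast h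
    rw [CharP.cast_eq_zero_iff F p] at h'
    exact hp ((Nat.prime_dvd_prime_iff_eq Fact.out Nat.prime_two).1 h')
  have hkey : (b ^ 2 - 1) * (4 * M.det - M.trace ^ 2) = 0 := by
    linear_combination -4 * hdet + ((1 - b) * M.trace + 2 * a + 2 * b * M.trace) * htr
  rcases mul_eq_zero.1 hkey with hb | hd
  · rcases mul_eq_zero.1 (show (b - 1) * (b + 1) = 0 by linear_combination hb) with hb1 | hb1
    · -- `b = 1`
      rw [sub_eq_zero] at hb1
      have ha : a = 0 := by
        have : 2 * a = 0 := by subst hb1; linear_combination -htr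
        exact (mul_eq_zero.1 this).resolve_left h2
      rw [hb1, ha, zero_smul, one_smul, zero_add] at hab
      refine hf ?_
      rw [map_mul, map_mul]
      have := congrArg (· * Y) hab
      rw [← hY, ← hM]
      simp only [mul_assoc, hYY, mul_one] at this
      exact this
    · -- `b = -1`: then `x²` fixes `g`, and `x` has odd order
      rw [add_eq_zero_iff_eq_neg] at hb1
      rw [hb1, neg_smul, one_smul] at hab
      have hsq : Commute (x * x) g := by
        refine hf ?_
        have e : Y * (Y * M * Y') * Y' = M := by
          rw [hab, mul_add, add_mul, mul_neg, neg_mul, hab, mul_smul_comm, smul_mul_assoc, mul_one,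
            hYY']
          abel
        rw [map_mul, map_mul, map_mul, map_mul, ← hY, ← hM]
        have := congrArg (· * (Y * Y)) e
        simp only [mul_assoc] at this ⊢
        rw [← mul_assoc Y' Y, hYY, one_mul, hYY, mul_one] at this
        exact this
      obtain ⟨m, hm⟩ := hodd
      have hx : x = (x * x) ^ (m + 1) := by
        rw [← pow_two, ← pow_mul, show 2 * (m + 1) = Nat.card X + 1 by omega, pow_succ,
          pow_card_eq_one', one_mul]
      rw [hx]
      exact hsq.pow_left _
  · -- equal eigenvalues: a `p'`-element is scalar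
    exfalso
    apply hg
    set s : F := M.trace / 2 with hs
    have hs2 : s ^ 2 = M.det := by
      rw [hs, div_pow, div_eq_iff (pow_ne_zero 2 h2)]
      linear_combination -hd
    set N : M₂ := M - s • 1 with hN
    have hN2 : N ^ 2 = 0 := by
      rw [pow_two, hN, sub_mul, mul_sub, mul_sub, sq_eq, ← hs2, smul_mul_assoc, smul_mul_assoc,
        mul_smul_comm, one_mul, one_mul, mul_one, smul_smul]
      rw [show M.trace = s + s by rw [hs]; field_simp; ring, add_smul, ← pow_two]
      abel
    have hNp : N ^ p = 0 := pow_eq_zero_of_le (Fact.out : p.Prime).two_le hN2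
    have hgpow : f (g ^ p) = (s ^ p) • (1 : M₂) := by
      rw [map_pow, ← hM, show M = N + s • 1 by rw [hN, sub_add_cancel],
        add_pow_char_of_commute p ((Commute.one_right N).smul_right s), hNp, zero_add, smul_pow,
        one_pow]
    obtain ⟨k, hk⟩ := exists_pow_eq_self_of_coprime (x := g) (n := p)
      ((Fact.out : p.Prime).coprime_iff_not_dvd.2 hgp)
    rw [hM, ← hk, map_pow, hgpow, smul_pow, one_pow]
    exact isScalar2_smul_one _

omit [Finite X] in
/-- A normal set of commuting elements with a non-scalar element of order `p`: the commutators lie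
in the centralizer of a unipotent element. -/
theorem commutator_commute_of_unipotent (hp : p ≠ 2) (f : X →* M₂) {u : X}
    (hu : ¬ IsScalar2 (f u)) (hup : u ^ p = 1) (hc : ∀ x : X, Commute (x * u * x⁻¹) u)
    {c : X} (hcm : c ∈ commutator X) : Commute (f c) (f u) := by
  set N : M₂ := f u - 1 with hN
  have hNp : N ^ p = 0 := by
    rw [hN, sub_pow_char_of_commute p (Commute.one_right _), one_pow, ← map_pow, hup, map_one,
      sub_self]
  have hnil : IsNilpotent N := ⟨p, hNp⟩
  have htN : N.trace = 0 := (Matrix.isNilpotent_trace_of_isNilpotent hnil).eq_zero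
  have h2 : (2 : F) ≠ 0 := by
    intro h
    have h' : ((2 : ℕ) : F) = 0 := by exact_mod_cast h
    rw [CharP.cast_eq_zero_iff F p] at h'
    exact hp ((Nat.prime_dvd_prime_iff_eq Fact.out Nat.prime_two).1 h')
  have hone : ∀ x : X, ∃ k : F, f x * N = k • (N * f x) := by
    intro x
    obtain ⟨a, b, hab⟩ := eq_add_smul_of_comm hu (X := f (x * u * x⁻¹))
      (by rw [← map_mul, ← map_mul, (hc x).eq])
    have h1 : f x * N * f x⁻¹ = (a + b - 1) • (1 : M₂) + b • N := by
      rw [hN, mul_sub, sub_mul, mul_one, ← map_mul, ← map_mul, ← map_mul, mul_inv_cancel, map_one,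
        hab, smul_sub, sub_smul, add_smul, one_smul]
      abel
    have ht := congrArg Matrix.trace h1
    rw [Matrix.trace_mul_comm, ← mul_assoc, ← map_mul, inv_mul_cancel, map_one, one_mul, htN,
      Matrix.trace_add, Matrix.trace_smul, Matrix.trace_smul, htN, smul_zero, add_zero,
      Matrix.trace_one, Fintype.card_fin, smul_eq_mul, Nat.cast_ofNat] at ht
    rw [(mul_eq_zero.1 ht.symm).resolve_right h2, zero_smul, zero_add] at h1
    refine ⟨b, ?_⟩
    calc f x * N = f x * N * (f x⁻¹ * f x) := by rw [← map_mul, inv_mul_cancel, map_one, mul_one]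
      _ = (f x * N * f x⁻¹) * f x := by simp only [mul_assoc]
      _ = b • (N * f x) := by rw [h1, smul_mul_assoc]
  have hNu : ∀ y : X, f y * N = N * f y → Commute (f y) (f u) := by
    intro y hy
    have e : f u = N + 1 := by rw [hN, sub_add_cancel]
    show f y * f u = f u * f y
    rw [e, mul_add, add_mul, hy, mul_one, one_mul]
  refine hNu c ?_
  suffices h : commutator X ≤
      { carrier := {y | f y * N = N * f y}
        one_mem' := by simp
        mul_mem' := fun {y z} (hy : f y * N = N * f y) (hz : f z * N = N * f z) => by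
          show f (y * z) * N = N * f (y * z)
          rw [map_mul, mul_assoc, hz, ← mul_assoc, hy, mul_assoc]
        inv_mem' := fun {y} (hy : f y * N = N * f y) => by
          show f y⁻¹ * N = N * f y⁻¹
          calc f y⁻¹ * N = f y⁻¹ * N * (f y * f y⁻¹) := by
                rw [← map_mul, mul_inv_cancel, map_one, mul_one]
            _ = f y⁻¹ * (N * f y) * f y⁻¹ := by simp only [mul_assoc]
            _ = f y⁻¹ * f y * N * f y⁻¹ := by rw [← hy]; simp only [mul_assoc]
            _ = N * f y⁻¹ := by rw [← map_mul, inv_mul_cancel, map_one, one_mul] : Subgroup X } from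
    h hcm
  rw [_root_.commutator_def, Subgroup.commutator_le]
  intro y _ z _
  show f ⁅y, z⁆ * N = N * f ⁅y, z⁆
  obtain ⟨k, hk⟩ := hone y
  obtain ⟨l, hl⟩ := hone z
  -- both products move past `N` with the same factor
  have h1 : f (y * z) * N = (l * k) • (N * f (y * z)) := by
    rw [map_mul, mul_assoc, hl, mul_smul_comm, ← mul_assoc, hk, smul_mul_assoc, smul_smul,
      mul_assoc]
  have h2' : f (z * y) * N = (l * k) • (N * f (z * y)) := by
    rw [map_mul, mul_assoc, hk, mul_smul_comm, ← mul_assoc, hl, smul_mul_assoc, smul_smul,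
      mul_assoc, mul_comm l k]
  have hlk : l * k ≠ 0 := by
    intro h0
    rw [h0, zero_smul] at h1
    refine hu ((isScalar2_iff _).2 ?_)
    have hz : N = 0 := by
      calc N = f (y * z)⁻¹ * (f (y * z) * N) := by
            rw [← mul_assoc, ← map_mul, inv_mul_cancel, map_one, one_mul]
        _ = 0 := by rw [h1, mul_zero]
    rw [sub_eq_zero] at hz
    simp [hz]
  rw [show ⁅y, z⁆ = (y * z) * (z * y)⁻¹ by rw [commutatorElement_def, mul_inv_rev, ← mul_assoc],
    map_mul]
  set W := f (z * y) with hW
  set W' := f (z * y)⁻¹ with hW'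
  have hWW : W * W' = 1 := by rw [hW, hW', ← map_mul, mul_inv_cancel, map_one]
  have hWW' : W' * W = 1 := by rw [hW, hW', ← map_mul, inv_mul_cancel, map_one]
  have h3 : W' * N = (l * k)⁻¹ • (N * W') := by
    calc W' * N = W' * N * (W * W') := by rw [hWW, mul_one]
      _ = (l * k)⁻¹ • (W' * ((l * k) • (N * W)) * W') := by
        rw [mul_smul_comm, smul_mul_assoc, smul_smul, inv_mul_cancel₀ hlk, one_smul]
        simp only [mul_assoc]
      _ = (l * k)⁻¹ • (N * W') := by rw [← h2', ← mul_assoc W', hWW', one_mul]
  rw [mul_assoc, h3, mul_smul_comm, ← mul_assoc, h1, smul_mul_assoc, smul_smul,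
    inv_mul_cancel₀ hlk, one_smul, mul_assoc]

omit [Fact p.Prime] [CharP F p] [Finite X] in
theorem det_commutator (f : X →* M₂) {c : X} (hc : c ∈ commutator X) : (f c).det = 1 := by
  let d : X →* Fˣ :=
    ((Matrix.detMonoidHom : M₂ →* F).comp f).toHomUnits
  have h := Abelianization.commutator_subset_ker d hc
  rw [MonoidHom.mem_ker] at h
  exact congrArg Units.val h

/-- The derived group of a solvable subgroup of odd order of `GL₂` has exponent dividing `p`. -/
theorem pow_eq_one_of_mem_commutator [Group.IsSolvable X] (hp : p ≠ 2) (hodd : Odd (Nat.card X))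
    (f : X →* M₂) (hf : Function.Injective f) {c : X} (hc : c ∈ commutator X) : c ^ p = 1 := by
  obtain ⟨n, hn⟩ := ‹Group.IsSolvable X›.solvable
  by_cases hex : ∃ g, ¬ IsScalar2 (f g)
  · -- the last term of the derived series with a non-scalar element
    classical
    have hend : ∃ k, ∀ g ∈ derivedSeries X k, IsScalar2 (f g) := ⟨n, fun g hg => by
      rw [hn, Subgroup.mem_bot] at hg
      rw [hg, map_one, ← one_smul F (1 : M₂)]
      exact isScalar2_smul_one _⟩
    obtain ⟨m, hm⟩ : ∃ m, Nat.find hend = m + 1 := Nat.exists_eq_succ_of_ne_zero fun h0 => by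
      obtain ⟨g, hg⟩ := hex
      exact hg (Nat.find_spec hend g (by rw [h0]; exact Subgroup.mem_top _))
    obtain ⟨g, hgD, hg⟩ : ∃ g ∈ derivedSeries X m, ¬ IsScalar2 (f g) := by
      by_contra h
      push Not at h
      exact Nat.find_min hend (by omega : m < Nat.find hend) h
    -- it is abelian
    have hab : ∀ a ∈ derivedSeries X m, ∀ b ∈ derivedSeries X m, Commute a b := by
      intro a ha b hb
      have hz : ⁅a, b⁆ ∈ derivedSeries X (Nat.find hend) := by
        rw [hm]; exact Subgroup.commutator_mem_commutator ha hb
      have hs := (isScalar2_iff _).1 (Nat.find_spec hend _ hz)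
      have hd := det_commutator f (Subgroup.commutator_mem_commutator (Subgroup.mem_top a)
        (Subgroup.mem_top b) : ⁅a, b⁆ ∈ commutator X)
      rw [hs, Matrix.det_smul, Matrix.det_one, mul_one, Fintype.card_fin] at hd
      have hpow := congrArg f (pow_card_eq_one' (x := ⁅a, b⁆))
      rw [map_pow, map_one, hs, smul_pow, one_pow] at hpow
      have h00 : f ⁅a, b⁆ 0 0 = 1 :=
        eq_one_of_pow_odd hd hodd (by simpa using congrFun (congrFun hpow 0) 0)
      rw [h00, one_smul, ← f.map_one] at hs
      exact commutatorElement_eq_one_iff_commute.1 (hf hs)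
    have hconj : ∀ x : X, ∀ a ∈ derivedSeries X m, x * a * x⁻¹ ∈ derivedSeries X m :=
      fun x a ha => (derivedSeries_normal X m).conj_mem a ha x
    by_cases hgp : p ∣ orderOf g
    · -- unipotent case
      have hfin : IsOfFinOrder g := isOfFinOrder_of_finite g
      set u := g ^ (orderOf g / p) with hu
      have huo : orderOf u = p := orderOf_pow_orderOf_div hfin.orderOf_pos.ne' hgp
      have hup : u ^ p = 1 := by rw [← huo]; exact pow_orderOf_eq_one u
      have huD : u ∈ derivedSeries X m := pow_mem hgD _
      have hus : ¬ IsScalar2 (f u) := by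
        intro h
        rw [isScalar2_iff] at h
        have h1 := congrArg f hup
        rw [map_pow, h, smul_pow, one_pow, map_one] at h1
        have h2 : f u 0 0 = 1 := by
          refine sub_eq_zero.1 (pow_eq_zero_iff (Fact.out : p.Prime).ne_zero |>.1 ?_)
          rw [sub_pow_char, one_pow, sub_eq_zero]
          simpa using congrFun (congrFun h1 0) 0
        rw [h2, one_smul, ← f.map_one] at h
        rw [hf h, orderOf_one] at huo
        exact (Fact.out : p.Prime).one_lt.ne huo
      have hcu := commutator_commute_of_unipotent hp f hus hup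
        (fun x => hab _ (hconj x u huD) _ huD) hc
      -- now `f c = α + β u` with determinant `(α + β)²`
      obtain ⟨a, b, hab'⟩ := eq_add_smul_of_comm hus (X := f c) hcu.eq
      have hN : (f u - 1) ^ p = 0 := by
        rw [sub_pow_char_of_commute p (Commute.one_right _), one_pow, ← map_pow, hup, map_one,
          sub_self]
      have hcp : f (c ^ p) = (a + b) ^ p • (1 : M₂) := by
        rw [map_pow, hab', show a • (1 : M₂) + b • f u = (a + b) • (1 : M₂) + b • (f u - 1) by
          rw [smul_sub, add_smul]; abel,
          add_pow_char_of_commute p (((Commute.one_left (f u - 1)).smul_left _).smul_right _),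
          smul_pow, smul_pow, hN, smul_zero, add_zero, one_pow]
      have hdet := det_commutator f (pow_mem hc p)
      rw [hcp, Matrix.det_smul, Matrix.det_one, mul_one, Fintype.card_fin] at hdet
      have hpow := congrArg f (pow_card_eq_one' (x := c ^ p))
      rw [map_pow, map_one, hcp, smul_pow, one_pow] at hpow
      have h1 : (a + b) ^ p = 1 :=
        eq_one_of_pow_odd hdet hodd (by simpa using congrFun (congrFun hpow 0) 0)
      rw [h1, one_smul, ← f.map_one] at hcp
      exact hf hcp
    · -- `g` is central, so `X` is commutative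
      have hcen : ∀ x : X, Commute x g := fun x =>
        commute_of_conj_commute hp hodd f hf hg hgp x (hab _ (hconj x g hgD) _ hgD)
      have hcomm : ∀ x y : X, Commute x y := fun x y => by
        obtain ⟨a, b, ha⟩ := eq_add_smul_of_comm hg (X := f x)
          (by rw [← map_mul, ← map_mul, (hcen x).eq])
        refine hf ?_
        rw [map_mul, map_mul, ha]
        have hy : f g * f y = f y * f g := by rw [← map_mul, ← map_mul, (hcen y).eq]
        simp [add_mul, mul_add, hy]
      have : commutator X = ⊥ := by
        rw [_root_.commutator_def, eq_bot_iff, Subgroup.commutator_le]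
        exact fun x _ y _ => commutatorElement_eq_one_iff_commute.2 (hcomm x y)
      rw [this, Subgroup.mem_bot] at hc
      rw [hc, one_pow]
  · push Not at hex
    have : commutator X = ⊥ := by
      rw [_root_.commutator_def, eq_bot_iff, Subgroup.commutator_le]
      intro x _ y _
      refine commutatorElement_eq_one_iff_commute.2 (hf ?_)
      rw [map_mul, map_mul, (isScalar2_iff _).1 (hex x)]
      simp
    rw [this, Subgroup.mem_bot] at hc
    rw [hc, one_pow]

end CfsgLib.OddOrder
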