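import Mathlib

/-!
The class two configuration in the proof that an operator of odd prime order without fixed
points centralizes a group of odd order (BG, Theorem 3.4).
-/

set_option autoImplicit false

namespace CfsgLib.OddOrder.LinearCore

open Finset
open scoped commutatorElement

/-- The integer inequality behind the contradiction: a vector of `r` multiplicities with a zero
entry cannot have sum `s` with `n * D ≤ s ^ 2` and square sum as small as `1 + (n - 1) * D / r`. -/
theorem nat_false {r n D : ℕ} (hr : Odd r) (hn : Odd n) (hn1 : 1 < n) (hD : 1 ≤ D)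
    (m : Fin r → ℕ) (i₀ : Fin r) (h0 : m i₀ = 0) (h1 : n * D ≤ (∑ i, m i) ^ 2)
    (h2 : r * ∑ i, m i ^ 2 + D ≤ r + n * D) : False := by
  classical
  set U := Finset.univ.filter fun i => m i ≠ 0 with hU
  set u := U.card with hu
  have hs : ∑ i, m i = ∑ i ∈ U, m i := (Finset.sum_filter_ne_zero _).symm
  have hq : ∑ i, m i ^ 2 = ∑ i ∈ U, m i ^ 2 := by
    rw [hU, Finset.sum_filter]
    exact Finset.sum_congr rfl fun i _ => by split_ifs with h <;> simp_all
  rw [hs] at h1
  rw [hq] at h2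
  set S := ∑ i ∈ U, m i with hS
  set T := ∑ i ∈ U, m i ^ 2 with hT
  have hcs : S ^ 2 ≤ u * T := sq_sum_le_card_mul_sum_sq
  have hTu : u ≤ T := by
    rw [hu, Finset.card_eq_sum_ones, hT]
    exact Finset.sum_le_sum fun i hi => Nat.one_le_pow _ _ (Nat.pos_of_ne_zero (Finset.mem_filter.1 hi).2)
  have hur : u + 1 ≤ r := by
    have : i₀ ∉ U := fun h => (Finset.mem_filter.1 h).2 h0
    have := Finset.card_lt_univ_of_notMem this
    rw [Fintype.card_fin] at this
    omega
  have hu1 : 1 ≤ u := by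
    by_contra h
    have : U = ∅ := Finset.card_eq_zero.1 (by omega)
    rw [hS, this, Finset.sum_empty] at h1
    have := Nat.mul_pos (by omega : 0 < n) hD
    omega
  -- the gap between `r * T` and `S ^ 2`
  have hgap : r * T + D ≤ r + S ^ 2 := h2.trans (by omega)
  have hTr : (r - u) * T + 1 ≤ r := by
    rw [Nat.sub_mul]
    have := Nat.mul_le_mul_right T (show u ≤ r by omega)
    omega
  have hTr' : (r - u) * u + 1 ≤ r := by
    have := Nat.mul_le_mul_left (r - u) hTu
    omega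
  have hcase : u = 1 ∨ u + 1 = r := by
    by_contra hc
    push Not at hc
    obtain ⟨a, ha⟩ : ∃ a, u = a + 2 := ⟨u - 2, by omega⟩
    obtain ⟨b, hb⟩ : ∃ b, r - u = b + 2 := ⟨r - u - 2, by omega⟩
    rw [hb, ha] at hTr'
    have : r = a + b + 4 := by omega
    nlinarith
  rcases hcase with hu' | hu'
  · -- a single nonzero multiplicity
    rw [hu'] at hcs hTr
    have hT1 : T = 1 := by
      by_contra h
      have h3 : (r - 1) * 2 ≤ (r - 1) * T := Nat.mul_le_mul_left _ (by omega)
      rcases hr with ⟨k, hk⟩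
      omega
    rw [hT1, mul_one] at hcs
    have := Nat.mul_le_mul_left n hD
    omega
  · -- all others nonzero, hence all equal to one
    have hT1 : T = u := by
      rw [show r - u = 1 by omega, one_mul] at hTr
      omega
    have hone : ∀ i ∈ U, m i = 1 := by
      intro i hi
      by_contra h
      have hlt : ∑ j ∈ U, (1 : ℕ) < ∑ j ∈ U, m j ^ 2 := by
        refine Finset.sum_lt_sum (fun j hj => Nat.one_le_pow _ _
          (Nat.pos_of_ne_zero (Finset.mem_filter.1 hj).2)) ⟨i, hi, ?_⟩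
        have : 2 ≤ m i := by
          have := (Finset.mem_filter.1 hi).2
          omega
        calc 1 < 2 ^ 2 := by norm_num
          _ ≤ m i ^ 2 := Nat.pow_le_pow_left this 2
      rw [← Finset.card_eq_sum_ones, ← hu, ← hT, hT1] at hlt
      exact lt_irrefl _ hlt
    have hSu : S = u := by rw [hS, Finset.sum_congr rfl hone, ← Finset.card_eq_sum_ones]
    rw [hSu] at h1 hgap
    rw [hT1] at hgap h2
    have hD1 : D = 1 := by nlinarith
    rw [hD1, mul_one] at h1 h2
    have : n = u ^ 2 := by nlinarith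
    obtain ⟨k, hk⟩ := hr
    rw [this, Nat.odd_pow_iff (by norm_num)] at hn
    obtain ⟨l, hl⟩ := hn
    omega

variable {K : Type*} [Field K] [IsAlgClosed K] {W : Type*} [AddCommGroup W] [Module K W]
  [FiniteDimensional K W]

/-- The fixed points of an operator of finite order under conjugation contain the endomorphisms
of its eigenspaces. -/
theorem sum_sq_finrank_le {r : ℕ} [NeZero r] (hrK : (r : K) ≠ 0) {ν : Module.End K W}
    (hνr : ν ^ r = 1) (hN : ∑ i ∈ range r, ν ^ i = 0) :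
    ∃ m : Fin r → ℕ, ∃ i₀, m i₀ = 0 ∧ Module.finrank K W = ∑ i, m i ∧
      ∑ i, m i ^ 2 ≤ Module.finrank K
        ↥(LinearMap.ker (LinearMap.mulLeft K ν - LinearMap.mulRight K ν)) := by
  classical
  have : NeZero (r : K) := ⟨hrK⟩
  obtain ⟨ω, hω⟩ := HasEnoughRootsOfUnity.exists_primitiveRoot K r
  set P : Fin r → Module.End K W := fun j =>
    (r : K)⁻¹ • ∑ i ∈ range r, ((ω ^ (j : ℕ))⁻¹ ^ i) • ν ^ i with hP
  have hω0 : ω ≠ 0 := hω.ne_zero (NeZero.ne r)
  -- `ν` acts on the image of `P j` by the scalar `ω ^ j`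
  have heig : ∀ j, ν * P j = (ω ^ (j : ℕ)) • P j := by
    intro j
    set c := ω ^ (j : ℕ) with hc
    have hc0 : c ≠ 0 := pow_ne_zero _ hω0
    have hcr : c ^ r = 1 := by rw [hc, ← pow_mul, mul_comm, pow_mul, hω.pow_eq_one, one_pow]
    simp only [hP, mul_smul_comm, Finset.mul_sum, ← pow_succ', ← hc]
    rw [smul_comm c]
    congr 1
    rw [Finset.smul_sum]
    obtain ⟨k, rfl⟩ : ∃ k, r = k + 1 := ⟨r - 1, (Nat.succ_pred_eq_of_ne_zero (NeZero.ne r)).symm⟩
    rw [Finset.sum_range_succ, Finset.sum_range_succ' (fun i => c • c⁻¹ ^ i • ν ^ i)]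
    congr 1
    · refine Finset.sum_congr rfl fun i _ => ?_
      rw [smul_smul, pow_succ' c⁻¹, ← mul_assoc, mul_inv_cancel₀ hc0, one_mul]
    · rw [hνr, pow_zero, pow_zero, one_smul]
      congr 1
      rw [inv_pow]
      exact inv_eq_of_mul_eq_one_right (by rw [← pow_succ]; exact hcr)
  have hsum : ∑ j, P j = 1 := by
    simp only [hP, ← Finset.smul_sum]
    rw [Finset.sum_comm]
    simp only [← Finset.sum_smul]
    have hgeo : ∀ i ∈ range r, (∑ j : Fin r, (ω ^ (j : ℕ))⁻¹ ^ i) = if i = 0 then (r : K) else 0 := by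
      intro i hi
      rw [Fin.sum_univ_eq_sum_range (fun j => (ω ^ j)⁻¹ ^ i) r]
      have : ∀ j : ℕ, (ω ^ j)⁻¹ ^ i = ((ω⁻¹) ^ i) ^ j := fun j => by
        rw [← inv_pow, ← pow_mul, ← pow_mul, mul_comm]
      simp only [this]
      split_ifs with h
      · simp [h]
      · have hne : (ω⁻¹) ^ i ≠ 1 := by
          rw [inv_pow, ne_eq, inv_eq_one]
          exact hω.pow_ne_one_of_pos_of_lt h (Finset.mem_range.1 hi)
        rw [geom_sum_eq hne, ← pow_mul, mul_comm, pow_mul, inv_pow, hω.pow_eq_one, inv_one,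
          one_pow, sub_self, zero_div]
    rw [Finset.sum_congr rfl fun i hi => by rw [hgeo i hi]]
    simp [ite_smul, Finset.sum_ite_eq', Nat.pos_of_ne_zero (NeZero.ne r), smul_smul,
      inv_mul_cancel₀ hrK]
  have hP0 : P ⟨0, Nat.pos_of_ne_zero (NeZero.ne r)⟩ = 0 := by
    simp [hP, hN]
  have hinj : ∀ j k : Fin r, ω ^ (j : ℕ) = ω ^ (k : ℕ) → j = k := fun j k h =>
    Fin.ext (hω.pow_inj j.2 k.2 h)
  have hcomm : ∀ j, Commute ν (P j) := fun j =>
    ((Commute.sum_right _ _ _ fun i _ => ((Commute.refl ν).pow_right i).smul_right _).smul_right _)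
  have horth : ∀ j k, j ≠ k → P j * P k = 0 := by
    intro j k hjk
    have h1 : ν * (P j * P k) = (ω ^ (j : ℕ)) • (P j * P k) := by
      rw [← mul_assoc, heig, smul_mul_assoc]
    have h2 : ν * (P j * P k) = (ω ^ (k : ℕ)) • (P j * P k) := by
      rw [← mul_assoc, (hcomm j).eq, mul_assoc, heig, mul_smul_comm]
    have h3 : (ω ^ (j : ℕ) - ω ^ (k : ℕ)) • (P j * P k) = 0 := by
      rw [sub_smul, ← h1, ← h2, sub_self]
    exact (smul_eq_zero.1 h3).resolve_left (sub_ne_zero.2 fun e => hjk (hinj _ _ e))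
  have hidem : ∀ j, P j * P j = P j := by
    intro j
    conv_rhs => rw [← mul_one (P j), ← hsum, Finset.mul_sum]
    exact (Finset.sum_eq_single_of_mem j (Finset.mem_univ _)
      fun k _ hk => horth j k (Ne.symm hk)).symm
  let R : Fin r → Submodule K W := fun j => LinearMap.range (P j)
  let eqv : W ≃ₗ[K] Π j, R j :=
    { toFun := fun w j => ⟨P j w, LinearMap.mem_range_self _ w⟩
      map_add' := fun a b => by ext j; simp
      map_smul' := fun c a => by ext j; simp
      invFun := fun f => ∑ j, (f j : W)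
      left_inv := fun w => by
        show ∑ j, P j w = w
        rw [← LinearMap.sum_apply, hsum, Module.End.one_apply]
      right_inv := fun f => by
        ext j
        show P j (∑ k, (f k : W)) = f j
        rw [map_sum, Finset.sum_eq_single_of_mem j (Finset.mem_univ _)]
        · obtain ⟨w, hw⟩ := (f j).2
          rw [← hw, ← Module.End.mul_apply, hidem]
        · intro k _ hk
          obtain ⟨w, hw⟩ := (f k).2
          rw [← hw, ← Module.End.mul_apply, horth j k (Ne.symm hk), LinearMap.zero_apply] }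
  refine ⟨fun j => Module.finrank K (R j), ⟨0, Nat.pos_of_ne_zero (NeZero.ne r)⟩, ?_, ?_, ?_⟩
  · show Module.finrank K (LinearMap.range (P ⟨0, _⟩)) = 0
    rw [hP0, LinearMap.range_zero, finrank_bot]
  · rw [eqv.finrank_eq, Module.finrank_pi_fintype]
  · -- block diagonal endomorphisms commute with `ν`
    let emb : (Π j, Module.End K (R j)) →ₗ[K] Module.End K W :=
      { toFun := fun f => ∑ j, (R j).subtype ∘ₗ (f j) ∘ₗ (P j).rangeRestrict
        map_add' := fun f g => by
          simp [LinearMap.add_comp, LinearMap.comp_add, Finset.sum_add_distrib]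
        map_smul' := fun c f => by
          simp [LinearMap.smul_comp, LinearMap.comp_smul, Finset.smul_sum] }
    have hemb : ∀ f j (v : R j), P j (emb f v) = (f j v : W) := by
      intro f j v
      obtain ⟨w, hw⟩ := v.2
      have hv : ∀ k, (P k).rangeRestrict (v : W) = if h : k = j then h ▸ v else 0 := by
        intro k
        split_ifs with h
        · subst h
          ext
          show P k (v : W) = v
          rw [← hw, ← Module.End.mul_apply, hidem]
        · ext
          show P k (v : W) = 0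
          rw [← hw, ← Module.End.mul_apply, horth k j h, LinearMap.zero_apply]
      show P j ((∑ k, (R k).subtype ∘ₗ (f k) ∘ₗ (P k).rangeRestrict) (v : W)) = _
      simp only [LinearMap.sum_apply, LinearMap.comp_apply, hv]
      rw [Finset.sum_eq_single_of_mem j (Finset.mem_univ _)]
      · rw [dif_pos rfl]
        obtain ⟨u, hu⟩ := (f j v).2
        show P j (f j v : W) = _
        rw [← hu, ← Module.End.mul_apply, hidem]
      · intro k _ hk
        rw [dif_neg hk, map_zero, map_zero]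
    have hembinj : Function.Injective emb := by
      intro f g h
      ext j v
      rw [← hemb f j v, ← hemb g j v, h]
    have hmem : ∀ f, emb f ∈ LinearMap.ker (LinearMap.mulLeft K ν - LinearMap.mulRight K ν) := by
      intro f
      rw [LinearMap.mem_ker, LinearMap.sub_apply, LinearMap.mulLeft_apply, LinearMap.mulRight_apply,
        sub_eq_zero]
      refine LinearMap.ext fun w => ?_
      show ν ((∑ k, (R k).subtype ∘ₗ (f k) ∘ₗ (P k).rangeRestrict) w) =
        (∑ k, (R k).subtype ∘ₗ (f k) ∘ₗ (P k).rangeRestrict) (ν w)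
      simp only [LinearMap.sum_apply, map_sum, LinearMap.comp_apply]
      refine Finset.sum_congr rfl fun k _ => ?_
      have h1 : (P k).rangeRestrict (ν w) = (ω ^ (k : ℕ)) • (P k).rangeRestrict w := by
        ext
        show P k (ν w) = ω ^ (k : ℕ) • P k w
        rw [← Module.End.mul_apply, ← (hcomm k).eq, heig, LinearMap.smul_apply]
      rw [h1, map_smul, map_smul]
      obtain ⟨u, hu⟩ := (f k ((P k).rangeRestrict w)).2
      show ν (f k _ : W) = ω ^ (k : ℕ) • (f k _ : W)
      rw [← hu, ← Module.End.mul_apply, heig, LinearMap.smul_apply]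
    have h := LinearMap.finrank_le_finrank_of_injective
      (f := emb.codRestrict _ hmem) fun a b h => hembinj (congrArg Subtype.val h)
    rw [Module.finrank_pi_fintype] at h
    refine le_of_eq_of_le (Finset.sum_congr rfl fun j _ => ?_) h
    rw [Module.finrank_linearMap, sq]

variable {Γ : Type*} [Group Γ] [Finite Γ] (ρ : Γ →* Module.End K W)

/-- Averaging over the conjugates under `Q`. -/
noncomputable def avgQ (Q : Subgroup Γ) : Module.End K W →ₗ[K] Module.End K W :=
  have := Fintype.ofFinite Q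
  ∑ f : Q, (LinearMap.mulLeft K (ρ (f : Γ))).comp (LinearMap.mulRight K (ρ ((f : Γ)⁻¹)))

omit [IsAlgClosed K] [FiniteDimensional K W] in
theorem avgQ_apply (Q : Subgroup Γ) [Fintype Q] (e : Module.End K W) :
    avgQ ρ Q e = ∑ f : Q, ρ (f : Γ) * (e * ρ ((f : Γ)⁻¹)) := by
  rw [avgQ, Subsingleton.elim (Fintype.ofFinite Q) ‹Fintype Q›]
  simp [LinearMap.sum_apply]

/-- The class two configuration is impossible. -/
theorem false_of_class_two [Nontrivial W] {Q Z : Subgroup Γ} {x : Γ} {r : ℕ} (hr : r.Prime)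
    (hr2 : r ≠ 2) (hrK : (r : K) ≠ 0) (hxr : x ^ r = 1) (hQK : (Nat.card Q : K) ≠ 0)
    (hodd : Odd (Nat.card Q)) (hxQ : x ∈ Subgroup.normalizer (Q : Set Γ))
    (hN : ∑ i ∈ range r, ρ x ^ i = 0)
    (hsch : ∀ e : Module.End K W, Commute e (ρ x) → (∀ g ∈ Q, Commute e (ρ g)) →
      ∃ c : K, e = c • 1)
    (hinj : ∀ g ∈ Q, ρ g = 1 → g = 1) (hZQ : Z ≤ Q)
    (hZc : ∀ z ∈ Z, (∀ g ∈ Q, Commute z g) ∧ Commute z x)
    (hcomm : ∀ g ∈ Q, ∀ h ∈ Q, ⁅g, h⁆ ∈ Z) (hnd : ∀ g ∈ Q, g ∉ Z → ∃ h ∈ Q, ⁅h, g⁆ ≠ 1)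
    (hfree : ∀ g ∈ Q, x * g * x⁻¹ * g⁻¹ ∈ Z → g ∈ Z) (hne : Z ≠ Q) : False := by
  classical
  let _ := Fintype.ofFinite Q
  let Z' : Subgroup Q := Z.subgroupOf Q
  have : Z'.Normal := ⟨fun z hz g => by
    have hz' : (z : Γ) ∈ Z := hz
    show ((g * z * g⁻¹ : Q) : Γ) ∈ Z
    rw [Subgroup.coe_mul, Subgroup.coe_mul, ← ((hZc _ hz').1 _ g.2).eq, Subgroup.coe_inv,
      mul_inv_cancel_right]
    exact hz'⟩
  let _ := Fintype.ofFinite (Q ⧸ Z')
  -- elements of `Z` act as scalars
  have hscal : ∀ z ∈ Z, ∃ c : K, c ≠ 0 ∧ ρ z = c • 1 := by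
    intro z hz
    obtain ⟨c, hc⟩ := hsch (ρ z) ((hZc z hz).2.map ρ) (fun g hg => ((hZc z hz).1 g hg).map ρ)
    refine ⟨c, fun h => ?_, hc⟩
    have h1 : ρ z * ρ z⁻¹ = 1 := by rw [← map_mul, mul_inv_cancel, map_one]
    rw [hc, h, zero_smul, zero_mul] at h1
    exact zero_ne_one h1
  -- character sums
  have hchar : ∀ g ∈ Q, g ∉ Z → ∑ f : Q, ρ ⁅(f : Γ), g⁆ = 0 := by
    intro g hg hgZ
    obtain ⟨h, hh, hne1⟩ := hnd g hg hgZ
    have hz := hcomm h hh g hg
    obtain ⟨c, -, hc⟩ := hscal _ hz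
    have hc1 : c ≠ 1 := fun e => hne1 (hinj _ (hZQ hz) (by rw [hc, e, one_smul]))
    set S := ∑ f : Q, ρ ⁅(f : Γ), g⁆ with hS
    have hshift : c • S = S := by
      rw [hS, Finset.smul_sum]
      refine Fintype.sum_equiv (Equiv.mulLeft (⟨h, hh⟩ : Q)) _ _ fun f => ?_
      have e : ⁅h * (f : Γ), g⁆ = ⁅(f : Γ), g⁆ * ⁅h, g⁆ := by
        have := ((hZc _ (hcomm f f.2 g hg)).1 h hh).eq
        rw [commutatorElement_def, commutatorElement_def, commutatorElement_def] at *
        calc h * ↑f * g * (h * ↑f)⁻¹ * g⁻¹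
            = h * (↑f * g * (↑f)⁻¹ * g⁻¹) * (g * h⁻¹ * g⁻¹) := by group
          _ = (↑f * g * (↑f)⁻¹ * g⁻¹) * h * (g * h⁻¹ * g⁻¹) := by rw [this]
          _ = _ := by group
      rw [Equiv.coe_mulLeft, Subgroup.coe_mul, e, map_mul, hc, mul_smul_comm, mul_one]
    have h3 : (c - 1) • S = 0 := by rw [sub_smul, one_smul, hshift, sub_self]
    exact (smul_eq_zero.1 h3).resolve_left (sub_ne_zero.2 hc1)
  -- the centralizer of `Q`
  let C : Submodule K (Module.End K W) :=
    { carrier := {e | ∀ g ∈ Q, Commute e (ρ g)}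
      add_mem' := fun ha hb g hg => (ha g hg).add_left (hb g hg)
      zero_mem' := fun g _ => Commute.zero_left _
      smul_mem' := fun c e he g hg => (he g hg).smul_left c }
  have hCx : ∀ γ ∈ Subgroup.normalizer (Q : Set Γ), ∀ c ∈ C, ρ γ * c * ρ γ⁻¹ ∈ C := by
    intro γ hγ c hc g hg
    have hg' : γ⁻¹ * g * γ ∈ Q := (Subgroup.mem_normalizer_iff''.1 hγ g).1 hg
    have e1 : ρ γ * ρ (γ⁻¹ * g * γ) = ρ g * ρ γ := by
      rw [← map_mul, ← map_mul]; congr 1; group
    have e2 : ρ (γ⁻¹ * g * γ) * ρ γ⁻¹ = ρ γ⁻¹ * ρ g := by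
      rw [← map_mul, ← map_mul]; congr 1; group
    show ρ γ * c * ρ γ⁻¹ * ρ g = ρ g * (ρ γ * c * ρ γ⁻¹)
    calc ρ γ * c * ρ γ⁻¹ * ρ g = ρ γ * c * ρ (γ⁻¹ * g * γ) * ρ γ⁻¹ := by
          rw [mul_assoc _ (ρ γ⁻¹) (ρ g), ← e2]; simp [mul_assoc]
      _ = ρ γ * ρ (γ⁻¹ * g * γ) * c * ρ γ⁻¹ := by
          rw [mul_assoc (ρ γ) c, (hc _ hg').eq]; simp [mul_assoc]
      _ = ρ g * (ρ γ * c * ρ γ⁻¹) := by rw [e1]; simp [mul_assoc]
  -- averaging kills the nontrivial cosets
  have havg : ∀ c ∈ C, ∀ g ∈ Q, avgQ ρ Q (c * ρ g) =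
      if g ∈ Z then (Nat.card Q : K) • (c * ρ g) else 0 := by
    intro c hc g hg
    have hf : ∀ f : Q, ρ (f : Γ) * (c * ρ g * ρ ((f : Γ)⁻¹)) = c * (ρ ⁅(f : Γ), g⁆ * ρ g) := by
      intro f
      rw [← map_mul ρ ⁅(f : Γ), g⁆ g, mul_assoc c, ← map_mul, ← mul_assoc, ← (hc _ f.2).eq,
        mul_assoc, ← map_mul]
      congr 2
      rw [commutatorElement_def]
      group
    rw [avgQ_apply, Finset.sum_congr rfl fun f _ => hf f, ← Finset.mul_sum, ← Finset.sum_mul]
    split_ifs with hgZ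
    · have : ∀ f : Q, ρ ⁅(f : Γ), g⁆ = 1 := fun f => by
        rw [commutatorElement_def, ← ((hZc g hgZ).1 _ f.2).eq]
        simp
      simp [this, ← Nat.card_eq_fintype_card, ← Nat.cast_smul_eq_nsmul K]
    · rw [hchar g hg hgZ, zero_mul, mul_zero]
  have hxpow : ∀ i : ℕ, x ^ i ∈ Subgroup.normalizer (Q : Set Γ) := fun i => pow_mem hxQ i
  -- the action of `x` on the quotient
  let φb : Q ⧸ Z' → Q ⧸ Z' := Quotient.map'
    (fun g : Q => (⟨x * g * x⁻¹, (Subgroup.mem_normalizer_iff.1 hxQ g).1 g.2⟩ : Q))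
    (by
      intro a b hab
      rw [QuotientGroup.leftRel_apply] at hab ⊢
      have hz : ((a : Γ))⁻¹ * b ∈ Z := hab
      show (x * (a : Γ) * x⁻¹)⁻¹ * (x * b * x⁻¹) ∈ Z
      have h := ((hZc _ hz).2).eq
      have : (x * (a : Γ) * x⁻¹)⁻¹ * (x * b * x⁻¹) = (a : Γ)⁻¹ * b := by
        calc (x * (a : Γ) * x⁻¹)⁻¹ * (x * b * x⁻¹) = x * ((a : Γ)⁻¹ * b) * x⁻¹ := by group
          _ = _ := by rw [← h, mul_inv_cancel_right]
      rw [this]
      exact hz)
  have hφit : ∀ (i : ℕ) (g : Q), φb^[i] (QuotientGroup.mk g) =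
      QuotientGroup.mk (⟨x ^ i * g * (x ^ i)⁻¹,
        (Subgroup.mem_normalizer_iff.1 (hxpow i) g).1 g.2⟩ : Q) := by
    intro i
    induction i with
    | zero => intro g; simp
    | succ i ih =>
      intro g
      rw [Function.iterate_succ_apply', ih]
      refine congrArg QuotientGroup.mk (Subtype.ext ?_)
      show x * (x ^ i * g * (x ^ i)⁻¹) * x⁻¹ = x ^ (i + 1) * g * (x ^ (i + 1))⁻¹
      rw [pow_succ']
      group
  have hper : ∀ a, φb^[r] a = a := by
    intro a
    induction a using QuotientGroup.induction_on with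
    | H g =>
      rw [hφit]
      congr 1
      ext
      simp [hxr]
  have hfix : ∀ a, φb a = a → a = 1 := by
    intro a
    induction a using QuotientGroup.induction_on with
    | H g =>
      intro h
      rw [← Function.iterate_one φb, hφit, QuotientGroup.eq] at h
      rw [QuotientGroup.eq_one_iff]
      show (g : Γ) ∈ Z
      refine hfree g g.2 ?_
      have h' : (x ^ 1 * (g : Γ) * (x ^ 1)⁻¹)⁻¹ * g ∈ Z := h
      rw [pow_one] at h'
      have h2 := inv_mem h'
      rw [mul_inv_rev, inv_inv] at h2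
      -- both differences lie in `Z`
      have h3 := ((hZc _ h2).1 _ g.2).eq
      have : x * (g : Γ) * x⁻¹ * (g : Γ)⁻¹ = (g : Γ)⁻¹ * (x * g * x⁻¹) := by
        calc x * (g : Γ) * x⁻¹ * (g : Γ)⁻¹
            = ((g : Γ) * ((g : Γ)⁻¹ * (x * g * x⁻¹))) * (g : Γ)⁻¹ := by group
          _ = _ := by rw [← h3, mul_inv_cancel_right]
      rw [this]
      exact h2
  have hfree' : ∀ a, a ≠ 1 → ∀ i < r, i ≠ 0 → φb^[i] a ≠ a := by
    intro a ha i hi hi0 h
    have h2 := Function.IsPeriodicPt.gcd (show Function.IsPeriodicPt φb r a from hper a) h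
    rw [(hr.coprime_iff_not_dvd.2 (Nat.not_dvd_of_pos_of_lt (Nat.pos_of_ne_zero hi0) hi))] at h2
    exact ha (hfix a h2)
  -- the orbits
  have hmod : ∀ (i : ℕ) a, φb^[i] a = φb^[i % r] a := fun i a =>
    ((show Function.IsPeriodicPt φb r a from hper a).iterate_mod_apply i).symm
  let Orb : Setoid {a : Q ⧸ Z' // a ≠ 1} :=
    { r := fun a b => ∃ i, φb^[i] a.1 = b.1
      iseqv := ⟨fun a => ⟨0, rfl⟩, fun {a b} ⟨i, hi⟩ => ⟨r - i % r, by
          rw [← hi, hmod i, ← Function.iterate_add_apply,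
            Nat.sub_add_cancel (Nat.mod_lt _ hr.pos).le, hper]⟩,
        fun {a b c} ⟨i, hi⟩ ⟨j, hj⟩ => ⟨j + i, by rw [Function.iterate_add_apply, hi, hj]⟩⟩ }
  let T := Quotient Orb
  let _ := Fintype.ofFinite T
  have hφ1 : ∀ (i : ℕ) a, a ≠ 1 → φb^[i] a ≠ 1 := by
    intro i a ha h
    apply ha
    have h1 : φb^[r - i % r + i % r] a = φb^[r - i % r] 1 := by
      rw [Function.iterate_add_apply, ← hmod, h]
    rw [Nat.sub_add_cancel (Nat.mod_lt _ hr.pos).le, hper] at h1
    rw [h1, ← QuotientGroup.mk_one, hφit]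
    congr 1
    ext
    simp
  have hT : r * Nat.card T + 1 ≤ Nat.card (Q ⧸ Z') := by
    let f : Fin r × T → {a : Q ⧸ Z' // a ≠ 1} := fun p =>
      ⟨φb^[(p.1 : ℕ)] (Quotient.out p.2).1, hφ1 _ _ (Quotient.out p.2).2⟩
    have hf : Function.Injective f := by
      rintro ⟨i, t⟩ ⟨j, t'⟩ h
      have h' : φb^[(i : ℕ)] (Quotient.out t).1 = φb^[(j : ℕ)] (Quotient.out t').1 :=
        congrArg Subtype.val h
      have ht : t = t' := by
        rw [← Quotient.out_eq t, ← Quotient.out_eq t']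
        refine Quotient.sound ⟨r - (j : ℕ) + i, ?_⟩
        rw [Function.iterate_add_apply, h', ← Function.iterate_add_apply,
          Nat.sub_add_cancel j.2.le, hper]
      subst ht
      have key : ∀ i j : Fin r, (i : ℕ) ≤ j →
          φb^[(i : ℕ)] (Quotient.out t).1 = φb^[(j : ℕ)] (Quotient.out t).1 → i = j := by
        intro i j hle hh
        by_contra hij
        have hne' : (i : ℕ) ≠ j := fun e => hij (Fin.ext e)
        refine hfree' _ (hφ1 i _ (Quotient.out t).2) ((j : ℕ) - i) (by omega) (by omega) ?_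
        rw [← Function.iterate_add_apply, Nat.sub_add_cancel hle]
        exact hh.symm
      rcases le_total (i : ℕ) j with hle | hle
      · rw [key i j hle h']
      · rw [key j i hle h'.symm]
    have h := Nat.card_le_card_of_injective f hf
    rw [Nat.card_prod, Nat.card_fin] at h
    have h2 : Nat.card {a : Q ⧸ Z' // a ≠ 1} + 1 = Nat.card (Q ⧸ Z') := by
      rw [Nat.card_eq_fintype_card, Nat.card_eq_fintype_card, Fintype.card_subtype_compl,
        Fintype.card_subtype_eq]
      have := Fintype.card_pos (α := Q ⧸ Z')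
      omega
    omega
  have hout : ∀ a : Q ⧸ Z', a ≠ 1 → ((Quotient.out a : Q) : Γ) ∉ Z := fun a ha h => ha (by
    rw [← QuotientGroup.out_eq' a, QuotientGroup.eq_one_iff]
    exact h)
  -- lower bound for `dim End W`
  have hJ : Nat.card (Q ⧸ Z') * Module.finrank K C ≤ Module.finrank K W ^ 2 := by
    let J : (Q ⧸ Z' → C) →ₗ[K] Module.End K W :=
      { toFun := fun c => ∑ a, (c a : Module.End K W) * ρ ((Quotient.out a : Q) : Γ)
        map_add' := fun c d => by simp [add_mul, Finset.sum_add_distrib]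
        map_smul' := fun k c => by simp [Finset.smul_sum] }
    have hJinj : Function.Injective J := by
      rw [← LinearMap.ker_eq_bot, LinearMap.ker_eq_bot']
      intro c hc
      funext b
      apply Subtype.ext
      set gb : Γ := ((Quotient.out b : Q) : Γ) with hgb
      have h1 : avgQ ρ Q (J c * ρ gb⁻¹) =
          (Nat.card Q : K) • ((c b : Module.End K W) * ρ (gb * gb⁻¹)) := by
        show avgQ ρ Q ((∑ a, (c a : Module.End K W) * ρ ((Quotient.out a : Q) : Γ)) * ρ gb⁻¹) = _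
        rw [Finset.sum_mul, map_sum, Finset.sum_eq_single_of_mem b (Finset.mem_univ _)]
        · rw [mul_assoc, ← map_mul, havg _ (c b).2 _ (mul_mem (SetLike.coe_mem _)
            (inv_mem (SetLike.coe_mem _))), if_pos (by simp)]
        · intro a _ hab
          rw [mul_assoc, ← map_mul, havg _ (c a).2 _ (mul_mem (SetLike.coe_mem _)
            (inv_mem (SetLike.coe_mem _))), if_neg]
          intro hz
          apply hab
          rw [← QuotientGroup.out_eq' a, ← QuotientGroup.out_eq' b, QuotientGroup.eq]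
          show ((Quotient.out a : Q) : Γ)⁻¹ * gb ∈ Z
          have h3 := inv_mem hz
          rw [mul_inv_rev, inv_inv] at h3
          have h4 := ((hZc _ h3).1 _ (SetLike.coe_mem (Quotient.out a : Q))).eq
          have : ((Quotient.out a : Q) : Γ)⁻¹ * gb = gb * ((Quotient.out a : Q) : Γ)⁻¹ := by
            calc ((Quotient.out a : Q) : Γ)⁻¹ * gb = ((Quotient.out a : Q) : Γ)⁻¹ *
                ((gb * ((Quotient.out a : Q) : Γ)⁻¹) * ((Quotient.out a : Q) : Γ)) := by group
              _ = _ := by rw [h4, inv_mul_cancel_left]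
          rw [this]
          exact h3
      rw [hc, zero_mul, map_zero, mul_inv_cancel, map_one, mul_one] at h1
      simpa using (smul_eq_zero.1 h1.symm).resolve_left hQK
    have h := LinearMap.finrank_le_finrank_of_injective hJinj
    rwa [Module.finrank_pi_fintype, Finset.sum_const, Finset.card_univ,
      ← Nat.card_eq_fintype_card, smul_eq_mul, Module.finrank_linearMap, ← sq] at h
  -- averaging over `x`
  let Avg : Module.End K W →ₗ[K] Module.End K W := ∑ i ∈ range r,
    (LinearMap.mulLeft K (ρ (x ^ i))).comp (LinearMap.mulRight K (ρ (x ^ i)⁻¹))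
  have hAvg : ∀ e, Avg e = ∑ i ∈ range r, ρ (x ^ i) * (e * ρ (x ^ i)⁻¹) := fun e => by
    simp [Avg, LinearMap.sum_apply]
  have hAvg1 : ∀ e, Avg (ρ x * (e * ρ x⁻¹)) = Avg e := by
    intro e
    have h1 : ∀ i : ℕ, ρ (x ^ i) * (ρ x * (e * ρ x⁻¹) * ρ (x ^ i)⁻¹) =
        ρ (x ^ (i + 1)) * (e * ρ (x ^ (i + 1))⁻¹) := fun i => by
      rw [pow_succ, mul_inv_rev, map_mul, map_mul]
      simp [mul_assoc]
    rw [hAvg, hAvg, Finset.sum_congr rfl fun i _ => h1 i]
    obtain ⟨k, rfl⟩ : ∃ k, r = k + 1 := ⟨r - 1, by have := hr.pos; omega⟩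
    rw [Finset.sum_range_succ, Finset.sum_range_succ' (fun i => ρ (x ^ i) * (e * ρ (x ^ i)⁻¹))]
    simp [hxr]
  have hAvgpow : ∀ (i : ℕ) e, Avg (ρ (x ^ i) * (e * ρ (x ^ i)⁻¹)) = Avg e := by
    intro i
    induction i with
    | zero => intro e; simp
    | succ i ih =>
      intro e
      have : ρ (x ^ (i + 1)) * (e * ρ (x ^ (i + 1))⁻¹) =
          ρ x * ((ρ (x ^ i) * (e * ρ (x ^ i)⁻¹)) * ρ x⁻¹) := by
        rw [pow_succ', mul_inv_rev, map_mul, map_mul]
        simp [mul_assoc]
      rw [this, hAvg1, ih]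
  -- upper bound for the fixed points
  let Fx : Submodule K (Module.End K W) :=
    LinearMap.ker (LinearMap.mulLeft K (ρ x) - LinearMap.mulRight K (ρ x))
  let Ψ : (K × (T → C)) →ₗ[K] Module.End K W :=
    { toFun := fun p => p.1 • 1 +
        ∑ t, Avg ((p.2 t : Module.End K W) * ρ ((Quotient.out (Quotient.out t).1 : Q) : Γ))
      map_add' := fun p q => by
        simp only [Prod.fst_add, Prod.snd_add, Pi.add_apply, Submodule.coe_add, add_mul, map_add,
          Finset.sum_add_distrib, add_smul]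
        abel
      map_smul' := fun k p => by
        simp [smul_add, smul_smul, Finset.smul_sum] }
  have hterm : ∀ c ∈ C, ∀ g ∈ Q, Avg (c * ρ g) ∈ LinearMap.range Ψ := by
    intro c hc g hg
    by_cases hgZ : g ∈ Z
    · obtain ⟨z, -, hz⟩ := hscal g hgZ
      rw [hz, mul_smul_comm, mul_one, map_smul]
      refine Submodule.smul_mem _ _ ?_
      have h1 : Commute (Avg c) (ρ x) := by
        have hx1 : ρ x * ρ x⁻¹ = 1 := by rw [← map_mul, mul_inv_cancel, map_one]
        have hx2 : ρ x⁻¹ * ρ x = 1 := by rw [← map_mul, inv_mul_cancel, map_one]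
        have h2 : ρ x * Avg c * ρ x⁻¹ = Avg (ρ x * (c * ρ x⁻¹)) := by
          rw [hAvg, hAvg, Finset.mul_sum, Finset.sum_mul]
          refine Finset.sum_congr rfl fun i _ => ?_
          have e1 : ρ x * ρ (x ^ i) = ρ (x ^ i) * ρ x := by
            rw [← map_mul, ← map_mul, ← pow_succ', pow_succ]
          have e2 : ρ (x ^ i)⁻¹ * ρ x⁻¹ = ρ x⁻¹ * ρ (x ^ i)⁻¹ := by
            rw [← map_mul, ← map_mul, ← mul_inv_rev, ← mul_inv_rev, ← pow_succ', pow_succ]
          rw [← mul_assoc, e1]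
          simp only [mul_assoc, e2]
        rw [hAvg1] at h2
        show Avg c * ρ x = ρ x * Avg c
        conv_lhs => rw [← h2]
        rw [mul_assoc, hx2, mul_one]
      obtain ⟨k, hk⟩ := hsch (Avg c) h1 (fun q hq => by
        rw [hAvg]
        refine Commute.sum_left _ _ _ fun i _ => ?_
        rw [← mul_assoc]
        exact hCx _ (hxpow i) c hc q hq)
      rw [hk]
      refine ⟨(k, 0), ?_⟩
      simp [Ψ]
    · set a : Q ⧸ Z' := QuotientGroup.mk ⟨g, hg⟩ with ha
      have ha1 : a ≠ 1 := fun h => hgZ ((QuotientGroup.eq_one_iff (N := Z') ⟨g, hg⟩).1 h)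
      set t : T := Quotient.mk Orb ⟨a, ha1⟩ with ht
      obtain ⟨i, hi⟩ : ∃ i, φb^[i] (Quotient.out t).1 = a :=
        Quotient.exact (Quotient.out_eq t)
      set u : Q := Quotient.out (Quotient.out t).1 with hu
      rw [← QuotientGroup.out_eq' (Quotient.out t).1, hφit, ha, QuotientGroup.eq] at hi
      have hi' : (x ^ i * (u : Γ) * (x ^ i)⁻¹)⁻¹ * g ∈ Z := hi
      obtain ⟨z, -, hz⟩ := hscal _ hi'
      have hg' : ρ g = z • (ρ (x ^ i) * ρ (u : Γ) * ρ (x ^ i)⁻¹) := by
        conv_lhs => rw [show g = x ^ i * (u : Γ) * (x ^ i)⁻¹ *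
          ((x ^ i * (u : Γ) * (x ^ i)⁻¹)⁻¹ * g) from (mul_inv_cancel_left _ _).symm]
        rw [map_mul, hz, mul_smul_comm, mul_one, map_mul, map_mul]
      have hc' : ρ (x ^ i)⁻¹ * c * ρ (x ^ i) ∈ C := by
        have := hCx _ (inv_mem (hxpow i)) c hc
        rwa [inv_inv] at this
      have hcg : c * (ρ (x ^ i) * ρ (u : Γ) * ρ (x ^ i)⁻¹) =
          ρ (x ^ i) * ((ρ (x ^ i)⁻¹ * c * ρ (x ^ i)) * ρ (u : Γ) * ρ (x ^ i)⁻¹) := by
        simp only [← mul_assoc, ← map_mul ρ (x ^ i) (x ^ i)⁻¹, mul_inv_cancel, map_one, one_mul]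
      rw [hg', mul_smul_comm, map_smul, hcg, hAvgpow]
      refine Submodule.smul_mem _ _ ⟨(0, Pi.single t ⟨_, hc'⟩), ?_⟩
      show (0 : K) • 1 + ∑ t', Avg _ = _
      rw [zero_smul, zero_add, Finset.sum_eq_single_of_mem t (Finset.mem_univ _)]
      · simp only [Pi.single_eq_same]
        rfl
      · intro t' _ hne'
        simp [Pi.single_eq_of_ne hne']
  have hspan : ∀ e ∈ Fx, e ∈ LinearMap.range Ψ := by
    intro e he
    have hex : ρ x * e = e * ρ x := by
      have := LinearMap.mem_ker.1 he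
      rwa [LinearMap.sub_apply, LinearMap.mulLeft_apply, LinearMap.mulRight_apply, sub_eq_zero]
        at this
    have hfixe : Avg e = (r : K) • e := by
      have hi : ∀ i : ℕ, ρ (x ^ i) * (e * ρ (x ^ i)⁻¹) = e := by
        intro i
        rw [← mul_assoc, map_pow, ((Commute.pow_left (show Commute (ρ x) e from hex) i)).eq,
          mul_assoc, ← map_pow, ← map_mul, mul_inv_cancel, map_one, mul_one]
      rw [hAvg, Finset.sum_congr rfl fun i _ => hi i, Finset.sum_const, Finset.card_range,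
        Nat.cast_smul_eq_nsmul K]
    have hrec : ∑ g : Q, avgQ ρ Q (e * ρ (g : Γ)⁻¹) * ρ (g : Γ) =
        ((Nat.card Z' : K) * (Nat.card Q : K)) • e := by
      simp only [avgQ_apply, Finset.sum_mul]
      rw [Finset.sum_comm]
      have hin : ∀ f : Q, ∑ g : Q, ρ (f : Γ) * (e * ρ (g : Γ)⁻¹ * ρ (f : Γ)⁻¹) * ρ (g : Γ) =
          if (f : Γ) ∈ Z then (Nat.card Q : K) • e else 0 := by
        intro f
        have h1 : ∀ g : Q, ρ (f : Γ) * (e * ρ (g : Γ)⁻¹ * ρ (f : Γ)⁻¹) * ρ (g : Γ) =
            ρ (f : Γ) * e * (ρ ⁅((g⁻¹ : Q) : Γ), (f : Γ)⁻¹⁆ * ρ (f : Γ)⁻¹) := by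
          intro g
          simp only [← map_mul, mul_assoc]
          congr 3
          rw [commutatorElement_def, Subgroup.coe_inv]
          group
        rw [Finset.sum_congr rfl fun g _ => h1 g, ← Finset.mul_sum, ← Finset.sum_mul,
          Fintype.sum_equiv (Equiv.inv Q) (fun g : Q => ρ ⁅((g⁻¹ : Q) : Γ), (f : Γ)⁻¹⁆)
            (fun g : Q => ρ ⁅(g : Γ), (f : Γ)⁻¹⁆) (fun g => rfl)]
        split_ifs with hf
        · obtain ⟨z, -, hz⟩ := hscal _ hf
          have hone : ∀ g : Q, ρ ⁅(g : Γ), (f : Γ)⁻¹⁆ = 1 := fun g => by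
            rw [commutatorElement_def, ← ((hZc _ (inv_mem hf)).1 _ g.2).eq]
            simp
          simp only [hone, Finset.sum_const, Finset.card_univ, ← Nat.card_eq_fintype_card,
            ← Nat.cast_smul_eq_nsmul K, smul_mul_assoc, one_mul, mul_smul_comm]
          congr 1
          rw [(show Commute (ρ (f : Γ)) e from by rw [hz]; exact (Commute.one_left e).smul_left z).eq,
            mul_assoc, ← map_mul, mul_inv_cancel, map_one, mul_one]
        · rw [hchar _ (inv_mem f.2) (fun h => hf (inv_mem_iff.1 h)), zero_mul, mul_zero]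
      rw [Finset.sum_congr rfl fun f _ => hin f, Finset.sum_ite, Finset.sum_const_zero, add_zero,
        Finset.sum_const, ← Nat.cast_smul_eq_nsmul K, smul_smul]
      congr 2
      rw [Nat.card_eq_fintype_card, ← Fintype.card_subtype]
      rfl
    have hne0 : (Nat.card Z' : K) * (Nat.card Q : K) ≠ 0 := by
      refine mul_ne_zero (fun h => hQK ?_) hQK
      obtain ⟨k, hk⟩ := Subgroup.card_subgroup_dvd_card Z'
      rw [hk, Nat.cast_mul, h, zero_mul]
    have hAC : ∀ e', avgQ ρ Q e' ∈ C := by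
      intro e' g hg
      show avgQ ρ Q e' * ρ g = ρ g * avgQ ρ Q e'
      rw [avgQ_apply, Finset.sum_mul, Finset.mul_sum]
      refine (Fintype.sum_equiv (Equiv.mulLeft (⟨g, hg⟩ : Q)) _ _ fun f => ?_).symm
      rw [Equiv.coe_mulLeft, Subgroup.coe_mul, mul_inv_rev]
      simp only [map_mul, mul_assoc]
      rw [← map_mul, inv_mul_cancel, map_one, mul_one]
    have key : ((r : K) * ((Nat.card Z' : K) * (Nat.card Q : K))) • e ∈ LinearMap.range Ψ := by
      rw [mul_comm, ← smul_smul, ← hfixe, ← map_smul, ← hrec, map_sum]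
      exact Submodule.sum_mem _ fun g _ => hterm _ (hAC _) _ g.2
    have h := Submodule.smul_mem _ ((r : K) * ((Nat.card Z' : K) * (Nat.card Q : K)))⁻¹ key
    rwa [smul_smul, inv_mul_cancel₀ (mul_ne_zero hrK hne0), one_smul] at h
  have hfxle : Module.finrank K Fx ≤ 1 + Nat.card T * Module.finrank K C := by
    refine (Submodule.finrank_mono hspan).trans ((LinearMap.finrank_range_le Ψ).trans (le_of_eq ?_))
    rw [Module.finrank_prod, Module.finrank_self, Module.finrank_pi_fintype, Finset.sum_const,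
      Finset.card_univ, Nat.card_eq_fintype_card, smul_eq_mul]
  have hD : 1 ≤ Module.finrank K C := by
    have h1 : (1 : Module.End K W) ∈ C := fun g _ => Commute.one_left _
    exact Submodule.one_le_finrank_iff.2 fun h => one_ne_zero ((Submodule.eq_bot_iff _).1 h 1 h1)
  have : NeZero r := ⟨hr.ne_zero⟩
  obtain ⟨m, i₀, hm0, hms, hmfix⟩ := sum_sq_finrank_le (ν := ρ x) hrK
    (by rw [← map_pow, hxr, map_one]) hN
  have hn1 : 1 < Nat.card (Q ⧸ Z') := by
    rw [← Subgroup.index_eq_card]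
    by_contra h
    have : Z'.index = 1 := by
      have := Subgroup.index_ne_zero_of_finite (H := Z')
      omega
    exact hne (le_antisymm hZQ (Subgroup.subgroupOf_eq_top.1 (Subgroup.index_eq_one.1 this)))
  have hnodd : Odd (Nat.card (Q ⧸ Z')) :=
    hodd.of_dvd_nat (by rw [← Subgroup.index_eq_card]; exact Z'.index_dvd_card)
  refine nat_false (hr.odd_of_ne_two hr2) hnodd hn1 hD m i₀ hm0 (hms ▸ hJ) ?_
  calc r * ∑ i, m i ^ 2 + Module.finrank K C
      ≤ r * (1 + Nat.card T * Module.finrank K C) + Module.finrank K C :=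
        Nat.add_le_add_right (Nat.mul_le_mul_left _ (hmfix.trans hfxle)) _
    _ = r + (r * Nat.card T + 1) * Module.finrank K C := by ring
    _ ≤ r + Nat.card (Q ⧸ Z') * Module.finrank K C :=
        Nat.add_le_add_left (Nat.mul_le_mul_right _ hT) _

end CfsgLib.OddOrder.LinearCore
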