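import Cfsg.Agent.Lib.OddOrder.Weights
import Cfsg.Agent.Lib.OddOrder.LinearCore

/-!
An operator of odd prime order `r` with vanishing norm centralizes the action of a solvable
group of odd order prime to `r` which it normalizes (BG, Theorem 3.4).
-/

set_option autoImplicit false

universe u v w

namespace CfsgLib.OddOrder.LinearFixed

open Finset
open scoped commutatorElement

variable {Γ : Type u} [Group Γ] [Finite Γ]

omit [Finite Γ] in
/-- If `x` fixes `g` and every `⁅g, h⁆`, and `Q` is generated by the `h⁻¹ * (x * h * x⁻¹)`,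
then `g` is central in `Q`. -/
theorem mem_centralizer_of_fixed {Q : Subgroup Γ} {x g : Γ}
    (hgen : Q ≤ Subgroup.closure ((fun h => h⁻¹ * (x * h * x⁻¹)) '' (Q : Set Γ)))
    (hxg : x * g * x⁻¹ = g) (hfix : ∀ h ∈ Q, x * ⁅g, h⁆ * x⁻¹ = ⁅g, h⁆) :
    g ∈ Subgroup.centralizer (Q : Set Γ) := by
  refine Subgroup.mem_centralizer_iff.2 fun k hk => ?_
  suffices h : Subgroup.closure ((fun h => h⁻¹ * (x * h * x⁻¹)) '' (Q : Set Γ)) ≤
      Subgroup.centralizer {g} from (Subgroup.mem_centralizer_iff.1 (h (hgen hk)) g rfl).symm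
  rw [Subgroup.closure_le]
  rintro _ ⟨h, hh, rfl⟩
  rw [SetLike.mem_coe, Subgroup.mem_centralizer_iff]
  intro g' hg'
  rw [Set.mem_singleton_iff] at hg'
  rw [hg']
  show g * (h⁻¹ * (x * h * x⁻¹)) = (h⁻¹ * (x * h * x⁻¹)) * g
  have h1 : ⁅g, x * h * x⁻¹⁆ = ⁅g, h⁆ := by
    conv_rhs => rw [← hfix h hh]
    conv_lhs => rw [← hxg]
    simp only [commutatorElement_def]
    group
  set a := h⁻¹ * (x * h * x⁻¹) with ha
  have h2 : x * h * x⁻¹ = h * a := (mul_inv_cancel_left _ _).symm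
  rw [h2] at h1
  have h3 : ⁅g, h * a⁆ = ⁅g, h⁆ * (h * ⁅g, a⁆ * h⁻¹) := by
    simp only [commutatorElement_def]
    group
  rw [h3, mul_eq_left, conj_eq_one_iff, commutatorElement_eq_one_iff_mul_comm] at h1
  exact h1

variable {K : Type v} [Field K] [IsAlgClosed K] {W : Type w} [AddCommGroup W] [Module K W]
  [FiniteDimensional K W]

/-- The irreducible faithful case, assuming the result for the proper `x`-invariant subgroups. -/
theorem false_of_minimal [Nontrivial W] (ρ : Γ →* Module.End K W) (Q : Subgroup Γ) {x : Γ}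
    {r : ℕ} (hr : r.Prime) (hr2 : r ≠ 2) (hrK : (r : K) ≠ 0) (hxr : x ^ r = 1)
    (hQK : (Nat.card Q : K) ≠ 0) (hodd : Odd (Nat.card Q)) [Group.IsSolvable Q]
    (hrQ : ¬ r ∣ Nat.card Q) (hxQ : x ∈ Subgroup.normalizer (Q : Set Γ))
    (hN : ∑ i ∈ range r, ρ x ^ i = 0)
    (hsch : ∀ e : Module.End K W, Commute e (ρ x) → (∀ g ∈ Q, Commute e (ρ g)) →
      ∃ c : K, e = c • 1)
    (hinj : ∀ g ∈ Q, ρ g = 1 → g = 1)
    (hmin : ∀ L : Subgroup Γ, L < Q → x ∈ Subgroup.normalizer (L : Set Γ) →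
      ∀ g ∈ L, x * g * x⁻¹ = g)
    {g₀ : Γ} (hg₀ : g₀ ∈ Q) (hne : x * g₀ * x⁻¹ ≠ g₀) : False := by
  classical
  have hxmem : ∀ g ∈ Q, x * g * x⁻¹ ∈ Q := fun g hg => (Subgroup.mem_normalizer_iff.1 hxQ g).1 hg
  have hxn : ∀ L : Subgroup Γ, (∀ n ∈ L, x * n * x⁻¹ ∈ L) →
      x ∈ Subgroup.normalizer (L : Set Γ) := fun L h => Subgroup.mem_normalizer_fintype h
  -- `Q` is generated by its twisted commutators with `x`
  set K₀ := Subgroup.closure ((fun h => h⁻¹ * (x * h * x⁻¹)) '' (Q : Set Γ)) with hK₀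
  have hK₀Q : K₀ ≤ Q := by
    rw [hK₀, Subgroup.closure_le]
    rintro _ ⟨h, hh, rfl⟩
    exact mul_mem (inv_mem hh) (hxmem h hh)
  have hgen : Q ≤ K₀ := by
    by_contra hc
    have hlt : K₀ < Q := lt_of_le_of_ne hK₀Q fun e => hc e.ge
    have hinv : ∀ n ∈ K₀, x * n * x⁻¹ ∈ K₀ := by
      intro n hn
      have h1 : K₀ ≤ K₀.comap (MulAut.conj x).toMonoidHom := by
        conv_lhs => rw [hK₀]
        rw [Subgroup.closure_le]
        rintro _ ⟨h, hh, rfl⟩
        refine Subgroup.subset_closure ⟨x * h * x⁻¹, hxmem h hh, ?_⟩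
        show (x * h * x⁻¹)⁻¹ * (x * (x * h * x⁻¹) * x⁻¹) = x * (h⁻¹ * (x * h * x⁻¹)) * x⁻¹
        group
      exact h1 hn
    apply hne
    set a := g₀⁻¹ * (x * g₀ * x⁻¹) with ha
    have hamem : a ∈ K₀ := Subgroup.subset_closure ⟨g₀, hg₀, rfl⟩
    have hax : x * a * x⁻¹ = a := hmin K₀ hlt (hxn K₀ hinv) a hamem
    have hiter : ∀ i : ℕ, x ^ i * g₀ * (x ^ i)⁻¹ = g₀ * a ^ i := by
      intro i
      induction i with
      | zero => simp
      | succ i ih =>
        calc x ^ (i + 1) * g₀ * (x ^ (i + 1))⁻¹ = x * (x ^ i * g₀ * (x ^ i)⁻¹) * x⁻¹ := by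
              rw [pow_succ']; group
          _ = x * g₀ * x⁻¹ * (x * a * x⁻¹) ^ i := by rw [ih, conj_pow]; group
          _ = g₀ * a * a ^ i := by rw [hax, ha]; group
          _ = _ := by rw [mul_assoc, ← pow_succ']
    have har : a ^ r = 1 := by
      have h := hiter r
      rw [hxr, one_mul, inv_one, mul_one] at h
      exact mul_eq_left.1 h.symm
    have hcop : (orderOf a).Coprime r :=
      ((hr.coprime_iff_not_dvd.2 hrQ).symm).coprime_dvd_left
        (Q.orderOf_dvd_natCard (hK₀Q hamem))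
    have ha1 : a = 1 := by
      rw [← orderOf_eq_one_iff]
      exact Nat.eq_one_of_dvd_coprimes hcop dvd_rfl (orderOf_dvd_of_pow_eq_one har)
    rwa [ha, inv_mul_eq_one, eq_comm] at ha1
  -- `Q` is not abelian
  by_cases hab : ∀ a ∈ Q, ∀ b ∈ Q, a * b = b * a
  · let _ : CommGroup Q :=
      { (inferInstance : Group Q) with mul_comm := fun a b => Subtype.ext (hab a a.2 b b.2) }
    let φ : MulAut Q :=
      { toFun := fun g => ⟨x * g * x⁻¹, hxmem g g.2⟩
        invFun := fun g => ⟨x⁻¹ * g * x, by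
          have h := (Subgroup.mem_normalizer_iff''.1 hxQ g).1 g.2
          exact h⟩
        left_inv := fun g => Subtype.ext (show x⁻¹ * (x * g * x⁻¹) * x = g by group)
        right_inv := fun g => Subtype.ext (show x * (x⁻¹ * g * x) * x⁻¹ = g by group)
        map_mul' := fun a b => Subtype.ext
          (show x * (a * b) * x⁻¹ = x * a * x⁻¹ * (x * b * x⁻¹) by group) }
    have hφi : ∀ (i : ℕ) (a : Q), (((φ ^ i) a : Q) : Γ) = x ^ i * a * (x ^ i)⁻¹ := by
      intro i
      induction i with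
      | zero => intro a; simp
      | succ i ih =>
        intro a
        rw [pow_succ', MulAut.mul_apply]
        show x * _ * x⁻¹ = _
        rw [ih, pow_succ']
        group
    have hφ : φ ^ r = 1 := by
      refine MulEquiv.ext fun a => Subtype.ext ?_
      rw [hφi, hxr]
      simp
    have h := Weights.apply_eq_of_norm_eq_zero (σ := ρ.comp Q.subtype) (ν := ρ x) (φ := φ)
      (fun a => by
        show ρ x * ρ (a : Γ) = ρ (x * a * x⁻¹) * ρ x
        rw [← map_mul, ← map_mul, inv_mul_cancel_right])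
      hr hφ hQK hN ⟨g₀, hg₀⟩
    have h2 : ρ (x * g₀ * x⁻¹) = ρ g₀ := h
    refine hne (mul_inv_eq_one.1 (hinj _ (mul_mem (hxmem _ hg₀) (inv_mem hg₀)) ?_))
    rw [map_mul, h2, ← map_mul, mul_inv_cancel, map_one]
  push Not at hab
  obtain ⟨a₀, ha₀, b₀, hb₀, hab⟩ := hab
  -- the derived subgroup and the center are fixed
  have hQne : Q ≠ ⊥ := fun e => hab (by
    rw [(Subgroup.eq_bot_iff_forall _).1 e a₀ ha₀, one_mul, mul_one])
  have hder : ⁅Q, Q⁆ < Q := by
    have : Nontrivial Q := (Subgroup.nontrivial_iff_ne_bot Q).2 hQne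
    rw [← Q.range_subtype, MonoidHom.range_eq_map, ← Subgroup.map_commutator,
      Subgroup.map_subtype_lt_map_subtype]
    exact Group.IsSolvable.commutator_lt_top_of_nontrivial Q
  have hderx : x ∈ Subgroup.normalizer ((⁅Q, Q⁆ : Subgroup Γ) : Set Γ) := by
    refine hxn _ fun n hn => ?_
    have h1 : ⁅Q, Q⁆ ≤ (⁅Q, Q⁆ : Subgroup Γ).comap (MulAut.conj x).toMonoidHom := by
      rw [Subgroup.commutator_le]
      intro a ha b hb
      show x * ⁅a, b⁆ * x⁻¹ ∈ ⁅Q, Q⁆
      have : x * ⁅a, b⁆ * x⁻¹ = ⁅x * a * x⁻¹, x * b * x⁻¹⁆ := by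
        simp only [commutatorElement_def]; group
      rw [this]
      exact Subgroup.commutator_mem_commutator (hxmem a ha) (hxmem b hb)
    exact h1 hn
  have hderfix : ∀ g ∈ Q, ∀ h ∈ Q, x * ⁅g, h⁆ * x⁻¹ = ⁅g, h⁆ := fun g hg h hh =>
    hmin _ hder hderx _ (Subgroup.commutator_mem_commutator hg hh)
  set Z := Q ⊓ Subgroup.centralizer (Q : Set Γ) with hZ
  have hZlt : Z < Q := lt_of_le_of_ne inf_le_left fun e => hab
    ((Subgroup.mem_centralizer_iff.1 (Subgroup.mem_inf.1 (e.ge hb₀)).2 a₀ ha₀))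
  have hZx : ∀ n ∈ Z, x * n * x⁻¹ ∈ Z := by
    intro n hn
    refine Subgroup.mem_inf.2 ⟨hxmem n hn.1, Subgroup.mem_centralizer_iff.2 fun k hk => ?_⟩
    have hk' : x⁻¹ * k * x ∈ Q := (Subgroup.mem_normalizer_iff''.1 hxQ k).1 hk
    have h := Subgroup.mem_centralizer_iff.1 hn.2 _ hk'
    calc k * (x * n * x⁻¹) = x * (x⁻¹ * k * x * n) * x⁻¹ := by group
      _ = x * (n * (x⁻¹ * k * x)) * x⁻¹ := by rw [h]
      _ = _ := by group
  have hZfix : ∀ n ∈ Z, x * n * x⁻¹ = n := hmin Z hZlt (hxn Z hZx)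
  have hcomm : ∀ g ∈ Q, ∀ h ∈ Q, ⁅g, h⁆ ∈ Z := by
    intro g hg h hh
    have hc : ⁅g, h⁆ ∈ Q := hder.le (Subgroup.commutator_mem_commutator hg hh)
    exact Subgroup.mem_inf.2 ⟨hc, mem_centralizer_of_fixed hgen (hderfix g hg h hh)
      fun k hk => hderfix _ hc k hk⟩
  refine LinearCore.false_of_class_two ρ hr hr2 hrK hxr hQK hodd hxQ hN hsch hinj
    (Z := Z) inf_le_left (fun z hz => ⟨fun g hg => ?_, ?_⟩) hcomm ?_ ?_ hZlt.ne
  · exact (Subgroup.mem_centralizer_iff.1 (Subgroup.mem_inf.1 hz).2 g hg).symm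
  · show z * x = x * z
    conv_lhs => rw [← hZfix z hz, inv_mul_cancel_right]
  · intro g hg hgZ
    by_contra hc
    push Not at hc
    exact hgZ (Subgroup.mem_inf.2 ⟨hg, Subgroup.mem_centralizer_iff.2 fun k hk =>
      commutatorElement_eq_one_iff_mul_comm.1 (hc k hk)⟩)
  · intro g hg hgz
    refine Subgroup.mem_inf.2 ⟨hg, mem_centralizer_of_fixed hgen ?_ fun k hk => hderfix g hg k hk⟩
    set L := Subgroup.closure (insert g (Z : Set Γ)) with hL
    have hLQ : L ≤ Q := by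
      rw [hL, Subgroup.closure_le]
      exact Set.insert_subset hg fun n hn => (Subgroup.mem_inf.1 hn).1
    have hLcomm : ∀ u ∈ L, ∀ v ∈ L, u * v = v * u := by
      have hsc : ∀ u ∈ insert g (Z : Set Γ), ∀ v ∈ insert g (Z : Set Γ), u * v = v * u := by
        intro u hu v hv
        rcases hu with rfl | hu
        · rcases hv with rfl | hv
          · rfl
          · exact Subgroup.mem_centralizer_iff.1 (Subgroup.mem_inf.1 hv).2 u hg
        · have hv' : v ∈ Q := hLQ (Subgroup.subset_closure hv)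
          exact (Subgroup.mem_centralizer_iff.1 (Subgroup.mem_inf.1 hu).2 v hv').symm
      intro u hu v hv
      exact congrArg Subtype.val
        ((Subgroup.isMulCommutative_closure hsc).is_comm.comm ⟨u, hu⟩ ⟨v, hv⟩)
    have hLlt : L < Q := lt_of_le_of_ne hLQ fun e => hab (hLcomm _ (e ▸ ha₀) _ (e ▸ hb₀))
    refine hmin L hLlt (hxn L fun n hn => ?_) g (Subgroup.subset_closure (Set.mem_insert _ _))
    have h1 : L ≤ L.comap (MulAut.conj x).toMonoidHom := by
      conv_lhs => rw [hL]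
      rw [Subgroup.closure_le]
      rintro k (rfl | hk)
      · show x * k * x⁻¹ ∈ L
        rw [show x * k * x⁻¹ = x * k * x⁻¹ * k⁻¹ * k from (inv_mul_cancel_right _ _).symm]
        exact mul_mem (Subgroup.subset_closure (Set.mem_insert_of_mem _ hgz))
          (Subgroup.subset_closure (Set.mem_insert _ _))
      · exact Subgroup.subset_closure (Set.mem_insert_of_mem _ (hZx k hk))
    exact h1 hn

omit [IsAlgClosed K] [FiniteDimensional K W] [Finite Γ] in
/-- A unipotent element of order prime to the characteristic is trivial. -/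
theorem eq_one_of_sq_sub_one {c : Module.End K W} {N : ℕ} (hN : (N : K) ≠ 0) (hc : c ^ N = 1)
    (hsq : (c - 1) * (c - 1) = 0) : c = 1 := by
  have h : ∀ i : ℕ, c ^ i = 1 + (i : K) • (c - 1) := by
    intro i
    induction i with
    | zero => simp
    | succ i ih =>
      have h1 : (c - 1) * c = c - 1 := by
        rw [← sub_eq_zero, ← hsq, mul_sub, mul_one]
      rw [pow_succ, ih, add_mul, one_mul, smul_mul_assoc, h1, Nat.cast_succ, add_smul, one_smul]
      abel
  rw [h N, add_eq_left] at hc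
  exact sub_eq_zero.1 ((smul_eq_zero.1 hc).resolve_left hN)

theorem main_aux (n : ℕ) : ∀ (d : ℕ) {Γ : Type u} [Group Γ] [Finite Γ] {W : Type w}
    [AddCommGroup W] [Module K W] [FiniteDimensional K W] (ρ : Γ →* Module.End K W)
    (Q : Subgroup Γ) (x : Γ) (r : ℕ), Nat.card Q = n → Module.finrank K W = d → r.Prime → r ≠ 2 →
    (r : K) ≠ 0 → x ^ r = 1 → (Nat.card Q : K) ≠ 0 → Odd (Nat.card Q) → Group.IsSolvable Q →
    ¬ r ∣ Nat.card Q → x ∈ Subgroup.normalizer (Q : Set Γ) →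
    ∑ i ∈ range r, ρ x ^ i = 0 → ∀ g ∈ Q, ρ (x * g * x⁻¹) = ρ g := by
  induction n using Nat.strong_induction_on with
  | _ n IH =>
  intro d
  induction d using Nat.strong_induction_on with
  | _ d IHd =>
  intro Γ _ _ W _ _ _ ρ Q x r hn hd hr hr2 hrK hxr hQK hodd hsol hrQ hxQ hN g₀ hg₀
  classical
  rcases subsingleton_or_nontrivial W with hW | hW
  · exact Subsingleton.elim _ _
  have hxmem : ∀ g ∈ Q, x * g * x⁻¹ ∈ Q := fun g hg => (Subgroup.mem_normalizer_iff.1 hxQ g).1 hg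
  -- the faithful case suffices
  by_cases hinj : ∀ g ∈ Q, ρ g = 1 → g = 1
  swap
  · push Not at hinj
    obtain ⟨k, hkQ, hk, hk1⟩ := hinj
    set N := ρ.toHomUnits.ker with hNdef
    let π := QuotientGroup.mk' N
    let ρ' : Γ ⧸ N →* Module.End K W :=
      (Units.coeHom _).comp (QuotientGroup.kerLift ρ.toHomUnits)
    have hρ' : ∀ γ, ρ' (π γ) = ρ γ := fun γ => rfl
    have hcard : Nat.card (Q.map π) ∣ Nat.card Q := Subgroup.card_map_dvd Q π
    have hlt : Nat.card (Q.map π) < n := by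
      rw [← hn]
      refine lt_of_le_of_ne (Nat.le_of_dvd Nat.card_pos hcard) fun e => hk1 ?_
      have hker : (π.comp Q.subtype).ker = ⊥ := by
        rw [MonoidHom.ker_eq_bot_iff]
        have hr' : (π.comp Q.subtype).range = Q.map π := by
          rw [MonoidHom.range_comp, Subgroup.range_subtype]
        have hb := Nat.bijective_iff_surjective_and_card
          (f := (π.comp Q.subtype).rangeRestrict)
        have := (hb.2 ⟨MonoidHom.rangeRestrict_surjective _, by rw [hr', e]⟩).1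
        intro a b hab
        exact this (Subtype.ext hab)
      have : (⟨k, hkQ⟩ : Q) ∈ (π.comp Q.subtype).ker := by
        show π k = 1
        rw [QuotientGroup.mk'_apply, QuotientGroup.eq_one_iff, MonoidHom.mem_ker]
        exact Units.ext hk
      rw [hker, Subgroup.mem_bot] at this
      exact congrArg Subtype.val this
    have hxn : π x ∈ Subgroup.normalizer ((Q.map π : Subgroup (Γ ⧸ N)) : Set (Γ ⧸ N)) := by
      refine Subgroup.mem_normalizer_fintype fun y hy => ?_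
      obtain ⟨q, hq, rfl⟩ := hy
      exact ⟨x * q * x⁻¹, hxmem q hq, by simp⟩
    have hK' : (Nat.card (Q.map π) : K) ≠ 0 := fun h => hQK (by
      obtain ⟨c, hc⟩ := hcard
      rw [hc, Nat.cast_mul, h, zero_mul])
    have := IH _ hlt d (ρ := ρ') (Q.map π) (π x) r rfl hd hr hr2 hrK
      (by rw [← map_pow, hxr, map_one]) hK' (hodd.of_dvd_nat hcard)
      (Group.isSolvable_of_surjective (π.subgroupMap_surjective Q))
      (fun h => hrQ (h.trans hcard)) hxn (by simpa [hρ'] using hN) (π g₀) ⟨g₀, hg₀, rfl⟩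
    rwa [← map_inv, ← map_mul, ← map_mul, hρ', hρ'] at this
  by_contra hne
  have hne' : x * g₀ * x⁻¹ ≠ g₀ := fun e => hne (by rw [e])
  -- recursion for proper subgroups
  have hmin : ∀ L : Subgroup Γ, L < Q → x ∈ Subgroup.normalizer (L : Set Γ) →
      ∀ g ∈ L, x * g * x⁻¹ = g := by
    intro L hL hxL g hg
    have hlt : Nat.card L < n := by
      rw [← hn]
      exact Set.ncard_lt_ncard (s := (L : Set Γ)) hL (Set.toFinite _)
    have hdvd : Nat.card L ∣ Nat.card Q := Subgroup.card_dvd_of_le hL.le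
    have hsolL : Group.IsSolvable L := Group.isSolvable_of_isSolvable_injective
      (f := Subgroup.inclusion hL.le) (Subgroup.inclusion_injective hL.le)
    have h := IH _ hlt d ρ L x r rfl hd hr hr2 hrK hxr
      (fun h => hQK (by obtain ⟨c, hc⟩ := hdvd; rw [hc, Nat.cast_mul, h, zero_mul]))
      (hodd.of_dvd_nat hdvd) hsolL (fun h => hrQ (h.trans hdvd)) hxL hN g hg
    exact mul_inv_eq_one.1 (hinj _ (mul_mem (hxmem g (hL.le hg)) (inv_mem (hL.le hg)))
      (by rw [map_mul, h, ← map_mul, mul_inv_cancel, map_one]))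
  -- the irreducible case suffices
  by_cases hirr : ∀ p : Submodule K W, (∀ v ∈ p, ρ x v ∈ p) →
      (∀ g ∈ Q, ∀ v ∈ p, ρ g v ∈ p) → p = ⊥ ∨ p = ⊤
  · refine false_of_minimal ρ Q hr hr2 hrK hxr hQK hodd hrQ hxQ hN ?_ hinj hmin hg₀ hne'
    intro e hex heQ
    obtain ⟨c, hc⟩ := Module.End.exists_eigenvalue e
    refine ⟨c, ?_⟩
    have hinv : ∀ f : Module.End K W, Commute e f →
        ∀ v ∈ Module.End.eigenspace e c, f v ∈ Module.End.eigenspace e c := by
      intro f hf v hv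
      rw [Module.End.mem_eigenspace_iff] at hv ⊢
      rw [← Module.End.mul_apply, hf.eq, Module.End.mul_apply, hv, map_smul]
    rcases hirr _ (hinv _ hex) (fun g hg => hinv _ (heQ g hg)) with h | h
    · exact absurd h hc
    · refine LinearMap.ext fun v => ?_
      have : v ∈ Module.End.eigenspace e c := h ▸ Submodule.mem_top
      rw [Module.End.mem_eigenspace_iff] at this
      simpa using this
  push Not at hirr
  obtain ⟨p, hpx, hpQ, hp0, hpt⟩ := hirr
  -- the subgroup leaving `p` invariant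
  let G₁ : Subgroup Γ :=
    { carrier := {γ | (∀ v ∈ p, ρ γ v ∈ p) ∧ ∀ v ∈ p, ρ γ⁻¹ v ∈ p}
      one_mem' := ⟨fun v hv => by simpa using hv, fun v hv => by simpa using hv⟩
      mul_mem' := fun {a b} ha hb => ⟨fun v hv => by
          rw [map_mul]; exact ha.1 _ (hb.1 v hv),
        fun v hv => by rw [mul_inv_rev, map_mul]; exact hb.2 _ (ha.2 v hv)⟩
      inv_mem' := fun {a} ha => ⟨ha.2, by rw [inv_inv]; exact ha.1⟩ }
  have hxpow : ∀ (i : ℕ), ∀ v ∈ p, ρ (x ^ i) v ∈ p := by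
    intro i
    induction i with
    | zero => intro v hv; simpa using hv
    | succ i ih => intro v hv; rw [pow_succ', map_mul]; exact hpx _ (ih v hv)
  have hx₁ : x ∈ G₁ := ⟨hpx, by
    have : x⁻¹ = x ^ (r - 1) := inv_eq_of_mul_eq_one_right (by
      rw [← pow_succ', Nat.sub_add_cancel hr.pos, hxr])
    rw [this]
    exact hxpow _⟩
  have hQ₁ : Q ≤ G₁ := fun g hg => ⟨hpQ g hg, hpQ _ (inv_mem hg)⟩
  let ρ₁ : G₁ →* Module.End K p :=
    { toFun := fun γ => (ρ γ).restrict γ.2.1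
      map_one' := by ext v; simp
      map_mul' := fun a b => by ext v; simp [LinearMap.restrict_apply] }
  let ρ₂ : G₁ →* Module.End K (W ⧸ p) :=
    { toFun := fun γ => p.mapQ p (ρ γ) γ.2.1
      map_one' := by ext v; simp
      map_mul' := fun a b => by ext v; simp [Submodule.mapQ_apply] }
  have hcard₁ : Nat.card (Q.subgroupOf G₁) = Nat.card Q :=
    Nat.card_congr (Subgroup.subgroupOfEquivOfLe hQ₁).toEquiv
  have hsol₁ : Group.IsSolvable (Q.subgroupOf G₁) :=
    Group.isSolvable_of_isSolvable_injective (f := (Subgroup.subgroupOfEquivOfLe hQ₁).toMonoidHom)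
      (Subgroup.subgroupOfEquivOfLe hQ₁).injective
  have hxn₁ : (⟨x, hx₁⟩ : G₁) ∈
      Subgroup.normalizer ((Q.subgroupOf G₁ : Subgroup G₁) : Set G₁) :=
    Subgroup.mem_normalizer_fintype fun y hy => hxmem _ hy
  have hxr₁ : (⟨x, hx₁⟩ : G₁) ^ r = 1 := Subtype.ext (by simp [hxr])
  have hNval : ∀ v : W, ∑ i ∈ range r, ρ (x ^ i) v = 0 := fun v => by
    have := LinearMap.congr_fun hN v
    simpa [LinearMap.sum_apply, map_pow] using this
  have hN₁ : ∑ i ∈ range r, ρ₁ ⟨x, hx₁⟩ ^ i = 0 := by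
    simp only [← map_pow]
    refine LinearMap.ext fun v => Subtype.ext ?_
    rw [LinearMap.sum_apply, Submodule.coe_sum, LinearMap.zero_apply, Submodule.coe_zero]
    exact (Finset.sum_congr rfl fun i _ => rfl).trans (hNval v)
  have hN₂ : ∑ i ∈ range r, ρ₂ ⟨x, hx₁⟩ ^ i = 0 := by
    simp only [← map_pow]
    refine Submodule.linearMap_qext _ (LinearMap.ext fun v => ?_)
    rw [LinearMap.comp_apply, LinearMap.sum_apply]
    show ∑ i ∈ range r, Submodule.Quotient.mk (ρ (x ^ i) v) = Submodule.Quotient.mk 0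
    rw [← hNval v]
    exact (map_sum p.mkQ _ _).symm
  have hd1 : Module.finrank K p < d := hd ▸ Submodule.finrank_lt hpt
  have hd2 : Module.finrank K (W ⧸ p) < d := by
    have h := p.finrank_quotient_add_finrank
    have : 0 < Module.finrank K p :=
      Nat.pos_of_ne_zero fun e => hp0 (Submodule.finrank_eq_zero.1 e)
    omega
  have h1 := IHd _ hd1 ρ₁ (Q.subgroupOf G₁) ⟨x, hx₁⟩ r (hcard₁.trans hn) rfl hr hr2 hrK hxr₁
    (by rwa [hcard₁]) (by rwa [hcard₁]) hsol₁ (by rwa [hcard₁]) hxn₁ hN₁ ⟨g₀, hQ₁ hg₀⟩ hg₀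
  have h2 := IHd _ hd2 ρ₂ (Q.subgroupOf G₁) ⟨x, hx₁⟩ r (hcard₁.trans hn) rfl hr hr2 hrK hxr₁
    (by rwa [hcard₁]) (by rwa [hcard₁]) hsol₁ (by rwa [hcard₁]) hxn₁ hN₂ ⟨g₀, hQ₁ hg₀⟩ hg₀
  set a := x * g₀ * x⁻¹ with ha
  set c := ρ (a * g₀⁻¹) with hc
  have hcp : ∀ v ∈ p, c v = v := by
    intro v hv
    have e := congrArg Subtype.val (LinearMap.congr_fun h1 ⟨ρ g₀⁻¹ v, hpQ _ (inv_mem hg₀) v hv⟩)
    change ρ a (ρ g₀⁻¹ v) = ρ g₀ (ρ g₀⁻¹ v) at e
    rw [hc, map_mul, Module.End.mul_apply, e, ← Module.End.mul_apply, ← map_mul, mul_inv_cancel,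
      map_one, Module.End.one_apply]
  have hcq : ∀ v, c v - v ∈ p := by
    intro v
    have e := LinearMap.congr_fun h2 (Submodule.Quotient.mk (ρ g₀⁻¹ v))
    change Submodule.Quotient.mk (ρ a (ρ g₀⁻¹ v)) = Submodule.Quotient.mk (ρ g₀ (ρ g₀⁻¹ v)) at e
    rw [Submodule.Quotient.eq, ← Module.End.mul_apply, ← map_mul, ← Module.End.mul_apply,
      ← map_mul, mul_inv_cancel, map_one, Module.End.one_apply] at e
    exact e
  have hmem : a * g₀⁻¹ ∈ Q := mul_mem (hxmem _ hg₀) (inv_mem hg₀)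
  have h3 : c = 1 := by
    refine eq_one_of_sq_sub_one hQK ?_ ?_
    · rw [hc, ← map_pow, orderOf_dvd_iff_pow_eq_one.1 (Q.orderOf_dvd_natCard hmem), map_one]
    · refine LinearMap.ext fun v => ?_
      simp only [Module.End.mul_apply, LinearMap.sub_apply, Module.End.one_apply,
        LinearMap.zero_apply]
      rw [hcp _ (hcq v), sub_self]
  exact hne' (mul_inv_eq_one.1 (hinj _ hmem h3))

/-- **BG 3.4**, linear form: an operator of odd prime order whose norm vanishes centralizes the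
action of a solvable group of odd order which it normalizes, in coprime characteristic. -/
theorem apply_conj_eq {Γ : Type u} [Group Γ] [Finite Γ] {W : Type w} [AddCommGroup W]
    [Module K W] [FiniteDimensional K W] (ρ : Γ →* Module.End K W) {Q : Subgroup Γ} {x : Γ}
    {r : ℕ} (hr : r.Prime) (hr2 : r ≠ 2) (hrK : (r : K) ≠ 0) (hxr : x ^ r = 1)
    (hQK : (Nat.card Q : K) ≠ 0) (hodd : Odd (Nat.card Q)) (hsol : Group.IsSolvable Q)
    (hrQ : ¬ r ∣ Nat.card Q) (hxQ : x ∈ Subgroup.normalizer (Q : Set Γ))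
    (hN : ∑ i ∈ range r, ρ x ^ i = 0) {g : Γ} (hg : g ∈ Q) : ρ (x * g * x⁻¹) = ρ g :=
  main_aux (Nat.card Q) _ ρ Q x r rfl rfl hr hr2 hrK hxr hQK hodd hsol hrQ hxQ hN g hg

end CfsgLib.OddOrder.LinearFixed
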