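import Mathlib
import Cfsg.Prelude.Def_Transfer
import Cfsg.Agent.Lib.OddOrder.LinearFixed

/-!
From an action on an elementary abelian group to a representation over an algebraically closed
field; the group form of BG, Theorem 3.4.
-/

set_option autoImplicit false

namespace CfsgLib.OddOrder.LinearBridge

open Cfsg Finset

variable {X : Type*} [Group X] [Finite X]

/-- The representation over the algebraic closure of `ZMod ℓ` attached to the action of `G` on
the elementary abelian subgroup `V`. -/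
theorem exists_rep {ℓ : ℕ} [Fact ℓ.Prime] {V : Subgroup X} (hV : IsElementaryAbelian ℓ V)
    {G : Subgroup X} (hGV : G ≤ Subgroup.normalizer (V : Set X)) :
    ∃ (n : ℕ) (ρ : G →* Module.End (AlgebraicClosure (ZMod ℓ)) (Fin n → AlgebraicClosure (ZMod ℓ))),
      (∀ g : G, ρ g = 1 ↔ (g : X) ∈ Subgroup.centralizer (V : Set X)) ∧
      (V ≠ ⊥ → 0 < n) ∧
      (∀ (x : G) (r : ℕ), x ^ r = 1 → V ⊓ Subgroup.centralizer {(x : X)} = ⊥ →
        ∑ i ∈ range r, ρ x ^ i = 0) ∧
      (∀ (A : Subgroup G) [Fintype A],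
        V ⊓ Subgroup.centralizer ((A.map G.subtype : Subgroup X) : Set X) = ⊥ →
          ∑ a : A, ρ (a : G) = 0) ∧
      ∀ (x : G) (r : ℕ), x ^ r = 1 →
        (∃ a ∈ V, V ⊓ Subgroup.centralizer {(x : X)} ≤ Subgroup.zpowers a) →
        ∃ a₀, ∀ w, (∑ i ∈ range r, ρ x ^ i) w ∈ Submodule.span (AlgebraicClosure (ZMod ℓ)) {a₀} := by
  classical
  have hcomm := hV.1
  let _ : CommGroup V :=
    { (inferInstance : Group V) with mul_comm := fun a b => hcomm.is_comm.comm a b }
  have hexp : ∀ v : Additive V, ℓ • v = 0 := by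
    intro v
    apply Additive.toMul.injective
    exact Subtype.ext (hV.2 _ v.toMul.2)
  let _ : Module (ZMod ℓ) (Additive V) := AddCommGroup.zmodModule (n := ℓ) hexp
  have : Module.Finite (ZMod ℓ) (Additive V) := Module.Finite.of_finite
  set n := Module.finrank (ZMod ℓ) (Additive V) with hn
  let b : Module.Basis (Fin n) (ZMod ℓ) (Additive V) := Module.finBasis (ZMod ℓ) (Additive V)
  let act : G → (Additive V →+ Additive V) := fun g =>
    AddMonoidHom.mk' (fun v => Additive.ofMul
      (⟨(g : X) * (v.toMul : X) * (g : X)⁻¹,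
        (Subgroup.mem_normalizer_iff.1 (hGV g.2) _).1 v.toMul.2⟩ : V))
      fun u v => by
        apply Additive.toMul.injective
        apply Subtype.ext
        show (g : X) * ((u.toMul : X) * (v.toMul : X)) * (g : X)⁻¹ =
          (g : X) * (u.toMul : X) * (g : X)⁻¹ * ((g : X) * (v.toMul : X) * (g : X)⁻¹)
        group
  let α : G →* Module.End (ZMod ℓ) (Additive V) :=
    { toFun := fun g => (act g).toZModLinearMap ℓ
      map_one' := by
        refine LinearMap.ext fun v => Additive.toMul.injective (Subtype.ext ?_)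
        show (1 : X) * (v.toMul : X) * (1 : X)⁻¹ = _
        simp
      map_mul' := fun g h => by
        refine LinearMap.ext fun v => Additive.toMul.injective (Subtype.ext ?_)
        show ((g : X) * h) * (v.toMul : X) * ((g : X) * h)⁻¹ =
          (g : X) * ((h : X) * (v.toMul : X) * (h : X)⁻¹) * (g : X)⁻¹
        group }
  have hα : ∀ (g : G) (v : Additive V),
      ((α g v).toMul : X) = (g : X) * (v.toMul : X) * (g : X)⁻¹ := fun g v => rfl
  set ι := algebraMap (ZMod ℓ) (AlgebraicClosure (ZMod ℓ))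
  let Φ : Module.End (ZMod ℓ) (Additive V) →+*
      Module.End (AlgebraicClosure (ZMod ℓ)) (Fin n → AlgebraicClosure (ZMod ℓ)) :=
    (Matrix.toLinAlgEquiv' :
        Matrix (Fin n) (Fin n) (AlgebraicClosure (ZMod ℓ)) ≃ₐ[_] _).toRingHom.comp
      (ι.mapMatrix.comp (LinearMap.toMatrixAlgEquiv b).toRingHom)
  have hΦ : Function.Injective Φ := fun f g h => by
    have h1 : Matrix.toLinAlgEquiv' ((LinearMap.toMatrixAlgEquiv b f).map ι) =
        Matrix.toLinAlgEquiv' ((LinearMap.toMatrixAlgEquiv b g).map ι) := h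
    exact (LinearMap.toMatrixAlgEquiv b).injective
      (Matrix.map_injective ι.injective (Matrix.toLinAlgEquiv'.injective h1))
  have hΦapply : ∀ f w i, Φ f w i = ∑ j, ι (b.repr (f (b j)) i) * w j := fun f w i => by
    show (Matrix.toLinAlgEquiv' ((LinearMap.toMatrixAlgEquiv b f).map ι)) w i = _
    simp [Matrix.toLinAlgEquiv'_apply, Matrix.mulVec, dotProduct, Matrix.map_apply,
      LinearMap.toMatrixAlgEquiv_apply]
  -- the norm of `x` maps into its fixed points
  have hfix : ∀ (x : G) (r : ℕ), x ^ r = 1 → ∀ v, (((∑ i ∈ range r, α x ^ i) v).toMul : X) ∈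
      V ⊓ Subgroup.centralizer {(x : X)} := by
    intro x r hx v
    set w := (∑ i ∈ range r, α x ^ i) v with hw
    have hxw : α x w = w := by
      have h := mul_geom_sum (α x) r
      rw [← map_pow, hx, map_one, sub_self] at h
      have h2 := LinearMap.congr_fun h v
      rw [Module.End.mul_apply, ← hw, LinearMap.sub_apply, LinearMap.zero_apply,
        Module.End.one_apply, sub_eq_zero] at h2
      exact h2
    refine Subgroup.mem_inf.2 ⟨w.toMul.2, Subgroup.mem_centralizer_iff.2 fun y hy => ?_⟩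
    rw [Set.mem_singleton_iff] at hy
    rw [hy]
    have h3 := hα x w
    rw [hxw] at h3
    conv_rhs => rw [h3, inv_mul_cancel_right]
  refine ⟨n, Φ.toMonoidHom.comp α, fun g => ?_, fun hne => ?_, fun x r hx hbot => ?_,
    fun A _ hbot => ?_, fun x r hx hcyc => ?_⟩
  · show Φ (α g) = 1 ↔ _
    rw [map_eq_one_iff _ hΦ, Subgroup.mem_centralizer_iff]
    constructor
    · intro h v hv
      have h1 := hα g (Additive.ofMul ⟨v, hv⟩)
      rw [h] at h1
      have h2 : v = (g : X) * v * (g : X)⁻¹ := h1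
      conv_lhs => rw [h2, inv_mul_cancel_right]
    · intro h
      refine LinearMap.ext fun v => Additive.toMul.injective (Subtype.ext ?_)
      rw [hα, Module.End.one_apply, ← h _ v.toMul.2, mul_inv_cancel_right]
  · have : Nontrivial V := (Subgroup.nontrivial_iff_ne_bot V).2 hne
    exact Module.finrank_pos
  · have hzero : ∑ i ∈ range r, α x ^ i = 0 := by
      refine LinearMap.ext fun v => Additive.toMul.injective (Subtype.ext ?_)
      have h := hfix x r hx v
      rw [hbot, Subgroup.mem_bot] at h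
      rw [h, LinearMap.zero_apply]
      rfl
    show ∑ i ∈ range r, Φ (α x) ^ i = 0
    rw [Finset.sum_congr rfl fun i _ => (map_pow Φ (α x) i).symm, ← map_sum, hzero, map_zero]
  · have hzero : ∑ a : A, α (a : G) = 0 := by
      refine LinearMap.ext fun v => Additive.toMul.injective (Subtype.ext ?_)
      set w := (∑ a : A, α (a : G)) v with hw
      have hinv : ∀ g : A, α (g : G) w = w := by
        intro g
        rw [hw, ← Module.End.mul_apply, Finset.mul_sum]
        refine LinearMap.congr_fun (Fintype.sum_equiv (Equiv.mulLeft g) _ _ fun a => ?_) v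
        rw [Equiv.coe_mulLeft, Subgroup.coe_mul, map_mul]
      have h : (w.toMul : X) ∈
          V ⊓ Subgroup.centralizer ((A.map G.subtype : Subgroup X) : Set X) := by
        refine Subgroup.mem_inf.2 ⟨w.toMul.2, Subgroup.mem_centralizer_iff.2 ?_⟩
        rintro _ ⟨g, hg, rfl⟩
        have h3 := hα g w
        rw [hinv ⟨g, hg⟩] at h3
        show (g : X) * (w.toMul : X) = (w.toMul : X) * (g : X)
        conv_rhs => rw [h3, inv_mul_cancel_right]
      rw [hbot, Subgroup.mem_bot] at h
      rw [h, LinearMap.zero_apply]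
      rfl
    show ∑ a : A, Φ (α (a : G)) = 0
    rw [← map_sum, hzero, map_zero]
  · obtain ⟨a, haV, hle⟩ := hcyc
    refine ⟨fun i => ι (b.repr (Additive.ofMul ⟨a, haV⟩) i), fun w => ?_⟩
    show (∑ i ∈ range r, Φ (α x) ^ i) w ∈ _
    rw [Finset.sum_congr rfl fun i _ => (map_pow Φ (α x) i).symm, ← map_sum]
    have hcol : ∀ v, ∃ c : ℤ,
        (∑ i ∈ range r, α x ^ i) v = c • Additive.ofMul (⟨a, haV⟩ : V) := by
      intro v
      have h := hle (hfix x r hx v)
      obtain ⟨c, hc⟩ := Subgroup.mem_zpowers_iff.1 h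
      exact ⟨c, Additive.toMul.injective (Subtype.ext (by simp [hc]))⟩
    choose c hc using hcol
    refine Submodule.mem_span_singleton.2 ⟨∑ j, (c (b j) : AlgebraicClosure (ZMod ℓ)) * w j, ?_⟩
    funext i
    rw [hΦapply, Pi.smul_apply, smul_eq_mul, Finset.sum_mul]
    refine Finset.sum_congr rfl fun j _ => ?_
    rw [hc, map_zsmul, Finsupp.smul_apply, map_zsmul, zsmul_eq_mul]
    ring

/-- **BG Theorem 3.4**: if a group of prime order without fixed points on the elementary abelian
group `V` normalizes the solvable group `K` of odd order, in coprime situation, then `⁅R, K⁆`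
centralizes `V`. -/
theorem commutator_le_centralizer {ℓ : ℕ} [Fact ℓ.Prime] {V K R : Subgroup X}
    (hV : IsElementaryAbelian ℓ V) (hKV : K ≤ Subgroup.normalizer (V : Set X))
    (hRV : R ≤ Subgroup.normalizer (V : Set X)) (hRK : R ≤ Subgroup.normalizer (K : Set X))
    (hsol : Group.IsSolvable K) (hodd : Odd (Nat.card K)) (hR : (Nat.card R).Prime)
    (hR2 : Nat.card R ≠ 2) (hRcop : ¬ Nat.card R ∣ Nat.card K) (hℓK : ¬ ℓ ∣ Nat.card K)
    (hℓR : ℓ ≠ Nat.card R) (hCV : V ⊓ Subgroup.centralizer (R : Set X) = ⊥) :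
    ⁅R, K⁆ ≤ Subgroup.centralizer (V : Set X) := by
  set L := AlgebraicClosure (ZMod ℓ)
  have : CharP L ℓ := charP_of_injective_algebraMap (algebraMap (ZMod ℓ) L).injective ℓ
  obtain ⟨n, ρ, hker, -, hnorm, -, -⟩ := exists_rep (G := K ⊔ R) hV (sup_le hKV hRV)
  rw [Subgroup.commutator_le]
  intro x hx g hg
  by_cases hx1 : x = 1
  · simp [hx1, commutatorElement_one_left]
  have hxr : (⟨x, Subgroup.mem_sup_right hx⟩ : ↥(K ⊔ R)) ^ Nat.card R = 1 :=
    Subtype.ext (orderOf_dvd_iff_pow_eq_one.1 (R.orderOf_dvd_natCard hx))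
  have hgenR : Subgroup.zpowers x = R := by
    refine Subgroup.eq_of_le_of_card_ge (Subgroup.zpowers_le.2 hx) ?_
    rw [Nat.card_zpowers]
    rcases hR.eq_one_or_self_of_dvd _ (R.orderOf_dvd_natCard hx) with h | h
    · exact absurd (orderOf_eq_one_iff.1 h) hx1
    · exact h.ge
  have hbot : V ⊓ Subgroup.centralizer {x} = ⊥ := by
    rwa [← Subgroup.centralizer_closure, ← Subgroup.zpowers_eq_closure, hgenR]
  have hN := hnorm ⟨x, Subgroup.mem_sup_right hx⟩ _ hxr hbot
  have hcard : Nat.card (K.subgroupOf (K ⊔ R)) = Nat.card K :=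
    Nat.card_congr (Subgroup.subgroupOfEquivOfLe le_sup_left).toEquiv
  have key := LinearFixed.apply_conj_eq ρ (Q := K.subgroupOf (K ⊔ R)) hR hR2
    (fun h => hℓR ((Nat.prime_dvd_prime_iff_eq Fact.out hR).1
      ((CharP.cast_eq_zero_iff L ℓ _).1 h)))
    hxr (fun h => hℓK (hcard ▸ (CharP.cast_eq_zero_iff L ℓ _).1 h)) (hcard.symm ▸ hodd)
    (Group.isSolvable_of_isSolvable_injective
      (f := (Subgroup.subgroupOfEquivOfLe (le_sup_left : K ≤ K ⊔ R)).toMonoidHom)
      (Subgroup.subgroupOfEquivOfLe le_sup_left).injective)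
    (hcard.symm ▸ hRcop)
    (Subgroup.mem_normalizer_fintype fun y hy => (Subgroup.mem_normalizer_iff.1 (hRK hx) _).1 hy)
    hN (g := ⟨g, Subgroup.mem_sup_left hg⟩) hg
  set a : ↥(K ⊔ R) := ⟨x, Subgroup.mem_sup_right hx⟩ *
    ⟨g, Subgroup.mem_sup_left hg⟩ * ⟨x, Subgroup.mem_sup_right hx⟩⁻¹ *
    ⟨g, Subgroup.mem_sup_left hg⟩⁻¹ with ha
  have h1 : ρ a = 1 := by rw [ha, map_mul, key, ← map_mul, mul_inv_cancel, map_one]
  simpa [ha, commutatorElement_def] using (hker a).1 h1

end CfsgLib.OddOrder.LinearBridge
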