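import Cfsg.Agent.Lib.OddOrder.RankTwoOperator
import Cfsg.Agent.Lib.OddOrder.RankThreeSmallElementary
import Cfsg.Agent.Lib.OddOrder.NarrowSolvable
import Cfsg.Agent.Lib.PGroups.Basic
import Cfsg.Agent.Lib.PGroups.MaximalClass

/-!
Solvable groups of odd order acting faithfully on a narrow `p`-group.
-/

set_option autoImplicit false
set_option linter.unusedSectionVars false

namespace CfsgLib.OddOrder

open Cfsg
open Subgroup
open scoped commutatorElement Pointwise

universe u

variable {G : Type u} [Group G] [Finite G] {p : ℕ} [Fact p.Prime]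

/-- The derived group of a faithful solvable operator group of odd order is in the `p`-core. -/
theorem commutator_le_pCore_of_narrow (hp : p ≠ 2) (R A : Subgroup G) (hR : IsPGroup p R)
    (hRn : IsNarrow p R) (hA : A ≤ normalizer (R : Set G)) [Group.IsSolvable A]
    (hodd : Odd (Nat.card A)) (hfaith : A ⊓ centralizer (R : Set G) = ⊥) :
    commutator A ≤ pCore p A ∧ ((pCore p A).index).Coprime p := by
  obtain ⟨E₀, hE₀, hC₀⟩ := exists_small_centralizer_of_narrow hRn
  set E := E₀.map R.subtype with hE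
  have hC : PRankLE p 2 ↥(R ⊓ centralizer (E : Set G)) := by
    let g : ↥(R ⊓ centralizer (E : Set G)) →* centralizer (E₀ : Set R) :=
      (inclusion inf_le_left).codRestrict _ fun x => mem_centralizer_iff.2 fun y hy =>
        Subtype.ext (mem_centralizer_iff.1 x.2.2 y ⟨y, hy, rfl⟩)
    refine CfsgLib.Base.pRankLE_of_injective g (fun a b h => ?_) hC₀
    exact inclusion_injective inf_le_left (congrArg Subtype.val h)
  have hA'p : IsPGroup p (commutator A) := fun c => by
    obtain ⟨k, hk⟩ := exists_pow_mem_centralizer_of_narrow hp hR (map_subtype_le _)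
      (CfsgLib.Base.isElementaryAbelian_map _ hE₀) hC hA hodd c
    refine ⟨k, Subtype.ext (Subtype.ext ?_)⟩
    have : ((c : A) : G) ^ p ^ k ∈ A ⊓ centralizer (R : Set G) := ⟨pow_mem (c : A).2 _, hk⟩
    rw [hfaith, mem_bot] at this
    simpa using this
  have hle := CfsgLib.Base.le_pCore (N := commutator A) hA'p
  refine ⟨hle, ?_⟩
  obtain ⟨P⟩ : Nonempty (Sylow p A) := inferInstance
  have hn : ((P : Subgroup A) ⊔ commutator A).Normal :=
    Normal.of_commutator_le A le_sup_right
  have hpg : IsPGroup p ↥((P : Subgroup A) ⊔ commutator A) :=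
    IsPGroup.to_sup_of_normal_right P.isPGroup' hA'p
  have hP : (P : Subgroup A) ≤ pCore p A := le_sup_left.trans (CfsgLib.Base.le_pCore hpg)
  exact ((Fact.out : p.Prime).coprime_iff_not_dvd.2 fun h =>
    P.not_dvd_index (h.trans (index_dvd_of_le hP))).symm

/-- An automorphism of a group of order at most `p` has order dividing `p - 1`. -/
theorem mulAut_pow_eq_one {V : Type*} [Group V] [Finite V] (hV : ∀ v : V, v ^ p = 1)
    (hcard : Nat.card V ≤ p) (α : MulAut V) : α ^ (p - 1) = 1 := by
  have hpp : p.Prime := Fact.out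
  obtain ⟨m, hm⟩ := IsPGroup.iff_card.mp
    (show IsPGroup p V from fun v => ⟨1, by rw [pow_one, hV]⟩)
  have hm1 : m ≤ 1 := (Nat.pow_le_pow_iff_right hpp.one_lt).1 (by rw [← hm, pow_one]; exact hcard)
  interval_cases m
  · have : Subsingleton V := (Nat.card_eq_one_iff_unique.1 (by simpa using hm)).1
    exact MulEquiv.ext fun v => Subsingleton.elim _ _
  · have : IsCyclic V := isCyclic_of_prime_card (hm.trans (pow_one p))
    have h := pow_card_eq_one' (G := MulAut V) (x := α)
    rwa [IsCyclic.card_mulAut, hm, pow_one, Nat.totient_prime hpp] at h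

/-- The action on a characteristic factor. -/
def charQuotientAction {R A : Subgroup G} (hA : A ≤ normalizer (R : Set G)) (T : Subgroup R)
    [T.Normal] (hT : T.Characteristic) : A →* MulAut (R ⧸ T) where
  toFun a := QuotientGroup.congr T T (R.normalizerMonoidHom (inclusion hA a))
    (characteristic_iff_map_eq.1 hT _)
  map_one' := by
    refine MulEquiv.ext fun v => ?_
    induction v using QuotientGroup.induction_on with | _ x => ?_
    simp only [map_one]; rfl
  map_mul' a b := by
    refine MulEquiv.ext fun v => ?_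
    induction v using QuotientGroup.induction_on with | _ x => ?_
    simp only [map_mul]; rfl

/-- A narrow group of rank at least three: a characteristic maximal subgroup missing an element
with small centralizer. -/
theorem exists_narrow_element (hp : p ≠ 2) {R : Type*} [Group R] [Finite R] (hR : IsPGroup p R)
    (hn : IsNarrow p R) (hr : ¬ PRankLE p 2 R) : ∃ (e : R) (T : Subgroup R),
      T.Characteristic ∧ T.index = p ∧ e ∉ T ∧ e ^ p = 1 ∧
      ∀ B : Subgroup R, IsElementaryAbelian p B → e ∈ B → Nat.card B ≤ p ^ 2 := by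
  have hpp : p.Prime := Fact.out
  obtain ⟨R₀, R₁, h0, h1, -, hcomm, hC⟩ := hn.resolve_left hr
  have hrC := pRankLE_two_of_mul_cyclic h0 h1 hcomm hC
  have hcy0 : IsCyclic R₀ := isCyclic_of_prime_card h0
  obtain ⟨e₀, he₀⟩ := hcy0.exists_generator
  have hR0e : R₀ = zpowers (e₀ : R) := by
    refine le_antisymm (fun x hx => ?_) (zpowers_le.2 e₀.2)
    obtain ⟨j, hj⟩ := mem_zpowers_iff.1 (he₀ ⟨x, hx⟩)
    exact mem_zpowers_iff.2 ⟨j, by simpa using congrArg Subtype.val hj⟩
  have hep : (e₀ : R) ^ p = 1 := by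
    have := pow_card_eq_one' (x := e₀); rw [h0] at this
    exact congrArg Subtype.val this
  have hsmall : ∀ B : Subgroup R, IsElementaryAbelian p B → (e₀ : R) ∈ B →
      Nat.card B ≤ p ^ 2 := fun B hB heB => by
    obtain ⟨hc, hexp⟩ := CfsgLib.Base.isElementaryAbelian_iff.1 hB
    have hle : B ≤ centralizer (R₀ : Set R) := le_centralizer_iff.2 (by
      rw [hR0e, zpowers_le]
      exact mem_centralizer_iff.2 fun b hb => hc b hb _ heB)
    have h := CfsgLib.Base.isElementaryAbelian_iff.1
      (CfsgLib.Base.isElementaryAbelian_subgroupOf hB (centralizer (R₀ : Set R)))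
    rw [← Nat.card_congr (subgroupOfEquivOfLe hle).toEquiv]
    exact hrC _ (CfsgLib.Base.isMulCommutative_subgroup_iff.2 h.1) h.2
  have hne : Nontrivial R := by
    by_contra hs
    have : Subsingleton R := not_nontrivial_iff_subsingleton.1 hs
    have := h0
    rw [Nat.card_unique] at this
    exact hpp.ne_one this.symm
  have : Nontrivial (center R) := hR.center_nontrivial
  obtain ⟨n, hn'⟩ := IsPGroup.iff_card.mp (hR.to_subgroup (center R))
  have hdz : p ∣ Nat.card (center R) := by
    rcases n with _ | n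
    · exact absurd (by simpa using hn') (Finite.one_lt_card (α := center R)).ne'
    · exact hn' ▸ dvd_pow_self p n.succ_ne_zero
  obtain ⟨z', hz'⟩ := exists_prime_orderOf_dvd_card' (G := center R) p hdz
  have hz : orderOf (z' : R) = p := by rw [orderOf_coe]; exact hz'
  have hzR0 : (z' : R) ∉ R₀ := fun hmem => by
    refine hr ?_
    have heq : zpowers (z' : R) = R₀ := eq_of_le_of_card_ge (zpowers_le.2 hmem) (by
      rw [h0, Nat.card_zpowers, hz])
    have htop : centralizer (R₀ : Set R) = ⊤ := by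
      rw [eq_top_iff, le_centralizer_iff, ← heq, zpowers_le]
      exact mem_centralizer_iff.2 fun g _ => mem_center_iff.1 z'.2 g
    exact CfsgLib.Base.pRankLE_of_injective
      ((MonoidHom.id R).codRestrict _ fun x => htop.ge (mem_top x))
      (fun a b h => congrArg Subtype.val h) hrC
  set E := R₀ ⊔ zpowers (z' : R) with hE
  have hEe : IsElementaryAbelian p E := by
    rw [hE, hR0e]
    refine CfsgLib.Base.isElementaryAbelian_sup (CfsgLib.Base.isElementaryAbelian_zpowers hep)
      (CfsgLib.Base.isElementaryAbelian_zpowers (by rw [← hz]; exact pow_orderOf_eq_one _)) ?_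
    rw [le_centralizer_iff, zpowers_le]
    exact mem_centralizer_iff.2 fun g _ => mem_center_iff.1 z'.2 g
  have heE : (e₀ : R) ∈ E := mem_sup_left e₀.2
  have hE2 : Nat.card E = p ^ 2 := by
    refine le_antisymm (hsmall E hEe heE) ?_
    obtain ⟨k, hk⟩ := CfsgLib.Base.exists_card_eq_pow_of_isElementaryAbelian hEe
    rw [hk]
    refine Nat.pow_le_pow_right hpp.pos ?_
    by_contra hlt
    have hle1 : Nat.card E ≤ Nat.card R₀ := by
      rw [hk, h0]; exact (Nat.pow_le_pow_right hpp.pos (show k ≤ 1 by omega)).trans (pow_one p).le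
    have : R₀ = E := eq_of_le_of_card_ge le_sup_left hle1
    exact hzR0 (this.ge (mem_sup_right (mem_zpowers _)))
  obtain ⟨h1', -, ⟨hW, -⟩, hTc, hTi⟩ := rankThree_maximal_elementary hp hR hr E hEe hE2
    fun B hB hEB => (eq_of_le_of_card_ge hEB (hE2 ▸ hsmall B hB (hEB heE))).symm
  refine ⟨e₀, _, hTc, hTi, fun heT => h1' ?_, hep, hsmall⟩
  refine sup_le (by rw [hR0e, zpowers_le]; exact heT) (zpowers_le.2 ?_)
  exact mem_centralizer_iff.2 fun g _ => mem_center_iff.1 z'.2 g

/-- In rank at least three, `(p - 1)`-th powers of `p'`-elements centralize a narrow group. -/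
theorem pow_mem_centralizer_of_narrow (hp : p ≠ 2) (R A : Subgroup G) (hR : IsPGroup p R)
    (hRn : IsNarrow p R) (hr : ¬ PRankLE p 2 R) (hA : A ≤ normalizer (R : Set G)) {a : A}
    (hap : (orderOf a).Coprime p) : (a : G) ^ (p - 1) ∈ centralizer (R : Set G) := by
  have hpp : p.Prime := Fact.out
  obtain ⟨e, T, hTc, hTi, heT, hep, hsmall⟩ := exists_narrow_element hp hR hRn hr
  have hTn : T.Normal := @normal_of_characteristic R _ T hTc
  set b := a ^ (p - 1) with hb
  have hbp : (orderOf b).Coprime p := hap.coprime_dvd_left (orderOf_pow_dvd _)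
  have hbp' : (orderOf (b : G)).Coprime p := by rwa [orderOf_coe]
  rw [show (a : G) ^ (p - 1) = (b : G) by rw [hb, SubmonoidClass.coe_pow]]
  obtain ⟨D, hDR, hexp, -, hND, hdet⟩ := exists_detecting hp R hR
  refine hdet _ (hA b.2) hbp' ?_
  set T' := T.map R.subtype with hT'
  have hNT : normalizer (R : Set G) ≤ normalizer (T' : Set G) :=
    normalizer_le_normalizer_map_char T hTc
  set D₀ := T' ⊓ D with hD₀
  have hN₀ : normalizer (R : Set G) ≤ normalizer (D₀ : Set G) :=
    CfsgLib.Coprime.le_normalizer_inf_inf hNT hND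
  have hD₀R : D₀ ≤ R := inf_le_right.trans hDR
  -- `e` has at most `p` fixed points on `D₀`
  have hfix : Nat.card ↥(D₀ ⊓ centralizer ({(e : G)} : Set G)) ≤ p := by
    set B := D₀ ⊓ centralizer ({(e : G)} : Set G) with hB
    set B₁ := B.subgroupOf R with hB₁
    have hBR : B ≤ R := inf_le_left.trans hD₀R
    rw [← Nat.card_congr (subgroupOfEquivOfLe hBR).toEquiv]
    by_contra hlt
    have hB₁T : B₁ ≤ T := fun x hx => by
      obtain ⟨y, hy, hyx⟩ := hx.1.1
      rwa [show x = y from (Subtype.ext hyx).symm]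
    have hexp1 : ∀ w ∈ B₁, w ^ p = 1 := fun w hw => Subtype.ext (by
      rw [SubmonoidClass.coe_pow]; exact hexp _ hw.1.2)
    have hB₁p : IsPGroup p B₁ := fun w => ⟨1, by rw [pow_one]; exact Subtype.ext (hexp1 w w.2)⟩
    have : Nontrivial B₁ :=
      Finite.one_lt_card_iff_nontrivial.1 (hpp.one_lt.trans (not_le.1 hlt))
    have : Nontrivial (center B₁) := hB₁p.center_nontrivial
    obtain ⟨x, hx1⟩ := exists_ne (1 : center B₁)
    have hxe : ((x : B₁) : R) ≠ 1 := fun h => hx1 (Subtype.ext (Subtype.ext h))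
    have hxo : orderOf ((x : B₁) : R) = p := orderOf_eq_prime (hexp1 _ (x : B₁).2) hxe
    obtain ⟨y, hy, hyx⟩ : ∃ y ∈ B₁, y ∉ zpowers ((x : B₁) : R) := by
      by_contra! h
      exact hlt ((card_le_of_le (h : B₁ ≤ _)).trans (by rw [Nat.card_zpowers, hxo]))
    have hxy : Commute y ((x : B₁) : R) :=
      congrArg Subtype.val (mem_center_iff.1 x.2 ⟨y, hy⟩)
    have hec : ∀ w ∈ B₁, Commute w e := fun w hw =>
      Subtype.ext (mem_centralizer_singleton_iff.1 hw.2)
    set x' : R := ((x : B₁) : R) with hx'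
    have hxB : x' ∈ B₁ := (x : B₁).2
    have hB2 : IsElementaryAbelian p (zpowers x' ⊔ zpowers y ⊔ zpowers e : Subgroup R) := by
      refine CfsgLib.Base.isElementaryAbelian_sup (CfsgLib.Base.isElementaryAbelian_sup
        (CfsgLib.Base.isElementaryAbelian_zpowers (hexp1 x' hxB))
        (CfsgLib.Base.isElementaryAbelian_zpowers (hexp1 y hy)) ?_)
        (CfsgLib.Base.isElementaryAbelian_zpowers hep) ?_
      · rw [zpowers_le, mem_centralizer_iff]
        intro w hw
        obtain ⟨j, rfl⟩ := mem_zpowers_iff.1 hw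
        exact (hxy.zpow_left j).eq
      · refine sup_le (zpowers_le.2 ?_) (zpowers_le.2 ?_) <;>
          refine mem_centralizer_iff.2 fun w hw => ?_ <;>
          obtain ⟨j, rfl⟩ := mem_zpowers_iff.1 hw
        · exact ((hec x' hxB).symm.zpow_left j).eq
        · exact ((hec y hy).symm.zpow_left j).eq
    have hlt1 : zpowers x' < zpowers x' ⊔ zpowers y :=
      left_lt_sup.2 fun h => hyx (h (mem_zpowers y))
    have hlt2 : zpowers x' ⊔ zpowers y < zpowers x' ⊔ zpowers y ⊔ zpowers e :=
      left_lt_sup.2 fun h => heT ((sup_le (zpowers_le.2 (hB₁T hxB))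
        (zpowers_le.2 (hB₁T hy)) : zpowers x' ⊔ zpowers y ≤ T) (h (mem_zpowers e)))
    have c1 := CfsgLib.PLocal.card_lt_of_lt hlt1
    have c2 := CfsgLib.PLocal.card_lt_of_lt hlt2
    have c3 := hsmall _ hB2 (mem_sup_right (mem_zpowers e))
    obtain ⟨k, hk⟩ := CfsgLib.Base.exists_card_eq_pow_of_isElementaryAbelian
      (CfsgLib.Base.isElementaryAbelian_le le_sup_left hB2 :
        IsElementaryAbelian p (zpowers x' ⊔ zpowers y : Subgroup R))
    obtain ⟨l, hl⟩ := CfsgLib.Base.exists_card_eq_pow_of_isElementaryAbelian hB2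
    rw [Nat.card_zpowers, hxo, hk] at c1
    rw [hk, hl] at c2
    rw [hl] at c3
    have e1 := (Nat.pow_lt_pow_iff_right hpp.one_lt).1 (lt_of_eq_of_lt (pow_one p) c1)
    have e2 := (Nat.pow_lt_pow_iff_right hpp.one_lt).1 c2
    have e3 := (Nat.pow_le_pow_iff_right hpp.one_lt).1 c3
    omega
  -- `b` centralizes `D₀`
  obtain ⟨n, hn⟩ := (hR.isNilpotent : Group.IsNilpotent R).nilpotent'
  have hlev : narrowLevel R D₀ n = D₀ := by
    rw [narrowLevel, hn, ← MonoidHom.range_eq_map, range_subtype]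
    exact inf_eq_right.2 hD₀R
  have h₀ := centralizes_levels hR hD₀R (fun x hx => hexp x hx.2) hN₀ hA e.2 hfix
    (fun V _ _ hV hc α => by rw [hb, map_pow]; exact mulAut_pow_eq_one hV hc _) hbp n
  rw [hlev] at h₀
  -- `b` centralizes `D` modulo `D₀`
  have hcard : (Nat.card (zpowers (b : G))).Coprime (Nat.card D₀) := by
    obtain ⟨k, hk⟩ := IsPGroup.iff_card.mp (hR.to_le hD₀R)
    rw [Nat.card_zpowers, hk]
    exact hbp'.pow_right k
  have hbN : (b : G) ∈ normalizer (R : Set G) := hA b.2
  have hTq : ∀ v : R ⧸ T, v ^ p = 1 := fun v => by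
    have h := pow_card_eq_one' (x := v)
    rwa [show Nat.card (R ⧸ T) = p from hTi] at h
  have hα : ∀ a' : A, (charQuotientAction hA T hTc a') ^ (p - 1) = 1 := fun a' =>
    mulAut_pow_eq_one hTq (le_of_eq hTi) _
  refine le_centralizer_of_commutator_le hcard (commutator_le.2 fun x hx g hg => ?_) h₀
    (mem_zpowers _)
  obtain ⟨j, rfl⟩ := mem_zpowers_iff.1 hg
  have hαb : charQuotientAction hA T hTc (b ^ j) = 1 := by
    rw [map_zpow, hb, map_pow, hα, one_zpow]
  have hgN : (b : G) ^ j ∈ normalizer (R : Set G) := zpow_mem hbN j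
  have hxR : x ∈ R := hDR hx
  have h2 := QuotientGroup.eq.1 (DFunLike.congr_fun hαb (QuotientGroup.mk (⟨x, hxR⟩ : R))).symm
  have h3 : (⟨x, hxR⟩ : R) * (R.normalizerMonoidHom (inclusion hA (b ^ j)) ⟨x, hxR⟩)⁻¹ ∈ T := by
    have := hTn.conj_mem _ (inv_mem h2) (⟨x, hxR⟩ : R)
    simpa [mul_assoc] using this
  refine ⟨⟨_, h3, ?_⟩, ?_⟩
  · show x * (((b ^ j : A) : G) * x * ((b ^ j : A) : G)⁻¹)⁻¹ = _
    rw [commutatorElement_def, SubgroupClass.coe_zpow]; group
  · rw [commutatorElement_def, mul_assoc, mul_assoc]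
    exact D.mul_mem hx (by
      simpa [mul_assoc] using (mem_normalizer_iff.mp (hND hgN) _).mp (D.inv_mem hx))

/-- The orders of the `p'`-elements of a faithful operator group divide `p - 1`. -/
theorem orderOf_dvd_of_narrow (hp : p ≠ 2) (R A : Subgroup G) (hR : IsPGroup p R)
    (hRn : IsNarrow p R) (hr : ¬ PRankLE p 2 R) (hA : A ≤ normalizer (R : Set G))
    (hfaith : A ⊓ centralizer (R : Set G) = ⊥) {a : G} (ha : a ∈ A)
    (hap : (orderOf a).Coprime p) : orderOf a ∣ p - 1 := by
  refine orderOf_dvd_of_pow_eq_one ?_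
  have h := pow_mem_centralizer_of_narrow hp R A hR hRn hr hA (a := ⟨a, ha⟩)
    (by rwa [orderOf_mk])
  have : a ^ (p - 1) ∈ A ⊓ centralizer (R : Set G) := ⟨pow_mem ha _, h⟩
  rwa [hfaith, mem_bot] at this

/-- An automorphism group of a cyclic `p`-group of order prime to `p * (p - 1)` is trivial. -/
theorem le_centralizer_of_cyclic (S A : Subgroup G) (hS : IsPGroup p S) (hcy : IsCyclic S)
    (hA : A ≤ normalizer (S : Set G)) (hcop : (Nat.card A).Coprime (p * (p - 1))) :
    A ≤ centralizer (S : Set G) := by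
  have hpp : p.Prime := Fact.out
  intro a ha
  obtain ⟨n, hn⟩ := IsPGroup.iff_card.mp hS
  set φ : MulAut S := S.normalizerMonoidHom (inclusion hA ⟨a, ha⟩) with hφ
  suffices h : φ = 1 by
    refine mem_centralizer_iff.2 fun x hx => ?_
    have := congrArg Subtype.val (DFunLike.congr_fun h (⟨x, hx⟩ : S))
    change a * x * a⁻¹ = x at this
    calc x * a = a * x * a⁻¹ * a := by rw [this]
      _ = a * x := by group
  have h1 : orderOf φ ∣ Nat.card A := ((orderOf_map_dvd _ _).trans (orderOf_map_dvd _ _)).trans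
    (orderOf_dvd_natCard (⟨a, ha⟩ : A))
  have h2 : orderOf φ ∣ Nat.totient (p ^ n) := by
    rw [← hn, ← IsCyclic.card_mulAut]; exact orderOf_dvd_natCard _
  refine orderOf_eq_one_iff.1 (Nat.eq_one_of_dvd_coprimes ?_ h1 h2)
  rcases Nat.eq_zero_or_pos n with rfl | hn0
  · simp
  · rw [Nat.totient_prime_pow hpp hn0]
    exact (Nat.Coprime.pow_right _ (hcop.coprime_dvd_right (dvd_mul_right _ _))).mul_right
      (hcop.coprime_dvd_right (dvd_mul_left _ _))

/-- In a nonabelian group of order `p³` the centre lies in the derived group. -/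
theorem center_le_commutator_of_card_cube {S : Type*} [Group S] [Finite S]
    (hna : ¬ IsMulCommutative S) (hcard : Nat.card S = p ^ 3) : center S ≤ commutator S := by
  have hpp : p.Prime := Fact.out
  have hS : IsPGroup p S := IsPGroup.of_card hcard
  have hd : commutator S ≠ ⊥ := fun h => hna ((_root_.commutator_eq_bot_iff (G := S)).1 h)
  obtain ⟨k, hk⟩ := IsPGroup.iff_card.mp (hS.to_subgroup (center S))
  have hk1 : k ≤ 1 := by
    by_contra hlt
    have hmul := (center S).card_mul_index
    rw [hk, hcard] at hmul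
    obtain ⟨l, hl⟩ := hS.index (center S)
    rw [hl, ← pow_add] at hmul
    have hkl := Nat.pow_right_injective hpp.two_le hmul
    refine CfsgLib.PGroups.not_isCyclic_quotient_center hna ?_
    have hle : l ≤ 1 := by omega
    interval_cases l
    · have : Subsingleton (S ⧸ center S) :=
        (Nat.card_eq_one_iff_unique.1 (show Nat.card (S ⧸ center S) = 1 from hl.trans (pow_zero p))).1
      exact isCyclic_of_subsingleton
    · exact isCyclic_of_prime_card
        (show Nat.card (S ⧸ center S) = p from hl.trans (pow_one p))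
  have hne := CfsgLib.PGroups.inf_center_ne_bot hS (N := commutator S) hd
  refine (eq_of_le_of_card_ge (inf_le_right : commutator S ⊓ center S ≤ center S) ?_).ge.trans
    inf_le_left
  calc Nat.card (center S) ≤ p ^ 1 := hk ▸ Nat.pow_le_pow_right hpp.pos hk1
    _ = p := pow_one p
    _ ≤ _ := Nat.le_of_dvd Nat.card_pos
      (CfsgLib.PGroups.dvd_card_of_ne_bot hS hne)

/-- The case of an operator group of prime order not dividing `p (p - 1)`. -/
theorem narrow_prime_operator (hp : p ≠ 2) (R A : Subgroup G) (hR : IsPGroup p R)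
    (hRn : IsNarrow p R) (hA : A ≤ normalizer (R : Set G)) (hodd : Odd (Nat.card A))
    (hfaith : A ⊓ centralizer (R : Set G) = ⊥) (hq : (Nat.card A).Prime)
    (hdiv : ¬ Nat.card A ∣ p * (p - 1)) :
    2 * Nat.card A ∣ p + 1 ∧ (⁅R, A⁆ = R → ¬ IsMulCommutative R → Nat.card R = p ^ 3) := by
  have hpp : p.Prime := Fact.out
  have hcopp : (Nat.card A).Coprime (p * (p - 1)) := hq.coprime_iff_not_dvd.2 hdiv
  have hcop : (Nat.card A).Coprime p := hcopp.coprime_dvd_right (dvd_mul_right _ _)
  have : Fact (Nat.card A).Prime := ⟨hq⟩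
  obtain ⟨a', ha'⟩ := exists_prime_orderOf_dvd_card' (G := A) (Nat.card A) dvd_rfl
  have ha : orderOf (a' : G) = Nat.card A := by rw [orderOf_coe, ha']
  have hac : (a' : G) ∉ centralizer (R : Set G) := fun h => hq.ne_one (by
    rw [← ha, orderOf_eq_one_iff]
    have : (a' : G) ∈ A ⊓ centralizer (R : Set G) := ⟨a'.2, h⟩
    rwa [hfaith, mem_bot] at this)
  have hr : PRankLE p 2 R := by
    by_contra hr
    have h := orderOf_dvd_of_narrow hp R A hR hRn hr hA hfaith a'.2 (by rw [ha]; exact hcop)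
    rw [ha] at h
    exact hdiv (h.trans (dvd_mul_left _ _))
  have hne : Nat.card A ≠ p := fun h => hdiv (by rw [h]; exact dvd_mul_right _ _)
  obtain ⟨hd, -⟩ := prime_dvd_and_lt hp hR hr hq hne ha (hA a'.2) hac
  rw [show p ^ 2 - 1 = (p + 1) * (p - 1) by simpa using Nat.sq_sub_sq p 1] at hd
  have hd' : Nat.card A ∣ p + 1 :=
    (hq.dvd_mul.1 hd).resolve_right fun h => hdiv (h.trans (dvd_mul_left _ _))
  refine ⟨(Nat.coprime_two_left.2 hodd).mul_dvd_of_dvd_of_dvd ?_ hd', fun hRA hna => ?_⟩
  · obtain ⟨m, hm⟩ := hpp.odd_of_ne_two hp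
    exact ⟨m + 1, by omega⟩
  have hR1 : R ≠ ⊥ := fun h => hac (by
    rw [h]; exact mem_centralizer_iff.2 fun x hx => by rw [mem_bot.1 hx, one_mul, mul_one])
  obtain ⟨R₁, R₂, hsup, hcomm, hna1, hc1, -, hcy2, hΩ⟩ :=
    (rank_two_operator hp R A hR hR1 hr hA hcop hodd hRA).resolve_left hna
  have h1R : R₁ ≤ R := hsup ▸ le_sup_left
  have h2R : R₂ ≤ R := hsup ▸ le_sup_right
  -- the centre of `R` is `R₂`
  have h2c : R₁ ≤ centralizer (R₂ : Set G) := fun x hx =>
    mem_centralizer_iff.2 fun y hy => (hcomm x hx y hy).symm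
  have hn1 : R ≤ normalizer (R₁ : Set G) := by
    rw [← hsup]
    exact sup_le le_normalizer ((le_centralizer_iff.1 h2c).trans (centralizer_le_normalizer _))
  have hR₂ab : ∀ x ∈ R₂, ∀ y ∈ R₂, x * y = y * x := fun x hx y hy =>
    congrArg Subtype.val (hcy2.commGroup.mul_comm (⟨x, hx⟩ : R₂) ⟨y, hy⟩)
  have hmem : ∀ x ∈ R, ∃ u ∈ R₁, ∃ v ∈ R₂, u * v = x := by
    intro x hx
    rw [← hsup] at hx
    have hset : ((R₁ ⊔ R₂ : Subgroup G) : Set G) = (R₁ : Set G) * (R₂ : Set G) :=
      coe_mul_of_left_le_normalizer_right R₁ R₂ (h2c.trans (centralizer_le_normalizer _))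
    exact Set.mem_mul.1 (hset ▸ hx : x ∈ (R₁ : Set G) * (R₂ : Set G))
  have hZ : ((center R).map R.subtype : Subgroup G) = R₂ := by
    refine le_antisymm ?_ fun v hv => ⟨⟨v, h2R hv⟩, mem_center_iff.2 fun g => Subtype.ext ?_, rfl⟩
    · rintro _ ⟨z, hz, rfl⟩
      obtain ⟨u, hu, v, hv, huv⟩ := hmem z z.2
      show (z : G) ∈ R₂
      rw [← huv]
      refine R₂.mul_mem ?_ hv
      have huc : (⟨u, hu⟩ : R₁) ∈ center R₁ := by
        refine mem_center_iff.2 fun g => Subtype.ext ?_
        show (g : G) * u = u * g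
        have e1 : (g : G) * (u * v) = u * v * g := by
          rw [huv]; exact congrArg Subtype.val (mem_center_iff.1 hz ⟨g, h1R g.2⟩)
        refine mul_right_cancel (b := v) ?_
        calc (g : G) * u * v = g * (u * v) := by group
          _ = u * v * g := e1
          _ = u * (v * g) := by group
          _ = u * (g * v) := by rw [hcomm g g.2 v hv]
          _ = u * g * v := by group
      have h1 : u ∈ ⁅R₁, R₁⁆ := by
        rw [← map_subtype_commutator]
        exact ⟨⟨u, hu⟩, center_le_commutator_of_card_cube hna1 hc1 huc, rfl⟩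
      rw [← hΩ] at h1
      exact (closure_le R₂).2 (fun y hy => hy.1) h1
    · show (g : G) * v = v * g
      obtain ⟨u, hu, w, hw, huw⟩ := hmem g g.2
      rw [← huw]
      calc u * w * v = u * (w * v) := by group
        _ = u * (v * w) := by rw [hR₂ab w hw v hv]
        _ = v * u * w := by rw [← mul_assoc, hcomm u hu v hv]
        _ = v * (u * w) := by group
  have hA2 : A ≤ normalizer (R₂ : Set G) := by
    rw [← hZ]
    exact hA.trans (normalizer_le_normalizer_map_char (center R) inferInstance)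
  have hA2c : A ≤ centralizer (R₂ : Set G) :=
    le_centralizer_of_cyclic R₂ A (hR.to_le h2R) hcy2 hA2 hcopp
  -- the fixed points lie in `R₁`
  have hcopR : (Nat.card A).Coprime (Nat.card R) := by
    obtain ⟨n, hn⟩ := IsPGroup.iff_card.mp hR
    rw [hn]; exact hcop.pow_right n
  have hder : (commutator R).map R.subtype ≤ R₁ := by
    rw [map_subtype_commutator, commutator_le]
    intro x hx y hy
    obtain ⟨u, hu, v, hv, rfl⟩ := hmem x hx
    obtain ⟨s, hs, t, ht, rfl⟩ := hmem y hy
    have : u * v * (s * t) * (u * v)⁻¹ * (s * t)⁻¹ = u * s * u⁻¹ * s⁻¹ := by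
      have c1 := hcomm s hs v hv
      have c2 := hR₂ab v hv t ht
      have c3 : Commute (v * t) u :=
        ((show Commute v u from (hcomm u hu v hv).symm).mul_left (hcomm u hu t ht).symm)
      have c4 : Commute (v * t) s :=
        ((show Commute v s from (hcomm s hs v hv).symm).mul_left (hcomm s hs t ht).symm)
      calc u * v * (s * t) * (u * v)⁻¹ * (s * t)⁻¹
          = u * (v * s) * t * v⁻¹ * u⁻¹ * t⁻¹ * s⁻¹ := by group
        _ = u * (s * v) * t * v⁻¹ * u⁻¹ * t⁻¹ * s⁻¹ := by rw [c1]
        _ = u * s * (v * t) * v⁻¹ * u⁻¹ * t⁻¹ * s⁻¹ := by group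
        _ = u * s * (t * v) * v⁻¹ * u⁻¹ * t⁻¹ * s⁻¹ := by rw [c2]
        _ = u * s * (t * u⁻¹) * t⁻¹ * s⁻¹ := by group
        _ = u * s * (u⁻¹ * t) * t⁻¹ * s⁻¹ := by
            rw [((show Commute t u from (hcomm u hu t ht).symm).inv_right).eq]
        _ = _ := by group
    rw [commutatorElement_def, this]
    exact R₁.mul_mem (R₁.mul_mem (R₁.mul_mem hu hs) (R₁.inv_mem hu)) (R₁.inv_mem hs)
  have h21 : R₂ ≤ R₁ := fun v hv =>
    hder ⟨⟨v, h2R hv⟩, mem_commutator_of_fixed R A hA hcopR hRA
      ((le_centralizer_iff.1 hA2c) hv), rfl⟩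
  rw [← hsup, sup_eq_left.2 h21, hc1]

end CfsgLib.OddOrder
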