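import Cfsg.Agent.Lib.OddOrder.Weights

/-!
The abelian configuration in BG, Theorem 3.6: weights of an abelian group with a one-dimensional
fixed space of an operator of prime order.
-/

set_option autoImplicit false

namespace CfsgLib.OddOrder.Weights

open Finset

variable {K : Type*} [Field K] [IsAlgClosed K] {W : Type*} [AddCommGroup W] [Module K W]
  [Nontrivial W] {A : Type*} [CommGroup A] [Finite A] {σ : A →* Module.End K W}

/-- A group `A` with a group `S` of operators and an operator `φ` of prime order `r` acting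
without fixed points and irreducibly on `S`: the fixed space of `φ` is not a line. -/
theorem false_of_orbits {ν : Module.End K W} {φ : MulAut A} (hν : ∀ a, ν * σ a = σ (φ a) * ν)
    {r : ℕ} (hr : r.Prime) (hr2 : r ≠ 2) (hφ : φ ^ r = 1) (hνr : ν ^ r = 1)
    (hA : (Nat.card A : K) ≠ 0) {a₀ : W} (hC : ∀ w, (∑ i ∈ range r, ν ^ i) w ∈ K ∙ a₀) (h1 : wproj σ (1 : A →* Kˣ) = 0)
    {S : Type*} [Group S] [Finite S] [Nontrivial S] {p : ℕ} [Fact p.Prime] (hS : IsPGroup p S)
    (hpr : p ≠ r) (hSodd : Odd (Nat.card S)) (β : S →* MulAut A) (μ : S →* Module.End K W)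
    (hμ : ∀ s a, μ s * σ a = σ (β s a) * μ s) (θ : MulAut S) (hθr : θ ^ r = 1)
    (hθfix : ∀ s, θ s = s → s = 1)
    (hirr : ∀ T : Subgroup S, (∀ t ∈ T, θ t ∈ T) → T = ⊥ ∨ T = ⊤)
    (hcompat : ∀ s a, φ (β s a) = β (θ s) (φ a))
    (hfix : ∀ χ : A →* Kˣ, (∀ s, twist (β s) χ = χ) → χ = 1) : False := by
  classical
  have := Fintype.ofFinite (A →* Kˣ)
  let Λ := {χ : A →* Kˣ // wproj σ χ ≠ 0}
  have hmul : ∀ (s t : S) (χ : A →* Kˣ), twist (β (s * t)) χ = twist (β s) (twist (β t) χ) := fun s t χ => by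
    ext a
    rw [map_mul]
    rfl
  have hone : ∀ χ : A →* Kˣ, twist (β 1) χ = χ := fun χ => by
    ext a
    rw [map_one]
    rfl
  have hΛ : ∀ (s : S) (χ : A →* Kˣ), wproj σ χ ≠ 0 → wproj σ (twist (β s) χ) ≠ 0 := by
    intro s χ h e
    apply h
    have h2 : μ s * wproj σ χ = 0 := by rw [mul_wproj (hμ s), e, zero_mul]
    have h3 : μ s⁻¹ * μ s = 1 := by rw [← map_mul, inv_mul_cancel, map_one]
    rw [← one_mul (wproj σ χ), ← h3, mul_assoc, h2, mul_zero]
  let _ : MulAction S Λ :=
    { smul := fun s χ => ⟨twist (β s) χ.1, hΛ s χ.1 χ.2⟩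
      one_smul := fun χ => Subtype.ext (hone χ.1)
      mul_smul := fun s t χ => Subtype.ext (hmul s t χ.1) }
  obtain ⟨χ₀, hχ₀⟩ : ∃ χ : A →* Kˣ, wproj σ χ ≠ 0 := by
    by_contra h
    push Not at h
    have h2 := sum_wproj σ hA
    rw [Finset.sum_eq_zero fun χ _ => h χ] at h2
    exact zero_ne_one h2
  -- no weight is fixed by `S`
  have hnofix : ∀ χ : Λ, ∃ s : S, s • χ ≠ χ := by
    intro χ
    by_contra h
    push Not at h
    exact χ.2 (by rw [hfix χ.1 fun s => congrArg Subtype.val (h s)]; exact h1)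
  have hcompat' : ∀ (s : S) (χ : A →* Kˣ), twist φ (twist (β s) χ) = twist (β (θ s)) (twist φ χ) := by
    intro s χ
    ext a
    show ((χ ((β s).symm (φ.symm a)) : Kˣ) : K) = ((χ (φ.symm ((β (θ s)).symm a)) : Kˣ) : K)
    congr 2
    have h := hcompat s ((β s).symm (φ.symm a))
    rw [MulEquiv.apply_symm_apply, MulEquiv.apply_symm_apply] at h
    conv_rhs => rw [h, MulEquiv.symm_apply_apply, MulEquiv.symm_apply_apply]
  by_cases hμfix : ∃ χ : Λ, twist φ χ.1 = χ.1
  · -- a weight fixed by `φ` has a regular orbit under `S`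
    obtain ⟨χ, hχ⟩ := hμfix
    let T : Subgroup S := MulAction.stabilizer S χ
    have hTinv : ∀ t ∈ T, θ t ∈ T := by
      intro t ht
      apply Subtype.ext
      show twist (β (θ t)) χ.1 = χ.1
      have ht' : twist (β t) χ.1 = χ.1 := congrArg Subtype.val (MulAction.mem_stabilizer_iff.1 ht)
      conv_lhs => rw [← hχ, ← hcompat', ht', hχ]
    have hT : T = ⊥ := (hirr T hTinv).resolve_right fun h => by
      obtain ⟨s, hs⟩ := hnofix χ
      exact hs (MulAction.mem_stabilizer_iff.1 (h ▸ Subgroup.mem_top s : s ∈ T))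
    have hinj : Function.Injective fun s : S => twist (β s) χ.1 := by
      intro s t h
      have h2 : t⁻¹ * s ∈ T := Subtype.ext (show twist (β (t⁻¹ * s)) χ.1 = χ.1 by
        rw [hmul, show twist (β s) χ.1 = twist (β t) χ.1 from h, ← hmul, inv_mul_cancel, hone])
      rw [hT, Subgroup.mem_bot, inv_mul_eq_one] at h2
      exact h2.symm
    have hmoved : ∀ s : S, s ≠ 1 → twist φ (twist (β s) χ.1) ≠ twist (β s) χ.1 := by
      intro s hs h
      rw [hcompat', hχ] at h
      exact hs (hθfix s (hinj h))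
    obtain ⟨s₀, hs₀⟩ := exists_ne (1 : S)
    have horb : ∀ s : {s : S // s ≠ 1}, ∃ i : Fin r,
        (twist φ)^[(i : ℕ)] (twist (β s₀) χ.1) = twist (β s.1) χ.1 := fun s => by
      obtain ⟨i, hi, h⟩ := exists_iterate_eq hν hr hφ hA hC (hmoved s₀ hs₀) (hmoved s.1 s.2)
        (hΛ s₀ _ χ.2) (hΛ s.1 _ χ.2)
      exact ⟨⟨i, hi⟩, h⟩
    choose g hg using horb
    have hginj : Function.Injective g := fun a b h =>
      Subtype.ext (hinj ((hg a).symm.trans ((congrArg (fun i : Fin r =>
        (twist φ)^[(i : ℕ)] (twist (β s₀) χ.1)) h).trans (hg b))))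
    have hle := Nat.card_le_card_of_injective g hginj
    rw [Nat.card_fin] at hle
    have := Fintype.ofFinite S
    have hcard : Nat.card {s : S // s ≠ 1} + 1 = Nat.card S := by
      rw [Nat.card_eq_fintype_card, Nat.card_eq_fintype_card, Fintype.card_subtype_compl,
        Fintype.card_subtype_eq]
      have := Fintype.card_pos (α := S)
      omega
    have hmod : Nat.card S ≡ 1 [MOD r] := by
      have : Fact r.Prime := ⟨hr⟩
      have hR : IsPGroup r (Subgroup.zpowers θ) := IsPGroup.of_card (n := if θ = 1 then 0 else 1) (by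
        rw [Nat.card_zpowers]
        split_ifs with h
        · simp [h]
        · rw [pow_one]; exact orderOf_eq_prime hθr h)
      have h := hR.card_modEq_card_fixedPoints S
      have hfp : MulAction.fixedPoints (Subgroup.zpowers θ) S = {1} := by
        ext s
        constructor
        · intro hs
          exact hθfix s (hs ⟨θ, Subgroup.mem_zpowers θ⟩)
        · rintro rfl g
          exact map_one (g : MulAut S)
      rwa [hfp, Nat.card_coe_set_eq, Set.ncard_singleton] at h
    have h2 : r ∣ Nat.card S - 1 := (Nat.modEq_iff_dvd' Nat.card_pos).1 hmod.symm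
    have h3 : 1 < Nat.card S := Finite.one_lt_card
    obtain ⟨k, hk⟩ := h2
    rcases k with _ | _ | k
    · omega
    · obtain ⟨a, ha⟩ := hr.odd_of_ne_two hr2
      obtain ⟨b, hb⟩ := hSodd
      omega
    · have : r * 2 ≤ r * (k + 1 + 1) := Nat.mul_le_mul_left _ (by omega)
      have := hr.pos
      omega
  · -- a single orbit of size `r`
    push Not at hμfix
    have hmv : ∀ χ : Λ, twist φ χ.1 ≠ χ.1 := hμfix
    set χΛ : Λ := ⟨χ₀, hχ₀⟩
    have hper : ∀ χ : A →* Kˣ, Function.IsPeriodicPt (twist φ) r χ := fun χ => by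
      show (twist φ)^[r] χ = χ
      rw [twist_iterate, hφ]
      ext a
      rfl
    have hstep : ∀ i : Fin r, wproj σ ((twist φ)^[(i : ℕ)] χ₀) ≠ 0 := by
      intro i e
      apply hχ₀
      have h2 : ν ^ (i : ℕ) * wproj σ χ₀ = 0 := by rw [pow_mul_wproj hν, e, zero_mul]
      rw [← one_mul (wproj σ χ₀), ← hνr, ← Nat.sub_add_cancel i.2.le, pow_add, mul_assoc, h2,
        mul_zero]
    let f : Fin r → Λ := fun i => ⟨(twist φ)^[(i : ℕ)] χ₀, hstep i⟩
    have hbij : Function.Bijective f := by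
      refine ⟨fun i j h => ?_, fun χ => ?_⟩
      · have key : ∀ i j : Fin r, (i : ℕ) ≤ j → f i = f j → i = j := by
          intro i j hle h
          by_contra hij
          have hne : (i : ℕ) ≠ j := fun e => hij (Fin.ext e)
          refine twist_iterate_ne hr hφ (hmv (f i)) (i := (j : ℕ) - i) (by omega) (by omega) ?_
          show (twist φ)^[(j : ℕ) - i] ((twist φ)^[(i : ℕ)] χ₀) = (twist φ)^[(i : ℕ)] χ₀
          rw [← Function.iterate_add_apply, Nat.sub_add_cancel hle]
          exact (congrArg Subtype.val h).symm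
        rcases le_total (i : ℕ) j with hle | hle
        · exact key i j hle h
        · exact (key j i hle h.symm).symm
      · obtain ⟨i, hi, h⟩ := exists_iterate_eq hν hr hφ hA hC (hmv χΛ) (hmv χ) hχ₀ χ.2
        exact ⟨⟨i, hi⟩, Subtype.ext h⟩
    have hcard : Nat.card Λ = r := by rw [← Nat.card_eq_of_bijective f hbij, Nat.card_fin]
    have h := hS.card_modEq_card_fixedPoints Λ
    have hfp : MulAction.fixedPoints S Λ = ∅ := Set.eq_empty_iff_forall_notMem.2 fun χ hχ => by
      obtain ⟨s, hs⟩ := hnofix χ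
      exact hs (hχ s)
    rw [hfp, hcard, Nat.card_coe_set_eq, Set.ncard_empty] at h
    exact hpr ((Nat.prime_dvd_prime_iff_eq Fact.out hr).1 (Nat.modEq_zero_iff_dvd.1 h))

end CfsgLib.OddOrder.Weights
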