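import Cfsg.Agent.Lib.OddOrder.LinearBridge
import Cfsg.Agent.Lib.OddOrder.WeightOrbits
import Cfsg.Agent.Lib.Coprime.Action2
import Cfsg.Agent.Lib.Base.MinimalNormal
import Cfsg.Agent.Lib.PGroups.Commutator

/-!
The final configuration in the proof of BG, Theorem 3.6.
-/

set_option autoImplicit false

namespace CfsgLib.OddOrder.PLengthZGroup

open Cfsg Subgroup
open scoped commutatorElement

variable {G : Type*} [Group G] [Finite G]

/-- Two subgroups permuted by conjugation under `x`. -/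
theorem mem_normalizer_commutator {Q : Subgroup G} {x : G} (hx : x ∈ normalizer (Q : Set G)) :
    x ∈ normalizer ((⁅Q, Q⁆ : Subgroup G) : Set G) := by
  refine mem_normalizer_fintype fun n hn => ?_
  have h1 : ⁅Q, Q⁆ ≤ (⁅Q, Q⁆ : Subgroup G).comap (MulAut.conj x).toMonoidHom := by
    rw [commutator_le]
    intro a ha b hb
    show x * ⁅a, b⁆ * x⁻¹ ∈ ⁅Q, Q⁆
    have : x * ⁅a, b⁆ * x⁻¹ = ⁅x * a * x⁻¹, x * b * x⁻¹⁆ := by
      simp only [commutatorElement_def]; group
    rw [this]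
    exact commutator_mem_commutator ((mem_normalizer_iff.1 hx a).1 ha)
      ((mem_normalizer_iff.1 hx b).1 hb)
  exact h1 hn

theorem wproj_one_eq_zero {K W A : Type*} [Field K] [AddCommGroup W] [Module K W] [CommGroup A]
    [Finite A] (σ : A →* Module.End K W)
    (h : (let _ := Fintype.ofFinite A; ∑ a : A, σ a) = 0) :
    Weights.wproj σ (1 : A →* Kˣ) = 0 := by
  simp only [Weights.wproj, MonoidHom.one_apply, Units.val_one, one_smul]
  simp only at h
  rw [h, smul_zero]

/-- If all fixed points of `x` in `Q` lie in `Z`, then `⁅Q, S⁆ = Q` forces `Q ≤ Z`: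
this is BG, Theorem 3.4 applied to `Q / Z`. -/
theorem le_of_fixed_le {p q r : ℕ} [Fact p.Prime] [Fact q.Prime] (hqp : q ≠ p)
    (hqr : q ≠ r) (hr : r.Prime) (hr2 : r ≠ 2) (hpr : p ≠ r) {Q S Z : Subgroup G} {x : G}
    (hxr : x ^ r = 1) (hS : IsPGroup p S) (hSodd : Odd (Nat.card S))
    (hxS : x ∈ normalizer (S : Set G)) (hCS : S ⊓ centralizer {x} = ⊥) (hSne : S ≠ ⊥)
    (hxQ : x ∈ normalizer (Q : Set G)) (hSQ : S ≤ normalizer (Q : Set G))
    (hxZ : x ∈ normalizer (Z : Set G)) (hSZ : S ≤ normalizer (Z : Set G)) (hZQ : Z ≤ Q)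
    (hQ : IsPGroup q Q) (hcomQ : ∀ a b : Q, ⁅(a : G), (b : G)⁆ ∈ Z) (hexp : ∀ g ∈ Q, g ^ q = 1)
    (hQZ : Q ≤ normalizer (Z : Set G)) (hfix : ∀ c ∈ Q, c ∈ centralizer ({x} : Set G) → c ∈ Z)
    (hcomm : ⁅Q, S⁆ = Q) : Q ≤ Z := by
  have hx1 : x ≠ 1 := by
    intro e
    refine hSne (le_bot_iff.1 fun s hs => hCS ▸ ?_)
    exact ⟨hs, mem_centralizer_iff.2 fun y hy => by
      rw [Set.mem_singleton_iff] at hy; rw [hy, e, one_mul, mul_one]⟩
  set N := normalizer (Z : Set G) with hN
  have : (Z.subgroupOf N).Normal := normal_subgroupOf_of_le_normalizer le_rfl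
  let π := QuotientGroup.mk' (Z.subgroupOf N)
  set V₁ := (Q.subgroupOf N).map π with hV₁
  set K₁ := (S.subgroupOf N).map π with hK₁
  set R₁ := zpowers (π ⟨x, hxZ⟩) with hR₁
  have hmemV : ∀ v ∈ V₁, ∃ g : N, (g : G) ∈ Q ∧ π g = v := fun v ⟨g, hg, e⟩ => ⟨g, hg, e⟩
  have hcard : ∀ {A : Subgroup G}, A ≤ N →
      Nat.card ((A.subgroupOf N).map π) ∣ Nat.card A := fun {A} hA =>
    (card_map_dvd _ π).trans (Nat.card_congr (subgroupOfEquivOfLe hA).toEquiv).dvd
  have hVel : IsElementaryAbelian q V₁ := by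
    refine ⟨⟨⟨fun a b => Subtype.ext ?_⟩⟩, fun a ha => ?_⟩
    · obtain ⟨g, hg, ha⟩ := hmemV a a.2
      obtain ⟨k, hk, hb⟩ := hmemV b b.2
      show (a : N ⧸ Z.subgroupOf N) * b = b * a
      rw [← ha, ← hb, ← commutatorElement_eq_one_iff_mul_comm, ← map_commutatorElement]
      exact (QuotientGroup.eq_one_iff _).2 (hcomQ ⟨g, hg⟩ ⟨k, hk⟩)
    · obtain ⟨g, hg, rfl⟩ := hmemV a ha
      rw [← map_pow, show g ^ q = 1 from Subtype.ext (hexp g hg), map_one]
  have hnormal : ∀ {A : Subgroup G} {y : N}, (y : G) ∈ normalizer (A : Set G) →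
      π y ∈ normalizer (((A.subgroupOf N).map π : Subgroup (N ⧸ Z.subgroupOf N)) : Set _) := by
    intro A y hy
    refine mem_normalizer_fintype fun v hv => ?_
    obtain ⟨g, hg, rfl⟩ := hv
    refine ⟨y * g * y⁻¹, (mem_normalizer_iff.1 hy _).1 hg, by simp⟩
  have hπx : π ⟨x, hxZ⟩ ^ r = 1 := by
    rw [← map_pow, show (⟨x, hxZ⟩ : N) ^ r = 1 from Subtype.ext hxr, map_one]
  have hR₁card : Nat.card R₁ = r := by
    rw [hR₁, Nat.card_zpowers]
    refine (hr.eq_one_or_self_of_dvd _ (orderOf_dvd_of_pow_eq_one hπx)).resolve_left fun h => ?_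
    rw [orderOf_eq_one_iff] at h
    have hxz : x ∈ Z := by
      rw [QuotientGroup.mk'_apply, QuotientGroup.eq_one_iff] at h
      exact h
    have hxord : orderOf x = r := (hr.eq_one_or_self_of_dvd _ (orderOf_dvd_of_pow_eq_one hxr)).resolve_left
      (fun e => hx1 (orderOf_eq_one_iff.1 e))
    obtain ⟨k, hk⟩ := IsPGroup.iff_card.1 hQ
    have hd : r ∣ Nat.card Q := hxord ▸ Q.orderOf_dvd_natCard (hZQ hxz)
    rw [hk] at hd
    exact hqr ((Nat.prime_dvd_prime_iff_eq hr Fact.out).1 (hr.dvd_of_dvd_pow hd)).symm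
  have hcop : ∀ {m : ℕ} {A : Subgroup (N ⧸ Z.subgroupOf N)} {B : Subgroup G}, m.Prime → B ≤ N →
      Nat.card A ∣ Nat.card B → ∀ {l : ℕ}, IsPGroup l B → l.Prime → m ≠ l → ¬ m ∣ Nat.card A := by
    intro m A B hm hB hd l hl hlp hne h
    have := Fact.mk hlp
    obtain ⟨k, hk⟩ := IsPGroup.iff_card.1 hl
    exact hne ((Nat.prime_dvd_prime_iff_eq hm hlp).1 (hm.dvd_of_dvd_pow (hk ▸ h.trans hd)))
  have hCV : V₁ ⊓ centralizer (R₁ : Set (N ⧸ Z.subgroupOf N)) = ⊥ := by
    rw [eq_bot_iff]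
    rintro v ⟨hv, hvc⟩
    obtain ⟨g, hg, rfl⟩ := hmemV v hv
    rw [Subgroup.mem_bot, QuotientGroup.mk'_apply, QuotientGroup.eq_one_iff]
    show (g : G) ∈ Z
    have hgen : ∀ a ∈ zpowers x, (g : G)⁻¹ * (a * g * a⁻¹) ∈ Z := by
      intro a ha
      obtain ⟨i, rfl⟩ := mem_zpowers_iff.1 ha
      have h := mem_centralizer_iff.1 hvc (π ⟨x, hxZ⟩ ^ i) (zpow_mem (mem_zpowers _) i)
      rw [← map_zpow, ← map_mul, ← map_mul, QuotientGroup.mk'_apply, QuotientGroup.mk'_apply,
        QuotientGroup.eq] at h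
      have h' : (x ^ i * (g : G))⁻¹ * ((g : G) * x ^ i) ∈ Z := h
      have h'' := (mem_normalizer_iff.1 (zpow_mem hxZ i) _).1 h'
      have h3 := inv_mem h''
      rwa [show (x ^ i * ((x ^ i * (g : G))⁻¹ * ((g : G) * x ^ i)) * (x ^ i)⁻¹)⁻¹ =
        (g : G)⁻¹ * (x ^ i * g * (x ^ i)⁻¹) by group] at h3
    have hxc : (Nat.card (zpowers x)).Coprime (Nat.card Z) := by
      obtain ⟨k, hk⟩ := IsPGroup.iff_card.1 (hQ.to_le hZQ)
      rw [hk, Nat.card_zpowers]
      exact Nat.Coprime.coprime_dvd_left (orderOf_dvd_of_pow_eq_one hxr)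
        (((Nat.coprime_primes hr Fact.out).2 hqr.symm).pow_right k)
    obtain ⟨c, hc, hgc⟩ := CfsgLib.Coprime.exists_centralizing_in_coset (zpowers_le.2 hxZ) hxc
      (Or.inr (by have := (hQ.to_le hZQ).isNilpotent; infer_instance)) hgen
    have hcQ : c ∈ Q := by simpa using mul_mem hg (hZQ hgc)
    have hcZ := hfix c hcQ (mem_centralizer_iff.2 fun y hy => by
      rw [Set.mem_singleton_iff] at hy
      rw [hy]
      exact mem_centralizer_iff.1 hc x (mem_zpowers x))
    simpa [mul_assoc] using mul_mem hcZ (inv_mem hgc)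
  have hsol : Group.IsSolvable K₁ := by
    have := ((hS.comap_of_injective N.subtype N.subtype_injective).map π).isNilpotent
    show Group.IsSolvable ((S.comap N.subtype).map π)
    infer_instance
  have h := LinearBridge.commutator_le_centralizer (ℓ := q) (V := V₁) (K := K₁) (R := R₁) hVel
    (by rintro _ ⟨s, hs, rfl⟩; exact hnormal (hSQ hs))
    (zpowers_le.2 (hnormal hxQ)) (zpowers_le.2 (hnormal hxS)) hsol
    (hSodd.of_dvd_nat (hcard hSZ)) (hR₁card ▸ hr) (hR₁card ▸ hr2)
    (hR₁card ▸ hcop hr hSZ (hcard hSZ) hS Fact.out hpr.symm)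
    (hcop Fact.out hSZ (hcard hSZ) hS Fact.out hqp) (hR₁card.symm ▸ hqr) hCV
  -- `S = ⁅S, x⁆` centralizes `Q` modulo `Z`, so `Q = ⁅Q, S⁆ ≤ Z`
  have hScomm : S ≤ ⁅S, zpowers x⁆ := by
    have hcS : (Nat.card (zpowers x)).Coprime (Nat.card S) := by
      obtain ⟨k, hk⟩ := IsPGroup.iff_card.1 hS
      rw [hk, Nat.card_zpowers]
      exact Nat.Coprime.coprime_dvd_left (orderOf_dvd_of_pow_eq_one hxr)
        (((Nat.coprime_primes hr Fact.out).2 hpr.symm).pow_right k)
    have he := CfsgLib.Coprime.commutator_sup_centralizer (zpowers_le.2 hxS) hcS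
      (Or.inr (by have := hS.isNilpotent; infer_instance))
    rw [zpowers_eq_closure, centralizer_closure, ← zpowers_eq_closure, hCS, sup_bot_eq] at he
    exact he.ge
  have hQle : Q ≤ Z := by
    rw [← hcomm, commutator_le]
    intro g hg s hs
    have hsK : π ⟨s, hSZ hs⟩ ∈ ⁅R₁, K₁⁆ := by
      have h1 : S ≤ (⁅R₁, K₁⁆.comap π).map N.subtype := by
        refine hScomm.trans ?_
        rw [commutator_le]
        intro a ha b hb
        obtain ⟨i, rfl⟩ := mem_zpowers_iff.1 hb
        refine ⟨⁅(⟨a, hSZ ha⟩ : N), (⟨x, hxZ⟩ : N) ^ i⁆, ?_, rfl⟩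
        show π _ ∈ ⁅R₁, K₁⁆
        rw [map_commutatorElement, map_zpow, ← commutatorElement_inv, commutator_comm R₁ K₁]
        exact inv_mem (commutator_comm K₁ R₁ ▸ commutator_mem_commutator
          (zpow_mem (mem_zpowers _) i) ⟨⟨a, hSZ ha⟩, ha, rfl⟩)
      obtain ⟨s', hs', e⟩ := h1 hs
      rwa [show s' = ⟨s, hSZ hs⟩ from Subtype.ext e] at hs'
    have h2 := mem_centralizer_iff.1 (h hsK) (π ⟨g, hQZ hg⟩) ⟨⟨g, hQZ hg⟩, hg, rfl⟩
    rw [← commutatorElement_eq_one_iff_mul_comm, ← map_commutatorElement, QuotientGroup.mk'_apply,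
      QuotientGroup.eq_one_iff] at h2
    exact h2
  exact hQle

/-- The configuration left at the end of the proof of BG, Theorem 3.6 does not occur. -/
theorem false_of_config {p q r : ℕ} [Fact p.Prime] [Fact q.Prime] (hr : r.Prime) (hr2 : r ≠ 2)
    (hpr : p ≠ r) (hqp : q ≠ p) (hqr : q ≠ r) (hq2 : q ≠ 2) {V Q S : Subgroup G} {x : G} (hxr : x ^ r = 1)
    (hV : IsElementaryAbelian p V) (hQV : Q ≤ normalizer (V : Set G))
    (hSV : S ≤ normalizer (V : Set G)) (hxV : x ∈ normalizer (V : Set G))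
    (hfaith : (Q ⊔ S) ⊓ centralizer (V : Set G) = ⊥)
    (hCV : ∃ a ∈ V, V ⊓ centralizer {x} ≤ zpowers a)
    (hirrV : ∀ U ≤ V, Q ≤ normalizer (U : Set G) → S ≤ normalizer (U : Set G) →
      x ∈ normalizer (U : Set G) → U = ⊥ ∨ U = V)
    (hQ : IsPGroup q Q) (hS : IsPGroup p S) (hSodd : Odd (Nat.card S))
    (hSQ : S ≤ normalizer (Q : Set G)) (hxQ : x ∈ normalizer (Q : Set G))
    (hxS : x ∈ normalizer (S : Set G)) (hCS : S ⊓ centralizer {x} = ⊥)
    (hSirr : ∀ T ≤ S, x ∈ normalizer (T : Set G) → T = ⊥ ∨ T = S) (hSne : S ≠ ⊥)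
    (hcomm : ⁅Q, S⁆ = Q) (hQne : Q ≠ ⊥)
    (hQmin : ∀ L : Subgroup G, L < Q → S ≤ normalizer (L : Set G) → x ∈ normalizer (L : Set G) →
      S ≤ centralizer (L : Set G))
    (hZ : IsCyclic ↥(Q ⊓ centralizer {x})) : False := by
  classical
  set L := AlgebraicClosure (ZMod p)
  have : CharP L p := charP_of_injective_algebraMap (algebraMap (ZMod p) L).injective p
  set G₀ := Q ⊔ S ⊔ zpowers x with hG₀
  have hxG₀ : x ∈ G₀ := mem_sup_right (mem_zpowers x)
  have hQG₀ : Q ≤ G₀ := le_sup_left.trans le_sup_left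
  have hSG₀ : S ≤ G₀ := le_sup_right.trans le_sup_left
  have hG₀V : G₀ ≤ normalizer (V : Set G) := sup_le (sup_le hQV hSV) (zpowers_le.2 hxV)
  obtain ⟨n, ρ, hker, hn, -, hnormA, hline⟩ := LinearBridge.exists_rep (G := G₀) hV hG₀V
  set X₀ : G₀ := ⟨x, hxG₀⟩ with hX₀
  have hX₀r : X₀ ^ r = 1 := Subtype.ext (by simp [hX₀, hxr])
  obtain ⟨a₀, ha₀⟩ := hline X₀ r hX₀r hCV
  have hinj : ∀ g : G₀, (g : G) ∈ Q ⊔ S → ρ g = 1 → g = 1 := by
    intro g hg h
    have h2 : (g : G) ∈ (Q ⊔ S) ⊓ centralizer (V : Set G) := ⟨hg, (hker g).1 h⟩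
    rw [hfaith, Subgroup.mem_bot] at h2
    exact Subtype.ext h2
  have hVne : V ≠ ⊥ := by
    intro e
    refine hQne (le_bot_iff.1 fun g hg => ?_)
    have h2 : g ∈ (Q ⊔ S) ⊓ centralizer (V : Set G) :=
      ⟨mem_sup_left hg, by rw [e]; simp [mem_centralizer_iff]⟩
    rwa [hfaith] at h2
  have : Nonempty (Fin n) := ⟨⟨0, hn hVne⟩⟩
  -- a general setup for an invariant abelian subgroup of `Q`
  have key : ∀ (A : Subgroup G), A ≤ Q → A ≠ ⊥ → (∀ a ∈ A, ∀ b ∈ A, a * b = b * a) →
      Q ≤ normalizer (A : Set G) → S ≤ normalizer (A : Set G) → x ∈ normalizer (A : Set G) →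
      ∀ [Fintype (A.subgroupOf G₀)], ∑ a : A.subgroupOf G₀, ρ (a : G₀) = 0 := by
    intro A hAQ hA1 _ hQA hSA hxA _
    have hzero : V ⊓ centralizer (A : Set G) = ⊥ := by
      refine (hirrV _ inf_le_left ?_ ?_ ?_).resolve_right fun h => hA1 ?_
      · exact CfsgLib.Coprime.le_normalizer_inf_inf hQV
          (CfsgLib.Coprime.le_normalizer_centralizer hQA)
      · exact CfsgLib.Coprime.le_normalizer_inf_inf hSV
          (CfsgLib.Coprime.le_normalizer_centralizer hSA)
      · exact CfsgLib.Coprime.le_normalizer_inf_inf (zpowers_le.2 hxV)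
          (CfsgLib.Coprime.le_normalizer_centralizer (zpowers_le.2 hxA)) (mem_zpowers x)
      · refine le_bot_iff.1 fun a ha => ?_
        have h2 : a ∈ (Q ⊔ S) ⊓ centralizer (V : Set G) := ⟨mem_sup_left (hAQ ha),
          mem_centralizer_iff.2 fun v hv =>
            (mem_centralizer_iff.1 (h.ge hv).2 a ha).symm⟩
        rwa [hfaith] at h2
    exact hnormA (A.subgroupOf G₀)
      (by rwa [map_subgroupOf_eq_of_le (hAQ.trans hQG₀)])
  have hcardA : ∀ (A : Subgroup G), A ≤ Q → (Nat.card (A.subgroupOf G₀) : L) ≠ 0 := by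
    intro A hA h
    rw [CharP.cast_eq_zero_iff L p,
      Nat.card_congr (subgroupOfEquivOfLe (hA.trans hQG₀)).toEquiv] at h
    obtain ⟨k, hk⟩ := IsPGroup.iff_card.1 (hQ.to_le hA)
    rw [hk] at h
    exact hqp ((Nat.prime_dvd_prime_iff_eq Fact.out Fact.out).1
      ((Fact.out : p.Prime).dvd_of_dvd_pow h)).symm
  -- `x` acts as an automorphism on invariant subgroups
  have hauto : ∀ (A : Subgroup G), x ∈ normalizer (A : Set G) →
      ∃ φ : MulAut (A.subgroupOf G₀), φ ^ r = 1 ∧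
        (∀ a, (((φ a : A.subgroupOf G₀) : G₀) : G) = x * ((a : G₀) : G) * x⁻¹) ∧
        ∀ a : A.subgroupOf G₀, ρ X₀ * ρ (a : G₀) = ρ ((φ a : A.subgroupOf G₀) : G₀) * ρ X₀ := by
    intro A hA
    let φ : MulAut (A.subgroupOf G₀) :=
      { toFun := fun a => ⟨X₀ * a * X₀⁻¹, (mem_normalizer_iff.1 hA _).1 a.2⟩
        invFun := fun a => ⟨X₀⁻¹ * a * X₀, (mem_normalizer_iff''.1 hA _).1 a.2⟩
        left_inv := fun a => Subtype.ext (show X₀⁻¹ * (X₀ * a * X₀⁻¹) * X₀ = (a : G₀) by group)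
        right_inv := fun a => Subtype.ext (show X₀ * (X₀⁻¹ * a * X₀) * X₀⁻¹ = (a : G₀) by group)
        map_mul' := fun a b => Subtype.ext (show X₀ * ((a : G₀) * b) * X₀⁻¹ =
          X₀ * (a : G₀) * X₀⁻¹ * (X₀ * (b : G₀) * X₀⁻¹) by group) }
    have hφi : ∀ (i : ℕ) (a : A.subgroupOf G₀),
        (((φ ^ i) a : A.subgroupOf G₀) : G₀) = X₀ ^ i * a * (X₀ ^ i)⁻¹ := by
      intro i
      induction i with
      | zero => intro a; simp
      | succ i ih =>
        intro a
        rw [pow_succ', MulAut.mul_apply]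
        show X₀ * _ * X₀⁻¹ = _
        rw [ih, pow_succ']
        group
    refine ⟨φ, ?_, fun a => rfl, fun a => ?_⟩
    · refine MulEquiv.ext fun a => Subtype.ext ?_
      rw [hφi, hX₀r]
      simp
    · rw [← map_mul, ← map_mul]
      exact congrArg ρ (show X₀ * a = X₀ * a * X₀⁻¹ * X₀ by group)
  by_cases hab : ⁅Q, Q⁆ = ⊥
  · -- `Q` abelian
    have habQ : ∀ a ∈ Q, ∀ b ∈ Q, a * b = b * a := fun a ha b hb =>
      (mem_centralizer_iff.1 (commutator_eq_bot_iff_le_centralizer.1 hab ha) b hb).symm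
    let _ : CommGroup (Q.subgroupOf G₀) :=
      { (inferInstance : Group (Q.subgroupOf G₀)) with
        mul_comm := fun a b => Subtype.ext (Subtype.ext (habQ _ a.2 _ b.2)) }
    obtain ⟨φ, hφr, hφ, hφν⟩ := hauto Q hxQ
    set σ : Q.subgroupOf G₀ →* Module.End L (Fin n → L) := ρ.comp (Q.subgroupOf G₀).subtype
    let β : S → MulAut (Q.subgroupOf G₀) := fun s =>
      { toFun := fun a => ⟨⟨s, hSG₀ s.2⟩ * a * ⟨s, hSG₀ s.2⟩⁻¹,
          (mem_normalizer_iff.1 (hSQ s.2) _).1 a.2⟩
        invFun := fun a => ⟨⟨s, hSG₀ s.2⟩⁻¹ * a * ⟨s, hSG₀ s.2⟩,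
          (mem_normalizer_iff''.1 (hSQ s.2) _).1 a.2⟩
        left_inv := fun a => Subtype.ext (Subtype.ext
          (show (s : G)⁻¹ * ((s : G) * (a : G₀) * (s : G)⁻¹) * s = ((a : G₀) : G) by group))
        right_inv := fun a => Subtype.ext (Subtype.ext
          (show (s : G) * ((s : G)⁻¹ * (a : G₀) * s) * (s : G)⁻¹ = ((a : G₀) : G) by group))
        map_mul' := fun a b => Subtype.ext (Subtype.ext
          (show (s : G) * (((a : G₀) : G) * ((b : G₀) : G)) * (s : G)⁻¹ =
            (s : G) * (a : G₀) * (s : G)⁻¹ * ((s : G) * (b : G₀) * (s : G)⁻¹) by group)) }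
    let β' : S →* MulAut (Q.subgroupOf G₀) :=
      { toFun := β
        map_one' := MulEquiv.ext fun a => Subtype.ext (Subtype.ext
          (show (1 : G) * (a : G₀) * (1 : G)⁻¹ = ((a : G₀) : G) by group))
        map_mul' := fun s t => MulEquiv.ext fun a => Subtype.ext (Subtype.ext
          (show ((s : G) * t) * (a : G₀) * ((s : G) * t)⁻¹ =
            (s : G) * ((t : G) * (a : G₀) * (t : G)⁻¹) * (s : G)⁻¹ by group)) }
    let θ : MulAut S :=
      { toFun := fun s => ⟨x * s * x⁻¹, (mem_normalizer_iff.1 hxS s).1 s.2⟩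
        invFun := fun s => ⟨x⁻¹ * s * x, (mem_normalizer_iff''.1 hxS s).1 s.2⟩
        left_inv := fun s => Subtype.ext (show x⁻¹ * (x * s * x⁻¹) * x = (s : G) by group)
        right_inv := fun s => Subtype.ext (show x * (x⁻¹ * s * x) * x⁻¹ = (s : G) by group)
        map_mul' := fun s t => Subtype.ext
          (show x * ((s : G) * t) * x⁻¹ = x * s * x⁻¹ * (x * t * x⁻¹) by group) }
    have hθi : ∀ (i : ℕ) (s : S), (((θ ^ i) s : S) : G) = x ^ i * s * (x ^ i)⁻¹ := by
      intro i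
      induction i with
      | zero => intro s; simp
      | succ i ih =>
        intro s
        rw [pow_succ', MulAut.mul_apply]
        show x * _ * x⁻¹ = _
        rw [ih, pow_succ']
        group
    have : Nontrivial S := (nontrivial_iff_ne_bot S).2 hSne
    refine Weights.false_of_orbits (σ := σ) (ν := ρ X₀) (φ := φ) hφν hr hr2 hφr
      (by rw [← map_pow, hX₀r, map_one]) (hcardA Q le_rfl) ha₀ ?_ hS hpr hSodd β'
      (ρ.comp (Subgroup.inclusion hSG₀)) (fun s a => ?_) θ ?_ (fun s hs => ?_) (fun T hT => ?_)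
      (fun s a => ?_) (fun χ hχ => ?_)
    · exact wproj_one_eq_zero σ (@key Q le_rfl hQne habQ le_normalizer hSQ hxQ
        (Fintype.ofFinite _))
    · show ρ (Subgroup.inclusion hSG₀ s) * ρ (a : G₀) =
        ρ ((β s a : Q.subgroupOf G₀) : G₀) * ρ (Subgroup.inclusion hSG₀ s)
      rw [← map_mul, ← map_mul]
      exact congrArg ρ (Subtype.ext
        (show (s : G) * (a : G₀) = (s : G) * (a : G₀) * (s : G)⁻¹ * s by group))
    · refine MulEquiv.ext fun s => Subtype.ext ?_
      rw [hθi, hxr]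
      simp
    · have h : (s : G) ∈ S ⊓ centralizer {x} := by
        refine ⟨s.2, mem_centralizer_iff.2 fun y hy => ?_⟩
        rw [Set.mem_singleton_iff] at hy
        rw [hy]
        have h2 : x * s * x⁻¹ = (s : G) := congrArg Subtype.val hs
        conv_rhs => rw [← h2, inv_mul_cancel_right]
      rw [hCS, Subgroup.mem_bot] at h
      exact Subtype.ext h
    · refine (hSirr (T.map S.subtype) (map_subtype_le T) ?_).imp (fun h => ?_) (fun h => ?_)
      · refine mem_normalizer_fintype fun y hy => ?_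
        obtain ⟨t, ht, rfl⟩ := hy
        exact ⟨θ t, hT t ht, rfl⟩
      · exact (map_eq_bot_iff_of_injective _ S.subtype_injective).1 h
      · refine map_injective S.subtype_injective ?_
        rw [h, ← MonoidHom.range_eq_map, range_subtype]
    · refine Subtype.ext (Subtype.ext ?_)
      rw [hφ]
      show x * ((s : G) * (a : G₀) * (s : G)⁻¹) * x⁻¹ =
        x * s * x⁻¹ * ((φ a : Q.subgroupOf G₀) : G₀) * (x * s * x⁻¹)⁻¹
      rw [hφ]
      group
    · -- a character fixed by `S` is trivial on `⁅Q, S⁆ = Q`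
      refine MonoidHom.ext fun a => ?_
      have hle : ⁅Q, S⁆ ≤ (χ.ker.map (Q.subgroupOf G₀).subtype).map G₀.subtype := by
        rw [commutator_le]
        intro g hg s hs
        set g' : Q.subgroupOf G₀ := ⟨⟨g, hQG₀ hg⟩, hg⟩
        have hfixs : χ ((β ⟨s, hs⟩).symm g') = χ g' :=
          congrArg (fun f : Q.subgroupOf G₀ →* Lˣ => f g') (hχ ⟨s, hs⟩)
        refine ⟨_, ⟨(β ⟨s, hs⟩) g'⁻¹ * g', ?_, rfl⟩, ?_⟩
        · rw [SetLike.mem_coe, MonoidHom.mem_ker, map_mul]
          have h2 : χ ((β ⟨s, hs⟩) g'⁻¹) = χ g'⁻¹ := by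
            have h3 := congrArg (fun f : Q.subgroupOf G₀ →* Lˣ => f ((β ⟨s, hs⟩) g'⁻¹))
              (hχ ⟨s, hs⟩)
            have h4 : χ ((β ⟨s, hs⟩).symm ((β ⟨s, hs⟩) g'⁻¹)) = χ ((β ⟨s, hs⟩) g'⁻¹) := h3
            rw [MulEquiv.symm_apply_apply] at h4
            exact h4.symm
          rw [h2, ← map_mul, inv_mul_cancel, map_one]
        · show s * g⁻¹ * s⁻¹ * g = ⁅g, s⁆
          rw [commutatorElement_def]
          have hcm : s * g⁻¹ * s⁻¹ ∈ Q := (mem_normalizer_iff.1 (hSQ hs) _).1 (inv_mem hg)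
          rw [habQ _ hcm g hg]
          group
      obtain ⟨_, ⟨b, hb, rfl⟩, hab'⟩ := hle (hcomm.ge a.2)
      have hba : b = a := Subtype.ext (Subtype.ext hab')
      rw [hba] at hb
      exact hb
  · -- `Q` nonabelian
    set D := ⁅Q, Q⁆ with hD
    have hQsol : Group.IsSolvable Q := by
      have := hQ.isNilpotent
      infer_instance
    have hDQ : D < Q := CfsgLib.Base.commutator_self_lt_of_isSolvable hQne hQsol
    have hSD : S ≤ normalizer (D : Set G) := fun s hs => mem_normalizer_commutator (hSQ hs)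
    have hxD : x ∈ normalizer (D : Set G) := mem_normalizer_commutator hxQ
    have hQD : Q ≤ normalizer (D : Set G) := fun g hg => mem_normalizer_commutator (le_normalizer hg)
    have hSDc : S ≤ centralizer (D : Set G) := hQmin D hDQ hSD hxD
    -- the fixed points of `S` are central
    set Z := Q ⊓ centralizer (S : Set G) with hZdef
    have hDZ : D ≤ Z := le_inf hDQ.le fun d hd => mem_centralizer_iff.2 fun s hs =>
      (mem_centralizer_iff.1 (hSDc hs) d hd).symm
    have hZcentral : Q ≤ centralizer (Z : Set G) := by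
      rw [← commutator_eq_bot_iff_le_centralizer]
      nth_rewrite 1 [← hcomm]
      refine commutator_commutator_eq_bot_of_rotate ?_ ?_
      · rw [commutator_eq_bot_iff_le_centralizer]
        have h1 : ⁅S, Z⁆ = ⊥ := commutator_eq_bot_iff_le_centralizer.2 fun s hs =>
          mem_centralizer_iff.2 fun z hz => (mem_centralizer_iff.1 hz.2 s hs).symm
        rw [h1]
        exact bot_le
      · rw [commutator_eq_bot_iff_le_centralizer]
        refine le_trans ?_ (fun d hd => mem_centralizer_iff.2 fun s hs =>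
          (mem_centralizer_iff.1 (hSDc hs) d hd).symm)
        rw [hD]
        exact (commutator_comm Z Q).le.trans (commutator_mono le_rfl inf_le_left)
    have hDcentral : Q ≤ centralizer (D : Set G) :=
      hZcentral.trans (centralizer_le (SetLike.coe_subset_coe.2 hDZ))
    have hDab : ∀ a ∈ D, ∀ b ∈ D, a * b = b * a := fun a ha b hb =>
      (mem_centralizer_iff.1 (hDcentral (hDQ.le ha)) b hb).symm
    have hZQ : Z < Q := by
      refine lt_of_le_of_ne inf_le_left fun e => hQne ?_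
      rw [← hcomm, commutator_eq_bot_iff_le_centralizer]
      exact e.ge.trans inf_le_right
    have hSZ : S ≤ normalizer (Z : Set G) := CfsgLib.Coprime.le_normalizer_inf_inf hSQ
      (CfsgLib.Coprime.le_normalizer_centralizer le_normalizer)
    have hxZ : x ∈ normalizer (Z : Set G) := CfsgLib.Coprime.le_normalizer_inf_inf
      (zpowers_le.2 hxQ) (CfsgLib.Coprime.le_normalizer_centralizer (zpowers_le.2 hxS))
      (mem_zpowers x)
    -- work inside `Q`, where `Z` is central and contains every commutator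
    have hZc : Z.subgroupOf Q ≤ Subgroup.center Q := fun z hz => Subgroup.mem_center_iff.2 fun g =>
      Subtype.ext (mem_centralizer_iff.1 (hZcentral g.2) _ hz).symm
    have hcomQ : ∀ a b : Q, ⁅a, b⁆ ∈ Z.subgroupOf Q := fun a b =>
      hDZ (commutator_mem_commutator a.2 b.2)
    have : (Z.subgroupOf Q).Normal := CfsgLib.Base.normal_of_le_center hZc
    let π := QuotientGroup.mk' (Z.subgroupOf Q)
    have hπcomm : ∀ a b : Q, Commute (π a) (π b) := fun a b => by
      rw [commute_iff_eq, ← commutatorElement_eq_one_iff_mul_comm, ← map_commutatorElement]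
      exact (QuotientGroup.eq_one_iff _).2 (hcomQ a b)
    have hQpow : ∀ g : Q, g ^ q ∈ Z.subgroupOf Q := by
      let Ω : Subgroup Q :=
        { carrier := {g | (π g) ^ q = 1}
          one_mem' := by simp
          inv_mem' := fun {a} ha => by
            show (π a⁻¹) ^ q = 1
            rw [map_inv, inv_pow, show (π a) ^ q = 1 from ha, inv_one]
          mul_mem' := fun {a b} ha hb => by
            show (π (a * b)) ^ q = 1
            rw [map_mul, (hπcomm a b).mul_pow, show (π a) ^ q = 1 from ha,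
              show (π b) ^ q = 1 from hb, one_mul] }
      have hΩmem : ∀ g : Q, g ∈ Ω ↔ (g : G) ^ q ∈ Z := by
        intro g
        show (π g) ^ q = 1 ↔ _
        rw [← map_pow, QuotientGroup.mk'_apply, QuotientGroup.eq_one_iff, mem_subgroupOf,
          SubmonoidClass.coe_pow]
      intro g
      by_contra hg
      have hΩlt : Ω.map Q.subtype < Q := by
        refine lt_of_le_of_ne (map_subtype_le Ω) fun e => hg ?_
        obtain ⟨g', hg', he⟩ := e.ge g.2
        rw [show g' = g from Subtype.ext he] at hg'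
        exact (hΩmem g).1 hg'
      have hinv : ∀ y ∈ normalizer (Q : Set G) ⊓ normalizer (Z : Set G),
          y ∈ normalizer ((Ω.map Q.subtype : Subgroup G) : Set G) := by
        intro y hy
        refine mem_normalizer_fintype fun w hw => ?_
        obtain ⟨w', hw', rfl⟩ := hw
        refine ⟨⟨y * w' * y⁻¹, (mem_normalizer_iff.1 hy.1 _).1 w'.2⟩, (hΩmem _).2 ?_, rfl⟩
        show (y * w' * y⁻¹) ^ q ∈ Z
        rw [conj_pow]
        exact (mem_normalizer_iff.1 hy.2 _).1 ((hΩmem w').1 hw')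
      have hΩc := hQmin _ hΩlt (fun s hs => hinv s ⟨hSQ hs, hSZ hs⟩) (hinv x ⟨hxQ, hxZ⟩)
      obtain ⟨k, hk⟩ : ∃ k : ℕ, (g : G) ^ q ^ k ∉ Z ∧ (g : G) ^ q ^ (k + 1) ∈ Z := by
        by_contra hc
        push Not at hc
        have hall : ∀ k, (g : G) ^ q ^ k ∉ Z := by
          intro k
          induction k with
          | zero =>
            rw [pow_zero, pow_one]
            exact fun h => hg (by rw [mem_subgroupOf, SubmonoidClass.coe_pow]; exact pow_mem h q)
          | succ k ih => exact hc k ih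
        obtain ⟨m, hm⟩ := hQ g
        refine hall m ?_
        rw [← SubmonoidClass.coe_pow, hm]
        exact one_mem _
      have hmem : (g : G) ^ q ^ k ∈ Ω.map Q.subtype := ⟨g ^ q ^ k, (hΩmem _).2 (by
        rw [SubmonoidClass.coe_pow, ← pow_mul, ← pow_succ]; exact hk.2), rfl⟩
      exact hk.1 ⟨pow_mem g.2 _, mem_centralizer_iff.2 fun s hs =>
        (mem_centralizer_iff.1 (hΩc hs) _ hmem).symm⟩
    have hDexp : ∀ a b : Q, ⁅a, b⁆ ^ q = 1 := by
      intro a b
      rw [← CfsgLib.PGroups.commutator_pow_left_of_central (hZc (hcomQ a b)),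
        commutatorElement_eq_one_iff_mul_comm]
      exact (Subgroup.mem_center_iff.1 (hZc (hQpow a)) b).symm
    have hch : q ∣ q.choose 2 :=
      (Fact.out : q.Prime).dvd_choose_self (by norm_num)
        (lt_of_le_of_ne (Fact.out : q.Prime).two_le (Ne.symm hq2))
    -- `Q` has exponent `q`
    have hexp : ∀ g ∈ Q, g ^ q = 1 := by
      let P : Subgroup G :=
        { carrier := {g | g ∈ Q ∧ g ^ q = 1}
          one_mem' := ⟨one_mem _, one_pow _⟩
          inv_mem' := fun {a} ha => ⟨inv_mem ha.1, by rw [inv_pow, ha.2, inv_one]⟩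
          mul_mem' := fun {a b} ha hb => ⟨mul_mem ha.1 hb.1, by
            have h := CfsgLib.PGroups.mul_pow_of_central
              (a := (⟨a, ha.1⟩ : Q)) (b := ⟨b, hb.1⟩) (hZc (hcomQ _ _)) q
            obtain ⟨c, hc⟩ := hch
            rw [hc, pow_mul, hDexp, one_pow, mul_one] at h
            have h2 := congrArg Subtype.val h
            simp only [SubmonoidClass.coe_pow, Subgroup.coe_mul] at h2
            rw [h2, ha.2, hb.2, one_mul]⟩ }
      have hle : Q ≤ P := by
        rw [← hcomm, commutator_le]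
        intro g hg s hs
        have hsg : s * g⁻¹ * s⁻¹ ∈ Q := (mem_normalizer_iff.1 (hSQ hs) _).1 (inv_mem hg)
        have hcs : ⁅g, s⁆ = g * (s * g⁻¹ * s⁻¹) := by rw [commutatorElement_def]; group
        refine ⟨by rw [hcs]; exact mul_mem hg hsg, ?_⟩
        have h := CfsgLib.PGroups.mul_pow_of_central
          (a := (⟨g, hg⟩ : Q)) (b := ⟨_, hsg⟩) (hZc (hcomQ _ _)) q
        obtain ⟨c, hc⟩ := hch
        rw [hc, pow_mul, hDexp, one_pow, mul_one] at h
        have h2 := congrArg Subtype.val h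
        simp only [SubmonoidClass.coe_pow, Subgroup.coe_mul] at h2
        have hz : g ^ q ∈ Z := by
          have := hQpow ⟨g, hg⟩
          rwa [mem_subgroupOf, SubmonoidClass.coe_pow] at this
        have hsq : (s * g⁻¹ * s⁻¹) ^ q = (g ^ q)⁻¹ := by
          rw [conj_pow, inv_pow, mem_centralizer_iff.1 (Subgroup.mem_inf.1 (inv_mem hz)).2 s hs,
            mul_inv_cancel_right]
        rw [hcs, h2, hsq, mul_inv_cancel]
      exact fun g hg => (hle hg).2
    -- fixed points of `x` outside `Z`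
    obtain ⟨c, hcQ, hcx, hcZ⟩ : ∃ c ∈ Q, c ∈ centralizer ({x} : Set G) ∧ c ∉ Z := by
      by_contra hc
      push Not at hc
      refine hZQ.not_ge ?_
      refine le_of_fixed_le hqp hqr hr hr2 hpr hxr hS hSodd hxS hCS hSne hxQ hSQ
        hxZ hSZ inf_le_left hQ (fun a b => ?_) hexp ?_ hc hcomm
      · exact hDZ (commutator_mem_commutator a.2 b.2)
      · exact fun g hg => mem_normalizer_fintype fun z hz => by
          rw [← mem_centralizer_iff.1 (hZcentral hg) z hz, mul_inv_cancel_right]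
          exact hz
    have hCQx : ∀ d ∈ Q ⊓ centralizer ({x} : Set G), d ∈ Z → d = 1 := by
      intro d hd hdZ
      by_contra hd1
      have hord : Nat.card ↥(Q ⊓ centralizer ({x} : Set G)) ∣ q := by
        rw [← IsCyclic.exponent_eq_card]
        exact Monoid.exponent_dvd_of_forall_pow_eq_one fun y =>
          Subtype.ext (hexp y (Subgroup.mem_inf.1 y.2).1)
      have hdz : zpowers d = Q ⊓ centralizer ({x} : Set G) := by
        refine eq_of_le_of_card_ge (zpowers_le.2 hd) ?_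
        rw [Nat.card_zpowers, orderOf_eq_prime (hexp d hd.1) hd1]
        exact Nat.le_of_dvd (Fact.out : q.Prime).pos hord
      have hc' : c ∈ zpowers d := hdz ▸ ⟨hcQ, hcx⟩
      exact hcZ (zpowers_le.2 hdZ hc')
    -- the weights of `D` are moved by `x`
    have hDne : D ≠ ⊥ := hab
    let _ : CommGroup (D.subgroupOf G₀) :=
      { (inferInstance : Group (D.subgroupOf G₀)) with
        mul_comm := fun a b => Subtype.ext (Subtype.ext (hDab _ a.2 _ b.2)) }
    obtain ⟨φ, hφr, hφ, hφν⟩ := hauto D hxD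
    set σ : D.subgroupOf G₀ →* Module.End L (Fin n → L) := ρ.comp (D.subgroupOf G₀).subtype
    have h1 := wproj_one_eq_zero σ
      (@key D hDQ.le hDne hDab hQD hSD hxD (Fintype.ofFinite _))
    have hmoved : ∀ χ : D.subgroupOf G₀ →* Lˣ, χ ≠ 1 → Weights.twist φ χ ≠ χ := by
      intro χ hχ hfix
      apply hχ
      let f : D.subgroupOf G₀ → D.subgroupOf G₀ := fun a => a⁻¹ * φ a
      have hf : Function.Injective f := by
        intro a b h
        have h2 : φ (a * b⁻¹) = a * b⁻¹ := by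
          have h3 : φ a = a * b⁻¹ * φ b := by
            have h4 : a * f a = a * f b := by rw [h]
            simp only [f, mul_inv_cancel_left] at h4
            rw [h4, mul_assoc]
          rw [map_mul, map_inv, h3, mul_inv_cancel_right]
        have h5 : ((a * b⁻¹ : D.subgroupOf G₀) : G₀).1 ∈ Q ⊓ centralizer ({x} : Set G) := by
          refine ⟨hDQ.le (a * b⁻¹).2, mem_centralizer_iff.2 fun y hy => ?_⟩
          rw [Set.mem_singleton_iff] at hy
          rw [hy]
          have h6 := hφ (a * b⁻¹)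
          rw [h2] at h6
          conv_rhs => rw [h6, inv_mul_cancel_right]
        exact mul_inv_eq_one.1 (Subtype.ext (Subtype.ext (hCQx _ h5 (hDZ (a * b⁻¹).2))))
      refine MonoidHom.ext fun a => ?_
      obtain ⟨b, rfl⟩ := (Finite.injective_iff_surjective.1 hf) a
      have h7 : χ (φ b) = χ b := by
        conv_lhs => rw [← hfix]
        rw [Weights.twist_apply, MulEquiv.symm_apply_apply]
      rw [map_mul, map_inv, h7, inv_mul_cancel, MonoidHom.one_apply]
    have hline : ∀ χ : D.subgroupOf G₀ →* Lˣ,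
        ∃ u, ∀ w, Weights.wproj σ χ w ∈ Submodule.span L {u} := by
      intro χ
      by_cases hχ : χ = 1
      · exact ⟨0, fun w => by rw [hχ, h1]; simp⟩
      · exact ⟨_, Weights.wproj_mem_line hφν hr hφr (hcardA D hDQ.le) ha₀ (hmoved χ hχ)⟩
    have hgc : ∀ g (hg : g ∈ Q) (χ : D.subgroupOf G₀ →* Lˣ),
        Commute (ρ ⟨g, hQG₀ hg⟩) (Weights.wproj σ χ) := by
      intro g hg χ
      refine (Commute.sum_right _ _ _ fun a _ => Commute.smul_right ?_ _).smul_right _
      exact Commute.map (Subtype.ext (mem_centralizer_iff.1 (hDcentral hg) _ a.2).symm) ρ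
    apply hab
    rw [hD, commutator_eq_bot_iff_le_centralizer]
    intro g hg
    rw [mem_centralizer_iff]
    intro k hk
    have h := Weights.commute_of_lines (hcardA D hDQ.le) (hgc k hk) (hgc g hg) hline
    rw [← map_mul, ← map_mul] at h
    have hmem : ∀ y ∈ Q, y ∈ Q ⊔ S := fun y hy => mem_sup_left hy
    set u : G₀ := ⟨k, hQG₀ hk⟩ * ⟨g, hQG₀ hg⟩
    set v : G₀ := ⟨g, hQG₀ hg⟩ * ⟨k, hQG₀ hk⟩
    have huv : ρ (u * v⁻¹) = 1 := by rw [map_mul, h, ← map_mul, mul_inv_cancel, map_one]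
    exact congrArg Subtype.val (mul_inv_eq_one.1 (hinj _
      (mul_mem (hmem _ (mul_mem hk hg)) (inv_mem (hmem _ (mul_mem hg hk)))) huv))

end CfsgLib.OddOrder.PLengthZGroup
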