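import Cfsg.Agent.Lib.OddOrder.Puig

/-!
The Puig series of a subgroup, viewed inside the ambient group; transport and normality.
-/

set_option autoImplicit false

namespace CfsgLib.OddOrder

open Subgroup

variable {G : Type*} [Group G]

theorem map_le_normalizer_map {H : Type*} [Group H] (f : G →* H) {A X : Subgroup G}
    (h : X ≤ normalizer (A : Set G)) : X.map f ≤ normalizer ((A.map f : Subgroup H) : Set H) :=
  (map_mono h).trans (le_normalizer_map f)

theorem map_puigStep_equiv {H : Type*} [Group H] (e : G ≃* H) (X : Subgroup G) :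
    (Cfsg.puigStep X).map e.toMonoidHom = Cfsg.puigStep (X.map e.toMonoidHom) := by
  refine le_antisymm ?_ (sSup_le ?_)
  · rw [map_le_iff_le_comap]
    refine sSup_le fun A hA => ?_
    rw [← map_le_iff_le_comap]
    have := hA.1
    exact le_puigStep inferInstance (map_le_normalizer_map _ hA.2)
  · intro B hB
    have := hB.1
    have h1 : X ≤ normalizer ((B.map e.symm.toMonoidHom : Subgroup G) : Set G) := by
      have h2 := map_le_normalizer_map e.symm.toMonoidHom hB.2
      rwa [Subgroup.map_map, show e.symm.toMonoidHom.comp e.toMonoidHom = MonoidHom.id G from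
        MonoidHom.ext fun x => e.symm_apply_apply x, Subgroup.map_id] at h2
    intro b hb
    exact ⟨e.symm b, le_puigStep inferInstance h1 ⟨b, hb, rfl⟩, e.apply_symm_apply b⟩

theorem map_puigSeq_equiv {H : Type*} [Group H] (e : G ≃* H) (n : ℕ) :
    (Cfsg.puigSeq G n).map e.toMonoidHom = Cfsg.puigSeq H n := by
  induction n with
  | zero => rw [puigSeq_zero, puigSeq_zero, Subgroup.map_bot]
  | succ n ih => rw [puigSeq_succ, puigSeq_succ, map_puigStep_equiv, ih]

theorem map_puigLower_equiv {H : Type*} [Group H] (e : G ≃* H) :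
    (Cfsg.puigLower G).map e.toMonoidHom = Cfsg.puigLower H := by
  rw [Cfsg.puigLower, Cfsg.puigLower, Subgroup.map_iSup]
  exact iSup_congr fun n => map_puigSeq_equiv e _

theorem map_puigSubgroup_equiv {H : Type*} [Group H] (e : G ≃* H) :
    (Cfsg.puigSubgroup G).map e.toMonoidHom = Cfsg.puigSubgroup H := by
  rw [Cfsg.puigSubgroup, Cfsg.puigSubgroup, Subgroup.map_iInf _ e.injective]
  exact iInf_congr fun n => map_puigSeq_equiv e _

/-- The Puig series of `H ≤ G` inside `G`. -/
def seqIn (H : Subgroup G) (n : ℕ) : Subgroup G := (Cfsg.puigSeq H n).map H.subtype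

/-- `L_H(X)` inside `G`. -/
def stepIn (H X : Subgroup G) : Subgroup G :=
  sSup {A : Subgroup G | A ≤ H ∧ IsMulCommutative A ∧ X ≤ normalizer (A : Set G)}

theorem le_stepIn {H X A : Subgroup G} (h1 : A ≤ H) (h2 : IsMulCommutative A)
    (h3 : X ≤ normalizer (A : Set G)) : A ≤ stepIn H X := le_sSup ⟨h1, h2, h3⟩

theorem stepIn_mono {H K X : Subgroup G} (h : H ≤ K) : stepIn H X ≤ stepIn K X :=
  sSup_le fun _ hA => le_stepIn (hA.1.trans h) hA.2.1 hA.2.2

theorem stepIn_antitone {H X Y : Subgroup G} (h : X ≤ Y) : stepIn H Y ≤ stepIn H X :=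
  sSup_le fun _ hA => le_stepIn hA.1 hA.2.1 (h.trans hA.2.2)

theorem stepIn_le (H X : Subgroup G) : stepIn H X ≤ H := sSup_le fun _ hA => hA.1

theorem map_puigStep {H : Subgroup G} (X : Subgroup H) :
    (Cfsg.puigStep X).map H.subtype = stepIn H (X.map H.subtype) := by
  refine le_antisymm ?_ (sSup_le ?_)
  · rw [map_le_iff_le_comap]
    refine sSup_le fun A hA => ?_
    rw [← map_le_iff_le_comap]
    have := hA.1
    exact le_stepIn (map_subtype_le A) inferInstance (map_le_normalizer_map _ hA.2)
  · rintro A ⟨hAH, hA, hX⟩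
    have hc : IsMulCommutative (A.subgroupOf H) := ⟨⟨fun a b => by
      apply Subtype.ext
      apply Subtype.ext
      show a.1.1 * b.1.1 = b.1.1 * a.1.1
      exact congrArg Subtype.val (hA.is_comm.comm ⟨a.1.1, a.2⟩ ⟨b.1.1, b.2⟩)⟩⟩
    have hn : X ≤ normalizer ((A.subgroupOf H : Subgroup H) : Set H) := by
      intro x hx
      rw [mem_normalizer_iff]
      intro y
      exact mem_normalizer_iff.1 (hX ⟨x, hx, rfl⟩) y.1
    rw [← map_subgroupOf_eq_of_le hAH]
    exact map_mono (le_puigStep hc hn)

theorem seqIn_zero (H : Subgroup G) : seqIn H 0 = ⊥ := by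
  rw [seqIn, puigSeq_zero, Subgroup.map_bot]

theorem seqIn_succ (H : Subgroup G) (n : ℕ) : seqIn H (n + 1) = stepIn H (seqIn H n) := by
  rw [seqIn, puigSeq_succ, map_puigStep, seqIn]

theorem seqIn_le (H : Subgroup G) (n : ℕ) : seqIn H n ≤ H := map_subtype_le _

theorem lowerIn_eq (H : Subgroup G) :
    (Cfsg.puigLower H).map H.subtype = ⨆ n, seqIn H (2 * n) := by
  rw [Cfsg.puigLower, Subgroup.map_iSup]
  rfl

theorem upperIn_eq (H : Subgroup G) :
    (Cfsg.puigSubgroup H).map H.subtype = ⨅ n, seqIn H (2 * n + 1) := by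
  rw [Cfsg.puigSubgroup, Subgroup.map_iInf _ H.subtype_injective]
  rfl

theorem step_lowerIn [Finite G] (H : Subgroup G) :
    stepIn H ((Cfsg.puigLower H).map H.subtype) = (Cfsg.puigSubgroup H).map H.subtype := by
  rw [← map_puigStep, puigStep_puigLower]

theorem step_upperIn [Finite G] (H : Subgroup G) :
    stepIn H ((Cfsg.puigSubgroup H).map H.subtype) = (Cfsg.puigLower H).map H.subtype := by
  rw [← map_puigStep, puigStep_puigSubgroup]

theorem stepIn_conj_le {H X : Subgroup G} {g : G}
    (hH : H.map (MulAut.conj g).toMonoidHom = H) (hX : X.map (MulAut.conj g).toMonoidHom = X) :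
    (stepIn H X).map (MulAut.conj g).toMonoidHom ≤ stepIn H X := by
  rw [map_le_iff_le_comap]
  refine sSup_le fun A hA => ?_
  rw [← map_le_iff_le_comap]
  have := hA.2.1
  refine le_stepIn ((map_mono hA.1).trans hH.le) inferInstance ?_
  calc X = X.map (MulAut.conj g).toMonoidHom := hX.symm
    _ ≤ _ := map_le_normalizer_map _ hA.2.2

theorem stepIn_normal (H X : Subgroup G) [hH : H.Normal] [hX : X.Normal] : (stepIn H X).Normal := by
  refine ⟨fun a ha g => ?_⟩
  exact stepIn_conj_le (Subgroup.Normal.map_conj_eq H g) (Subgroup.Normal.map_conj_eq X g)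
    ⟨a, ha, rfl⟩

theorem seqIn_normal (H : Subgroup G) [H.Normal] (n : ℕ) : (seqIn H n).Normal := by
  induction n with
  | zero => rw [seqIn_zero]; infer_instance
  | succ n ih => rw [seqIn_succ]; exact stepIn_normal H _

/-- If `L(S) ≤ R ≤ S` then `L(R) = L(S)` and `L_*(R) = L_*(S)`. -/
theorem puig_eq_of_le [Finite G] {R S : Subgroup G} (hRS : R ≤ S)
    (hL : (Cfsg.puigSubgroup S).map S.subtype ≤ R) :
    (Cfsg.puigSubgroup R).map R.subtype = (Cfsg.puigSubgroup S).map S.subtype := by
  set LS := (Cfsg.puigSubgroup S).map S.subtype with hLS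
  set LsS := (Cfsg.puigLower S).map S.subtype with hLsS
  have hlow : LsS ≤ R := (map_mono puigLower_le_puigSubgroup).trans hL
  have h1 : ∀ i, seqIn S (2 * i) ≤ seqIn R (2 * i) ∧ seqIn R (2 * i + 1) ≤ seqIn S (2 * i + 1) := by
    intro i
    induction i with
    | zero =>
      refine ⟨by simp [seqIn_zero], ?_⟩
      rw [seqIn_succ, seqIn_succ, seqIn_zero, seqIn_zero]
      exact stepIn_mono hRS
    | succ i ih =>
      have he : seqIn S (2 * (i + 1)) ≤ seqIn R (2 * (i + 1)) := by
        rw [show 2 * (i + 1) = 2 * i + 1 + 1 by ring, seqIn_succ S (2 * i + 1),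
          seqIn_succ R (2 * i + 1)]
        refine sSup_le fun A hA => le_stepIn ?_ hA.2.1 (ih.2.trans hA.2.2)
        refine le_trans ?_ hlow
        rw [hLsS, lowerIn_eq]
        refine le_trans ?_ (le_iSup (fun n => seqIn S (2 * n)) (i + 1))
        rw [show 2 * (i + 1) = 2 * i + 1 + 1 by ring, seqIn_succ S (2 * i + 1)]
        exact le_stepIn hA.1 hA.2.1 hA.2.2
      refine ⟨he, ?_⟩
      rw [seqIn_succ, seqIn_succ]
      exact (stepIn_antitone he).trans (stepIn_mono hRS)
  have h2 : ∀ i, seqIn R (2 * i) ≤ LsS ∧ LS ≤ seqIn R (2 * i + 1) := by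
    intro i
    have key : ∀ X : Subgroup G, X ≤ LsS → LS ≤ stepIn R X := by
      intro X hX
      rw [hLS, ← step_lowerIn]
      refine sSup_le fun A hA => le_stepIn ?_ hA.2.1 (hX.trans hA.2.2)
      refine le_trans ?_ hL
      rw [hLS, ← step_lowerIn]
      exact le_stepIn hA.1 hA.2.1 hA.2.2
    induction i with
    | zero =>
      refine ⟨by simp [seqIn_zero], ?_⟩
      rw [seqIn_succ, seqIn_zero]
      exact key _ bot_le
    | succ i ih =>
      have he : seqIn R (2 * (i + 1)) ≤ LsS := by
        rw [show 2 * (i + 1) = 2 * i + 1 + 1 by ring, seqIn_succ, hLsS, ← step_upperIn]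
        exact (stepIn_antitone ih.2).trans (stepIn_mono hRS)
      exact ⟨he, by rw [seqIn_succ]; exact key _ he⟩
  refine le_antisymm ?_ ?_
  · rw [upperIn_eq, hLS, upperIn_eq]
    exact iInf_mono fun n => (h1 n).2
  · rw [upperIn_eq]
    exact le_iInf fun n => (h2 n).2

/-- Transport along an isomorphism of subgroups induced by a homomorphism. -/
theorem map_puigSubgroupIn {G' : Type*} [Group G'] (f : G →* G') {H : Subgroup G}
    (hinj : Function.Injective (f.comp H.subtype)) :
    ((Cfsg.puigSubgroup H).map H.subtype).map f =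
      (Cfsg.puigSubgroup (H.map f)).map (H.map f).subtype := by
  have hker : Function.Injective (f.subgroupMap H) := fun a b h =>
    hinj (congrArg Subtype.val h)
  set e := MulEquiv.ofBijective (f.subgroupMap H) ⟨hker, f.subgroupMap_surjective H⟩
  rw [← map_puigSubgroup_equiv e, Subgroup.map_map, Subgroup.map_map]
  rfl

theorem normalizer_le_normalizer_puigSubgroupIn (R : Subgroup G) :
    normalizer (R : Set G) ≤
      normalizer (((Cfsg.puigSubgroup R).map R.subtype : Subgroup G) : Set G) := by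
  intro g hg
  rw [mem_normalizer_iff_map_conj_eq] at hg ⊢
  show ((Cfsg.puigSubgroup R).map R.subtype).map (MulAut.conj g).toMonoidHom = _
  rw [map_puigSubgroupIn (MulAut.conj g).toMonoidHom
    ((MulAut.conj g).injective.comp R.subtype_injective)]
  exact hg.symm ▸ rfl

end CfsgLib.OddOrder
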