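import Cfsg.Agent.Lib.OddOrder.MetacyclicDerived
import Cfsg.Agent.Lib.OddOrder.NarrowAction
import Cfsg.Agent.Lib.Coprime.Action2

/-!
A coprime operator group without fixed points modulo the derived group: a `p`-group whose `p`-th
powers have index at most `p ^ 2` is then abelian.
-/

set_option autoImplicit false
set_option linter.unusedSectionVars false

open scoped commutatorElement IsMulCommutative

namespace CfsgLib.OddOrder

open Cfsg
open Subgroup

variable {G : Type*} [Group G] [Finite G] {p : ℕ} [Fact p.Prime]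

/-- If `R = [R, A]`, the fixed points of `A` lie in the derived group. -/
theorem mem_commutator_of_fixed (R A : Subgroup G) (hA : A ≤ normalizer (R : Set G))
    (hcop : (Nat.card A).Coprime (Nat.card R)) (hRA : ⁅R, A⁆ = R) {c : R}
    (hc : (c : G) ∈ centralizer (A : Set G)) : c ∈ commutator R := by
  classical
  let : Fintype A := Fintype.ofFinite A
  let θ : R →* Abelianization R :=
    ∏ a : A, Abelianization.of.comp (R.normalizerMonoidHom ⟨a, hA a.2⟩).toMonoidHom
  have hθ : ∀ (b : A) (x : R), θ (R.normalizerMonoidHom ⟨b, hA b.2⟩ x) = θ x := by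
    intro b x
    simp only [θ, MonoidHom.finsetProd_apply]
    refine Fintype.prod_equiv (Equiv.mulRight b) _ _ fun a => ?_
    refine congrArg Abelianization.of (Subtype.ext ?_)
    show (a : G) * ((b : G) * (x : G) * (b : G)⁻¹) * (a : G)⁻¹ =
      ((a * b : A) : G) * x * ((a * b : A) : G)⁻¹
    rw [Subgroup.coe_mul]; group
  have hker : R ≤ θ.ker.map R.subtype := by
    conv_lhs => rw [← hRA]
    rw [commutator_le]
    intro x hx a ha
    refine ⟨⟨x, hx⟩ * R.normalizerMonoidHom ⟨a, hA ha⟩ (⟨x, hx⟩ : R)⁻¹, ?_, ?_⟩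
    · rw [SetLike.mem_coe, MonoidHom.mem_ker, map_mul, hθ ⟨a, ha⟩, ← map_mul, mul_inv_cancel,
        map_one]
    · show x * (a * x⁻¹ * a⁻¹) = _
      rw [commutatorElement_def]; group
  have hc1 : θ c = 1 := by
    obtain ⟨y, hy, hyc⟩ := hker c.2
    rw [show c = y from Subtype.ext hyc.symm]
    exact hy
  have hc2 : θ c = Abelianization.of c ^ Nat.card A := by
    simp only [θ, MonoidHom.finsetProd_apply]
    rw [Nat.card_eq_fintype_card, ← Finset.card_univ, ← Finset.prod_const]
    refine Finset.prod_congr rfl fun a _ => congrArg Abelianization.of (Subtype.ext ?_)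
    show (a : G) * (c : G) * (a : G)⁻¹ = c
    rw [mem_centralizer_iff.1 hc a a.2, mul_inv_cancel_right]
  have hcop' : (Nat.card (Abelianization R)).Coprime (Nat.card A) :=
    (hcop.coprime_dvd_right (card_quotient_dvd_card (commutator R))).symm
  have : Abelianization.of c = 1 :=
    (powCoprime hcop').injective (a₁ := Abelianization.of c) (a₂ := 1)
      (by simpa using hc2.symm.trans hc1)
  exact (QuotientGroup.eq_one_iff c).1 this

/-- An automorphism-invariant maximal factor yields a fixed point. -/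
theorem exists_fixed_in_coset (R A : Subgroup G) (hR : IsPGroup p R)
    (hA : A ≤ normalizer (R : Set G)) (hcop : (Nat.card A).Coprime p) {M : Subgroup R}
    (hM : M.Characteristic) {x : R}
    (hfix : ∀ a (ha : a ∈ A), x⁻¹ * R.normalizerMonoidHom ⟨a, hA ha⟩ x ∈ M) :
    ∃ c : R, (c : G) ∈ centralizer (A : Set G) ∧ x⁻¹ * c ∈ M := by
  have hMR : M.map R.subtype ≤ R := map_subtype_le M
  have hcard : (Nat.card A).Coprime (Nat.card (M.map R.subtype)) := by
    obtain ⟨n, hn⟩ := IsPGroup.iff_card.mp (hR.to_le hMR)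
    rw [hn]; exact hcop.pow_right n
  have hsol : Group.IsSolvable (M.map R.subtype) := by
    have : Group.IsNilpotent (M.map R.subtype) := (hR.to_le hMR).isNilpotent
    infer_instance
  obtain ⟨c, hc, hxc⟩ := CfsgLib.Coprime.exists_centralizing_in_coset (N := M.map R.subtype)
    (hA.trans (normalizer_le_normalizer_map_char M hM)) hcard (Or.inr hsol)
    (k := (x : G)) fun a ha => ⟨_, hfix a ha, rfl⟩
  have hcR : c ∈ R := by simpa using R.mul_mem x.2 (hMR hxc)
  refine ⟨⟨c, hcR⟩, hc, ?_⟩
  obtain ⟨v, hv, hvx⟩ := hxc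
  rwa [show x⁻¹ * (⟨c, hcR⟩ : R) = v from Subtype.ext hvx.symm]

theorem eq_bot_of_commutator_top_eq {H : Type*} [Group H] [Group.IsNilpotent H] {N : Subgroup H}
    (h : N ≤ ⁅N, (⊤ : Subgroup H)⁆) : N = ⊥ := by
  obtain ⟨n, hn⟩ := Subgroup.nilpotent_iff_lowerCentralSeries.1 ‹Group.IsNilpotent H›
  have hle : ∀ m, N ≤ (⊤ : Subgroup H).lowerCentralSeries m := by
    intro m
    induction m with
    | zero => exact le_top
    | succ m ih => exact h.trans (commutator_mono ih le_rfl)
  exact le_bot_iff.1 (hn ▸ hle n)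

/-- The criterion. -/
theorem isMulCommutative_of_index_powers (hp : p ≠ 2) (R A : Subgroup G) (hR : IsPGroup p R)
    (hA : A ≤ normalizer (R : Set G)) (hcop : (Nat.card A).Coprime p) (hRA : ⁅R, A⁆ = R)
    (hidx : (closure {x : R | ∃ y, y ^ p = x}).index ≤ p ^ 2) : IsMulCommutative R := by
  classical
  have hpp : p.Prime := Fact.out
  have hnil : Group.IsNilpotent R := hR.isNilpotent
  have hcopR : (Nat.card A).Coprime (Nat.card R) := by
    obtain ⟨n, hn⟩ := IsPGroup.iff_card.mp hR
    rw [hn]; exact hcop.pow_right n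
  by_contra hnab
  set W := closure {x : R | ∃ y, y ^ p = x} with hW
  have hWc : W.Characteristic := characteristic_iff_map_le.2 fun φ => by
    rw [MonoidHom.map_closure, closure_le]
    rintro _ ⟨_, ⟨y, rfl⟩, rfl⟩
    exact subset_closure ⟨φ y, (map_pow φ y p).symm⟩
  have hWfr : W ≤ frattini R := (closure_le _).2 fun x ⟨y, hy⟩ =>
    hy ▸ CfsgLib.PGroups.pow_mem_frattini hR y
  -- `R` is generated by two elements
  obtain ⟨x, y, hxy⟩ : ∃ x y : R, closure ({x, y} : Set R) = ⊤ := by
    obtain ⟨k, hk⟩ := IsPGroup.iff_card.mp (hR.to_quotient W)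
    have hk2 : k ≤ 2 := by
      have h1 : W.index = p ^ k := hk
      exact (Nat.pow_le_pow_iff_right hpp.one_lt).1 (h1 ▸ hidx)
    have key : ∀ M : Subgroup R, W ≤ M → M ≠ ⊤ → ∃ z, M < M ⊔ zpowers z := fun M _ hM => by
      obtain ⟨z, -, hz⟩ := SetLike.exists_of_lt (lt_top_iff_ne_top.2 hM)
      exact ⟨z, left_lt_sup.2 fun h => hz (h (mem_zpowers z))⟩
    have hstep : ∀ (M M' : Subgroup R) (i : ℕ), M < M' → M.index ≤ p ^ (i + 1) →
        M'.index ≤ p ^ i := by
      intro M M' i hlt hle
      obtain ⟨a, ha⟩ := hR.index M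
      obtain ⟨b, hb⟩ := hR.index M'
      have hne : M'.index ≠ M.index := fun h => (CfsgLib.PLocal.card_lt_of_lt hlt).ne (by
        have e1 := M.card_mul_index
        have e2 := M'.card_mul_index
        rw [h] at e2
        exact Nat.eq_of_mul_eq_mul_right (Nat.pos_of_ne_zero index_ne_zero_of_finite)
          (e1.trans e2.symm))
      have hd := index_dvd_of_le hlt.le
      rw [ha, hb] at hd hne
      rw [hb]
      rw [ha] at hle
      have h1 := (Nat.pow_dvd_pow_iff_le_right hpp.one_lt).1 hd
      have h2 := (Nat.pow_le_pow_iff_right hpp.one_lt).1 hle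
      have h3 : b ≠ a := fun h => hne (by rw [h])
      exact Nat.pow_le_pow_right hpp.pos (by omega)
    obtain ⟨x, hx⟩ : ∃ x, (W ⊔ zpowers x).index ≤ p ^ 1 := by
      by_cases hWt : W = ⊤
      · exact ⟨1, by rw [hWt, top_sup_eq, index_top]; exact Nat.one_le_pow _ _ hpp.pos⟩
      · obtain ⟨x, hx⟩ := key W le_rfl hWt
        exact ⟨x, hstep _ _ 1 hx hidx⟩
    obtain ⟨y, hy⟩ : ∃ y, (W ⊔ zpowers x ⊔ zpowers y).index ≤ p ^ 0 := by
      by_cases hWt : W ⊔ zpowers x = ⊤
      · exact ⟨1, by rw [hWt, top_sup_eq, index_top]; rfl⟩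
      · obtain ⟨y, hy⟩ := key _ le_sup_left hWt
        exact ⟨y, hstep _ _ 0 hy hx⟩
    refine ⟨x, y, frattini_nongenerating (top_le_iff.1 ?_)⟩
    have htop : W ⊔ zpowers x ⊔ zpowers y = ⊤ := index_eq_one.1 (le_antisymm (by simpa using hy)
      (Nat.one_le_iff_ne_zero.2 index_ne_zero_of_finite))
    refine htop.ge.trans (sup_le (sup_le (hWfr.trans le_sup_right) ?_) ?_)
    · exact zpowers_le.2 (mem_sup_left (subset_closure (Or.inl rfl)))
    · exact zpowers_le.2 (mem_sup_left (subset_closure (Or.inr rfl)))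
  -- the derived group is generated by `p`-th powers
  have hdW : commutator R ≤ W := by
    obtain ⟨k, hk⟩ := IsPGroup.iff_card.mp (hR.to_quotient W)
    have hk2 : k ≤ 2 := (Nat.pow_le_pow_iff_right hpp.one_lt).1 ((hk : W.index = p ^ k) ▸ hidx)
    have hab : ∀ a b : R ⧸ W, a * b = b * a := by
      interval_cases k
      · have : Subsingleton (R ⧸ W) := (Nat.card_eq_one_iff_unique.1 (by simpa using hk)).1
        exact fun a b => Subsingleton.elim _ _
      · have : IsCyclic (R ⧸ W) := isCyclic_of_prime_card (hk.trans (pow_one p))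
        exact fun a b => this.commGroup.mul_comm a b
      · have := IsPGroup.isMulCommutative_of_card_eq_prime_sq hk
        exact fun a b => mul_comm' a b
    rw [_root_.commutator_def, commutator_le]
    intro a _ b _
    rw [← QuotientGroup.eq_one_iff]
    show QuotientGroup.mk' W ⁅a, b⁆ = 1
    rw [map_commutatorElement, commutatorElement_eq_one_iff_mul_comm]
    exact hab _ _
  -- the subgroup `K`
  set D := commutator R with hD
  have hDc : D.Characteristic := commutator_characteristic ⊤ ⊤
  set K := ⁅D, (⊤ : Subgroup R)⁆ ⊔ closure {u : R | ∃ z ∈ D, z ^ p = u} with hK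
  have hKc : K.Characteristic := characteristic_iff_map_le.2 fun φ => by
    rw [hK, Subgroup.map_sup, map_commutator, characteristic_iff_map_eq.1 hDc φ,
      Subgroup.map_top_of_surjective φ.toMonoidHom φ.surjective, MonoidHom.map_closure]
    refine sup_le_sup_left (Subgroup.closure_mono ?_) _
    rintro _ ⟨_, ⟨z, hz, rfl⟩, rfl⟩
    exact ⟨φ z, characteristic_iff_le_comap.1 hDc φ hz, (map_pow φ z p).symm⟩
  let f := QuotientGroup.mk' K
  have hfs : Function.Surjective f := QuotientGroup.mk'_surjective K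
  have hDmap : commutator (R ⧸ K) = D.map f := by
    rw [hD, _root_.commutator_def, _root_.commutator_def, map_commutator,
      Subgroup.map_top_of_surjective f hfs]
  have hKlt : ¬ D ≤ K := by
    intro hle
    have hDp : IsPGroup p D := hR.to_subgroup D
    have htop : (⁅D, (⊤ : Subgroup R)⁆).subgroupOf D ⊔ frattini D = ⊤ := by
      have h1 : closure {u : R | ∃ z ∈ D, z ^ p = u} ≤ (frattini D).map D.subtype :=
        (closure_le _).2 fun u ⟨z, hz, hzu⟩ => ⟨(⟨z, hz⟩ : D) ^ p,
          CfsgLib.PGroups.pow_mem_frattini hDp _, by simpa using hzu⟩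
      have h2 : D ≤ ((⁅D, (⊤ : Subgroup R)⁆).subgroupOf D ⊔ frattini D).map D.subtype := by
        rw [Subgroup.map_sup, map_subgroupOf_eq_of_le (commutator_le_left D ⊤)]
        exact hle.trans (sup_le le_sup_left (h1.trans le_sup_right))
      rw [eq_top_iff]
      intro u _
      obtain ⟨v, hv, hvu⟩ := h2 u.2
      rwa [show u = v from Subtype.ext hvu.symm]
    have h3 := frattini_nongenerating htop
    rw [subgroupOf_eq_top] at h3
    refine hnab (isMulCommutative_iff.2 fun a b => commutatorElement_eq_one_iff_mul_comm.1 ?_)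
    have := eq_bot_of_commutator_top_eq h3
    exact mem_bot.1 (this.le (commutator_mem_commutator (mem_top a) (mem_top b)))
  have hQ : CentralDerived p (R ⧸ K) := by
    refine ⟨hp, hR.to_quotient K, ?_⟩
    have hcen : ∀ z ∈ D, f z ∈ center (R ⧸ K) := by
      intro z hz
      refine mem_center_iff.2 fun w => ?_
      obtain ⟨w, rfl⟩ := hfs w
      refine (commutatorElement_eq_one_iff_mul_comm.1 ?_).symm
      rw [← map_commutatorElement]
      exact (QuotientGroup.eq_one_iff _).2 (mem_sup_left (commutator_mem_commutator hz (mem_top w)))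
    set c := ⁅x, y⁆ with hc
    have hcD : c ∈ D := commutator_mem_commutator (mem_top x) (mem_top y)
    have hcp : f c ^ p = 1 := by
      rw [← map_pow]
      exact (QuotientGroup.eq_one_iff _).2 (mem_sup_right (subset_closure ⟨c, hcD, rfl⟩))
    have hN : (zpowers (f c)).Normal := normal_of_mem_center (zpowers_le.2 (hcen c hcD))
    let π := (QuotientGroup.mk' (zpowers (f c))).comp f
    have hπs : Function.Surjective π := (QuotientGroup.mk'_surjective _).comp hfs
    have hgen : closure ({π x, π y} : Set _) = ⊤ := by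
      rw [← Set.image_pair, ← MonoidHom.map_closure, hxy, Subgroup.map_top_of_surjective π hπs]
    have hcomm : π x * π y = π y * π x := by
      rw [← commutatorElement_eq_one_iff_mul_comm, ← map_commutatorElement, ← hc]
      exact (QuotientGroup.eq_one_iff _).2 (mem_zpowers _)
    have hall : ∀ a b : (R ⧸ K) ⧸ zpowers (f c), a * b = b * a := by
      have h1 : ∀ w, w = π x ∨ w = π y → ∀ a, a * w = w * a := by
        intro w hw a
        have : closure ({π x, π y} : Set _) ≤ centralizer {w} := by
          rw [closure_le]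
          rintro v (rfl | rfl) <;> rcases hw with rfl | rfl <;>
            rw [SetLike.mem_coe, mem_centralizer_singleton_iff]
          · exact hcomm
          · exact hcomm.symm
        exact mem_centralizer_singleton_iff.1 (this (hgen.ge (mem_top a)))
      intro a b
      have : closure ({π x, π y} : Set _) ≤ centralizer {a} := by
        rw [closure_le]
        intro v hv
        rw [SetLike.mem_coe, mem_centralizer_singleton_iff]
        rcases hv with rfl | rfl
        · exact (h1 _ (Or.inl rfl) a).symm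
        · exact (h1 _ (Or.inr rfl) a).symm
      exact (mem_centralizer_singleton_iff.1 (this (hgen.ge (mem_top b)))).symm
    have hle : commutator (R ⧸ K) ≤ zpowers (f c) := by
      rw [_root_.commutator_def, commutator_le]
      intro a _ b _
      rw [← QuotientGroup.eq_one_iff]
      show QuotientGroup.mk' _ ⁅a, b⁆ = 1
      exact (map_commutatorElement _ _ _).trans
        (commutatorElement_eq_one_iff_mul_comm.2 (hall _ _))
    have hdvd : Nat.card (commutator (R ⧸ K)) ∣ p := (Subgroup.card_dvd_of_le hle).trans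
      (by rw [Nat.card_zpowers]; exact orderOf_dvd_of_pow_eq_one hcp)
    refine ((Nat.dvd_prime hpp).1 hdvd).resolve_left fun h1 => hKlt ?_
    rw [card_eq_one, hDmap, Subgroup.map_eq_bot_iff, QuotientGroup.ker_mk'] at h1
    exact h1
  have hWmap : W.map f = closure {u : R ⧸ K | ∃ v, v ^ p = u} := by
    rw [hW, MonoidHom.map_closure]
    congr 1
    ext u
    constructor
    · rintro ⟨_, ⟨v, rfl⟩, rfl⟩; exact ⟨f v, (map_pow f v p).symm⟩
    · rintro ⟨v, rfl⟩
      obtain ⟨v, rfl⟩ := hfs v
      exact ⟨v ^ p, ⟨v, rfl⟩, map_pow f v p⟩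
  have hsmall : SmallDerived p (R ⧸ K) := ⟨hQ, by rw [hDmap, ← hWmap]; exact map_mono hdW, by
    rw [← hWmap]
    exact (Nat.le_of_dvd (Nat.pos_of_ne_zero index_ne_zero_of_finite)
      (W.index_map_dvd hfs)).trans hidx⟩
  obtain ⟨M, hlt, hMidx, hMc, hcase⟩ := hsmall.exists_trivial_factor
  let ind : MulAut R → MulAut (R ⧸ K) := fun α =>
    QuotientGroup.congr K K α (characteristic_iff_map_eq.1 hKc α)
  have hind : ∀ (α : MulAut R) (u : R), ind α (f u) = f (α u) := fun α u => rfl
  have hpow : hsmall.powers = W.map f := by rw [hWmap, hsmall.powers_eq_closure]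
  have hcomap : ∀ {M' : Subgroup (R ⧸ K)}, M'.Characteristic → (M'.comap f).Characteristic := by
    intro M' hM'
    refine characteristic_iff_le_comap.2 fun α u hu => ?_
    show f (α u) ∈ M'
    rw [← hind]
    exact characteristic_iff_le_comap.1 hM' (ind α) hu
  have hPc : (hsmall.powers.comap f).Characteristic := hcomap (by
    rw [hsmall.powers_eq_closure]
    refine characteristic_iff_map_le.2 fun φ => ?_
    rw [MonoidHom.map_closure, closure_le]
    rintro _ ⟨_, ⟨v, rfl⟩, rfl⟩
    exact subset_closure ⟨φ v, (map_pow φ v p).symm⟩)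
  have hfin : ∀ c : R, (c : G) ∈ centralizer (A : Set G) → f c ∈ hsmall.powers := by
    intro c hc
    rw [hpow]
    exact mem_map_of_mem f (hdW (mem_commutator_of_fixed R A hA hcopR hRA hc))
  rcases hcase with hcase | hcase
  · obtain ⟨v, -, hv⟩ := SetLike.exists_of_lt (lt_top_iff_ne_top.2 (show M ≠ ⊤ from fun h => by
      rw [h, index_top] at hMidx
      exact hpp.ne_one hMidx.symm))
    obtain ⟨v, rfl⟩ := hfs v
    obtain ⟨c, hc, hvc⟩ := exists_fixed_in_coset R A hR hA hcop (hcomap hMc) (x := v) fun a ha => by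
      show f (v⁻¹ * R.normalizerMonoidHom ⟨a, hA ha⟩ v) ∈ M
      rw [map_mul, map_inv, ← hind]
      exact hcase _ _
    apply hv
    have h1 : f v⁻¹ * f c ∈ M := by rw [← map_mul]; exact hvc
    rw [map_inv] at h1
    have := M.mul_mem (hlt.le (hfin c hc)) (M.inv_mem h1)
    simpa using this
  · obtain ⟨v, hvM, hv⟩ := SetLike.exists_of_lt hlt
    obtain ⟨v, rfl⟩ := hfs v
    obtain ⟨c, hc, hvc⟩ := exists_fixed_in_coset R A hR hA hcop hPc (x := v) fun a ha => by
      show f (v⁻¹ * R.normalizerMonoidHom ⟨a, hA ha⟩ v) ∈ hsmall.powers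
      rw [map_mul, map_inv, ← hind]
      exact hcase _ _ hvM
    apply hv
    have h1 : f v⁻¹ * f c ∈ hsmall.powers := by rw [← map_mul]; exact hvc
    rw [map_inv] at h1
    have := hsmall.powers.mul_mem (hfin c hc) (hsmall.powers.inv_mem h1)
    simpa using this

end CfsgLib.OddOrder
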