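import Cfsg.Agent.Lib.OddOrder.SmallRank
import Cfsg.Agent.Lib.Coprime.Action2
import Cfsg.Agent.Lib.PGroups.Basic
import Cfsg.Agent.Lib.Base.Rank
import Cfsg.Agent.Lib.PLocal.PSolvable

/-!
An operator commuting with an `r`-element that has at most `r` fixed points on an `r`-group is a
scalar modulo the Frattini subgroup, so its commutators with the other operators act trivially.
-/

set_option autoImplicit false
set_option linter.unusedSectionVars false

open scoped commutatorElement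

namespace CfsgLib.OddOrder

open Cfsg
open Subgroup

variable {G : Type*} [Group G] [Finite G] {r : ℕ} [Fact r.Prime]

/-- A nontrivial section of an `r`-group has a fixed point under an `r`-element. -/
theorem exists_fixed_mod {D S : Subgroup G} (hD : IsPGroup r D) (hlt : S < D) {w : G}
    (hw : IsPGroup r (zpowers w)) (hwD : w ∈ normalizer (D : Set G))
    (hwS : w ∈ normalizer (S : Set G)) (hDS : D ≤ normalizer (S : Set G)) :
    ∃ d ∈ D, d ∉ S ∧ ⁅w, d⁆ ∈ S := by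
  set J := D ⊔ zpowers w with hJ
  have hJp : IsPGroup r J := IsPGroup.to_sup_of_normal_left' hD hw (zpowers_le.2 hwD)
  have hJS : J ≤ normalizer (S : Set G) := sup_le hDS (zpowers_le.2 hwS)
  have hJD : J ≤ normalizer (D : Set G) := sup_le le_normalizer (zpowers_le.2 hwD)
  have hSn : (S.subgroupOf J).Normal := normal_subgroupOf_of_le_normalizer hJS
  have hDn : (D.subgroupOf J).Normal := normal_subgroupOf_of_le_normalizer hJD
  set f := QuotientGroup.mk' (S.subgroupOf J) with hf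
  set V := (D.subgroupOf J).map f with hV
  have hVn : V.Normal := Subgroup.Normal.map hDn f (QuotientGroup.mk'_surjective _)
  have hVne : V ≠ ⊥ := by
    intro h
    rw [hV, Subgroup.map_eq_bot_iff, QuotientGroup.ker_mk'] at h
    exact hlt.not_ge fun x hx => h (show (⟨x, mem_sup_left hx⟩ : J) ∈ D.subgroupOf J from hx)
  have hne := CfsgLib.PGroups.inf_center_ne_bot (hJp.to_quotient (S.subgroupOf J)) hVne
  obtain ⟨v, ⟨hv, hvc⟩, hv1⟩ := (bot_or_exists_ne_one _).resolve_left hne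
  obtain ⟨d, hd, rfl⟩ := hv
  refine ⟨(d : G), hd, fun h => hv1 ((QuotientGroup.eq_one_iff _).2 h), ?_⟩
  have h1 := mem_center_iff.1 hvc (f ⟨w, mem_sup_right (mem_zpowers w)⟩)
  rw [← commutatorElement_eq_one_iff_mul_comm, ← map_commutatorElement] at h1
  exact ((QuotientGroup.eq_one_iff (N := S.subgroupOf J) _).1 h1 :)

/-- An operator commuting with an `r`-element with at most `r` fixed points is a scalar. -/
theorem exists_pow_of_fixed_small {D : Subgroup G} (hD : IsElementaryAbelian r D) {w b : G}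
    (hw : IsPGroup r (zpowers w)) (hwD : w ∈ normalizer (D : Set G))
    (hbD : b ∈ normalizer (D : Set G)) (hwb : Commute w b) (hb : (orderOf b).Coprime r)
    (hfix : Nat.card ↥(D ⊓ centralizer ({w} : Set G)) ≤ r) :
    ∃ n : ℕ, ∀ v ∈ D, b * v * b⁻¹ = v ^ n := by
  have hr : r.Prime := Fact.out
  obtain ⟨hDc, hDr⟩ := CfsgLib.Base.isElementaryAbelian_iff.1 hD
  have hDp := CfsgLib.Base.isPGroup_of_isElementaryAbelian hD
  by_cases hD1 : D = ⊥
  · exact ⟨1, fun v hv => by rw [hD1, mem_bot] at hv; simp [hv]⟩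
  obtain ⟨d₀, hd₀, hd₀1, hd₀w⟩ := exists_fixed_mod hDp (bot_lt_iff_ne_bot.2 hD1) hw hwD
    (le_normalizer_of_normal (K := ⊤) (mem_top w)) le_normalizer_of_normal
  rw [mem_bot] at hd₀1 hd₀w
  rw [commutatorElement_eq_one_iff_mul_comm] at hd₀w
  set C := D ⊓ centralizer ({w} : Set G) with hC
  have hd₀C : d₀ ∈ C := ⟨hd₀, mem_centralizer_singleton_iff.2 hd₀w.symm⟩
  have hCgen : zpowers d₀ = C := by
    refine eq_of_le_of_card_ge (zpowers_le.2 hd₀C) ?_
    rwa [Nat.card_zpowers, orderOf_eq_prime (hDr d₀ hd₀) hd₀1]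
  have hbd : b * d₀ * b⁻¹ ∈ C := by
    refine ⟨(mem_normalizer_iff.1 hbD d₀).1 hd₀, mem_centralizer_singleton_iff.2 ?_⟩
    calc b * d₀ * b⁻¹ * w = b * (d₀ * w) * b⁻¹ := by
          rw [mul_assoc (b * d₀), ← (hwb.inv_right).eq]; group
      _ = b * (w * d₀) * b⁻¹ := by rw [hd₀w]
      _ = w * (b * d₀ * b⁻¹) := by rw [← mul_assoc b w, ← hwb.eq]; group
  obtain ⟨n, hn⟩ := mem_powers_iff_mem_zpowers.2 (hCgen.symm ▸ hbd : _ ∈ zpowers d₀)
  replace hn : b * d₀ * b⁻¹ = d₀ ^ n := hn.symm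
  refine ⟨n, ?_⟩
  let S : Subgroup G :=
    { carrier := {v | v ∈ D ∧ b * v * b⁻¹ = v ^ n}
      one_mem' := ⟨one_mem _, by simp⟩
      mul_mem' := fun {x y} hx hy => ⟨mul_mem hx.1 hy.1, by
        rw [Commute.mul_pow (hDc x hx.1 y hy.1), ← hx.2, ← hy.2]; group⟩
      inv_mem' := fun {x} hx => ⟨inv_mem hx.1, by rw [inv_pow, ← hx.2]; group⟩ }
  have hSD : S ≤ D := fun v hv => hv.1
  suffices h : S = D from fun v hv => (h.ge hv).2
  by_contra hne
  have hlt : S < D := lt_of_le_of_ne hSD hne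
  have hwpow : ∀ (m : ℕ) (v : G), w * v ^ m * w⁻¹ = (w * v * w⁻¹) ^ m := fun m v => (conj_pow).symm
  have hwS : w ∈ normalizer (S : Set G) := by
    have hstep : ∀ v ∈ S, w * v * w⁻¹ ∈ S := fun v hv => by
      refine ⟨(mem_normalizer_iff.1 hwD v).1 hv.1, ?_⟩
      calc b * (w * v * w⁻¹) * b⁻¹ = (b * w) * v * (b * w)⁻¹ := by group
        _ = w * (b * v * b⁻¹) * w⁻¹ := by rw [← hwb.eq]; group
        _ = (w * v * w⁻¹) ^ n := by rw [hv.2, hwpow]
    rw [mem_normalizer_iff_map_conj_eq]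
    refine eq_of_le_of_card_ge ?_ (card_map_of_injective (MulAut.conj w).injective).ge
    rintro _ ⟨v, hv, rfl⟩
    exact hstep v hv
  obtain ⟨d₁, hd₁, hd₁S, hd₁w⟩ := exists_fixed_mod hDp hlt hw hwD hwS fun x hx =>
    mem_normalizer_iff.2 fun v => by
      constructor
      · intro hv; rwa [hDc x hx v (hSD hv), mul_inv_cancel_right]
      · intro hv
        have h1 : v ∈ D := by
          simpa [mul_assoc] using D.mul_mem (D.mul_mem (D.inv_mem hx) (hSD hv)) hx
        rwa [hDc x hx v h1, mul_inv_cancel_right] at hv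
  set e := b * d₁ * b⁻¹ * (d₁ ^ n)⁻¹ with he
  have hbd₁ : b * d₁ * b⁻¹ ∈ D := (mem_normalizer_iff.1 hbD d₁).1 hd₁
  have heD : e ∈ D := D.mul_mem hbd₁ (D.inv_mem (D.pow_mem hd₁ n))
  have hes : ∀ s ∈ S, b * (s * d₁) * b⁻¹ * ((s * d₁) ^ n)⁻¹ = e := fun s hs => by
    rw [show b * (s * d₁) * b⁻¹ = (b * s * b⁻¹) * (b * d₁ * b⁻¹) by group, hs.2,
      Commute.mul_pow (hDc s hs.1 d₁ hd₁), mul_inv_rev,
      hDc _ (D.pow_mem hs.1 n) _ hbd₁, ← mul_assoc, he]
    rw [mul_assoc (b * d₁ * b⁻¹) (s ^ n),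
      hDc _ (D.pow_mem hs.1 n) _ (D.inv_mem (D.pow_mem hd₁ n)), ← mul_assoc, mul_inv_cancel_right]
  have hwd₁ : w * d₁ * w⁻¹ = ⁅w, d₁⁆ * d₁ := by simp only [commutatorElement_def]; group
  have hwe : w * e * w⁻¹ = e := by
    calc w * e * w⁻¹ = w * b * d₁ * (w * b)⁻¹ * (w * d₁ ^ n * w⁻¹)⁻¹ := by rw [he]; group
      _ = b * (w * d₁ * w⁻¹) * b⁻¹ * ((w * d₁ * w⁻¹) ^ n)⁻¹ := by rw [hwb.eq, hwpow]; group
      _ = e := by rw [hwd₁]; exact hes _ hd₁w
  have heC : e ∈ C := ⟨heD, mem_centralizer_singleton_iff.2 (by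
    calc e * w = (w * e * w⁻¹) * w := by rw [hwe]
      _ = w * e := by group)⟩
  obtain ⟨j, hj⟩ := mem_powers_iff_mem_zpowers.2 (hCgen.symm ▸ heC : e ∈ zpowers d₀)
  replace hj : d₀ ^ j = e := hj
  have hbe : b * e * b⁻¹ = e ^ n := by
    rw [← hj, ← conj_pow, hn, ← pow_mul, ← pow_mul, mul_comm]
  have hpow : ∀ m : ℕ, b ^ (m + 1) * d₁ * (b ^ (m + 1))⁻¹ =
      d₁ ^ (n ^ (m + 1)) * e ^ ((m + 1) * n ^ m) := by
    intro m
    induction m with
    | zero =>
      rw [zero_add, pow_one, pow_one, one_mul, pow_zero, pow_one,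
        hDc _ (D.pow_mem hd₁ n) e heD, he]
      group
    | succ m ih =>
      have hbd' : b * d₁ * b⁻¹ = d₁ ^ n * e := by
        rw [hDc _ (D.pow_mem hd₁ n) e heD, he]; group
      calc b ^ (m + 1 + 1) * d₁ * (b ^ (m + 1 + 1))⁻¹
          = b * (b ^ (m + 1) * d₁ * (b ^ (m + 1))⁻¹) * b⁻¹ := by
            rw [pow_succ' b (m + 1)]; group
        _ = (b * d₁ * b⁻¹) ^ (n ^ (m + 1)) * (b * e * b⁻¹) ^ ((m + 1) * n ^ m) := by
            rw [ih, conj_pow, conj_pow]; group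
        _ = _ := by
            rw [hbd', hbe, Commute.mul_pow (hDc _ (D.pow_mem hd₁ n) e heD), ← pow_mul, ← pow_mul,
              mul_assoc, ← pow_add]
            congr 2
            · rw [pow_succ' n (m + 1)]
            · rw [pow_succ n m]; ring
  have hn0 : ∀ m : ℕ, b ^ m * d₀ * (b ^ m)⁻¹ = d₀ ^ (n ^ m) := by
    intro m
    induction m with
    | zero => simp
    | succ m ih =>
      calc b ^ (m + 1) * d₀ * (b ^ (m + 1))⁻¹ = b * (b ^ m * d₀ * (b ^ m)⁻¹) * b⁻¹ := by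
            rw [pow_succ']; group
        _ = (b * d₀ * b⁻¹) ^ (n ^ m) := by rw [ih, conj_pow]
        _ = _ := by rw [hn, ← pow_mul, pow_succ']
  obtain ⟨m, hm⟩ : ∃ m, orderOf b = m + 1 :=
    Nat.exists_eq_succ_of_ne_zero (orderOf_pos b).ne'
  have hord : orderOf d₀ = r := orderOf_eq_prime (hDr d₀ hd₀) hd₀1
  have hmod : n ^ (m + 1) ≡ 1 [MOD r] := by
    rw [← hord, ← pow_eq_pow_iff_modEq, ← hn0, ← hm, pow_orderOf_eq_one]
    simp
  have he1 : e ^ ((m + 1) * n ^ m) = 1 := by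
    have h := hpow m
    have h2 : d₁ ^ (n ^ (m + 1)) = d₁ := by
      conv_rhs => rw [← pow_one d₁]
      exact pow_eq_pow_iff_modEq.2 (hmod.of_dvd (orderOf_dvd_of_pow_eq_one (hDr d₁ hd₁)))
    rw [h2, ← hm, pow_orderOf_eq_one] at h
    simpa [hm] using h
  have hcopn : Nat.Coprime r n := by
    refine hr.coprime_iff_not_dvd.2 fun h => ?_
    have h1 : r ∣ n ^ (m + 1) := h.trans (dvd_pow_self n m.succ_ne_zero)
    exact hr.one_lt.ne' (Nat.dvd_one.1 ((Nat.ModEq.dvd_iff hmod dvd_rfl).1 h1))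
  have hcop : Nat.Coprime r ((m + 1) * n ^ m) :=
    Nat.Coprime.mul_right (hm ▸ hb.symm) (hcopn.pow_right m)
  have he0 : e = 1 := orderOf_eq_one_iff.1 (Nat.eq_one_of_dvd_coprimes hcop
    (orderOf_dvd_of_pow_eq_one (hDr e heD)) (orderOf_dvd_of_pow_eq_one he1))
  exact hd₁S ⟨hd₁, mul_inv_eq_one.1 he0⟩

/-- The fixed points of `w` on a quotient are at most as many as on the group. -/
theorem card_fixed_quotient_le {D : Subgroup G} (F : Subgroup G) [F.Normal] (hFD : F ≤ D) (w : G) :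
    Nat.card ↥(D.map (QuotientGroup.mk' F) ⊓ centralizer ({QuotientGroup.mk' F w} : Set (G ⧸ F))) ≤
      Nat.card ↥(D ⊓ centralizer ({w} : Set G)) := by
  set f := QuotientGroup.mk' F with hf
  set T := D ⊓ (centralizer ({f w} : Set (G ⧸ F))).comap f with hT
  set C := D ⊓ centralizer ({w} : Set G) with hC
  have hmap : D.map f ⊓ centralizer ({f w} : Set (G ⧸ F)) = T.map f := by
    ext x
    constructor
    · rintro ⟨⟨d, hd, rfl⟩, hx⟩
      exact ⟨d, ⟨hd, hx⟩, rfl⟩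
    · rintro ⟨d, hd, rfl⟩
      exact ⟨⟨d, hd.1, rfl⟩, hd.2⟩
  have hFT : F ≤ T := le_inf hFD fun x hx => by
    rw [mem_comap, mem_centralizer_singleton_iff, show f x = 1 from (QuotientGroup.eq_one_iff x).2 hx]
    simp
  have hCT : C ≤ T := fun x hx => ⟨hx.1, by
    show f x ∈ centralizer ({f w} : Set (G ⧸ F))
    rw [mem_centralizer_singleton_iff, ← map_mul, ← map_mul,
      mem_centralizer_singleton_iff.1 hx.2]⟩
  have hcomm : ∀ t : T, ⁅(t : G)⁻¹, w⁆ ∈ F := fun t => by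
    rw [← QuotientGroup.eq_one_iff]
    show f ⁅(t : G)⁻¹, w⁆ = 1
    rw [map_commutatorElement, map_inv, commutatorElement_eq_one_iff_mul_comm]
    exact (Commute.inv_left (mem_centralizer_singleton_iff.1 t.2.2)).eq
  have hinj : (C.subgroupOf T).index ≤ Nat.card F := by
    refine Nat.card_le_card_of_injective (Quotient.lift (fun t : T => (⟨_, hcomm t⁻¹⟩ : F))
      fun a b hab => ?_) fun x y => ?_
    · have h : (a⁻¹ * b : T) ∈ C.subgroupOf T := QuotientGroup.leftRel_apply.1 hab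
      have h' := (mem_centralizer_singleton_iff.1 (show ((a⁻¹ * b : T) : G) ∈ C from h).2)
      refine Subtype.ext ?_
      simp only [coe_inv, inv_inv, commutatorElement_def]
      rw [Subgroup.coe_mul, coe_inv] at h'
      calc (a : G) * w * (a : G)⁻¹ * w⁻¹
          = (a : G) * (w * ((a : G)⁻¹ * b)) * (b : G)⁻¹ * w⁻¹ := by group
        _ = (a : G) * ((a : G)⁻¹ * b * w) * (b : G)⁻¹ * w⁻¹ := by rw [h']
        _ = (b : G) * w * (b : G)⁻¹ * w⁻¹ := by group
    · induction x using QuotientGroup.induction_on with | _ a => ?_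
      induction y using QuotientGroup.induction_on with | _ b => ?_
      intro h
      have h' := congrArg Subtype.val h
      simp only [Quotient.lift_mk, coe_inv, inv_inv, commutatorElement_def] at h'
      refine QuotientGroup.eq.2 (show ((a⁻¹ * b : T) : G) ∈ C from ⟨(a⁻¹ * b : T).2.1, ?_⟩)
      show ((a⁻¹ * b : T) : G) ∈ centralizer ({w} : Set G)
      rw [mem_centralizer_singleton_iff, Subgroup.coe_mul, coe_inv]
      have h2 : (a : G) * w * (a : G)⁻¹ = (b : G) * w * (b : G)⁻¹ := mul_right_cancel h'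
      calc (a : G)⁻¹ * b * w = (a : G)⁻¹ * ((b : G) * w * (b : G)⁻¹) * b := by group
        _ = (a : G)⁻¹ * ((a : G) * w * (a : G)⁻¹) * b := by rw [h2]
        _ = w * ((a : G)⁻¹ * b) := by group
  rw [hmap, CfsgLib.PLocal.card_map_mk'_eq_relIndex]
  have e1 : Nat.card F * F.relIndex T = Nat.card T := by
    rw [← CfsgLib.Base.card_subgroupOf hFT]; exact (F.subgroupOf T).card_mul_index
  have e2 : Nat.card C * (C.subgroupOf T).index = Nat.card T := by
    rw [← CfsgLib.Base.card_subgroupOf hCT]; exact (C.subgroupOf T).card_mul_index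
  refine Nat.le_of_mul_le_mul_left ?_ (Nat.card_pos (α := F))
  rw [e1, ← e2, mul_comm (Nat.card F)]
  exact Nat.mul_le_mul_left _ hinj

/-- Commutators with an operator commuting with such an element act trivially. -/
theorem commutator_mem_centralizer_of_fixed_small (hr2 : r ≠ 2) {R D : Subgroup G}
    (hR : IsPGroup r R) (hDR : D ≤ R) (hRD : normalizer (R : Set G) ≤ normalizer (D : Set G))
    (hdet : ∀ a ∈ normalizer (R : Set G), (orderOf a).Coprime r →
      a ∈ centralizer (D : Set G) → a ∈ centralizer (R : Set G))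
    {w b z : G} (hw : IsPGroup r (zpowers w)) (hwR : w ∈ normalizer (R : Set G))
    (hbR : b ∈ normalizer (R : Set G)) (hzR : z ∈ normalizer (R : Set G)) (hwb : Commute w b)
    (hb : (orderOf b).Coprime r) (hc : (orderOf ⁅b⁻¹, z⁻¹⁆).Coprime r)
    (hfix : Nat.card ↥(D ⊓ centralizer ({w} : Set G)) ≤ r) :
    ⁅b⁻¹, z⁻¹⁆ ∈ centralizer (R : Set G) := by
  have hDp : IsPGroup r D := hR.to_le hDR
  set F := (frattini D).map D.subtype with hF
  set N := normalizer (F : Set G) with hN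
  have hRN : normalizer (R : Set G) ≤ N :=
    hRD.trans (CfsgLib.Base.normalizer_le_normalizer_map_subtype D _)
  have hFD : F ≤ D := map_subtype_le _
  have hDN : D ≤ N := (hDR.trans le_normalizer).trans hRN
  have : (F.subgroupOf N).Normal := normal_subgroupOf_of_le_normalizer le_rfl
  set f := QuotientGroup.mk' (F.subgroupOf N) with hf
  set Db := (D.subgroupOf N).map f with hDb
  have hDb : IsElementaryAbelian r Db := by
    refine CfsgLib.Base.isElementaryAbelian_iff.2 ⟨?_, ?_⟩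
    · rintro _ ⟨x, hx, rfl⟩ _ ⟨y, hy, rfl⟩
      rw [← commutatorElement_eq_one_iff_mul_comm, ← map_commutatorElement]
      exact (QuotientGroup.eq_one_iff _).2 ⟨_, CfsgLib.PGroups.commutator_le_frattini hDp
        (commutator_mem_commutator (mem_top (⟨x.1, hx⟩ : D)) (mem_top (⟨y.1, hy⟩ : D))), rfl⟩
    · rintro _ ⟨x, hx, rfl⟩
      rw [← map_pow]
      exact (QuotientGroup.eq_one_iff _).2 ⟨_, CfsgLib.PGroups.pow_mem_frattini hDp ⟨x.1, hx⟩, rfl⟩
  have hnorm : ∀ (g : G) (hg : g ∈ normalizer (R : Set G)),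
      f ⟨g, hRN hg⟩ ∈ normalizer (Db : Set (N ⧸ F.subgroupOf N)) := fun g hg =>
    le_normalizer_map f (mem_map_of_mem f (mem_normalizer_iff.2 fun y => by
      simpa [mem_subgroupOf] using mem_normalizer_iff.1 (hRD hg) (y : G)))
  have hfix' : Nat.card ↥(Db ⊓ centralizer ({f ⟨w, hRN hwR⟩} : Set (N ⧸ F.subgroupOf N))) ≤ r := by
    refine (card_fixed_quotient_le (F.subgroupOf N) (subgroupOf_mono N hFD) _).trans (le_trans ?_ hfix)
    refine (Nat.card_le_card_of_injective (fun x : ↥(D.subgroupOf N ⊓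
      centralizer ({⟨w, hRN hwR⟩} : Set N)) => (⟨x.1.1, x.2.1, mem_centralizer_singleton_iff.2
        (congrArg Subtype.val (mem_centralizer_singleton_iff.1 x.2.2))⟩ :
          ↥(D ⊓ centralizer ({w} : Set G)))) fun x y h => Subtype.ext (Subtype.ext ?_))
    exact (congrArg Subtype.val h :)
  obtain ⟨n, hn⟩ := exists_pow_of_fixed_small hDb (w := f ⟨w, hRN hwR⟩) (b := f ⟨b, hRN hbR⟩)
    (by
      rintro ⟨x, hx⟩
      obtain ⟨i, rfl⟩ := mem_zpowers_iff.1 hx
      obtain ⟨k, hk⟩ := hw ⟨w, mem_zpowers w⟩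
      refine ⟨k, Subtype.ext ?_⟩
      show ((f ⟨w, hRN hwR⟩) ^ i) ^ r ^ k = 1
      rw [← zpow_natCast, ← zpow_mul, mul_comm, zpow_mul, zpow_natCast, ← map_pow,
        show (⟨w, hRN hwR⟩ : N) ^ r ^ k = 1 from Subtype.ext (congrArg (fun t : zpowers w => (t : G)) hk :), map_one,
        one_zpow])
    (hnorm w hwR) (hnorm b hbR) (Commute.map (Subtype.ext hwb.eq : Commute (⟨w, _⟩ : N) ⟨b, _⟩) f)
    (hb.coprime_dvd_left (by
      have h := orderOf_map_dvd f (⟨b, hRN hbR⟩ : N)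
      rwa [← orderOf_coe (⟨b, hRN hbR⟩ : N)] at h))
    hfix'
  have hcR : ⁅b⁻¹, z⁻¹⁆ ∈ normalizer (R : Set G) := by
    rw [commutatorElement_def]
    exact mul_mem (mul_mem (mul_mem (inv_mem hbR) (inv_mem hzR)) (by simpa using hbR))
      (by simpa using hzR)
  refine hdet _ hcR hc ?_
  refine CfsgLib.Coprime.le_centralizer_of_trivial_mod_frattini
    (zpowers_le.2 (hRD hcR)) ?_ (fun a ha k hk => ?_) (mem_zpowers _)
  · obtain ⟨j, hj⟩ := IsPGroup.iff_card.mp (hDp.to_subgroup (frattini D))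
    rw [Nat.card_zpowers, hj]
    exact hc.pow_right j
  obtain ⟨i, rfl⟩ := mem_powers_iff_mem_zpowers.2 ha
  set v := f ⟨k, hDN hk⟩ with hv
  have hvD : v ∈ Db := mem_map_of_mem f (show (⟨k, hDN hk⟩ : N) ∈ D.subgroupOf N from hk)
  set bb := f ⟨b, hRN hbR⟩ with hbb
  set zz := f ⟨z, hRN hzR⟩ with hzz
  have key : ∀ u ∈ Db, (bb⁻¹ * zz⁻¹ * bb * zz) * u = u * (bb⁻¹ * zz⁻¹ * bb * zz) := by
    intro u hu
    have hzu : zz * u * zz⁻¹ ∈ Db := (mem_normalizer_iff.1 (hnorm z hzR) u).1 hu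
    have h1 : bb * (zz * u * zz⁻¹) * bb⁻¹ = zz * (bb * u * bb⁻¹) * zz⁻¹ := by
      rw [hn _ hzu, hn _ hu, conj_pow]
    calc (bb⁻¹ * zz⁻¹ * bb * zz) * u
        = bb⁻¹ * zz⁻¹ * (bb * (zz * u * zz⁻¹) * bb⁻¹) * bb * zz := by group
      _ = u * (bb⁻¹ * zz⁻¹ * bb * zz) := by rw [h1]; group
  have hc' : f ⟨⁅b⁻¹, z⁻¹⁆, hRN hcR⟩ = bb⁻¹ * zz⁻¹ * bb * zz := by
    rw [hbb, hzz, ← map_inv, ← map_inv, ← map_mul, ← map_mul, ← map_mul]
    congr 1
    exact Subtype.ext (by simp [commutatorElement_def])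
  have hci : Commute (f ⟨⁅b⁻¹, z⁻¹⁆, hRN hcR⟩ ^ i) v :=
    Commute.pow_left (by rw [hc']; exact key v hvD) i
  have h2 := commutatorElement_eq_one_iff_mul_comm.2 hci.eq
  rw [← map_pow, hv, ← map_commutatorElement] at h2
  exact ((QuotientGroup.eq_one_iff (N := F.subgroupOf N) _).1 h2 :)

end CfsgLib.OddOrder
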