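import Cfsg.Agent.Lib.OddOrder.MinSimple
import Cfsg.Agent.Lib.OddOrder.Generation
import Cfsg.Agent.Lib.Coprime.Action
import Cfsg.Agent.Lib.Base.Rank

/-!
The transitivity argument for maximal invariant `q`-subgroups.
-/

set_option autoImplicit false

open scoped Pointwise

namespace CfsgLib.OddOrder

open Cfsg

variable {G : Type*} [Group G]

/-- `Q₁` is conjugate to `Q₂` by an element of `K`. -/
def ConjBy (K Q₁ Q₂ : Subgroup G) : Prop := ∃ k ∈ K, MulAut.conj k • Q₁ = Q₂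

theorem ConjBy.refl (K Q : Subgroup G) : ConjBy K Q Q := ⟨1, K.one_mem, by simp⟩

theorem ConjBy.symm {K Q₁ Q₂ : Subgroup G} (h : ConjBy K Q₁ Q₂) : ConjBy K Q₂ Q₁ := by
  obtain ⟨k, hk, rfl⟩ := h
  exact ⟨k⁻¹, K.inv_mem hk, by rw [map_inv, inv_smul_smul]⟩

theorem ConjBy.trans {K Q₁ Q₂ Q₃ : Subgroup G} (h : ConjBy K Q₁ Q₂) (h' : ConjBy K Q₂ Q₃) :
    ConjBy K Q₁ Q₃ := by
  obtain ⟨k, hk, rfl⟩ := h
  obtain ⟨l, hl, rfl⟩ := h'
  exact ⟨l * k, K.mul_mem hl hk, by rw [map_mul, mul_smul]⟩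

theorem conjBy_iff {K Q₁ Q₂ : Subgroup G} :
    ConjBy K Q₁ Q₂ ↔ ∃ k ∈ K, Q₂ = Q₁.map (MulAut.conj k).toMonoidHom :=
  exists_congr fun _ => and_congr_right fun _ => eq_comm

theorem conj_smul_mem_invSubgroups [Finite G] {A Q : Subgroup G} {π : Set ℕ} {k : G}
    (hk : k ∈ Subgroup.centralizer (A : Set G)) (hQ : Q ∈ invSubgroups ⊤ A π) :
    MulAut.conj k • Q ∈ invSubgroups ⊤ A π := by
  refine ⟨le_top, fun r hr hd => hQ.2.1 r hr (by
    rwa [CfsgLib.Coprime.card_conj_smul] at hd), ?_⟩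
  have h := CfsgLib.Coprime.le_normalizer_conj_smul (g := k) hQ.2.2
  rwa [CfsgLib.Coprime.conj_smul_eq_self_of_mem_normalizer
    (Subgroup.centralizer_le_normalizer _ hk)] at h

theorem conj_smul_mem_maxInvSubgroups [Finite G] {A Q : Subgroup G} {π : Set ℕ} {k : G}
    (hk : k ∈ Subgroup.centralizer (A : Set G)) (hQ : Q ∈ maxInvSubgroups ⊤ A π) :
    MulAut.conj k • Q ∈ maxInvSubgroups ⊤ A π := by
  refine ⟨conj_smul_mem_invSubgroups hk hQ.1, fun R hR hle => ?_⟩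
  have h1 := hQ.2 _ (conj_smul_mem_invSubgroups
    ((Subgroup.centralizer (A : Set G)).inv_mem hk) hR) (by
      rw [map_inv, Subgroup.subset_pointwise_smul_iff, inv_inv]; exact hle)
  rw [← h1, map_inv, smul_inv_smul]

variable [Finite G] {q : ℕ} [Fact q.Prime] {A K : Subgroup G}

/-- One step: invariant `q`-subgroups of a common invariant `π(A)'`-group lie, up to `K`, in a
common maximal one. -/
theorem transitivity_step (hAsol : Group.IsSolvable A) {R U₁ U₂ : Subgroup G}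
    (hAR : A ≤ Subgroup.normalizer (R : Set G)) (hcop : (Nat.card A).Coprime (Nat.card R))
    (hCR : R ⊓ Subgroup.centralizer (A : Set G) ≤ K)
    (hU₁ : U₁ ∈ invSubgroups R A {q}) (hU₂ : U₂ ∈ invSubgroups R A {q}) :
    ∃ Q ∈ maxInvSubgroups ⊤ A {q}, U₁ ≤ Q ∧
      ∃ k ∈ K, k ∈ Subgroup.centralizer (A : Set G) ∧ MulAut.conj k • U₂ ≤ Q := by
  obtain ⟨h1, h1q, h1A⟩ := mem_invSubgroups_singleton_iff.mp hU₁
  obtain ⟨h2, h2q, h2A⟩ := mem_invSubgroups_singleton_iff.mp hU₂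
  obtain ⟨P₁, hP₁, hAP₁⟩ := CfsgLib.Coprime.exists_invariant_sylow_ge hAR hcop (Or.inl hAsol)
    h1 h1q h1A
  obtain ⟨P₂, hP₂, hAP₂⟩ := CfsgLib.Coprime.exists_invariant_sylow_ge hAR hcop (Or.inl hAsol)
    h2 h2q h2A
  obtain ⟨c, hc, hcP⟩ := CfsgLib.Coprime.invariant_sylow_conj hAR hcop (Or.inl hAsol) P₂ P₁
    hAP₂ hAP₁
  obtain ⟨Q, hQ, hPQ⟩ := exists_maxInvSubgroups_ge (H := ⊤) (A := A) (π := {q})
    (Y := (P₁ : Subgroup R).map R.subtype)
    (mem_invSubgroups_singleton_iff.mpr ⟨le_top, P₁.2.map _, hAP₁⟩)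
  refine ⟨Q, hQ, hP₁.trans hPQ, c, hCR ⟨c.2, hc⟩, hc, le_trans ?_ hPQ⟩
  have h := CfsgLib.Coprime.conj_smul_map R.subtype c (P₂ : Subgroup R)
  have h' : MulAut.conj c • (P₂ : Subgroup R) = (P₁ : Subgroup R) := by
    rw [← hcP]; rfl
  rw [h'] at h
  rw [← h]
  exact Subgroup.pointwise_smul_le_pointwise_smul_iff.mpr hP₂

/-- A common invariant `π(A)'`-group containing bigger parts reduces to bigger intersections. -/
theorem conjBy_of_step (hAsol : Group.IsSolvable A) {n : ℕ} {Q₁ Q₂ R U₁ U₂ : Subgroup G}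
    (h₁ : Q₁ ∈ maxInvSubgroups ⊤ A {q}) (h₂ : Q₂ ∈ maxInvSubgroups ⊤ A {q})
    (hbig : ∀ S₁ ∈ maxInvSubgroups ⊤ A {q}, ∀ S₂ ∈ maxInvSubgroups ⊤ A {q},
      n < Nat.card ↥(S₁ ⊓ S₂) → ConjBy K S₁ S₂)
    (hAR : A ≤ Subgroup.normalizer (R : Set G)) (hcop : (Nat.card A).Coprime (Nat.card R))
    (hCR : R ⊓ Subgroup.centralizer (A : Set G) ≤ K)
    (hU₁ : U₁ ∈ invSubgroups R A {q}) (hU₂ : U₂ ∈ invSubgroups R A {q})
    (hUQ₁ : U₁ ≤ Q₁) (hUQ₂ : U₂ ≤ Q₂) (hn₁ : n < Nat.card U₁) (hn₂ : n < Nat.card U₂) :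
    ConjBy K Q₁ Q₂ := by
  obtain ⟨Q, hQ, hU₁Q, k, hk, hkA, hkU⟩ := transitivity_step hAsol hAR hcop hCR hU₁ hU₂
  have e1 : ConjBy K Q₁ Q :=
    hbig _ h₁ _ hQ (hn₁.trans_le (Subgroup.card_le_of_le (le_inf hUQ₁ hU₁Q)))
  have e2 : ConjBy K (MulAut.conj k • Q₂) Q := by
    refine hbig _ (conj_smul_mem_maxInvSubgroups hkA h₂) _ hQ (hn₂.trans_le ?_)
    rw [← CfsgLib.Coprime.card_conj_smul k U₂]
    exact Subgroup.card_le_of_le
      (le_inf (Subgroup.pointwise_smul_le_pointwise_smul_iff.mpr hUQ₂) hkU)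
  exact e1.trans (e2.symm.trans (ConjBy.symm ⟨k, hk, rfl⟩))

/-- The induction: if each intersection can be enlarged, any two maximal invariant subgroups with
a nontrivial intersection are conjugate by `K`. -/
theorem transitivity_induction (hAsol : Group.IsSolvable A) (P : Subgroup G → Prop)
    (hloc : ∀ D U₁ U₂ : Subgroup G, P D → IsPGroup q D → A ≤ Subgroup.normalizer (D : Set G) →
      U₁ ∈ invSubgroups (Subgroup.normalizer (D : Set G)) A {q} →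
      U₂ ∈ invSubgroups (Subgroup.normalizer (D : Set G)) A {q} → D < U₁ → D < U₂ →
      ∃ R V₁ V₂ : Subgroup G, A ≤ Subgroup.normalizer (R : Set G) ∧
        (Nat.card A).Coprime (Nat.card R) ∧ R ⊓ Subgroup.centralizer (A : Set G) ≤ K ∧
        V₁ ∈ invSubgroups R A {q} ∧ V₂ ∈ invSubgroups R A {q} ∧ V₁ ≤ U₁ ∧ V₂ ≤ U₂ ∧
        D < V₁ ∧ D < V₂)
    (hP : ∀ D D' : Subgroup G, P D → Nat.card D < Nat.card D' → P D')
    (Q₁ : Subgroup G) (h₁ : Q₁ ∈ maxInvSubgroups ⊤ A {q})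
    (Q₂ : Subgroup G) (h₂ : Q₂ ∈ maxInvSubgroups ⊤ A {q})
    (hD : P (Q₁ ⊓ Q₂)) : ConjBy K Q₁ Q₂ := by
  induction hm : Nat.card G - Nat.card ↥(Q₁ ⊓ Q₂) using Nat.strong_induction_on
    generalizing Q₁ Q₂ with
  | _ m ih =>
  by_cases hQ : Q₁ = Q₂
  · exact hQ ▸ ConjBy.refl K Q₁
  set D := Q₁ ⊓ Q₂ with hDdef
  obtain ⟨-, hq1, hA1⟩ := mem_invSubgroups_singleton_iff.mp h₁.1
  obtain ⟨-, hq2, hA2⟩ := mem_invSubgroups_singleton_iff.mp h₂.1
  have hAD : A ≤ Subgroup.normalizer (D : Set G) :=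
    CfsgLib.Coprime.le_normalizer_inf_inf hA1 hA2
  have hgrow : ∀ Q : Subgroup G, IsPGroup q Q → D < Q →
      D < Q ⊓ Subgroup.normalizer (D : Set G) := by
    intro Q hQq hDQ
    haveI : Group.IsNilpotent Q := hQq.isNilpotent
    have hlt : D.subgroupOf Q < ⊤ := by
      rw [lt_top_iff_ne_top, ne_eq, Subgroup.subgroupOf_eq_top]
      exact not_le_of_gt hDQ
    obtain ⟨x, hxN, hxD⟩ := SetLike.exists_of_lt
      (Group.normalizerCondition_of_isNilpotent (G := Q) _ hlt)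
    refine lt_of_le_of_ne (le_inf hDQ.le Subgroup.le_normalizer) fun heq => hxD ?_
    rw [Subgroup.mem_subgroupOf, heq]
    refine ⟨x.2, ?_⟩
    rw [← Subgroup.subgroupOf_normalizer_eq hDQ.le] at hxN
    exact hxN
  have hlt1 : D < Q₁ := lt_of_le_of_ne inf_le_left fun h =>
    hQ ((h₁.2 Q₂ h₂.1 (h.symm.le.trans inf_le_right)).symm)
  have hlt2 : D < Q₂ := lt_of_le_of_ne inf_le_right fun h =>
    hQ (h₂.2 Q₁ h₁.1 (h.symm.le.trans inf_le_left))
  have hinv : ∀ Q : Subgroup G, IsPGroup q Q → A ≤ Subgroup.normalizer (Q : Set G) →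
      Q ⊓ Subgroup.normalizer (D : Set G) ∈
        invSubgroups (Subgroup.normalizer (D : Set G)) A {q} := fun Q hQq hQA =>
    mem_invSubgroups_singleton_iff.mpr ⟨inf_le_right, hQq.to_le inf_le_left,
      CfsgLib.Coprime.le_normalizer_inf_inf hQA (hAD.trans Subgroup.le_normalizer)⟩
  obtain ⟨R, V₁, V₂, hAR, hcop, hCR, hV₁, hV₂, hVU₁, hVU₂, hDV₁, hDV₂⟩ :=
    hloc D _ _ hD (hq1.to_le inf_le_left) hAD (hinv Q₁ hq1 hA1) (hinv Q₂ hq2 hA2)
      (hgrow Q₁ hq1 hlt1) (hgrow Q₂ hq2 hlt2)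
  refine conjBy_of_step hAsol (n := Nat.card D) h₁ h₂ (fun S₁ hS₁ S₂ hS₂ hcard => ?_) hAR hcop
    hCR hV₁ hV₂ (hVU₁.trans inf_le_left) (hVU₂.trans inf_le_left)
    (Set.Finite.card_lt_card (Set.toFinite _) hDV₁)
    (Set.Finite.card_lt_card (Set.toFinite _) hDV₂)
  refine ih _ ?_ S₁ hS₁ S₂ hS₂ (hP D _ hD hcard) rfl
  have := Subgroup.card_le_card_group (S₁ ⊓ S₂)
  omega

/-- Three independent elements of order `p` give a common centralized element. -/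
theorem exists_common_centralized {p : ℕ} [hp : Fact p.Prime] {B D U₁ U₂ : Subgroup G}
    (hB : IsElementaryAbelian p B) (hB3 : p ^ 2 < Nat.card B)
    (hs₁ : Group.IsSolvable U₁) (hs₂ : Group.IsSolvable U₂)
    (hc₁ : (Nat.card U₁).Coprime p) (hc₂ : (Nat.card U₂).Coprime p)
    (hn₁ : U₁ ≤ Subgroup.normalizer (D : Set G)) (hn₂ : U₂ ≤ Subgroup.normalizer (D : Set G))
    (hBD : B ≤ Subgroup.normalizer (D : Set G)) (hB₁ : B ≤ Subgroup.normalizer (U₁ : Set G))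
    (hB₂ : B ≤ Subgroup.normalizer (U₂ : Set G)) (hD₁ : D < U₁) (hD₂ : D < U₂) :
    ∃ z ∈ B, z ≠ 1 ∧ (∃ u ∈ U₁, u ∉ D ∧ Commute z u) ∧ (∃ u ∈ U₂, u ∉ D ∧ Commute z u) := by
  have hcomm : ∀ {a b : G}, a ∈ B → b ∈ B → Commute a b := fun ha hb =>
    CfsgLib.Base.isMulCommutative_subgroup_iff.mp hB.1 _ ha _ hb
  have hpow : ∀ {a : G}, a ∈ B → a ^ p = 1 := fun ha => hB.2 _ ha
  have hsmall : ∀ {a : G}, a ∈ B → Nat.card (Subgroup.zpowers a) ≤ p := fun ha => by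
    rw [Nat.card_zpowers]
    exact Nat.le_of_dvd hp.out.pos (orderOf_dvd_of_pow_eq_one (hpow ha))
  have hp2 : p ≤ p ^ 2 := Nat.le_self_pow two_ne_zero p
  -- pick `x` and `y`
  obtain ⟨x, hx, hx1⟩ : ∃ x ∈ B, x ∉ (⊥ : Subgroup G) := by
    refine SetLike.not_le_iff_exists.mp fun h => ?_
    have := Subgroup.card_le_of_le h
    rw [Subgroup.card_bot] at this
    exact absurd (this.trans (hp.out.one_lt.le.trans hp2)) (not_le.mpr hB3)
  rw [Subgroup.mem_bot] at hx1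
  obtain ⟨y, hy, hyx⟩ : ∃ y ∈ B, y ∉ Subgroup.zpowers x := by
    refine SetLike.not_le_iff_exists.mp fun h => ?_
    exact absurd ((Subgroup.card_le_of_le h).trans ((hsmall hx).trans hp2)) (not_le.mpr hB3)
  have hclB : ∀ {a b : G}, a ∈ B → b ∈ B → Subgroup.closure ({a, b} : Set G) ≤ B := fun ha hb =>
    (Subgroup.closure_le _).mpr (Set.insert_subset ha (Set.singleton_subset_iff.mpr hb))
  obtain ⟨z₁, hz₁, hz₁1, u₁, hu₁, hu₁D, hz₁u⟩ := exists_centralized_not_mem U₁ D hD₁ hn₁ hs₁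
    hc₁ (hcomm hx hy) (hpow hx) (hpow hy) hx1 hyx (hB₁ hx) (hB₁ hy) (hBD hx) (hBD hy)
  have hz₁B : z₁ ∈ B := hclB hx hy hz₁
  -- a complementary pair
  obtain ⟨a, ha, haz⟩ : ∃ a ∈ B, a ∉ Subgroup.zpowers z₁ := by
    refine SetLike.not_le_iff_exists.mp fun h => ?_
    exact absurd ((Subgroup.card_le_of_le h).trans ((hsmall hz₁B).trans hp2)) (not_le.mpr hB3)
  obtain ⟨b, hb, hbz⟩ : ∃ b ∈ B, b ∉ Subgroup.zpowers z₁ ⊔ Subgroup.zpowers a := by
    refine SetLike.not_le_iff_exists.mp fun h => ?_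
    have hle : Subgroup.zpowers z₁ ≤ Subgroup.normalizer (Subgroup.zpowers a : Set G) :=
      (Subgroup.le_centralizer_iff.mpr (by
        rw [Subgroup.zpowers_le]
        refine Subgroup.mem_centralizer_iff.mpr fun g hg => ?_
        exact (hcomm ((Subgroup.zpowers_le.mpr hz₁B) hg) ha).eq)).trans
        (Subgroup.centralizer_le_normalizer _)
    have h3 := (Subgroup.card_le_of_le h).trans (Nat.le_of_dvd
      (Nat.mul_pos Nat.card_pos Nat.card_pos) (CfsgLib.Coprime.card_sup_dvd hle))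
    have h4 := Nat.mul_le_mul (hsmall hz₁B) (hsmall ha)
    rw [← pow_two] at h4
    exact absurd (h3.trans h4) (not_le.mpr hB3)
  have hba : b ∉ Subgroup.zpowers a := fun h => hbz (Subgroup.mem_sup_right h)
  have ha1 : a ≠ 1 := fun h => haz (h ▸ Subgroup.one_mem _)
  -- apply the lemma inside the centralizer of `z₁`
  set C := Subgroup.centralizer ({z₁} : Set G) with hC
  have hBC : B ≤ C := fun g hg => Subgroup.mem_centralizer_singleton_iff.mpr (hcomm hg hz₁B).eq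
  have hlt : D ⊓ C < U₁ ⊓ C := lt_of_le_of_ne (inf_le_inf_right _ hD₁.le) fun h => hu₁D (by
    have : u₁ ∈ D ⊓ C := h.symm ▸ ⟨hu₁, Subgroup.mem_centralizer_singleton_iff.mpr hz₁u.eq.symm⟩
    exact this.1)
  have hBU : B ≤ Subgroup.normalizer ((U₁ ⊓ C : Subgroup G) : Set G) :=
    CfsgLib.Coprime.le_normalizer_inf_inf hB₁ (hBC.trans Subgroup.le_normalizer)
  have hBDC : B ≤ Subgroup.normalizer ((D ⊓ C : Subgroup G) : Set G) :=
    CfsgLib.Coprime.le_normalizer_inf_inf hBD (hBC.trans Subgroup.le_normalizer)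
  obtain ⟨z₂, hz₂, hz₂1, w, hw, hwD, hz₂w⟩ := exists_centralized_not_mem (U₁ ⊓ C) (D ⊓ C) hlt
    (CfsgLib.Coprime.le_normalizer_inf_inf (inf_le_left.trans hn₁)
      (inf_le_right.trans Subgroup.le_normalizer))
    (CfsgLib.Coprime.isSolvable_of_le inf_le_left hs₁)
    (hc₁.coprime_dvd_left (Subgroup.card_dvd_of_le inf_le_left))
    (hcomm ha hb) (hpow ha) (hpow hb) ha1 hba (hBU ha) (hBU hb) (hBDC ha) (hBDC hb)
  have hz₂B : z₂ ∈ B := hclB ha hb hz₂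
  have hz₂z₁ : z₂ ∉ Subgroup.zpowers z₁ := by
    intro h
    have hcl : Subgroup.closure ({a, b} : Set G) = Subgroup.zpowers a ⊔ Subgroup.zpowers b := by
      rw [Set.insert_eq, Subgroup.closure_union, Subgroup.zpowers_eq_closure,
        Subgroup.zpowers_eq_closure]
    have hle : Subgroup.zpowers a ≤ Subgroup.normalizer (Subgroup.zpowers b : Set G) :=
      (Subgroup.le_centralizer_iff.mpr (by
        rw [Subgroup.zpowers_le]
        refine Subgroup.mem_centralizer_iff.mpr fun g hg => ?_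
        exact (hcomm ((Subgroup.zpowers_le.mpr ha) hg) hb).eq)).trans
        (Subgroup.centralizer_le_normalizer _)
    rw [hcl, CfsgLib.Coprime.mem_sup_iff_of_le_normalizer hle] at hz₂
    obtain ⟨g, hg, c, hc, hgc⟩ := hz₂
    have hcm : c ∈ Subgroup.zpowers z₁ ⊔ Subgroup.zpowers a := by
      have : c = g⁻¹ * z₂ := by rw [← hgc]; group
      rw [this]
      exact mul_mem (inv_mem (Subgroup.mem_sup_right hg)) (Subgroup.mem_sup_left h)
    by_cases hc1 : c = 1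
    · rw [hc1, mul_one] at hgc
      subst hgc
      -- `z₂` generates both cyclic groups
      have hcard : ∀ {g : G}, g ∈ B → g ≠ 1 → Nat.card (Subgroup.zpowers g) = p := fun hg hg1 => by
        rw [Nat.card_zpowers]; exact orderOf_eq_prime (hpow hg) hg1
      have e1 : Subgroup.zpowers g = Subgroup.zpowers z₁ :=
        Subgroup.eq_of_le_of_card_ge (Subgroup.zpowers_le.mpr h)
          (by rw [hcard hz₂B hz₂1]; exact hsmall hz₁B)
      have e2 : Subgroup.zpowers g = Subgroup.zpowers a :=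
        Subgroup.eq_of_le_of_card_ge (Subgroup.zpowers_le.mpr hg)
          (by rw [hcard hz₂B hz₂1]; exact hsmall ha)
      exact haz (e1 ▸ e2 ▸ Subgroup.mem_zpowers a)
    · have e : Subgroup.zpowers c = Subgroup.zpowers b :=
        Subgroup.eq_of_le_of_card_ge (Subgroup.zpowers_le.mpr hc) (by
          rw [Nat.card_zpowers c, orderOf_eq_prime (hpow ((Subgroup.zpowers_le.mpr hb) hc)) hc1]
          exact hsmall hb)
      refine hbz (Subgroup.zpowers_le.mpr hcm ?_)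
      rw [e]; exact Subgroup.mem_zpowers b
  obtain ⟨z, hz, hz1, u₂, hu₂, hu₂D, hzu₂⟩ := exists_centralized_not_mem U₂ D hD₂ hn₂ hs₂ hc₂
    (hcomm hz₁B hz₂B) (hpow hz₁B) (hpow hz₂B) hz₁1 hz₂z₁ (hB₂ hz₁B) (hB₂ hz₂B) (hBD hz₁B)
    (hBD hz₂B)
  refine ⟨z, hclB hz₁B hz₂B hz, hz1, ⟨w, hw.1, fun h => hwD ⟨h, hw.2⟩, ?_⟩, u₂, hu₂, hu₂D, hzu₂⟩
  have hle : Subgroup.closure ({z₁, z₂} : Set G) ≤ Subgroup.centralizer ({w} : Set G) :=
    (Subgroup.closure_le _).mpr (Set.insert_subset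
      (Subgroup.mem_centralizer_singleton_iff.mpr (Subgroup.mem_centralizer_singleton_iff.mp hw.2).symm)
      (Set.singleton_subset_iff.mpr (Subgroup.mem_centralizer_singleton_iff.mpr hz₂w.eq)))
  exact Subgroup.mem_centralizer_singleton_iff.mp (hle hz)

end CfsgLib.OddOrder
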