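import Cfsg.Agent.Lib.OddOrder.FittingSCN
import Cfsg.Agent.Lib.OddOrder.UniqueRank

/-!
A Fitting subgroup of rank at least three makes all elementary subgroups of that rank uniqueness
subgroups.
-/

set_option autoImplicit false
set_option linter.unusedSectionVars false

namespace CfsgLib.OddOrder

open Cfsg
open Subgroup

variable {G : Type*} [Group G] [Finite G] {p : ℕ} [Fact p.Prime]

/-- Elementary subgroups of order at least `p³` are uniqueness subgroups when `F(M)` has one. -/
theorem inUniqueMaximal_of_fitting_rank (hG : IsMinSimpleOddOrder G) {M : Subgroup G}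
    (hM : IsCoatom M) (hF : ¬ PRankLE p 2 (fittingOf M)) {E : Subgroup G}
    (hE : IsElementaryAbelian p E) (hE3 : p ^ 3 ≤ Nat.card E) : InUniqueMaximal E := by
  have hp : p.Prime := Fact.out
  have h13 : p < p ^ 3 := by
    simpa using Nat.pow_lt_pow_right hp.one_lt (show 1 < 3 by omega)
  obtain ⟨E₁, hE₁F, hE₁, hE₁3⟩ := exists_elementary_pow_le hF
  obtain ⟨A₀, hle, hA₀⟩ := Set.Finite.exists_le_maximal
    (s := {B : Subgroup G | B ≤ fittingOf M ∧ IsElementaryAbelian p B}) (Set.toFinite _)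
    (a := E₁) ⟨hE₁F, hE₁⟩
  obtain ⟨hA₀F, hA₀e⟩ := hA₀.1
  have hA₀3 : p ^ 3 ≤ Nat.card A₀ := hE₁3.trans (card_le_of_le hle)
  by_cases hnp : IsPGroup p (fittingOf M)
  · have hpF : p ∣ Nat.card (fittingOf M) := by
      obtain ⟨n, hn⟩ := CfsgLib.Base.exists_card_eq_pow_of_isElementaryAbelian hA₀e
      rcases n with _ | n
      · rw [hn, pow_zero] at hA₀3
        exact absurd hA₀3 (not_le.2 (Nat.one_lt_pow (by omega) hp.one_lt))
      · exact (dvd_pow_self p n.succ_ne_zero).trans (hn ▸ card_dvd_of_le hA₀F)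
    obtain ⟨P⟩ : Nonempty (Sylow p M) := inferInstance
    have hFR : fittingOf M ≤ (P : Subgroup M).map M.subtype :=
      (le_opOf_of_le_fittingOf hnp le_rfl).trans
        (map_mono (f := M.subtype) (CfsgLib.Base.pCore_le_sylow P))
    have hr : ¬ PRankLE p 2 ((P : Subgroup M).map M.subtype : Subgroup G) :=
      not_pRankLE_of_le_card (hE₁F.trans hFR) hE₁ hE₁3
    obtain ⟨A, hA, hA3⟩ := exists_isSCN_three
      (minSimple_ne_two hG (hpF.trans (card_subgroup_dvd_card _))) (P.isPGroup'.map _) hr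
    obtain ⟨-, hAU⟩ := (scn_of_fitting_pGroup hG hM hpF hnp P).2 A hA hA3
    obtain ⟨E₂, hE₂A, hE₂, hE₂3⟩ := exists_elementary_pow_le hA3
    exact inUniqueMaximal_of_rank_three hG hE₂ hE₂3 (inUniqueMaximal_of_commute hG hAU hE₂
      (not_isCyclic_of_lt_card hE₂ (h13.trans_le hE₂3))
      (hE₂A.trans (le_centralizer_iff_isMulCommutative.2 (scn_comm hA)))) hE hE3
  · exact inUniqueMaximal_of_rank_three hG hA₀e hA₀3 (inUniqueMaximal_of_commute hG
      (inUniqueMaximal_fitting_centralizer hG hM hA₀F hA₀e hA₀3 hnp) hA₀e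
      (not_isCyclic_of_lt_card hA₀e (h13.trans_le hA₀3)) (le_centralizer_iff.1 inf_le_right)) hE hE3

/-- The form for `p`-subgroups of rank at least three. -/
theorem inUniqueMaximal_of_fitting_rank_abelian (hG : IsMinSimpleOddOrder G) {M : Subgroup G}
    (hM : IsCoatom M) (hF : ¬ PRankLE p 2 (fittingOf M)) {A : Subgroup G} (hAp : IsPGroup p A)
    (hA3 : ¬ PRankLE p 2 A) : InUniqueMaximal A := by
  obtain ⟨E, hEA, hE, hE3⟩ := exists_elementary_pow_le hA3
  exact inUniqueMaximal_mono (inUniqueMaximal_of_fitting_rank hG hM hF hE hE3) hEA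
    (isPGroup_ne_top hG hAp)

end CfsgLib.OddOrder
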