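import Cfsg.Agent.Lib.OddOrder.BigMaximal
import Cfsg.Agent.Lib.OddOrder.SmallCenter
import Cfsg.Agent.Lib.OddOrder.ScalarOperator
import Cfsg.Agent.Lib.OddOrder.NarrowAction
import Cfsg.Agent.Lib.OddOrder.RankTwoFitting
import Cfsg.Agent.Lib.Coprime.Action2
import Cfsg.Agent.Lib.Transfer.ControlZJ
import Cfsg.Agent.Lib.Transfer.Fusion
import Cfsg.Agent.Lib.Transfer.ThompsonComplement
import Cfsg.Agent.Lib.OddOrder.ThompsonCentre
import Cfsg.Agent.S1396

/-!
An `SCN₃`-subgroup of a minimal simple group of odd order lies in only one maximal subgroup.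
-/

set_option autoImplicit false
set_option linter.unusedSectionVars false

open scoped commutatorElement

namespace CfsgLib.OddOrder

open Cfsg
open Subgroup

variable {G : Type*} [Group G] [Finite G]

/-- `O_{π(A)'}(C(A))`. -/
abbrev coreC (A : Subgroup G) : Subgroup G :=
  piCoreOf (primesNotDvd (Nat.card A)) (centralizer (A : Set G))

/-- A maximal subgroup of large `q`-rank containing `A` and `O_{π(A)'}(C(A))`, with a largest
invariant `q`-subgroup. -/
structure BigSide (A : Subgroup G) (q : ℕ) (M Q : Subgroup G) : Prop where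
  coatom : IsCoatom M
  rank : ¬ PRankLE q 2 (fittingOf M)
  le : A ≤ M
  core_le : coreC A ≤ M
  pgroup : IsPGroup q Q
  inv : A ≤ normalizer (Q : Set G)
  sub : Q ≤ M
  op_le : opOf q M ≤ Q
  rankQ : ¬ PRankLE q 2 Q
  cover : ∀ Q' : Subgroup G, IsPGroup q Q' → A ≤ normalizer (Q' : Set G) →
    ∃ k ∈ coreC A, Q' ≤ Q.map (MulAut.conj k).toMonoidHom

theorem map_conj_eq_self {H : Subgroup G} {k : G} (hk : k ∈ normalizer (H : Set G)) :
    H.map (MulAut.conj k).toMonoidHom = H := mem_normalizer_iff_map_conj_eq.1 hk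

theorem le_normalizer_map_conj {A Q : Subgroup G} (h : A ≤ normalizer (Q : Set G)) {k : G}
    (hk : k ∈ centralizer (A : Set G)) :
    A ≤ normalizer (Q.map (MulAut.conj k).toMonoidHom : Set G) := fun a ha => by
  refine le_normalizer_map _ ⟨a, h ha, ?_⟩
  show k * a * k⁻¹ = a
  rw [← mem_centralizer_iff.1 hk a ha, mul_inv_cancel_right]

section

variable {A : Subgroup G} {q : ℕ} [Fact q.Prime] {M Q : Subgroup G}

theorem BigSide.inv_le (s : BigSide A q M Q) {Q' : Subgroup G} (h1 : IsPGroup q Q')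
    (h2 : A ≤ normalizer (Q' : Set G)) : Q' ≤ M := by
  obtain ⟨k, hk, hle⟩ := s.cover Q' h1 h2
  refine hle.trans ?_
  rintro _ ⟨x, hx, rfl⟩
  exact mul_mem (mul_mem (s.core_le hk) (s.sub hx)) (inv_mem (s.core_le hk))

theorem BigSide.conj (s : BigSide A q M Q) {k : G} (hk : k ∈ coreC A) :
    BigSide A q M (Q.map (MulAut.conj k).toMonoidHom) where
  coatom := s.coatom
  rank := s.rank
  le := s.le
  core_le := s.core_le
  pgroup := s.pgroup.map _
  inv := le_normalizer_map_conj s.inv (piCoreOf_le _ _ hk)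
  sub := by
    rintro _ ⟨x, hx, rfl⟩
    exact mul_mem (mul_mem (s.core_le hk) (s.sub hx)) (inv_mem (s.core_le hk))
  op_le := by
    rw [← map_conj_eq_self (le_normalizer_opOf q M (s.core_le hk))]
    exact map_mono s.op_le
  rankQ := fun h => s.rankQ
    ((CfsgLib.Base.pRankLE_congr (Q.equivMapOfInjective _ (MulAut.conj k).injective)).2 h)
  cover := fun Q' h1 h2 => by
    obtain ⟨k', hk', hle⟩ := s.cover Q' h1 h2
    refine ⟨k' * k⁻¹, mul_mem hk' (inv_mem hk), hle.trans ?_⟩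
    rintro _ ⟨x, hx, rfl⟩
    exact ⟨k * x * k⁻¹, ⟨x, hx, rfl⟩, by simp [mul_assoc]⟩

theorem BigSide.normalizer_le (hG : IsMinSimpleOddOrder G) (s : BigSide A q M Q) {W : Subgroup G}
    (hW : W ≠ ⊥) (hW' : W ≠ ⊤) (hAW : A ≤ normalizer (W : Set G))
    (hr : ¬ PRankLE q 2 (centralizer (W : Set G))) : normalizer (W : Set G) ≤ M := by
  obtain ⟨Y, hY, hFY, hle⟩ := normalizer_le_big hG s.coatom s.rank hW hW' hr
  exact eq_of_big_of_opOf_le hG s.coatom s.rank hY hFY
    (s.inv_le (isPGroup_opOf q Y) ((hAW.trans hle).trans (le_normalizer_opOf q Y))) ▸ hle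

theorem exists_bigSide (hG : IsMinSimpleOddOrder G) (hTH : TransitivityHypothesis A)
    (hZ : ¬ RankLE 2 ↥(A ⊓ centralizer (A : Set G))) (hqA : ¬ q ∣ Nat.card A)
    (hM : IsCoatom M) (hF : ¬ PRankLE q 2 (fittingOf M)) (hAM : A ≤ M) (hKM : coreC A ≤ M) :
    ∃ Q : Subgroup G, BigSide A q M Q := by
  obtain ⟨Q, h1, h2, h3, h4, h5, h6⟩ := exists_big_invariant hG hTH hZ hqA hM hF hAM
  exact ⟨Q, ⟨hM, hF, hAM, hKM, h1, h2, h3, h4, h5, h6⟩⟩

/-- The data attached to a line of small centralizer inside an invariant `q`-subgroup. -/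
def SmallLine (A Q : Subgroup G) (q : ℕ) (b : G) (W : Subgroup G) : Prop :=
  W ≤ Q ∧ W ≤ centralizer ({b} : Set G) ∧ IsElementaryAbelian q W ∧ Nat.card W = q ∧
    PRankLE q 2 (centralizer (W : Set G)) ∧ A ≤ normalizer (W : Set G)

/-- The alternative for the `q`-side of an invariant Hall subgroup of a centralizer. -/
theorem side_dichotomy (hG : IsMinSimpleOddOrder G) (hAc : IsMulCommutative A)
    (s : BigSide A q M Q) {b : G} (hb : b ∈ A) (hb1 : b ≠ 1)
    (hbq : (orderOf b).Coprime q) (hbM : ¬ centralizer ({b} : Set G) ≤ M) {H : Subgroup G}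
    (hAH : A ≤ normalizer (H : Set G)) (hHC : H ≤ centralizer ({b} : Set G))
    (hne : opOf q H ≠ ⊥) (hOQ : opOf q H ≤ Q) :
    H ≤ M ∨ (Nat.card (omegaCenter q Q) = q ∧ ¬ b ∈ centralizer (omegaCenter q Q : Set G) ∧
      IsCyclic (opOf q H) ∧ ∃ W : Subgroup G, SmallLine A Q q b W) := by
  have hq : q.Prime := Fact.out
  have hq2 : q ≠ 2 := minSimple_ne_two hG (by
    have h := dvd_card_fittingOf (t := q) (H := M) fun h0 => by
      obtain ⟨E, hE, -, hE3⟩ := exists_elementary_opOf s.rank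
      rw [h0, le_bot_iff] at hE
      rw [hE, card_bot] at hE3
      exact absurd hE3 (not_le.2 (Nat.one_lt_pow (by omega) hq.one_lt))
    exact h.trans (card_subgroup_dvd_card _))
  set S := opOf q H with hS
  set W := omegaCenter q S with hWdef
  have hSp : IsPGroup q S := isPGroup_opOf q H
  have hAS : A ≤ normalizer (S : Set G) :=
    hAH.trans (CfsgLib.Base.normalizer_le_normalizer_map_subtype H _)
  have hWS : W ≤ S := omegaCenter_le q S
  have hWne : W ≠ ⊥ := omegaCenter_ne_bot hSp hne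
  have hWtop : W ≠ ⊤ := isPGroup_ne_top hG (hSp.to_le hWS)
  have hAW : A ≤ normalizer (W : Set G) := hAS.trans (normalizer_le_normalizer_omegaCenter q S)
  by_cases hr : PRankLE q 2 (centralizer (W : Set G))
  swap
  · exact Or.inl (((le_normalizer_opOf q H).trans (normalizer_le_normalizer_omegaCenter q S)).trans
      (s.normalizer_le hG hWne hWtop hAW hr))
  right
  obtain ⟨hZ, hWZ, hUe, hU2, hmem⟩ := plane_of_small_centralizer s.pgroup s.rankQ (hWS.trans hOQ)
    (isElementaryAbelian_omegaCenter S) hWne hr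
  have hWb : W ≤ centralizer ({b} : Set G) := (hWS.trans (opOf_le q H)).trans hHC
  have hbQ : b ∈ normalizer (Q : Set G) := s.inv hb
  have hbW : b ∈ centralizer (W : Set G) := mem_centralizer_iff.2 fun w hw =>
    mem_centralizer_singleton_iff.1 (hWb hw)
  have hbZ : ¬ b ∈ centralizer (omegaCenter q Q : Set G) := by
    intro hbZ
    refine hbM (big_le hG s.coatom s.rank (minSimple_centralizer_singleton_ne_top hG hb1)
      (not_pRankLE_of_le (le_inf ?_ s.sub) s.rankQ))
    · have h := le_centralizer_of_small_pair hq2 s.pgroup s.rankQ (hWS.trans hOQ)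
        (isElementaryAbelian_omegaCenter S) hWne hr (zpowers_le.2 hbQ)
        (by rwa [Nat.card_zpowers]) (zpowers_le.2 hbZ) (zpowers_le.2 hbW)
      exact fun x hx => mem_centralizer_singleton_iff.2
        (mem_centralizer_iff.1 (h (mem_zpowers b)) x hx)
  set U := omegaCenter q Q ⊔ W with hU
  set V := U ⊓ centralizer ({b} : Set G) with hV
  have hVlt : V < U := lt_of_le_of_ne inf_le_left fun h => hbZ (mem_centralizer_iff.2 fun x hx =>
    mem_centralizer_singleton_iff.1 ((h.ge (mem_sup_left hx : x ∈ U)).2))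
  have hWV : W ≤ V := le_inf le_sup_right hWb
  have hVq : Nat.card V ≤ q := by
    obtain ⟨j, hj⟩ := IsPGroup.iff_card.mp
      ((CfsgLib.Base.isPGroup_of_isElementaryAbelian hUe).to_le hVlt.le)
    have h2 : q ^ j < q ^ 2 := hj ▸ hU2 ▸ CfsgLib.PLocal.card_lt_of_lt hVlt
    rw [hj]
    exact (Nat.pow_le_pow_right hq.pos (Nat.lt_succ_iff.1
      ((Nat.pow_lt_pow_iff_right hq.one_lt).1 h2))).trans (pow_one q).le
  have hWq : Nat.card W = q := by
    obtain ⟨j, hj⟩ := IsPGroup.iff_card.mp (hSp.to_le hWS)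
    refine le_antisymm ((card_le_of_le hWV).trans hVq) ?_
    rw [hj]
    exact Nat.le_self_pow (fun h => hWne (card_eq_one.1 (by rw [hj, h, pow_zero]))) q
  have hVW : W = V := eq_of_le_of_card_ge hWV (hWq ▸ hVq)
  refine ⟨hZ, hbZ, isCyclic_of_omega_le hq2 hSp hWq fun x hx hxq => ?_, W, hWS.trans hOQ, hWb,
    isElementaryAbelian_omegaCenter S, hWq, hr, hAW⟩
  rw [hVW]
  exact ⟨hmem x (hOQ hx) (le_centralizer_iff.1 (omegaCenter_le_centralizer q S) hx) hxq,
    hHC (opOf_le q H hx)⟩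

end

/-- An invariant `r`-subgroup of a group with cyclic Fitting subgroup of order prime to `r` is
centralized by `A`. -/
theorem le_centralizer_of_cyclic_op {A H : Subgroup G} {q r : ℕ} [Fact q.Prime] [Fact r.Prime]
    (hqr : q ≠ r) [Group.IsSolvable H] (hAH : A ≤ normalizer (H : Set G))
    (hprimes : ∀ t : ℕ, t.Prime → t ∣ Nat.card H → t = q ∨ t = r) (hr0 : opOf r H = ⊥)
    (hcyc : IsCyclic (opOf q H)) {T : Subgroup G} (hT : IsPGroup r T) (hTH : T ≤ H)
    (hAT : A ≤ normalizer (T : Set G)) : T ≤ centralizer (A : Set G) := by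
  have hFS : fittingOf H ≤ opOf q H := by
    rw [fittingOf_eq_iSup, iSup_le_iff]
    intro t
    have : Fact (t : ℕ).Prime := ⟨t.2⟩
    by_cases h0 : opOf (t : ℕ) H = ⊥
    · rw [h0]; exact bot_le
    rcases hprimes t t.2 ((dvd_card_fittingOf h0).trans (card_dvd_of_le (fittingOf_le' H))) with h | h
    · rw [h]
    · exact absurd (by rw [h]; exact hr0) h0
  have hn : ∀ x ∈ normalizer (H : Set G), x ∈ normalizer (opOf q H : Set G) := fun x hx =>
    CfsgLib.Base.normalizer_le_normalizer_map_subtype H _ hx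
  rw [← commutator_eq_bot_iff_le_centralizer, eq_bot_iff]
  refine commutator_le.2 fun t ht a ha => ?_
  have h1 : ⁅t, a⁆ ∈ T := by
    rw [commutatorElement_def, mul_assoc, mul_assoc]
    refine T.mul_mem ht ?_
    simpa [mul_assoc] using (mem_normalizer_iff.1 (hAT ha) _).1 (T.inv_mem ht)
  have h2 : ⁅t, a⁆ ∈ opOf q H := hFS (inf_centralizer_fittingOf_le ⟨hTH h1, centralizer_le hFS
    (commutator_mem_centralizer_of_cyclic hcyc (hn t (le_normalizer (hTH ht))) (hn a (hAH ha)))⟩)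
  rw [← disjoint_iff.1 (hT.disjoint_of_ne r q hqr.symm _ _ (isPGroup_opOf q H))]
  exact ⟨h1, h2⟩

theorem coprime_card_of_pGroup {A T : Subgroup G} {p r : ℕ} [Fact p.Prime] [Fact r.Prime]
    (hA : IsPGroup p A) (hT : IsPGroup r T) (h : r ≠ p) : (Nat.card A).Coprime (Nat.card T) := by
  obtain ⟨i, hi⟩ := IsPGroup.iff_card.mp hA
  obtain ⟨j, hj⟩ := IsPGroup.iff_card.mp hT
  rw [hi, hj]
  exact Nat.Coprime.pow i j ((Nat.coprime_primes Fact.out Fact.out).2 h.symm)

/-- An invariant `q`-subgroup `Z = [Z, b]` of `X` centralizes `O_r(X)`, when `O_r(X)` meets a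
small line centralized by `b`. -/
theorem le_centralizer_opOf_of_smallLine (hG : IsMinSimpleOddOrder G) {A : Subgroup G} {q r : ℕ}
    [Fact q.Prime] [Fact r.Prime] (hqr : q ≠ r) {X R : Subgroup G} (s : BigSide A r X R)
    {b : G} (hb : b ∈ A) (hbr : (orderOf b).Coprime r) {W : Subgroup G}
    (hW : SmallLine A R r b W) {Z : Subgroup G} (hZ : Nat.card Z = q) (hZX : Z ≤ X)
    (hAZ : A ≤ normalizer (Z : Set G)) (hbZ : ¬ b ∈ centralizer (Z : Set G)) :
    Z ≤ centralizer (opOf r X : Set G) := by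
  have hr : r.Prime := Fact.out
  have hq : q.Prime := Fact.out
  obtain ⟨hWR, hWb, hWe, hW1, hWC, -⟩ := hW
  set R₀ := opOf r X with hR₀
  have hR₀p : IsPGroup r R₀ := isPGroup_opOf r X
  have hr2 : r ≠ 2 := minSimple_ne_two hG (hW1 ▸ W.card_subgroup_dvd_card)
  have hXN : X ≤ normalizer (R₀ : Set G) := le_normalizer_opOf r X
  have hZgen : ∀ x ∈ Z, x ≠ 1 → zpowers x = Z := fun x hx hx1 => by
    refine eq_of_le_of_card_ge (zpowers_le.2 hx) ?_
    have hord : orderOf x ∣ q := hZ ▸ orderOf_dvd_natCard Z hx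
    rw [hZ, Nat.card_zpowers,
      ((Nat.dvd_prime hq).1 hord).resolve_left fun h => hx1 (orderOf_eq_one_iff.1 h)]
  obtain ⟨z, hz, hz1⟩ : ∃ z ∈ Z, ⁅b⁻¹, z⁻¹⁆ ≠ 1 := by
    by_contra hcon
    push Not at hcon
    refine hbZ (mem_centralizer_iff.2 fun z hz => ?_)
    have h : Commute b⁻¹ z⁻¹ := commutatorElement_eq_one_iff_mul_comm.1 (hcon z hz)
    exact (Commute.inv_inv_iff.1 h).eq.symm
  have hcZ : ⁅b⁻¹, z⁻¹⁆ ∈ Z := by
    rw [commutatorElement_def]
    exact Z.mul_mem ((mem_normalizer_iff.1 (hAZ (A.inv_mem hb)) _).1 (Z.inv_mem hz))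
      (Z.inv_mem (Z.inv_mem hz))
  have hco : (orderOf ⁅b⁻¹, z⁻¹⁆).Coprime r :=
    ((Nat.coprime_primes hq hr).2 hqr).coprime_dvd_left (hZ ▸ orderOf_dvd_natCard Z hcZ)
  have hbX : b ∈ X := s.le hb
  suffices hc : ⁅b⁻¹, z⁻¹⁆ ∈ centralizer (R₀ : Set G) by
    rw [← hZgen _ hcZ hz1]
    exact zpowers_le.2 hc
  by_cases hWR₀ : W ≤ R₀
  · have hXs : Group.IsSolvable X := minSimple_solvable hG s.coatom.1
    have hXodd : Odd (Nat.card X) := (minSimple_odd hG).of_dvd_nat X.card_subgroup_dvd_card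
    refine mem_centralizer_of_narrow (A := X) (a := ⁅(⟨b, hbX⟩ : X)⁻¹, (⟨z, hZX hz⟩ : X)⁻¹⁆)
      hr2 hR₀p hWR₀ hWe ?_ hXN (fun φ => gl2_trivial_of_mem_commutator hr2 hXodd ?_ ?_ φ) ?_
    · exact CfsgLib.Base.pRankLE_of_injective (inclusion inf_le_right)
        (inclusion_injective inf_le_right) hWC
    · exact commutator_mem_commutator (mem_top _) (mem_top _)
    · rw [← orderOf_coe]; exact hco
    · rw [← orderOf_coe]; exact hco
  · obtain ⟨w, hw, hw1⟩ := (bot_or_exists_ne_one W).resolve_left fun h => by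
      rw [h, card_bot] at hW1; exact hr.ne_one hW1.symm
    obtain ⟨D, hDR, hDr, -, hDn, hdet⟩ := exists_detecting hr2 R₀ hR₀p
    obtain ⟨-, -, -, hU2, hmem⟩ := plane_of_small_centralizer s.pgroup s.rankQ hWR hWe
      (fun h => by rw [h, card_bot] at hW1; exact hr.ne_one hW1.symm) hWC
    refine commutator_mem_centralizer_of_fixed_small hr2 hR₀p hDR hDn hdet (w := w)
      ((CfsgLib.Base.isPGroup_of_isElementaryAbelian hWe).to_le (zpowers_le.2 hw))
      (hXN (s.sub (hWR hw))) (hXN hbX) (hXN (hZX hz))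
      (mem_centralizer_singleton_iff.1 (hWb hw)) hbr hco ?_
    have hWgen : zpowers w = W := by
      refine eq_of_le_of_card_ge (zpowers_le.2 hw) ?_
      have hord : orderOf w ∣ r := hW1 ▸ orderOf_dvd_natCard W hw
      rw [hW1, Nat.card_zpowers,
        ((Nat.dvd_prime hr).1 hord).resolve_left fun h => hw1 (orderOf_eq_one_iff.1 h)]
    set U := omegaCenter r R ⊔ W with hU
    have hle : D ⊓ centralizer ({w} : Set G) ≤ U ⊓ R₀ := by
      rintro x ⟨hx, hxC⟩
      refine ⟨hmem x (s.op_le (hDR hx)) (mem_centralizer_iff.2 fun y hy => ?_) (hDr x hx), hDR hx⟩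
      rw [← hWgen] at hy
      obtain ⟨i, rfl⟩ := mem_zpowers_iff.1 hy
      exact (Commute.zpow_left (Commute.symm (mem_centralizer_singleton_iff.1 hxC)) i).eq
    have hlt : U ⊓ R₀ < U :=
      lt_of_le_of_ne inf_le_left fun h => hWR₀ ((le_sup_right.trans h.ge).trans inf_le_right)
    obtain ⟨j, hj⟩ := IsPGroup.iff_card.mp (hR₀p.to_le (inf_le_right : U ⊓ R₀ ≤ R₀))
    have h2 : r ^ j < r ^ 2 := hj ▸ hU2 ▸ CfsgLib.PLocal.card_lt_of_lt hlt
    refine (card_le_of_le hle).trans ?_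
    rw [hj]
    exact (Nat.pow_le_pow_right hr.pos (Nat.lt_succ_iff.1
      ((Nat.pow_lt_pow_iff_right hr.one_lt).1 h2))).trans (pow_one r).le

/-- The fixed points of `b` on the two sides. -/
theorem fixed_le_or_problem (hG : IsMinSimpleOddOrder G) {A : Subgroup G} {p q r : ℕ} [Fact p.Prime]
    [Fact q.Prime] [Fact r.Prime] (hAp : IsPGroup p A) (hAc : IsMulCommutative A)
    (hTH : TransitivityHypothesis A) (hqp : q ≠ p) (hrp : r ≠ p) (hqr : q ≠ r)
    {M Q X R : Subgroup G} (sM : BigSide A q M Q) (sX : BigSide A r X R) {b : G} (hb : b ∈ A)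
    (hb1 : b ≠ 1) (hR : ¬ R ⊓ centralizer ({b} : Set G) ≤ M) :
    Q ⊓ centralizer ({b} : Set G) ≤ X ∨
      (Nat.card (omegaCenter q Q) = q ∧ ¬ b ∈ centralizer (omegaCenter q Q : Set G) ∧
        ∃ R' W : Subgroup G, BigSide A r X R' ∧ SmallLine A R' r b W) := by
  set C := centralizer ({b} : Set G) with hC
  have hCtop : C ≠ ⊤ := minSimple_centralizer_singleton_ne_top hG hb1
  have hAC : A ≤ C := fun a ha => mem_centralizer_singleton_iff.2
    (CfsgLib.Base.isMulCommutative_subgroup_iff.1 hAc a ha b hb)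
  have hbK : coreC A ≤ C := fun k hk => mem_centralizer_singleton_iff.2
    (mem_centralizer_iff.1 (piCoreOf_le _ _ hk) b hb).symm
  have hCM : ¬ C ≤ M := fun h => hR (inf_le_right.trans h)
  set θ := piCoreOf (primesNotDvd (Nat.card A)) C with hθ
  have hAθ : A ≤ normalizer (θ : Set G) := hAC.trans (le_normalizer_piCoreOf _ C)
  have hAθcop : (Nat.card A).Coprime (Nat.card θ) := coprime_primesNotDvd (piCoreOf_primes _ C)
  have hθs : Group.IsSolvable θ :=
    minSimple_solvable hG fun h => hCtop (top_unique (h ▸ piCoreOf_le _ C))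
  have hAs : Group.IsSolvable A := minSimple_solvable hG hTH.2.1
  have hbord : ∀ t : ℕ, t.Prime → t ≠ p → (orderOf b).Coprime t := fun t ht htp => by
    obtain ⟨i, hi⟩ := IsPGroup.iff_card.mp hAp
    exact (((Nat.coprime_primes Fact.out ht).2 htp.symm).pow_left i).coprime_dvd_left
      (hi ▸ orderOf_dvd_natCard A hb)
  have hinθ : ∀ {t : ℕ} [Fact t.Prime], t ≠ p → ∀ {T : Subgroup G}, IsPGroup t T → T ≤ C →
      A ≤ normalizer (T : Set G) → T ≤ θ := fun htp T hT hTC hAT =>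
    th_invSubgroups_le hTH hCtop hAC
      ⟨hTC, primesNotDvd_of_coprime (coprime_card_of_pGroup hAp hT htp), hAT⟩
  have hCn : A ≤ normalizer (C : Set G) := hAC.trans le_normalizer
  set U₀ := Q ⊓ C with hU₀
  have hAU₀ : A ≤ normalizer (U₀ : Set G) := CfsgLib.Coprime.le_normalizer_inf_inf sM.inv hCn
  have hU₀q : IsPGroup q U₀ := sM.pgroup.to_le inf_le_left
  obtain ⟨H, ⟨hHθ, hHprimes, hHidx⟩, hAH, hU₀H⟩ := CfsgLib.Coprime.exists_invariant_piHall_ge
    (π := {t | t = q ∨ t = r}) hAθ hAθcop hθs (hinθ hqp hU₀q inf_le_right hAU₀) hAU₀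
    (fun t ht hd => Or.inl (by
      obtain ⟨i, hi⟩ := IsPGroup.iff_card.mp hU₀q
      exact (Nat.prime_dvd_prime_iff_eq ht Fact.out).1 (ht.dvd_of_dvd_pow (hi ▸ hd))))
  have hHC : H ≤ C := hHθ.trans (piCoreOf_le _ C)
  have hHs : Group.IsSolvable H := Group.isSolvable_of_isSolvable_injective (inclusion_injective hHθ)
  have hAHcop : (Nat.card A).Coprime (Nat.card H) := hAθcop.coprime_dvd_right (card_dvd_of_le hHθ)
  obtain ⟨S, hS⟩ := CfsgLib.Coprime.exists_invariant_sylow (p := r) hAH hAHcop (Or.inl hAs)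
  set Rb := (S : Subgroup H).map H.subtype with hRb
  have hRbH : Rb ≤ H := map_subtype_le _
  have hRbp : IsPGroup r Rb := S.isPGroup'.map _
  obtain ⟨k, hk, hkle⟩ := sX.cover Rb hRbp hS
  set R' := R.map (MulAut.conj k).toMonoidHom with hR'
  have sX' : BigSide A r X R' := sX.conj hk
  -- `Rb` is the whole of `R' ⊓ C`
  have hRbmax : R' ⊓ C ≤ Rb := by
    set T := R' ⊓ C with hT
    have hTp : IsPGroup r T := sX'.pgroup.to_le inf_le_left
    have hTθ : T ≤ θ :=
      hinθ hrp hTp inf_le_right (CfsgLib.Coprime.le_normalizer_inf_inf sX'.inv hCn)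
    refine (eq_of_le_of_card_ge (le_inf hkle (hRbH.trans hHC)) ?_).ge
    have e1 : Nat.card θ = Nat.card Rb * ((S : Subgroup H).index * H.relIndex θ) := by
      rw [← mul_assoc, hRb, CfsgLib.Base.card_map_subtype, (S : Subgroup H).card_mul_index,
        ← CfsgLib.Base.card_subgroupOf hHθ]
      exact ((H.subgroupOf θ).card_mul_index).symm
    obtain ⟨i, hi⟩ := IsPGroup.iff_card.mp hTp
    have hcop : (Nat.card T).Coprime ((S : Subgroup H).index * H.relIndex θ) := by
      rw [hi]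
      refine Nat.Coprime.pow_left i ((Fact.out : r.Prime).coprime_iff_not_dvd.2 fun h => ?_)
      rcases (Fact.out : r.Prime).dvd_mul.1 h with h | h
      · exact S.not_dvd_index h
      · exact hHidx r Fact.out (Or.inr rfl) h
    exact Nat.le_of_dvd Nat.card_pos (hcop.dvd_of_dvd_mul_right (e1 ▸ card_dvd_of_le hTθ))
  have hRbM : ¬ Rb ≤ M := fun h => hR fun x hx => by
    have hkC := hbK hk
    have h1 : k * x * k⁻¹ ∈ R' ⊓ C :=
      ⟨⟨x, hx.1, rfl⟩, C.mul_mem (C.mul_mem hkC hx.2) (C.inv_mem hkC)⟩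
    have h2 := mul_mem (mul_mem (inv_mem (sM.core_le hk)) (h (hRbmax h1))) (sM.core_le hk)
    simpa [mul_assoc] using h2
  -- `Q ⊓ C` is a Sylow `q`-subgroup of `H`
  obtain ⟨S', hU₀S, hS'⟩ :=
    CfsgLib.Coprime.exists_invariant_sylow_ge hAH hAHcop (Or.inl hAs) hU₀H hU₀q hAU₀
  have hS'eq : (S' : Subgroup H).map H.subtype = U₀ := by
    set T := (S' : Subgroup H).map H.subtype with hT
    obtain ⟨k', hk', hle⟩ := sM.cover T (S'.isPGroup'.map _) hS'
    refine (eq_of_le_of_card_ge hU₀S ?_).symm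
    have hle' : T.map (MulAut.conj k'⁻¹).toMonoidHom ≤ U₀ := by
      rintro _ ⟨x, hx, rfl⟩
      refine ⟨?_, C.mul_mem (C.mul_mem (C.inv_mem (hbK hk')) (hHC (map_subtype_le _ hx)))
        (C.inv_mem (C.inv_mem (hbK hk')))⟩
      obtain ⟨y, hy, rfl⟩ := hle hx
      show k'⁻¹ * (k' * y * k'⁻¹) * k'⁻¹⁻¹ ∈ Q
      simpa [mul_assoc] using hy
    exact (card_map_of_injective (f := (MulAut.conj k'⁻¹).toMonoidHom)
      (MulAut.conj k'⁻¹).injective).ge.trans (card_le_of_le hle')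
  have hOQ : opOf q H ≤ U₀ := hS'eq ▸ map_mono (f := H.subtype) (CfsgLib.Base.pCore_le_sylow S')
  have hOR : opOf r H ≤ R' :=
    (map_mono (f := H.subtype) (CfsgLib.Base.pCore_le_sylow S)).trans hkle
  have hprimes : ∀ t : ℕ, t.Prime → t ∣ Nat.card H → t = q ∨ t = r := hHprimes
  have hKmem : ∀ {t : ℕ} [Fact t.Prime], t ≠ p → ∀ {T : Subgroup G}, IsPGroup t T →
      T ≤ centralizer (A : Set G) → T ≤ coreC A := fun htp T hT hTA =>
    th_le_core hG hTH hTA (coprime_card_of_pGroup hAp hT htp)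
  have hHne : H ≠ ⊥ := fun h => hRbM (hRbH.trans (h.le.trans bot_le))
  -- the `q`-side
  have hq1 : opOf q H ≠ ⊥ → Nat.card (omegaCenter q Q) = q ∧
      ¬ b ∈ centralizer (omegaCenter q Q : Set G) ∧ opOf r H ≠ ⊥ := by
    intro hne
    rcases side_dichotomy hG hAc sM hb hb1 (hbord q Fact.out hqp) hCM hAH hHC hne
      (hOQ.trans inf_le_left) with h | ⟨h1, h2, hcyc, -⟩
    · exact absurd (hRbH.trans h) hRbM
    · exact ⟨h1, h2, fun h0 => hRbM ((hKmem hrp hRbp
        (le_centralizer_of_cyclic_op hqr hAH hprimes h0 hcyc hRbp hRbH hS)).trans sM.core_le)⟩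
  have hr1 : opOf r H ≠ ⊥ := by
    intro h0
    by_cases hq0 : opOf q H = ⊥
    · apply hHne
      have hF : fittingOf H ≤ ⊥ := by
        rw [fittingOf_eq_iSup, iSup_le_iff]
        intro t
        have : Fact (t : ℕ).Prime := ⟨t.2⟩
        by_contra hne
        have hne' : opOf (t : ℕ) H ≠ ⊥ := fun h => hne h.le
        rcases hprimes t t.2 ((dvd_card_fittingOf hne').trans (card_dvd_of_le (fittingOf_le' H)))
          with h | h
        · exact hne' (by rw [h]; exact hq0)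
        · exact hne' (by rw [h]; exact h0)
      refine le_bot_iff.1 (le_trans (le_trans (le_inf le_rfl ?_) inf_centralizer_fittingOf_le) hF)
      intro x _
      rw [mem_centralizer_iff]
      intro y hy
      rw [mem_bot.1 (hF hy)]
      simp
    · exact (hq1 hq0).2.2 h0
  -- the `r`-side
  by_cases hCX : C ≤ X
  · exact Or.inl (inf_le_right.trans hCX)
  rcases side_dichotomy hG hAc sX' hb hb1 (hbord r Fact.out hrp) hCX hAH hHC hr1 hOR with
    h | ⟨-, -, hcyc, W, hW⟩
  · exact Or.inl (hU₀H.trans h)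
  by_cases hq0 : opOf q H = ⊥
  · exact Or.inl ((hKmem hqp hU₀q (le_centralizer_of_cyclic_op hqr.symm hAH
      (fun t ht hd => (hprimes t ht hd).symm) hq0 hcyc hU₀q hU₀H hAU₀)).trans sX.core_le)
  obtain ⟨h1, h2, -⟩ := hq1 hq0
  exact Or.inr ⟨h1, h2, R', W, sX', hW⟩

/-- The hyperplanes of an elementary group of order at least `p³` are noncyclic. -/
theorem hyperplane_noncyclic {p : ℕ} [Fact p.Prime] {E B : Subgroup G} (hE : IsElementaryAbelian p E)
    (hE3 : p ^ 3 ≤ Nat.card E) (hBE : B ≤ E) (h : ∃ a ∈ E, B ⊔ zpowers a = E) :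
    IsElementaryAbelian p B ∧ ¬ IsCyclic B := by
  obtain ⟨a, ha, heq⟩ := h
  have hB := CfsgLib.Base.isElementaryAbelian_le hBE hE
  refine ⟨hB, not_isCyclic_of_lt_card hB ?_⟩
  have hp : p.Prime := Fact.out
  have hn : zpowers a ≤ normalizer (B : Set G) := ((zpowers_le.2 ha).trans
    (le_centralizer_iff_isMulCommutative.2 hE.1)).trans
      ((centralizer_le hBE).trans (centralizer_le_normalizer _))
  have h1 : Nat.card E ≤ Nat.card (zpowers a) * Nat.card B := by
    rw [← heq, sup_comm B]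
    exact Nat.le_of_dvd (Nat.mul_pos Nat.card_pos Nat.card_pos) (CfsgLib.Coprime.card_sup_dvd hn)
  have h2 : Nat.card (zpowers a) ≤ p := by
    rw [Nat.card_zpowers]
    exact Nat.le_of_dvd hp.pos
      (orderOf_dvd_of_pow_eq_one ((CfsgLib.Base.isElementaryAbelian_iff.1 hE).2 a ha))
  have h3 : p * (p * p) ≤ p * Nat.card B := by
    calc p * (p * p) = p ^ 3 := by rw [pow_succ, pow_two, mul_comm]
      _ ≤ _ := hE3.trans (h1.trans (Nat.mul_le_mul_right _ h2))
  have h4 : p * p ≤ Nat.card B := Nat.le_of_mul_le_mul_left h3 hp.pos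
  exact lt_of_lt_of_le (lt_mul_of_one_lt_left hp.pos hp.one_lt) h4

/-- Two maximal subgroups of large rank over `A` and `O_{π(A)'}(C(A))` coincide. -/
theorem big_eq (hG : IsMinSimpleOddOrder G) {A E : Subgroup G} {p q r : ℕ} [Fact p.Prime]
    [Fact q.Prime] [Fact r.Prime] (hAp : IsPGroup p A) (hAc : IsMulCommutative A)
    (hTH : TransitivityHypothesis A) (hEA : E ≤ A) (hE : IsElementaryAbelian p E)
    (hE3 : p ^ 3 ≤ Nat.card E) (hqp : q ≠ p) (hrp : r ≠ p)
    {M Q X R : Subgroup G} (sM : BigSide A q M Q) (sX : BigSide A r X R) : X = M := by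
  by_contra hne
  have hEc : IsMulCommutative E := hE.1
  have hqr : q ≠ r := by
    rintro rfl
    exact hne (eq_of_big_of_opOf_le hG sM.coatom sM.rank sX.coatom sX.rank
      (sM.inv_le (isPGroup_opOf q X) (sX.le.trans (le_normalizer_opOf q X))))
  have hQX : ¬ Q ≤ X := fun h => by
    have hle := big_le hG sM.coatom sM.rank sX.coatom.1
      (not_pRankLE_of_le (le_inf h sM.sub) sM.rankQ)
    exact hne (((sX.coatom.le_iff).1 hle).resolve_left sM.coatom.1).symm
  have hRM : ¬ R ≤ M := fun h => by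
    have hle := big_le hG sX.coatom sX.rank sM.coatom.1
      (not_pRankLE_of_le (le_inf h sX.sub) sX.rankQ)
    exact hne (((sM.coatom.le_iff).1 hle).resolve_left sX.coatom.1)
  obtain ⟨B, hBE, hBc, hB⟩ : ∃ B : Subgroup G, B ≤ E ∧ (∃ a ∈ E, B ⊔ zpowers a = E) ∧
      ¬ R ⊓ centralizer (B : Set G) ≤ M := by
    by_contra hcon
    push Not at hcon
    exact hRM (CfsgLib.Coprime.le_of_cyclic_quotient (A := E) (hEA.trans sX.inv)
      (coprime_card_of_pGroup (hAp.to_le hEA) sX.pgroup hrp) hcon)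
  obtain ⟨hBe, hBnc⟩ := hyperplane_noncyclic hE hE3 hBE hBc
  have hBA : B ≤ A := hBE.trans hEA
  have hBc' : IsMulCommutative B := hBe.1
  have hall : ∀ b ∈ B, b ≠ 1 → Q ⊓ centralizer ({b} : Set G) ≤ X ∨
      (Nat.card (omegaCenter q Q) = q ∧ ¬ b ∈ centralizer (omegaCenter q Q : Set G) ∧
        ∃ R' W : Subgroup G, BigSide A r X R' ∧ SmallLine A R' r b W) := fun b hb hb1 =>
    fixed_le_or_problem hG hAp hAc hTH hqp hrp hqr sM sX (hBA hb) hb1 fun h =>
      hB ((inf_le_inf_left R (centralizer_le (Set.singleton_subset_iff.2 hb))).trans h)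
  have hcopQ := coprime_card_of_pGroup (hAp.to_le hBA) sM.pgroup hqp
  apply hQX
  refine CfsgLib.Coprime.le_of_centralizer_le_of_not_isCyclic hBnc (hBA.trans sM.inv) hcopQ
    fun b hb hb1 => ?_
  rcases hall b hb hb1 with h | ⟨hZ, hbZ, R', W, sR', hW⟩
  · exact h
  exfalso
  set Z := omegaCenter q Q with hZdef
  have hZQ : Z ≤ Q := omegaCenter_le q Q
  have hAZ : A ≤ normalizer (Z : Set G) := sM.inv.trans (normalizer_le_normalizer_omegaCenter q Q)
  have hZne : Z ≠ ⊥ := fun h => by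
    rw [h, card_bot] at hZ; exact (Fact.out : q.Prime).ne_one hZ.symm
  obtain ⟨b₁, hb₁, hb₁1, hb₁Z⟩ : ∃ b₁ ∈ B, b₁ ≠ 1 ∧ b₁ ∈ centralizer (Z : Set G) := by
    by_contra hcon
    push Not at hcon
    apply hZne
    refine le_bot_iff.1 (CfsgLib.Coprime.le_of_centralizer_le_of_not_isCyclic hBnc (hBA.trans hAZ)
      (hcopQ.coprime_dvd_right (card_dvd_of_le hZQ)) fun b₁ hb₁ hb₁1 => ?_)
    rintro x ⟨hxZ, hxb⟩
    by_contra hx1
    rw [mem_bot] at hx1
    refine hcon b₁ hb₁ hb₁1 ?_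
    have hgen : zpowers x = Z := by
      refine eq_of_le_of_card_ge (zpowers_le.2 hxZ) ?_
      have hord : orderOf x ∣ q := hZ ▸ orderOf_dvd_natCard Z hxZ
      rw [hZ, Nat.card_zpowers, ((Nat.dvd_prime (Fact.out : q.Prime)).1 hord).resolve_left
        fun h => hx1 (orderOf_eq_one_iff.1 h)]
    rw [mem_centralizer_iff]
    intro y hy
    rw [← hgen] at hy
    obtain ⟨i, rfl⟩ := mem_zpowers_iff.1 hy
    exact (Commute.zpow_left (mem_centralizer_singleton_iff.1 hxb) i).eq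
  have hZb₁ : Z ≤ Q ⊓ centralizer ({b₁} : Set G) := le_inf hZQ fun x hx =>
    mem_centralizer_singleton_iff.2 (mem_centralizer_iff.1 hb₁Z x hx)
  have hZX : Z ≤ X := by
    rcases hall b₁ hb₁ hb₁1 with h | ⟨-, h, -⟩
    · exact hZb₁.trans h
    · exact absurd hb₁Z h
  have hZC : Z ≤ centralizer (opOf r X : Set G) := by
    refine le_centralizer_opOf_of_smallLine hG hqr sR' (hBA hb) ?_ hW hZ hZX hAZ hbZ
    obtain ⟨i, hi⟩ := IsPGroup.iff_card.mp hAp
    exact (((Nat.coprime_primes Fact.out Fact.out).2 hrp.symm).pow_left i).coprime_dvd_left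
      (hi ▸ orderOf_dvd_natCard A (hBA hb))
  obtain ⟨E', hE'X, hE'e, hE'3⟩ := exists_elementary_opOf sX.rank
  have hCZ : centralizer (Z : Set G) ≤ X := big_le hG sX.coatom sX.rank
    (minSimple_centralizer_ne_top hG hZne) (not_pRankLE_of_le_card
      (le_inf (hE'X.trans (le_centralizer_iff.1 hZC)) (hE'X.trans (opOf_le r X))) hE'e hE'3)
  exact hQX ((le_centralizer_iff.1 (omegaCenter_le_centralizer q Q)).trans hCZ)

/-- An element of `Q` outside the centralizer of the plane normalizes it. -/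
theorem exists_normalizing_outside {q : ℕ} [Fact q.Prime] {Q W : Subgroup G} (hQ : IsPGroup q Q)
    (hQ3 : ¬ PRankLE q 2 Q) (hWQ : W ≤ Q) (hWe : IsElementaryAbelian q W) (hW1 : W ≠ ⊥)
    (hC : PRankLE q 2 (centralizer (W : Set G))) :
    ∃ g ∈ Q, g ∈ normalizer ((omegaCenter q Q ⊔ W : Subgroup G) : Set G) ∧
      g ∉ centralizer ((omegaCenter q Q ⊔ W : Subgroup G) : Set G) := by
  obtain ⟨-, -, hUe, -, hmem⟩ := plane_of_small_centralizer hQ hQ3 hWQ hWe hW1 hC
  set U := omegaCenter q Q ⊔ W with hU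
  obtain ⟨hUc, hUq⟩ := CfsgLib.Base.isElementaryAbelian_iff.1 hUe
  set C₀ := Q ⊓ centralizer (U : Set G) with hC₀
  have hUQ : U ≤ Q := sup_le (omegaCenter_le q Q) hWQ
  have hUC : U ≤ C₀ := le_inf hUQ (le_centralizer_iff_isMulCommutative.2 hUe.1)
  have hCW : C₀ ≤ centralizer (W : Set G) := inf_le_right.trans (centralizer_le (le_sup_right : W ≤ U))
  have hlt : C₀ < Q := lt_of_le_of_ne inf_le_left fun h => hQ3
    (CfsgLib.Base.pRankLE_of_injective (inclusion (h.ge.trans hCW)) (inclusion_injective _) hC)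
  have : Group.IsNilpotent Q := hQ.isNilpotent
  have hgrow := lt_inf_normalizer_of_isNilpotent this hlt
  obtain ⟨g, ⟨hgQ, hgN⟩, hgC⟩ := SetLike.exists_of_lt hgrow
  refine ⟨g, hgQ, ?_, fun h => hgC ⟨hgQ, h⟩⟩
  rw [mem_normalizer_iff_map_conj_eq]
  refine eq_of_le_of_card_ge ?_ (card_map_of_injective (MulAut.conj g).injective).ge
  rintro _ ⟨u, hu, rfl⟩
  have h1 : g * u * g⁻¹ ∈ C₀ := (mem_normalizer_iff.1 hgN u).1 (hUC hu)
  exact hmem _ h1.1 (hCW h1) (by rw [← map_pow, hUq u hu, map_one])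

/-- A line central in `Q` cannot lie noncentrally in `S` next to a line `W` central in `S`. -/
theorem false_of_noncentral_line {q : ℕ} [Fact q.Prime]
    {Q S W : Subgroup G} (hQ : IsPGroup q Q) (hQ3 : ¬ PRankLE q 2 Q) (hWQ : W ≤ Q)
    (hS : IsPGroup q S) (hW : W = omegaCenter q S) (hWq : Nat.card W = q)
    (hC : PRankLE q 2 (centralizer (W : Set G))) (hZS : omegaCenter q Q ≤ S) : False := by
  have hWe : IsElementaryAbelian q W := hW ▸ isElementaryAbelian_omegaCenter S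
  have hW1 : W ≠ ⊥ := fun h => by
    rw [h, card_bot] at hWq; exact (Fact.out : q.Prime).ne_one hWq.symm
  obtain ⟨hZq, hWZ, hUe, hU2, hmem⟩ := plane_of_small_centralizer hQ hQ3 hWQ hWe hW1 hC
  obtain ⟨h, hhQ, hhN, hhC⟩ := exists_normalizing_outside hQ hQ3 hWQ hWe hW1 hC
  set Z := omegaCenter q Q with hZ
  set U := Z ⊔ W with hU
  have hWS : W ≤ S := hW ▸ omegaCenter_le q S
  have hSW : S ≤ centralizer (W : Set G) :=
    le_centralizer_iff.1 (hW ▸ omegaCenter_le_centralizer q S)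
  have hZW : Z ≠ W := fun h' => hWZ h'.ge
  set C₁ := S ⊓ centralizer (Z : Set G) with hC₁
  have hlt : C₁ < S := lt_of_le_of_ne inf_le_left fun h' => hZW (by
    refine eq_of_le_of_card_ge (fun z hz => ?_) (hWq.trans hZq.symm).le
    rw [hW]
    refine ⟨hZS hz, mem_centralizer_iff.2 fun s hs => ?_,
      (CfsgLib.Base.isElementaryAbelian_iff.1 (isElementaryAbelian_omegaCenter Q)).2 z hz⟩
    exact (mem_centralizer_iff.1 (h'.ge hs).2 z hz).symm)
  have hgrow := lt_inf_normalizer_of_isNilpotent hS.isNilpotent hlt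
  obtain ⟨g, ⟨hgS, hgN⟩, hgC⟩ := SetLike.exists_of_lt hgrow
  have hUC : U ≤ C₁ := sup_le (le_inf hZS (le_centralizer_iff_isMulCommutative.2
      (isElementaryAbelian_omegaCenter Q).1))
    (le_inf hWS (le_centralizer_iff.1 ((omegaCenter_le_centralizer q Q).trans (centralizer_le hWQ))))
  have hCU : C₁ ≤ centralizer (U : Set G) := by
    rw [le_centralizer_iff]
    exact sup_le (le_centralizer_iff.1 inf_le_right) (le_centralizer_iff.1 (inf_le_left.trans hSW))
  have hgU : g ∈ normalizer (U : Set G) := by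
    rw [mem_normalizer_iff_map_conj_eq]
    set U' := U.map (MulAut.conj g).toMonoidHom with hU'
    have hle : U' ≤ C₁ := by
      rintro _ ⟨u, hu, rfl⟩
      exact (mem_normalizer_iff.1 hgN u).1 (hUC hu)
    have hbig := CfsgLib.Base.pRankLE_subgroup_iff.1 hC (U ⊔ U')
      (sup_le ((hUC.trans inf_le_left).trans hSW) ((hle.trans inf_le_left).trans hSW))
      (CfsgLib.Base.isElementaryAbelian_sup hUe (CfsgLib.Base.isElementaryAbelian_map _ hUe)
        (le_centralizer_iff.1 (hle.trans hCU)))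
    have heq : U ⊔ U' = U := (eq_of_le_of_card_ge le_sup_left (hU2 ▸ hbig)).symm
    exact eq_of_le_of_card_ge (le_sup_right.trans heq.le)
      (card_map_of_injective (MulAut.conj g).injective).ge
  have hgW : g ∈ centralizer (W : Set G) := hSW hgS
  have hgnot : g ∉ centralizer (U : Set G) := fun h' =>
    hgC ⟨hgS, centralizer_le (le_sup_left : Z ≤ U) h'⟩
  have hhZ : h ∈ centralizer (Z : Set G) :=
    le_centralizer_iff.1 (omegaCenter_le_centralizer q Q) hhQ
  obtain ⟨j, hj⟩ := exists_conj_line hUe hU2 le_sup_left le_sup_right hZq hWq hZW hgU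
    (hS.to_le (zpowers_le.2 hgS)) hgW hgnot hhN (hQ.to_le (zpowers_le.2 hhQ)) hhZ hhC
  have hCZ : centralizer (Z : Set G) ≤ (centralizer (W : Set G)).map (MulAut.conj j).toMonoidHom := by
    intro x hx
    refine ⟨j⁻¹ * x * j, mem_centralizer_iff.2 fun w hw => ?_, by simp [mul_assoc]⟩
    have h1 := mem_centralizer_iff.1 hx (j * w * j⁻¹) (hj.le ⟨w, hw, rfl⟩)
    calc w * (j⁻¹ * x * j) = j⁻¹ * (j * w * j⁻¹ * x) * j := by group
      _ = j⁻¹ * (x * (j * w * j⁻¹)) * j := by rw [h1]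
      _ = j⁻¹ * x * j * w := by group
  exact not_pRankLE_of_le ((le_centralizer_iff.1 (omegaCenter_le_centralizer q Q)).trans hCZ) hQ3
    ((CfsgLib.Base.pRankLE_congr ((centralizer (W : Set G)).equivMapOfInjective _
      (MulAut.conj j).injective)).1 hC)

/-- The centralizer of an element fixing a weight line lies in a maximal subgroup of large rank. -/
theorem exists_big_over (hG : IsMinSimpleOddOrder G) {A : Subgroup G} {p q : ℕ} [Fact p.Prime]
    [Fact q.Prime] (hAp : IsPGroup p A) (hAc : IsMulCommutative A)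
    (hTH : TransitivityHypothesis A) (hqp : q ≠ p)
    {M Q : Subgroup G} (hM : IsCoatom M) (hF : ¬ PRankLE q 2 (fittingOf M)) (hQ : IsPGroup q Q)
    (hAQ : A ≤ normalizer (Q : Set G)) (hQ3 : ¬ PRankLE q 2 Q)
    (hcover : ∀ Q' : Subgroup G, IsPGroup q Q' → A ≤ normalizer (Q' : Set G) →
      ∃ k ∈ coreC A, Q' ≤ Q.map (MulAut.conj k).toMonoidHom)
    {V : Subgroup G} (hVQ : V ≤ Q) (hAV : A ≤ normalizer (V : Set G)) (hV : ⁅V, A⁆ = V)
    (hV1 : V ≠ ⊥) (hVq : ∀ v ∈ V, v ^ q = 1)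
    (hcase : A ≤ centralizer (omegaCenter q Q : Set G) ∨ V ≤ omegaCenter q Q)
    {b : G} (hb : b ∈ A) (hb1 : b ≠ 1) (hbV : b ∈ centralizer (V : Set G)) :
    ∃ r : ℕ, r.Prime ∧ ∃ Y : Subgroup G, IsCoatom Y ∧ ¬ PRankLE r 2 (fittingOf Y) ∧
      centralizer ({b} : Set G) ≤ Y := by
  set C := centralizer ({b} : Set G) with hC
  have hCtop : C ≠ ⊤ := minSimple_centralizer_singleton_ne_top hG hb1
  obtain ⟨Y, hY, hCY⟩ := exists_coatom_ge hCtop
  by_cases hsm : RankLE 2 (fittingOf Y)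
  swap
  · simp only [RankLE, not_forall] at hsm
    obtain ⟨r, hr, hrk⟩ := hsm
    exact ⟨r, hr, Y, hY, hrk, hCY⟩
  have hq : q.Prime := Fact.out
  have hq2 : q ≠ 2 := by
    refine minSimple_ne_two hG ?_
    obtain ⟨v, hv, hv1⟩ := (bot_or_exists_ne_one V).resolve_left hV1
    exact orderOf_eq_prime (hVq v hv) hv1 ▸ orderOf_dvd_natCard v
  have hbq : (orderOf b).Coprime q := by
    obtain ⟨i, hi⟩ := IsPGroup.iff_card.mp hAp
    exact (((Nat.coprime_primes Fact.out hq).2 hqp.symm).pow_left i).coprime_dvd_left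
      (hi ▸ orderOf_dvd_natCard A hb)
  have hAC : A ≤ C := fun a ha => mem_centralizer_singleton_iff.2
    (CfsgLib.Base.isMulCommutative_subgroup_iff.1 hAc a ha b hb)
  have hYs : Group.IsSolvable Y := minSimple_solvable hG hY.1
  have hYodd : Odd (Nat.card Y) := (minSimple_odd hG).of_dvd_nat Y.card_subgroup_dvd_card
  have hYF : ⁅Y, Y⁆ ≤ fittingOf Y := by
    have hsm' : RankLE 2 (fittingSubgroup Y) := (CfsgLib.Base.rankLE_congr
      ((fittingSubgroup Y).equivMapOfInjective _ Y.subtype_injective)).2 hsm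
    rw [← map_subtype_commutator]
    exact map_mono (commutator_le_fitting hYodd ((fittingRankTwo_of (Or.inr hsm')).derivedActs hYodd))
  have hVY : V ≤ Y := fun v hv => hCY
    (mem_centralizer_singleton_iff.2 (mem_centralizer_iff.1 hbV v hv))
  have hVp : IsPGroup q V := hQ.to_le hVQ
  set S := opOf q Y with hS
  have hVS : V ≤ S := le_opOf_of_le_fittingOf hVp
    (hV ▸ (commutator_mono hVY (hAC.trans hCY)).trans hYF)
  have hSp : IsPGroup q S := isPGroup_opOf q Y
  have hSne : S ≠ ⊥ := fun h => hV1 (le_bot_iff.1 (h ▸ hVS))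
  have hSF : PRankLE q 2 (fittingOf Y) := hsm q hq
  set W := omegaCenter q S with hWdef
  have hWS : W ≤ S := omegaCenter_le q S
  have hW1 : W ≠ ⊥ := omegaCenter_ne_bot hSp hSne
  have hWtop : W ≠ ⊤ := isPGroup_ne_top hG (hSp.to_le hWS)
  have hYW : Y ≤ normalizer (W : Set G) :=
    (le_normalizer_opOf q Y).trans (normalizer_le_normalizer_omegaCenter q S)
  have hNWY : normalizer (W : Set G) = Y :=
    ((hY.le_iff).1 hYW).resolve_left (minSimple_normalizer_ne_top hG hW1 hWtop)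
  have hWC : PRankLE q 2 (centralizer (W : Set G)) := by
    by_contra h
    obtain ⟨Y', hY', hF', hle⟩ := normalizer_le_big hG hM hF hW1 hWtop h
    have heq := ((hY.le_iff).1 (hYW.trans hle)).resolve_left hY'.1
    exact hF' (heq ▸ hSF)
  have hAY : A ≤ Y := hAC.trans hCY
  obtain ⟨k, hk, hkle⟩ := hcover (V ⊔ W) (hSp.to_le (sup_le hVS hWS))
    (CfsgLib.Coprime.le_normalizer_sup_sup hAV (hAY.trans hYW))
  set Q' := Q.map (MulAut.conj k).toMonoidHom with hQ'
  have hkA : k ∈ centralizer (A : Set G) := piCoreOf_le _ _ hk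
  have hQ'p : IsPGroup q Q' := hQ.map _
  have hQ'3 : ¬ PRankLE q 2 Q' := fun h => hQ3
    ((CfsgLib.Base.pRankLE_congr (Q.equivMapOfInjective _ (MulAut.conj k).injective)).2 h)
  have hAQ' : A ≤ normalizer (Q' : Set G) := le_normalizer_map_conj hAQ hkA
  have hWQ' : W ≤ Q' := le_sup_right.trans hkle
  have hWe : IsElementaryAbelian q W := isElementaryAbelian_omegaCenter S
  obtain ⟨hZq, hWZ, hUe, hU2, hmem⟩ := plane_of_small_centralizer hQ'p hQ'3 hWQ' hWe hW1 hWC
  set Z' := omegaCenter q Q' with hZ'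
  have hZ'eq : Z' = (omegaCenter q Q).map (MulAut.conj k).toMonoidHom := omegaCenter_map Q k
  set U := Z' ⊔ W with hU
  have hfixk : ∀ {a : G} {T : Subgroup G}, a ∈ A → a ∈ centralizer (T : Set G) →
      a ∈ centralizer (T.map (MulAut.conj k).toMonoidHom : Set G) := by
    intro a T ha haT
    rw [mem_centralizer_iff]
    rintro _ ⟨t, ht, rfl⟩
    show k * t * k⁻¹ * a = a * (k * t * k⁻¹)
    have h1 : Commute a k := mem_centralizer_iff.1 hkA a ha
    have h2 : Commute a t := (mem_centralizer_iff.1 haT t ht).symm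
    exact ((h1.mul_right h2).mul_right h1.inv_right).eq.symm
  have hZq' : Nat.card (omegaCenter q Q) = q := by
    rwa [hZ'eq, card_map_of_injective (MulAut.conj k).injective] at hZq
  have hbZ : b ∈ centralizer (Z' : Set G) := by
    rw [hZ'eq]
    rcases hcase with h | h
    · exact hfixk hb (h hb)
    · have heq : V = omegaCenter q Q := by
        obtain ⟨i, hi⟩ := IsPGroup.iff_card.mp hVp
        refine eq_of_le_of_card_ge h ?_
        rw [hZq', hi]
        exact Nat.le_self_pow (fun h0 => hV1 (card_eq_one.1 (by rw [hi, h0, pow_zero]))) q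
      exact hfixk hb (heq ▸ hbV)
  have hVU : V ≤ U := fun v hv => hmem v (hkle (mem_sup_left hv))
    ((le_centralizer_iff.1 (omegaCenter_le_centralizer q S)) (hVS hv)) (hVq v hv)
  by_cases hbU : b ∈ centralizer (U : Set G)
  · have hbQ := le_centralizer_of_small_pair hq2 hQ'p hQ'3 hWQ' hWe hW1 hWC
      (zpowers_le.2 (hAQ' hb)) (by rwa [Nat.card_zpowers])
      (zpowers_le.2 hbZ) (zpowers_le.2 (centralizer_le (le_sup_right : W ≤ U) hbU))
    have hQC : Q' ≤ C := fun x hx =>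
      mem_centralizer_singleton_iff.2 (mem_centralizer_iff.1 (hbQ (mem_zpowers b)) x hx)
    obtain ⟨Y', hY', hF', hle⟩ := exists_big_ge hG hM hF hCtop (not_pRankLE_of_le hQC hQ'3)
    exact ⟨q, hq, Y', hY', hF', hle⟩
  exfalso
  have hVZ : V ≤ Z' := by
    by_contra hVZ
    apply hbU
    have hlt : Z' < Z' ⊔ V := left_lt_sup.2 hVZ
    have hle : Z' ⊔ V ≤ U := sup_le le_sup_left hVU
    have heq : Z' ⊔ V = U := by
      refine eq_of_le_of_card_ge hle ?_
      obtain ⟨i, hi⟩ := IsPGroup.iff_card.mp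
        ((CfsgLib.Base.isPGroup_of_isElementaryAbelian hUe).to_le hle)
      have h2 : q ^ 1 < q ^ i := by
        rw [pow_one, ← hi, ← hZq]; exact CfsgLib.PLocal.card_lt_of_lt hlt
      rw [hU2, hi]
      exact Nat.pow_le_pow_right hq.pos ((Nat.pow_lt_pow_iff_right hq.one_lt).1 h2)
    rw [← heq]
    have h : Z' ⊔ V ≤ centralizer ({b} : Set G) := sup_le
      (fun x hx => mem_centralizer_singleton_iff.2 (mem_centralizer_iff.1 hbZ x hx))
      (fun x hx => mem_centralizer_singleton_iff.2 (mem_centralizer_iff.1 hbV x hx))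
    exact mem_centralizer_iff.2 fun x hx => mem_centralizer_singleton_iff.1 (h hx)
  have hVeq : V = Z' := by
    obtain ⟨i, hi⟩ := IsPGroup.iff_card.mp hVp
    refine eq_of_le_of_card_ge hVZ ?_
    rw [hZq, hi]
    exact Nat.le_self_pow (fun h0 => hV1 (card_eq_one.1 (by rw [hi, h0, pow_zero]))) q
  obtain ⟨i, hi⟩ := IsPGroup.iff_card.mp (hSp.to_le hWS)
  have hi0 : i ≠ 0 := fun h0 => hW1 (card_eq_one.1 (by rw [hi, h0, pow_zero]))
  by_cases hWq : Nat.card W = q
  · exact false_of_noncentral_line hQ'p hQ'3 hWQ' hSp rfl hWq hWC (hVeq.ge.trans hVS)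
  · have hWU : W = U := by
      refine eq_of_le_of_card_ge le_sup_right ?_
      rw [hU2, hi]
      refine Nat.pow_le_pow_right hq.pos (le_of_not_gt fun h => hWq ?_)
      rw [hi, show i = 1 by omega, pow_one]
    obtain ⟨g, hgQ, hgN, hgC⟩ := exists_normalizing_outside hQ'p hQ'3 hWQ' hWe hW1 hWC
    have hgY : g ∈ Y := hNWY ▸ (hWU.symm ▸ hgN)
    have hbY : b ∈ Y := hAY hb
    have hFW : fittingOf Y ≤ centralizer (W : Set G) := by
      rw [fittingOf_eq_iSup, iSup_le_iff]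
      intro t
      have : Fact (t : ℕ).Prime := ⟨t.2⟩
      by_cases ht : (t : ℕ) = q
      · rw [ht]
        exact le_centralizer_iff.1 (omegaCenter_le_centralizer q S)
      · exact (opOf_le_centralizer (Ne.symm ht) Y).trans (centralizer_le hWS)
    have hcomm : ⁅b, g⁆ ∈ centralizer (U : Set G) :=
      hWU ▸ hFW (hYF (commutator_mem_commutator hbY hgY))
    have hbN : b ∈ normalizer (U : Set G) := hWU ▸ hYW hbY
    have hgZ : g ∈ centralizer (Z' : Set G) :=
      le_centralizer_iff.1 (omegaCenter_le_centralizer q Q') hgQ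
    exact hbU (mem_centralizer_of_transvection hUe hU2 le_sup_left hZq hgN
      (hQ'p.to_le (zpowers_le.2 hgQ)) hgZ hgC hbN hbZ hbq hcomm)

/-- **The uniqueness theorem for `SCN₃`-subgroups.** -/
theorem inUniqueMaximal_scn (hG : IsMinSimpleOddOrder G) {p : ℕ} [Fact p.Prime] (P : Sylow p G)
    {A : Subgroup G} (hA : IsSCN (P : Subgroup G) A) (hA3 : ¬ PRankLE p 2 A) :
    InUniqueMaximal A := by
  by_contra hAU
  have hp : p.Prime := Fact.out
  have hAp : IsPGroup p A := P.isPGroup'.to_le hA.1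
  have hAc := scn_comm hA
  have hsmallp : ∀ Y : Subgroup G, IsCoatom Y → PRankLE p 2 (fittingOf Y) := fun Y hY => by
    by_contra h
    exact hAU (inUniqueMaximal_of_fitting_rank_abelian hG hY h hAp hA3)
  obtain ⟨E, hEA, hE, hE3⟩ := exists_elementary_pow_le hA3
  have hE1 : p < Nat.card E := lt_of_lt_of_le
    (by simpa using Nat.pow_lt_pow_right hp.one_lt (show 1 < 3 by omega)) hE3
  have hEc : IsMulCommutative E := hE.1
  have hpA : p ∣ Nat.card A := by
    obtain ⟨n, hn⟩ := CfsgLib.Base.exists_card_eq_pow_of_isElementaryAbelian hE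
    rcases n with _ | n
    · rw [hn, pow_zero] at hE1; exact absurd hE1 (not_lt.2 hp.one_lt.le)
    · exact (dvd_pow_self p n.succ_ne_zero).trans (hn ▸ card_dvd_of_le hEA)
  have hpG : p ∣ Nat.card G := hpA.trans A.card_subgroup_dvd_card
  have hp2 : p ≠ 2 := minSimple_ne_two hG hpG
  have hA1 : ¬ PRankLE p 1 A := fun h => hA3 (CfsgLib.Base.pRankLE_mono hp.pos one_le_two h)
  have hTH : TransitivityHypothesis A :=
    Cfsg.Agent.S1396.result hG p hpG A hAp hAc (Or.inr ⟨P, hA, hA1⟩)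
  have hZ := not_rankLE_two_center hAc hA3
  have hqA : ∀ q : ℕ, q.Prime → q ≠ p → ¬ q ∣ Nat.card A := fun q hq hqp h => by
    obtain ⟨i, hi⟩ := IsPGroup.iff_card.mp hAp
    exact hqp ((Nat.prime_dvd_prime_iff_eq hq hp).1 (hq.dvd_of_dvd_pow (hi ▸ h)))
  -- a maximal subgroup of large rank over `A`
  obtain ⟨M, hM, hAM, q, hq, hF⟩ : ∃ M : Subgroup G, IsCoatom M ∧ A ≤ M ∧
      ∃ q : ℕ, q.Prime ∧ ¬ PRankLE q 2 (fittingOf M) := by
    set ZJ := centerThompsonOf p (P : Subgroup G) with hZJ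
    have hPne : (P : Subgroup G) ≠ ⊥ := fun h => hTH.1 (le_bot_iff.1 (h ▸ hA.1))
    have hJle : thompsonSubgroupOf p (P : Subgroup G) ≤ P := map_subtype_le _
    have hZne : ZJ ≠ ⊥ := CfsgLib.Transfer.inf_centralizer_ne_bot (p := p)
      (P.isPGroup'.to_le hJle) (CfsgLib.Transfer.thompsonSubgroupOf_ne_bot P.isPGroup' hPne)
    have hNtop : normalizer (ZJ : Set G) ≠ ⊤ := minSimple_normalizer_ne_top hG hZne
      (isPGroup_ne_top hG (P.isPGroup'.to_le (inf_le_left.trans hJle)))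
    have hPN : (P : Subgroup G) ≤ normalizer (ZJ : Set G) :=
      le_normalizer.trans (normalizer_le_normalizer_centerThompsonOf p (P : Subgroup G))
    obtain ⟨M, hM, hNM⟩ := exists_coatom_ge hNtop
    refine ⟨M, hM, (hA.1.trans hPN).trans hNM, ?_⟩
    by_contra hcon
    push Not at hcon
    have hperf : commutator G = ⊤ := by
      have := minSimple_isSimple hG
      refine (IsSimpleGroup.eq_bot_or_eq_top_of_normal (commutator G) inferInstance).resolve_left
        fun h => hG.2.2.1 ⟨⟨fun a b => ?_⟩⟩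
      rw [← commutatorElement_eq_one_iff_mul_comm, ← mem_bot, ← h]
      exact commutator_mem_commutator (mem_top a) (mem_top b)
    have hfoc := CfsgLib.Transfer.commutator_inf_eq_of_fusion P hPN fun x hx g hgx => by
      obtain ⟨n, hn, hfus⟩ := CfsgLib.Transfer.controlsFusion_centerThompsonOf hp2
        (InvolvesSL2.not_of_odd hp2 (minSimple_odd hG)) P {x} (Set.singleton_subset_iff.2 hx) g⁻¹
        (fun a ha => by rw [Set.mem_singleton_iff.1 ha, inv_inv]; exact hgx)
      have h1 := hfus x rfl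
      rw [inv_inv] at h1
      exact ⟨n⁻¹, inv_mem hn, by rw [inv_inv]; exact h1⟩
    rw [hperf, top_inf_eq] at hfoc
    have hPM : (P : Subgroup G) ≤ ⁅M, M⁆ :=
      (hfoc.le.trans inf_le_left).trans (commutator_mono hNM hNM)
    have hMs : Group.IsSolvable M := minSimple_solvable hG hM.1
    have hModd : Odd (Nat.card M) := (minSimple_odd hG).of_dvd_nat M.card_subgroup_dvd_card
    have hsm : RankLE 2 (fittingSubgroup M) := (CfsgLib.Base.rankLE_congr
      ((fittingSubgroup M).equivMapOfInjective _ M.subtype_injective)).2 fun r hr => hcon r hr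
    have hMF : ⁅M, M⁆ ≤ fittingOf M := by
      rw [← map_subtype_commutator]
      exact map_mono (commutator_le_fitting hModd ((fittingRankTwo_of (Or.inr hsm)).derivedActs hModd))
    exact not_pRankLE_of_le ((hA.1.trans hPM).trans hMF) hA3 (hsmallp M hM)
  have : Fact q.Prime := ⟨hq⟩
  have hqp : q ≠ p := by
    rintro rfl
    exact hF (hsmallp M hM)
  obtain ⟨Q, hQ, hAQ, hQM, hOQ, hQ3, hcover⟩ :=
    exists_big_invariant hG hTH hZ (hqA q hq hqp) hM hF hAM
  have hq2 : q ≠ 2 := by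
    refine minSimple_ne_two hG ?_
    obtain ⟨E', hE', hEe', hE'3⟩ := exists_elementary_pow_le hQ3
    obtain ⟨n, hn⟩ := CfsgLib.Base.exists_card_eq_pow_of_isElementaryAbelian hEe'
    rcases n with _ | n
    · rw [hn, pow_zero] at hE'3
      exact absurd hE'3 (not_le.2 (Nat.one_lt_pow (by omega) hq.one_lt))
    · exact (dvd_pow_self q n.succ_ne_zero).trans (hn ▸ E'.card_subgroup_dvd_card)
  -- `A` does not centralize `Q`
  have hQA : ¬ Q ≤ centralizer (A : Set G) := by
    intro h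
    obtain ⟨E', hE', hEe', hE'3⟩ := exists_elementary_pow_le hQ3
    exact hAU (inUniqueMaximal_of_le_centralizer hG
      (inUniqueMaximal_of_fitting_rank hG hM hF hEe' hE'3)
      ((le_centralizer_iff.1 h).trans (centralizer_le hE')) hA1)
  obtain ⟨X₀, hX₀Q, hAX₀, hX₀A, hX₀case⟩ : ∃ X₀ : Subgroup G, X₀ ≤ Q ∧
      A ≤ normalizer (X₀ : Set G) ∧ ¬ X₀ ≤ centralizer (A : Set G) ∧
      (A ≤ centralizer (omegaCenter q Q : Set G) ∨ X₀ ≤ omegaCenter q Q) := by
    by_cases h : A ≤ centralizer (omegaCenter q Q : Set G)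
    · exact ⟨Q, le_rfl, hAQ, hQA, Or.inl h⟩
    · exact ⟨_, omegaCenter_le q Q, hAQ.trans (normalizer_le_normalizer_omegaCenter q Q),
        fun h' => h (le_centralizer_iff.1 h'), Or.inr le_rfl⟩
  obtain ⟨B, hBE, hBc, hBX⟩ : ∃ B : Subgroup G, B ≤ E ∧ (∃ a ∈ E, B ⊔ zpowers a = E) ∧
      ¬ X₀ ⊓ centralizer (B : Set G) ≤ centralizer (A : Set G) := by
    by_contra hcon
    push Not at hcon
    exact hX₀A (CfsgLib.Coprime.le_of_cyclic_quotient (A := E) (hEA.trans hAX₀)
      (coprime_card_of_pGroup (hAp.to_le hEA) (hQ.to_le hX₀Q) hqp) hcon)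
  obtain ⟨hBe, hBnc⟩ := hyperplane_noncyclic hE hE3 hBE hBc
  have hBA : B ≤ A := hBE.trans hEA
  have hAB : A ≤ centralizer (B : Set G) :=
    (le_centralizer_iff_isMulCommutative.2 hAc).trans (centralizer_le hBA)
  set X₁ := X₀ ⊓ centralizer (B : Set G) with hX₁
  have hX₁p : IsPGroup q X₁ := hQ.to_le (inf_le_left.trans hX₀Q)
  have hAX₁ : A ≤ normalizer (X₁ : Set G) :=
    CfsgLib.Coprime.le_normalizer_inf_inf hAX₀ (hAB.trans le_normalizer)
  obtain ⟨D, hDX, hDq, -, hDn, hdet⟩ := exists_detecting hq2 X₁ hX₁p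
  have hcopD : (Nat.card A).Coprime (Nat.card D) :=
    coprime_card_of_pGroup hAp (hX₁p.to_le hDX) hqp
  have hAD : A ≤ normalizer (D : Set G) := hAX₁.trans hDn
  have hAs : Group.IsSolvable A := minSimple_solvable hG hTH.2.1
  set V := ⁅D, A⁆ with hVdef
  have hVD : V ≤ D := CfsgLib.Coprime.commutator_le_of_le_normalizer hAD
  have hVV : ⁅V, A⁆ = V := CfsgLib.Coprime.commutator_commutator_eq hAD hcopD (Or.inl hAs)
  have hV1 : V ≠ ⊥ := by
    intro h
    refine hBX (le_centralizer_iff.1 fun a ha => hdet a (hAX₁ ha) ?_ ?_)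
    · obtain ⟨i, hi⟩ := IsPGroup.iff_card.mp hAp
      exact (((Nat.coprime_primes hp hq).2 hqp.symm).pow_left i).coprime_dvd_left
        (hi ▸ orderOf_dvd_natCard A ha)
    · exact le_centralizer_iff.1 (commutator_eq_bot_iff_le_centralizer.1 h) ha
  have hVQ : V ≤ Q := (hVD.trans hDX).trans (inf_le_left.trans hX₀Q)
  have hAV : A ≤ normalizer (V : Set G) := le_normalizer_commutator hAD le_normalizer
  have hcaseV : A ≤ centralizer (omegaCenter q Q : Set G) ∨ V ≤ omegaCenter q Q :=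
    hX₀case.imp id fun h => (hVD.trans hDX).trans (inf_le_left.trans h)
  have hover : ∀ b ∈ B, b ≠ 1 → ∃ r : ℕ, r.Prime ∧ ∃ Y : Subgroup G, IsCoatom Y ∧
      ¬ PRankLE r 2 (fittingOf Y) ∧ centralizer ({b} : Set G) ≤ Y := fun b hb hb1 =>
    exists_big_over hG hAp hAc hTH hqp hM hF hQ hAQ hQ3 hcover hVQ hAV hVV hV1
      (fun v hv => hDq v (hVD hv)) hcaseV (hBA hb) hb1
      (le_centralizer_iff.1 ((hVD.trans hDX).trans inf_le_right) hb)
  have hside : ∀ b ∈ B, b ≠ 1 → ∀ Y : Subgroup G, centralizer ({b} : Set G) ≤ Y →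
      A ≤ Y ∧ coreC A ≤ Y := fun b hb _ Y hY =>
    ⟨fun a ha => hY (mem_centralizer_singleton_iff.2
        (CfsgLib.Base.isMulCommutative_subgroup_iff.1 hAc a ha b (hBA hb))),
      fun k hk => hY (mem_centralizer_singleton_iff.2
        (mem_centralizer_iff.1 (piCoreOf_le _ _ hk) b (hBA hb)).symm)⟩
  obtain ⟨b₀, hb₀, hb₀1⟩ := (bot_or_exists_ne_one B).resolve_left fun h =>
    hBnc (h ▸ inferInstance)
  obtain ⟨r₀, hr₀, Y₀, hY₀, hF₀, hC₀⟩ := hover b₀ hb₀ hb₀1
  have : Fact r₀.Prime := ⟨hr₀⟩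
  have hr₀p : r₀ ≠ p := by
    rintro rfl
    exact hF₀ (hsmallp Y₀ hY₀)
  obtain ⟨Q₀, s₀⟩ := exists_bigSide hG hTH hZ (hqA r₀ hr₀ hr₀p) hY₀ hF₀
    (hside b₀ hb₀ hb₀1 Y₀ hC₀).1 (hside b₀ hb₀ hb₀1 Y₀ hC₀).2
  have hall : ∀ b ∈ B, b ≠ 1 → centralizer ({b} : Set G) ≤ Y₀ := by
    intro b hb hb1
    obtain ⟨r, hr, Y, hY, hFY, hCY⟩ := hover b hb hb1
    have : Fact r.Prime := ⟨hr⟩
    have hrp : r ≠ p := by
      rintro rfl
      exact hFY (hsmallp Y hY)
    obtain ⟨R, s⟩ := exists_bigSide hG hTH hZ (hqA r hr hrp) hY hFY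
      (hside b hb hb1 Y hCY).1 (hside b hb hb1 Y hCY).2
    exact (big_eq hG hAp hAc hTH hEA hE hE3 hr₀p hrp s₀ s) ▸ hCY
  have hBY : B ≤ Y₀ := hBA.trans s₀.le
  have hBU : InUniqueMaximal B := inUniqueMaximal_iff.2 ⟨Y₀, hY₀, hBY,
    unique_of_centralizer_le hG hpG hY₀ hBY (CfsgLib.Base.isPGroup_of_isElementaryAbelian hBe)
      hBe.1 hBnc hall⟩
  exact hAU (inUniqueMaximal_mono hBU hBA (isPGroup_ne_top hG hAp))

end CfsgLib.OddOrder
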