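import Mathlib

/-!
Weight projections for a finite commutative group acting on a vector space over an
algebraically closed field, and their interaction with an operator of prime order.
-/

set_option autoImplicit false

namespace CfsgLib.OddOrder.Weights

open Finset

variable {K : Type*} [Field K] [IsAlgClosed K] {W : Type*} [AddCommGroup W] [Module K W]
  {A : Type*} [CommGroup A] [Finite A] (σ : A →* Module.End K W)

/-- The projection on the weight space of `χ`. -/
noncomputable def wproj (χ : A →* Kˣ) : Module.End K W :=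
  have := Fintype.ofFinite A
  (Nat.card A : K)⁻¹ • ∑ a : A, ((χ a⁻¹ : Kˣ) : K) • σ a

/-- The action of an automorphism on weights. -/
def twist (φ : MulAut A) (χ : A →* Kˣ) : A →* Kˣ := χ.comp φ.symm.toMonoidHom

omit [IsAlgClosed K] [Finite A] in
@[simp] theorem twist_apply (φ : MulAut A) (χ : A →* Kˣ) (a : A) :
    twist φ χ a = χ (φ.symm a) := rfl

omit [IsAlgClosed K] [Finite A] in
theorem twist_iterate (φ : MulAut A) (χ : A →* Kˣ) (i : ℕ) :
    (twist φ)^[i] χ = twist (φ ^ i) χ := by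
  induction i with
  | zero => ext a; rfl
  | succ i ih =>
    rw [Function.iterate_succ_apply', ih]
    ext a
    show ((χ ((φ ^ i).symm (φ.symm a)) : Kˣ) : K) = ((χ ((φ ^ (i + 1)).symm a) : Kˣ) : K)
    rw [pow_succ']
    rfl

omit [IsAlgClosed K] in
theorem apply_mul_wproj (χ : A →* Kˣ) (a : A) :
    σ a * wproj σ χ = ((χ a : Kˣ) : K) • wproj σ χ := by
  let _ := Fintype.ofFinite A
  simp only [wproj, mul_smul_comm, Finset.mul_sum, smul_comm ((χ a : Kˣ) : K), Finset.smul_sum,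
    smul_smul, ← map_mul]
  refine Fintype.sum_equiv (Equiv.mulLeft a) _ _ fun b => ?_
  simp only [Equiv.coe_mulLeft, mul_inv_rev, map_mul, map_inv, Units.val_mul]
  have : ((χ a : Kˣ) : K) * ((χ a)⁻¹ : Kˣ) = 1 := Units.mul_inv _
  congr 1
  linear_combination (-((Nat.card A : K)⁻¹ * (((χ b)⁻¹ : Kˣ) : K))) * this

omit [IsAlgClosed K] in
theorem commute_apply_wproj (χ : A →* Kˣ) (a : A) : Commute (σ a) (wproj σ χ) := by
  let _ := Fintype.ofFinite A
  exact ((Commute.sum_right _ _ _ fun b _ => ((Commute.all a b).map σ).smul_right _)).smul_right _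

omit [IsAlgClosed K] in
theorem wproj_mul_self (hA : (Nat.card A : K) ≠ 0) (χ : A →* Kˣ) :
    wproj σ χ * wproj σ χ = wproj σ χ := by
  let _ := Fintype.ofFinite A
  nth_rewrite 1 [wproj]
  rw [smul_mul_assoc, Finset.sum_mul]
  simp only [smul_mul_assoc, apply_mul_wproj, smul_smul, map_inv, Units.inv_mul, one_smul,
    Finset.sum_const, Finset.card_univ, ← Nat.card_eq_fintype_card,
    ← Nat.cast_smul_eq_nsmul K, inv_mul_cancel₀ hA]

omit [IsAlgClosed K] in
theorem wproj_mul_of_ne {χ ψ : A →* Kˣ} (h : χ ≠ ψ) : wproj σ χ * wproj σ ψ = 0 := by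
  obtain ⟨a, ha⟩ : ∃ a, χ a ≠ ψ a := by
    by_contra hc
    push Not at hc
    exact h (MonoidHom.ext hc)
  have h1 : σ a * (wproj σ χ * wproj σ ψ) = ((χ a : Kˣ) : K) • (wproj σ χ * wproj σ ψ) := by
    rw [← mul_assoc, apply_mul_wproj, smul_mul_assoc]
  have h2 : σ a * (wproj σ χ * wproj σ ψ) = ((ψ a : Kˣ) : K) • (wproj σ χ * wproj σ ψ) := by
    rw [← mul_assoc, (commute_apply_wproj σ χ a).eq, mul_assoc, apply_mul_wproj, mul_smul_comm]
  have h3 : (((χ a : Kˣ) : K) - ((ψ a : Kˣ) : K)) • (wproj σ χ * wproj σ ψ) = 0 := by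
    rw [sub_smul, ← h1, ← h2, sub_self]
  exact (smul_eq_zero.1 h3).resolve_left (sub_ne_zero.2 fun e => ha (Units.ext e))

instance finite_weights : Finite (A →* Kˣ) := by
  have h : NeZero (Monoid.exponent A) := ⟨Monoid.exponent_ne_zero_of_finite⟩
  refine Finite.of_injective (β := A → rootsOfUnity (Monoid.exponent A) K)
    (fun χ a => ⟨χ a, by rw [mem_rootsOfUnity, ← map_pow, Monoid.pow_exponent_eq_one, map_one]⟩) ?_
  intro χ ψ e
  exact MonoidHom.ext fun a => congrArg Subtype.val (congrFun e a)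

theorem sum_wproj [Fintype (A →* Kˣ)] (hA : (Nat.card A : K) ≠ 0) :
    ∑ χ : A →* Kˣ, wproj σ χ = 1 := by
  classical
  let _ := Fintype.ofFinite A
  have hexp : NeZero (Monoid.exponent A : K) := by
    refine ⟨fun h => hA ?_⟩
    obtain ⟨c, hc⟩ := Group.exponent_dvd_nat_card (G := A)
    rw [hc, Nat.cast_mul, h, zero_mul]
  have hcol : ∀ a : A, ∑ χ : A →* Kˣ, ((χ a⁻¹ : Kˣ) : K) =
      if a = 1 then (Nat.card A : K) else 0 := by
    intro a
    split_ifs with ha
    · subst ha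
      simp [← Nat.card_eq_fintype_card, CommGroup.card_monoidHom_of_hasEnoughRootsOfUnity]
    · obtain ⟨θ, hθ⟩ := CommGroup.exists_apply_ne_one_of_hasEnoughRootsOfUnity A K
        (inv_ne_one.2 ha)
      have h : ((θ a⁻¹ : Kˣ) : K) * ∑ χ : A →* Kˣ, ((χ a⁻¹ : Kˣ) : K) =
          ∑ χ : A →* Kˣ, ((χ a⁻¹ : Kˣ) : K) := by
        rw [Finset.mul_sum]
        exact Fintype.sum_equiv (Equiv.mulLeft θ) _ _ fun χ => by simp
      exact (mul_left_eq_self₀.1 h).resolve_left fun e => hθ (Units.ext e)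
  simp only [wproj, ← Finset.smul_sum]
  rw [Finset.sum_comm]
  simp only [← Finset.sum_smul, hcol, ite_smul, zero_smul, Finset.sum_ite_eq', Finset.mem_univ,
    if_true, map_one, smul_smul, inv_mul_cancel₀ hA, one_smul]

variable {σ}

omit [IsAlgClosed K] in
theorem mul_wproj {ν : Module.End K W} {φ : MulAut A} (hν : ∀ a, ν * σ a = σ (φ a) * ν)
    (χ : A →* Kˣ) : ν * wproj σ χ = wproj σ (twist φ χ) * ν := by
  let _ := Fintype.ofFinite A
  simp only [wproj, mul_smul_comm, smul_mul_assoc, Finset.mul_sum, Finset.sum_mul, hν]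
  congr 1
  refine Fintype.sum_equiv φ.toEquiv _ _ fun a => ?_
  simp only [twist_apply, MulEquiv.toEquiv_eq_coe, EquivLike.coe_coe, map_inv,
    MulEquiv.symm_apply_apply]

omit [IsAlgClosed K] in
theorem pow_mul_wproj {ν : Module.End K W} {φ : MulAut A} (hν : ∀ a, ν * σ a = σ (φ a) * ν)
    (χ : A →* Kˣ) (i : ℕ) : ν ^ i * wproj σ χ = wproj σ ((twist φ)^[i] χ) * ν ^ i := by
  induction i with
  | zero => simp
  | succ i ih =>
    rw [pow_succ', mul_assoc, ih, ← mul_assoc, mul_wproj hν, mul_assoc,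
      Function.iterate_succ_apply']

omit [IsAlgClosed K] [Finite A] in
theorem twist_iterate_ne {φ : MulAut A} {r : ℕ} (hr : r.Prime) (hφ : φ ^ r = 1) {χ : A →* Kˣ}
    (hχ : twist φ χ ≠ χ) {i : ℕ} (hi : i < r) (hi0 : i ≠ 0) : (twist φ)^[i] χ ≠ χ := by
  intro h
  have h1 : Function.IsPeriodicPt (twist φ) r χ := by
    show (twist φ)^[r] χ = χ
    rw [twist_iterate, hφ]
    ext a
    rfl
  have h2 := Function.IsPeriodicPt.gcd h1 h
  rw [(hr.coprime_iff_not_dvd.2 (Nat.not_dvd_of_pos_of_lt (Nat.pos_of_ne_zero hi0) hi))] at h2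
  exact hχ h2

section Norm

variable {ν : Module.End K W} {φ : MulAut A} (hν : ∀ a, ν * σ a = σ (φ a) * ν) {r : ℕ}
  (hr : r.Prime) (hφ : φ ^ r = 1) (hA : (Nat.card A : K) ≠ 0)

omit [IsAlgClosed K] in
include hν hr hφ hA in
/-- A weight space not fixed by `φ` is recovered from the norm. -/
theorem wproj_norm_wproj {χ : A →* Kˣ} (hχ : twist φ χ ≠ χ) :
    wproj σ χ * (∑ i ∈ range r, ν ^ i) * wproj σ χ = wproj σ χ := by
  rw [mul_assoc, Finset.sum_mul, Finset.mul_sum]
  rw [Finset.sum_eq_single_of_mem 0 (Finset.mem_range.2 hr.pos)]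
  · simp [wproj_mul_self σ hA]
  · intro i hi hi0
    rw [pow_mul_wproj hν, ← mul_assoc,
      wproj_mul_of_ne σ (twist_iterate_ne hr hφ hχ (Finset.mem_range.1 hi) hi0).symm, zero_mul]

omit [IsAlgClosed K] in
include hν in
theorem wproj_norm_wproj_of_ne {χ ψ : A →* Kˣ} (h : ∀ i < r, (twist φ)^[i] χ ≠ ψ) :
    wproj σ ψ * (∑ i ∈ range r, ν ^ i) * wproj σ χ = 0 := by
  rw [mul_assoc, Finset.sum_mul, Finset.mul_sum]
  refine Finset.sum_eq_zero fun i hi => ?_
  rw [pow_mul_wproj hν, ← mul_assoc, wproj_mul_of_ne σ (h i (Finset.mem_range.1 hi)).symm,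
    zero_mul]

include hν hr hφ hA in
/-- If the norm of `ν` vanishes, then `φ` does not move the action of `A`. -/
theorem apply_eq_of_norm_eq_zero (hN : ∑ i ∈ range r, ν ^ i = 0) (a : A) : σ (φ a) = σ a := by
  have := Fintype.ofFinite (A →* Kˣ)
  conv_lhs => rw [← mul_one (σ (φ a)), ← sum_wproj σ hA, Finset.mul_sum]
  conv_rhs => rw [← mul_one (σ a), ← sum_wproj σ hA, Finset.mul_sum]
  refine Finset.sum_congr rfl fun χ _ => ?_
  by_cases hχ : twist φ χ = χ
  · rw [apply_mul_wproj, apply_mul_wproj]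
    have : χ (φ a) = χ a := by
      conv_lhs => rw [← hχ]
      rw [twist_apply, MulEquiv.symm_apply_apply]
    rw [this]
  · have h : wproj σ χ = 0 := by
      rw [← wproj_norm_wproj hν hr hφ hA hχ, hN, mul_zero, zero_mul]
    rw [h, mul_zero, mul_zero]

omit [IsAlgClosed K] in
include hν hr hφ hA in
/-- If the fixed space is at most a line, so is every weight space moved by `φ`. -/
theorem wproj_mem_line {a₀ : W} (hC : ∀ w, (∑ i ∈ range r, ν ^ i) w ∈ K ∙ a₀) {χ : A →* Kˣ}
    (hχ : twist φ χ ≠ χ) (w : W) : wproj σ χ w ∈ K ∙ wproj σ χ a₀ := by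
  obtain ⟨c, hc⟩ := Submodule.mem_span_singleton.1 (hC (wproj σ χ w))
  have e := LinearMap.congr_fun (wproj_norm_wproj hν hr hφ hA hχ) w
  rw [Module.End.mul_apply, Module.End.mul_apply, ← hc, map_smul] at e
  rw [← e]
  exact Submodule.smul_mem _ _ (Submodule.mem_span_singleton_self _)

omit [IsAlgClosed K] in
include hν hr hφ hA in
/-- If the fixed space is at most a line, the moved weights form one orbit. -/
theorem exists_iterate_eq {a₀ : W} (hC : ∀ w, (∑ i ∈ range r, ν ^ i) w ∈ K ∙ a₀)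
    {χ ψ : A →* Kˣ} (hχ : twist φ χ ≠ χ) (hψ : twist φ ψ ≠ ψ) (hχ0 : wproj σ χ ≠ 0)
    (hψ0 : wproj σ ψ ≠ 0) : ∃ i < r, (twist φ)^[i] χ = ψ := by
  by_contra hc
  push Not at hc
  apply hψ0
  obtain ⟨w, hw⟩ : ∃ w, wproj σ χ w ≠ 0 := by
    by_contra h
    push Not at h
    exact hχ0 (LinearMap.ext h)
  obtain ⟨c, hc'⟩ := Submodule.mem_span_singleton.1 (hC (wproj σ χ w))
  have h1 := LinearMap.congr_fun (wproj_norm_wproj hν hr hφ hA hχ) w
  have h2 := LinearMap.congr_fun (wproj_norm_wproj_of_ne (σ := σ) hν hc) w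
  simp only [Module.End.mul_apply, ← hc', map_smul, LinearMap.zero_apply] at h1 h2
  have hc0 : c ≠ 0 := by
    rintro rfl
    rw [zero_smul] at h1
    exact hw h1.symm
  have h3 : wproj σ ψ a₀ = 0 := (smul_eq_zero.1 h2).resolve_left hc0
  refine LinearMap.ext fun v => ?_
  have h4 := wproj_mem_line hν hr hφ hA hC hψ v
  rwa [h3, Submodule.span_zero_singleton, Submodule.mem_bot] at h4

end Norm

/-- An operator respecting each weight space commutes with another such one, if the weight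
spaces are lines. -/
theorem commute_of_lines (hA : (Nat.card A : K) ≠ 0) {g h : Module.End K W}
    (hg : ∀ χ, Commute g (wproj σ χ)) (hh : ∀ χ, Commute h (wproj σ χ))
    (hline : ∀ χ, ∃ u : W, ∀ w, wproj σ χ w ∈ K ∙ u) : g * h = h * g := by
  have := Fintype.ofFinite (A →* Kˣ)
  rw [← mul_one (g * h), ← mul_one (h * g), ← sum_wproj σ hA, Finset.mul_sum, Finset.mul_sum]
  refine Finset.sum_congr rfl fun χ _ => ?_
  refine LinearMap.ext fun w => ?_
  obtain ⟨u, hu⟩ := hline χ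
  set v := wproj σ χ w with hv
  have hvv : wproj σ χ v = v := by
    rw [hv, ← Module.End.mul_apply, wproj_mul_self σ hA]
  by_cases hv0 : v = 0
  · simp [Module.End.mul_apply, ← hv, hv0]
  have line : ∀ f : Module.End K W, Commute f (wproj σ χ) → ∃ c : K, f v = c • v := by
    intro f hf
    have h1 : f v = wproj σ χ (f v) := by
      conv_lhs => rw [← hvv, ← Module.End.mul_apply, hf.eq, Module.End.mul_apply]
    obtain ⟨c, hc⟩ := Submodule.mem_span_singleton.1 (hu (f v))
    obtain ⟨d, hd⟩ := Submodule.mem_span_singleton.1 (hu v)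
    rw [hvv] at hd
    have hd0 : d ≠ 0 := fun e => hv0 (by rw [← hd, e, zero_smul])
    refine ⟨c * d⁻¹, ?_⟩
    rw [h1, ← hc]
    conv_rhs => rw [← hd, smul_smul, mul_assoc, inv_mul_cancel₀ hd0, mul_one]
  obtain ⟨c, hc⟩ := line g (hg χ)
  obtain ⟨d, hd⟩ := line h (hh χ)
  simp only [Module.End.mul_apply, ← hv, hc, hd, map_smul, smul_smul, mul_comm c d]

end CfsgLib.OddOrder.Weights
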